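import Mathlib

set_option autoImplicit false
universe u
open CategoryTheory

namespace Groth.Agent.H69

section
variable {A B : Type u} [CommRing A] [CommRing B] [Algebra A B]
variable {J : Type u} [Preorder J]
variable (C : J → Type u) [∀ j, CommRing (C j)] [∀ j, Algebra A (C j)]
variable (tr : ∀ {i j : J}, i ≤ j → C i →ₐ[A] C j)

/-- The diagram of a directed system of `A`-algebras in `Under A`. -/
noncomputable def dirF (tr_refl : ∀ (i : J) (x : C i), tr (le_refl i) x = x)
    (tr_trans : ∀ {i j k : J} (h1 : i ≤ j) (h2 : j ≤ k) (x : C i),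
      tr h2 (tr h1 x) = tr (h1.trans h2) x) :
    J ⥤ Under (CommRingCat.of A) where
  obj j := Under.mk (CommRingCat.ofHom (algebraMap A (C j)))
  map {i j} f := Under.homMk (CommRingCat.ofHom (tr (leOfHom f)).toRingHom) (by
    apply CommRingCat.hom_ext
    apply RingHom.ext
    intro a
    exact (tr (leOfHom f)).commutes a)
  map_id i := by
    apply Under.UnderMorphism.ext
    apply CommRingCat.hom_ext
    apply RingHom.ext
    intro x
    exact tr_refl i x
  map_comp {i j k} f g := by
    apply Under.UnderMorphism.ext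
    apply CommRingCat.hom_ext
    apply RingHom.ext
    intro x
    exact (tr_trans (leOfHom f) (leOfHom g) x).symm

variable (tr_refl : ∀ (i : J) (x : C i), tr (le_refl i) x = x)
    (tr_trans : ∀ {i j k : J} (h1 : i ≤ j) (h2 : j ≤ k) (x : C i),
      tr h2 (tr h1 x) = tr (h1.trans h2) x)
    (toB : ∀ j, C j →ₐ[A] B)
    (toB_tr : ∀ {i j : J} (h : i ≤ j) (x : C i), toB j (tr h x) = toB i x)

/-- The cocone with vertex `B`. -/
noncomputable def dirCocone : Limits.Cocone (dirF C tr tr_refl tr_trans) where
  pt := Under.mk (CommRingCat.ofHom (algebraMap A B))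
  ι :=
    { app := fun j => Under.homMk (CommRingCat.ofHom (toB j).toRingHom) (by
        apply CommRingCat.hom_ext
        apply RingHom.ext
        intro a
        exact (toB j).commutes a)
      naturality := fun i j f => by
        apply Under.UnderMorphism.ext
        apply CommRingCat.hom_ext
        apply RingHom.ext
        intro x
        exact toB_tr (leOfHom f) x }


/-- The legs of a cocone as ring homomorphisms out of `C j`. -/
noncomputable def dirLeg (s : Limits.Cocone (dirF C tr tr_refl tr_trans)) (j : J) :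
    C j →+* s.pt.right := (s.ι.app j).right.hom

theorem dirLeg_nat (s : Limits.Cocone (dirF C tr tr_refl tr_trans)) (i j : J) (hij : i ≤ j)
    (x : C i) : dirLeg C tr tr_refl tr_trans s j (tr hij x) = dirLeg C tr tr_refl tr_trans s i x := by
  have h1 := s.w (homOfLE hij)
  exact congrArg (fun m => m.right.hom x) h1

theorem dirLeg_alg (s : Limits.Cocone (dirF C tr tr_refl tr_trans)) (j : J) (a : A) :
    dirLeg C tr tr_refl tr_trans s j (algebraMap A (C j) a) = s.pt.hom.hom a := by
  have h4 := Under.w (s.ι.app j)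
  exact congrArg (fun m => m.hom a) h4

include toB_tr in
theorem dir_key [IsDirected J (· ≤ ·)]
    (hker : ∀ (j : J) (x : C j), toB j x = 0 → ∃ (k : J) (h : j ≤ k), tr h x = 0)
    (s : Limits.Cocone (dirF C tr tr_refl tr_trans)) (i j : J) (x : C i) (y : C j)
    (h : toB i x = toB j y) :
    dirLeg C tr tr_refl tr_trans s i x = dirLeg C tr tr_refl tr_trans s j y := by
  obtain ⟨k, hik, hjk⟩ := exists_ge_ge i j
  have hz : toB k (tr hik x - tr hjk y) = 0 := by
    rw [map_sub, toB_tr, toB_tr, h, sub_self]
  obtain ⟨k', hkk', hz'⟩ := hker k _ hz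
  rw [map_sub, sub_eq_zero, tr_trans, tr_trans] at hz'
  rw [← dirLeg_nat C tr tr_refl tr_trans s i k' (hik.trans hkk') x,
    ← dirLeg_nat C tr tr_refl tr_trans s j k' (hjk.trans hkk') y, hz']

theorem dir_isColimit [IsDirected J (· ≤ ·)]
    (hsurj : ∀ b : B, ∃ (j : J) (x : C j), toB j x = b)
    (hker : ∀ (j : J) (x : C j), toB j x = 0 → ∃ (k : J) (h : j ≤ k), tr h x = 0) :
    Nonempty (Limits.IsColimit (dirCocone C tr tr_refl tr_trans toB toB_tr)) := by
  classical
  choose jb xb hxb using hsurj
  have key := dir_key C tr tr_refl tr_trans toB toB_tr hker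
  let γ := dirLeg C tr tr_refl tr_trans
  let g : ∀ s : Limits.Cocone (dirF C tr tr_refl tr_trans), B → s.pt.right :=
    fun s b => γ s (jb b) (xb b)
  have gval : ∀ (s : Limits.Cocone (dirF C tr tr_refl tr_trans)) (j : J) (x : C j),
      g s (toB j x) = γ s j x := fun s j x => key s _ _ _ _ (hxb _)
  have gmul : ∀ (s : Limits.Cocone (dirF C tr tr_refl tr_trans)) (b b' : B),
      g s (b * b') = g s b * g s b' := by
    intro s b b'
    obtain ⟨k, h1, h2⟩ := exists_ge_ge (jb b) (jb b')
    have e1 : toB k (tr h1 (xb b)) = b := by rw [toB_tr, hxb]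
    have e2 : toB k (tr h2 (xb b')) = b' := by rw [toB_tr, hxb]
    have h3 := gval s k (tr h1 (xb b) * tr h2 (xb b'))
    rw [map_mul, e1, e2] at h3
    rw [h3, map_mul, ← gval s k (tr h1 (xb b)), ← gval s k (tr h2 (xb b')), e1, e2]
  have gadd : ∀ (s : Limits.Cocone (dirF C tr tr_refl tr_trans)) (b b' : B),
      g s (b + b') = g s b + g s b' := by
    intro s b b'
    obtain ⟨k, h1, h2⟩ := exists_ge_ge (jb b) (jb b')
    have e1 : toB k (tr h1 (xb b)) = b := by rw [toB_tr, hxb]
    have e2 : toB k (tr h2 (xb b')) = b' := by rw [toB_tr, hxb]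
    have h3 := gval s k (tr h1 (xb b) + tr h2 (xb b'))
    rw [map_add, e1, e2] at h3
    rw [h3, map_add, ← gval s k (tr h1 (xb b)), ← gval s k (tr h2 (xb b')), e1, e2]
  have gone : ∀ (s : Limits.Cocone (dirF C tr tr_refl tr_trans)), g s 1 = 1 := by
    intro s
    have h3 := gval s (jb 1) 1
    rw [map_one] at h3
    rw [h3, map_one]
  have gzero : ∀ (s : Limits.Cocone (dirF C tr tr_refl tr_trans)), g s 0 = 0 := by
    intro s
    have h3 := gval s (jb 0) 0
    rw [map_zero] at h3
    rw [h3, map_zero]
  let R : ∀ s : Limits.Cocone (dirF C tr tr_refl tr_trans), B →+* s.pt.right := fun s =>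
    { toFun := g s
      map_one' := gone s
      map_mul' := gmul s
      map_zero' := gzero s
      map_add' := gadd s }
  have galg : ∀ (s : Limits.Cocone (dirF C tr tr_refl tr_trans)) (a : A),
      g s (algebraMap A B a) = s.pt.hom.hom a := by
    intro s a
    have h3 := gval s (jb 0) (algebraMap A (C (jb 0)) a)
    rw [AlgHom.commutes] at h3
    rw [h3]
    exact dirLeg_alg C tr tr_refl tr_trans s (jb 0) a
  refine ⟨{ desc := fun s => Under.homMk (CommRingCat.ofHom (R s)) ?_, fac := ?_, uniq := ?_ }⟩
  · apply CommRingCat.hom_ext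
    apply RingHom.ext
    intro a
    exact galg s a
  · intro s j
    apply Under.UnderMorphism.ext
    apply CommRingCat.hom_ext
    apply RingHom.ext
    intro x
    exact gval s j x
  · intro s m hm
    apply Under.UnderMorphism.ext
    apply CommRingCat.hom_ext
    apply RingHom.ext
    intro b
    have h1 := congrArg (fun f => f.right.hom (xb b)) (hm (jb b))
    have h2 : m.right.hom (toB (jb b) (xb b)) = γ s (jb b) (xb b) := h1
    rw [hxb] at h2
    exact h2

include tr_refl tr_trans toB_tr in
/-- Packaged statement. -/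
theorem exists_dir_colimit [IsDirected J (· ≤ ·)] [Nonempty J]
    (hsurj : ∀ b : B, ∃ (j : J) (x : C j), toB j x = b)
    (hker : ∀ (j : J) (x : C j), toB j x = 0 → ∃ (k : J) (h : j ≤ k), tr h x = 0) :
    ∃ (_ : IsFiltered J) (F : J ⥤ Under (CommRingCat.of A)) (c : Limits.Cocone F)
      (_ : Limits.IsColimit c),
      (∀ j, F.obj j = Under.mk (CommRingCat.ofHom (algebraMap A (C j)))) ∧
      c.pt = Under.mk (CommRingCat.ofHom (algebraMap A B)) := by
  obtain ⟨hc⟩ := dir_isColimit C tr tr_refl tr_trans toB toB_tr hsurj hker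
  exact ⟨isFiltered_of_directed_le_nonempty J, dirF C tr tr_refl tr_trans,
    dirCocone C tr tr_refl tr_trans toB toB_tr, hc, fun _ => rfl, rfl⟩

end

end Groth.Agent.H69
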