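import Mathlib
import Groth.Agent.H54.SchemeDim2

/-!
# Dense affine opens, and the dimension of dense opens of schemes of finite type over a field
-/

set_option autoImplicit false
set_option linter.style.haveILetI false

universe u

open CategoryTheory AlgebraicGeometry Limits

namespace Groth.Agent.H69.DimAffSpace

/-- The union of two disjoint affine opens is an affine open. -/
theorem isAffineOpen_sup_of_disjoint {X : Scheme.{u}} {S P : X.Opens} (hS : IsAffineOpen S)
    (hP : IsAffineOpen P) (hd : Disjoint S P) : IsAffineOpen (S ⊔ P) := by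
  have hc : IsCompl (X.homOfLE (le_sup_left : S ≤ S ⊔ P)).opensRange
      (X.homOfLE (le_sup_right : P ≤ S ⊔ P)).opensRange := by
    rw [X.opensRange_homOfLE, X.opensRange_homOfLE]
    constructor
    · rw [disjoint_iff, ← Scheme.Hom.preimage_inf, disjoint_iff.mp hd, Scheme.Hom.preimage_bot]
    · rw [codisjoint_iff, ← Scheme.Hom.preimage_sup, Scheme.Opens.ι_preimage_self]
  obtain ⟨H⟩ := nonempty_isColimit_binaryCofanMk_of_isCompl _ _ hc
  let e : S.toScheme ⨿ P.toScheme ≅ (S ⊔ P).toScheme :=
    (colimit.isColimit _).coconePointUniqueUpToIso H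
  haveI : IsAffine S.toScheme := hS
  haveI : IsAffine P.toScheme := hP
  exact IsAffine.of_isIso e.inv

/-- A Noetherian scheme has a dense affine open. -/
theorem exists_dense_isAffineOpen (X : Scheme.{u}) [TopologicalSpace.NoetherianSpace X] :
    ∃ W : X.Opens, IsAffineOpen W ∧ Dense (W : Set X) := by
  have hwf : WellFounded ((· > ·) : X.Opens → X.Opens → Prop) :=
    (inferInstance : WellFoundedGT (TopologicalSpace.Opens X)).wf
  obtain ⟨W, hW, hmax⟩ := hwf.has_min {W : X.Opens | IsAffineOpen W} ⟨⊥, isAffineOpen_bot X⟩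
  refine ⟨W, hW, ?_⟩
  rw [dense_iff_inter_open]
  rintro O hO ⟨x, hx⟩
  by_contra hne
  rw [Set.not_nonempty_iff_eq_empty] at hne
  obtain ⟨_, ⟨(W' : X.Opens), hW'aff, rfl⟩, hxW', hW'O⟩ :=
    X.isBasis_affineOpens.exists_subset_of_mem_open hx hO
  have hd : Disjoint W W' := by
    rw [disjoint_iff]
    ext y
    simp only [TopologicalSpace.Opens.coe_inf, Set.mem_inter_iff, SetLike.mem_coe,
      TopologicalSpace.Opens.coe_bot, Set.mem_empty_iff_false, iff_false, not_and]
    intro hyW hyW'
    have : y ∈ O ∩ (W : Set X) := ⟨hW'O hyW', hyW⟩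
    rw [hne] at this
    exact this
  have haff := isAffineOpen_sup_of_disjoint hW hW'aff hd
  refine hmax (W ⊔ W') haff ?_
  refine lt_of_le_of_ne le_sup_left ?_
  intro heq
  have hxW : x ∈ W := by rw [heq]; exact Or.inr hxW'
  have : x ∈ O ∩ (W : Set X) := ⟨hx, hxW⟩
  rw [hne] at this
  exact this

open Groth.Agent.H54 in
/-- For a scheme locally of finite type over a field, a bound on the dimension of a dense open
bounds the dimension of the whole scheme. -/
theorem topologicalKrullDim_le_of_dense {k : Type u} [Field k] {X : Scheme.{u}}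
    (s : X ⟶ Spec (CommRingCat.of k)) [LocallyOfFiniteType s] (U : X.Opens)
    (hU : Dense (U : Set X)) (n : ℕ) (h : topologicalKrullDim U ≤ n) :
    topologicalKrullDim X ≤ n := by
  apply topologicalKrullDim_le_of_forall_tdeg_le s n
  intro x
  obtain ⟨O, hxO, hO⟩ := exists_open_generic s x
  obtain ⟨y, hyO, hyU⟩ := hU.inter_open_nonempty O O.isOpen ⟨x, hxO⟩
  obtain ⟨ξ, hξy, hξx⟩ := hO y hyO
  have hξU : ξ ∈ U := hξy.mem_open U.isOpen hyU
  have h1 : tdeg s x ≤ tdeg s ξ := tdeg_le_of_specializes s hξx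
  have h2 : (tdeg s ξ : WithBot ℕ∞) ≤ n := (tdeg_le_topologicalKrullDim s ξ U hξU).trans h
  have h3 : tdeg s ξ ≤ n := by exact_mod_cast h2
  exact h1.trans h3

end Groth.Agent.H69.DimAffSpace
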