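import Mathlib
import Groth.Agent.H54.IntegralDim

/-!
# Noether normalization variants: maps from polynomial rings in a prescribed number of variables
-/

set_option autoImplicit false
set_option linter.style.haveILetI false

universe u

open MvPolynomial

namespace Groth.Agent.H69.DimAffSpace

variable (k : Type u) [Field k] (A : Type u) [CommRing A] [Algebra k A]

/-- Noether normalization, together with the computation of the dimension. -/
theorem exists_noether [Nontrivial A] [Algebra.FiniteType k A] :
    ∃ (d : ℕ) (ν : MvPolynomial (Fin d) k →ₐ[k] A), Function.Injective ν ∧ ν.Finite ∧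
      ringKrullDim A = d := by
  obtain ⟨d, ν, hinj, hfin⟩ := exists_finite_inj_algHom_of_fg k A
  refine ⟨d, ν, hinj, hfin, ?_⟩
  rw [Groth.Agent.H54.ringKrullDim_eq_of_ringHom_isIntegral_of_injective ν.toRingHom
    (RingHom.IsIntegral.of_finite hfin) hinj, Groth.Agent.H54.ringKrullDim_mvPolynomial_field]

theorem comap_surjective_of_noether {d : ℕ} (ν : MvPolynomial (Fin d) k →ₐ[k] A)
    (hinj : Function.Injective ν) (hfin : ν.Finite) :
    Function.Surjective (PrimeSpectrum.comap ν.toRingHom) :=
  (RingHom.IsIntegral.of_finite hfin).comap_surjective hinj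

theorem comap_rename_surjective {σ τ : Type*} (f : σ → τ) (hf : Function.Injective f) :
    Function.Surjective (PrimeSpectrum.comap (rename (R := k) f).toRingHom) := by
  intro p
  refine ⟨PrimeSpectrum.comap (killCompl (R := k) hf).toRingHom p, ?_⟩
  have h1 : (killCompl (R := k) hf).toRingHom.comp (rename (R := k) f).toRingHom =
      RingHom.id _ := by
    have := killCompl_comp_rename (R := k) hf
    exact congrArg AlgHom.toRingHom this
  calc PrimeSpectrum.comap (rename (R := k) f).toRingHom
        (PrimeSpectrum.comap (killCompl (R := k) hf).toRingHom p)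
      = PrimeSpectrum.comap ((killCompl (R := k) hf).toRingHom.comp
          (rename (R := k) f).toRingHom) p := rfl
    _ = p := by rw [h1]; rfl

/-- If `n ≤ dim A`, there is a map from the polynomial ring in `n` variables inducing a surjection
on spectra. -/
theorem exists_algHom_comap_surjective [Algebra.FiniteType k A] (n : ℕ)
    (h : (n : WithBot ℕ∞) ≤ ringKrullDim A) :
    ∃ φ : MvPolynomial (ULift.{u} (Fin n)) k →ₐ[k] A,
      Function.Surjective (PrimeSpectrum.comap φ.toRingHom) := by
  rcases subsingleton_or_nontrivial A with hA | hA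
  · rw [ringKrullDim_eq_bot_of_subsingleton] at h
    simp at h
  obtain ⟨d, ν, hinj, hfin, hd⟩ := exists_noether k A
  rw [hd] at h
  have hnd : n ≤ d := by exact_mod_cast h
  let f : ULift.{u} (Fin n) → Fin d := fun i => Fin.castLE hnd i.down
  have hf : Function.Injective f := fun a b hab =>
    ULift.down_injective (Fin.castLE_injective hnd hab)
  refine ⟨ν.comp (rename f), ?_⟩
  have : (ν.comp (rename f)).toRingHom = ν.toRingHom.comp (rename (R := k) f).toRingHom := rfl
  rw [this]
  intro p
  obtain ⟨q, hq⟩ := comap_rename_surjective k f hf p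
  obtain ⟨r, hr⟩ := comap_surjective_of_noether k A ν hinj hfin q
  exact ⟨r, by rw [PrimeSpectrum.comap_comp_apply, hr, hq]⟩

/-- If `dim A ≤ n`, there is a finite map from the polynomial ring in `n` variables. -/
theorem exists_algHom_finite [Algebra.FiniteType k A] (n : ℕ)
    (h : ringKrullDim A ≤ (n : WithBot ℕ∞)) :
    ∃ φ : MvPolynomial (ULift.{u} (Fin n)) k →ₐ[k] A, φ.toRingHom.Finite := by
  rcases subsingleton_or_nontrivial A with hA | hA
  · refine ⟨aeval (fun _ => 0), ?_⟩
    letI := (aeval (R := k) (fun _ : ULift.{u} (Fin n) => (0 : A))).toRingHom.toAlgebra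
    exact (inferInstance : Module.Finite (MvPolynomial (ULift.{u} (Fin n)) k) A)
  obtain ⟨d, ν, hinj, hfin, hd⟩ := exists_noether k A
  rw [hd] at h
  have hdn : d ≤ n := by exact_mod_cast h
  let g : Fin d → ULift.{u} (Fin n) := fun j => ⟨Fin.castLE hdn j⟩
  have hg : Function.Injective g := fun a b hab =>
    Fin.castLE_injective hdn (ULift.up_injective hab)
  refine ⟨ν.comp (killCompl hg), ?_⟩
  have hs : Function.Surjective (killCompl (R := k) hg) := fun p =>
    ⟨rename g p, killCompl_rename_app hg p⟩
  exact RingHom.Finite.comp hfin (RingHom.Finite.of_surjective _ hs)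

/-- If `dim A = n`, there is a finite map from the polynomial ring in `n` variables inducing a
surjection on spectra. -/
theorem exists_algHom_finite_comap_surjective [Algebra.FiniteType k A] (n : ℕ)
    (h : ringKrullDim A = (n : WithBot ℕ∞)) :
    ∃ φ : MvPolynomial (ULift.{u} (Fin n)) k →ₐ[k] A, φ.toRingHom.Finite ∧
      Function.Surjective (PrimeSpectrum.comap φ.toRingHom) := by
  rcases subsingleton_or_nontrivial A with hA | hA
  · rw [ringKrullDim_eq_bot_of_subsingleton] at h
    simp at h
  obtain ⟨d, ν, hinj, hfin, hd⟩ := exists_noether k A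
  rw [hd] at h
  have hdn : d = n := by exact_mod_cast h
  subst hdn
  let f : ULift.{u} (Fin d) → Fin d := ULift.down
  have hf : Function.Bijective f := ULift.down_bijective
  refine ⟨ν.comp (rename f), ?_, ?_⟩
  · exact RingHom.Finite.comp hfin (RingHom.Finite.of_surjective _ (rename_surjective f hf.2))
  · have : (ν.comp (rename f)).toRingHom = ν.toRingHom.comp (rename (R := k) f).toRingHom := rfl
    rw [this]
    intro p
    obtain ⟨q, hq⟩ := comap_rename_surjective k f hf.1 p
    obtain ⟨r, hr⟩ := comap_surjective_of_noether k A ν hinj hfin q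
    exact ⟨r, by rw [PrimeSpectrum.comap_comp_apply, hr, hq]⟩

end Groth.Agent.H69.DimAffSpace
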