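import Mathlib
import Groth.Agent.H54.IntegralDim

/-!
# Noether normalization of a fibre with coordinates coming from the total space
-/

set_option autoImplicit false
set_option linter.style.haveILetI false

universe u

open CategoryTheory CategoryTheory.Limits AlgebraicGeometry

namespace Groth.Agent.H69.FibreNoether

/-- On an affine scheme, every element of a residue field is a fraction of evaluations of global
sections. -/
theorem exists_evaluation_mul_eq {Y : Scheme.{u}} [IsAffine Y] (y : Y) (c : Y.residueField y) :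
    ∃ a d : Γ(Y, ⊤), (Y.Γevaluation y).hom d ≠ 0 ∧
      (Y.Γevaluation y).hom d * c = (Y.Γevaluation y).hom a := by
  have hU : IsAffineOpen (⊤ : Y.Opens) := isAffineOpen_top Y
  letI := Y.presheaf.algebra_section_stalk (U := (⊤ : Y.Opens)) ⟨y, trivial⟩
  haveI := hU.isLocalization_stalk ⟨y, trivial⟩
  obtain ⟨σ, rfl⟩ : ∃ σ : Y.presheaf.stalk y, (Y.residue y).hom σ = c :=
    IsLocalRing.residue_surjective c
  obtain ⟨⟨a, d⟩, h⟩ := IsLocalization.surj
    (hU.primeIdealOf ⟨y, trivial⟩).asIdeal.primeCompl σ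
  have hunit : IsUnit (algebraMap Γ(Y, ⊤) (Y.presheaf.stalk y) (d : Γ(Y, ⊤))) :=
    IsLocalization.map_units (Y.presheaf.stalk y) d
  have halg : ∀ r : Γ(Y, ⊤), (Y.Γevaluation y).hom r =
      (Y.residue y).hom (algebraMap Γ(Y, ⊤) (Y.presheaf.stalk y) r) := fun r => rfl
  refine ⟨a, d, ?_, ?_⟩
  · rw [halg]
    exact (hunit.map (Y.residue y).hom).ne_zero
  · rw [halg, halg, ← map_mul, mul_comm]
    exact congrArg (Y.residue y).hom h

theorem fromSpecResidueField_appTop {Y : Scheme.{u}} (y : Y) :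
    (Y.fromSpecResidueField y).appTop ≫ (Scheme.ΓSpecIso (Y.residueField y)).hom =
      Y.Γevaluation y := by
  rw [Scheme.fromSpecResidueField, Scheme.Hom.comp_appTop, Scheme.fromSpecStalk_appTop]
  simp only [Category.assoc, Scheme.ΓSpecIso_naturality]
  have h1 : (Spec (Y.presheaf.stalk y)).presheaf.map
      (homOfLE (le_top : (⊤ : (Spec (Y.presheaf.stalk y)).Opens) ≤ ⊤)).op = 𝟙 _ := by
    have : homOfLE (le_top : (⊤ : (Spec (Y.presheaf.stalk y)).Opens) ≤ ⊤) = 𝟙 _ :=
      Subsingleton.elim _ _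
    rw [this, op_id]
    exact CategoryTheory.Functor.map_id _ _
  have h2 : Y.presheaf.germ ⊤ y trivial ≫
      (Scheme.ΓSpecIso (Y.presheaf.stalk y)).inv ≫
        (Spec (Y.presheaf.stalk y)).presheaf.map
          (homOfLE (le_top : (⊤ : (Spec (Y.presheaf.stalk y)).Opens) ≤ ⊤)).op ≫
          (Scheme.ΓSpecIso (Y.presheaf.stalk y)).hom ≫ Y.residue y = Y.Γevaluation y := by
    rw [h1, Category.id_comp, Iso.inv_hom_id_assoc]
    rfl
  exact h2

/-- Clearing denominators in a pushout `Φ = B ⊗[R] K` when every element of `K` is a fraction of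
elements coming from `R`. -/
theorem exists_mul_eq_of_isPushout {R B K Φ : Type u} [CommRing R] [CommRing B] [CommRing K]
    [CommRing Φ] [Algebra R B] [Algebra R K] [Algebra B Φ] [Algebra K Φ] [Algebra R Φ]
    [IsScalarTower R B Φ] [IsScalarTower R K Φ] [Algebra.IsPushout R B K Φ]
    (S : Submonoid R)
    (hK : ∀ c : K, ∃ d ∈ S, ∃ a : R, algebraMap R K d * c = algebraMap R K a) (z : Φ) :
    ∃ d ∈ S, ∃ s : B, algebraMap B Φ (algebraMap R B d) * z = algebraMap B Φ s := by
  have hbc : IsBaseChange B (IsScalarTower.toAlgHom R K Φ).toLinearMap := Algebra.IsPushout.out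
  have hRB : ∀ r : R, algebraMap B Φ (algebraMap R B r) = algebraMap K Φ (algebraMap R K r) := by
    intro r
    rw [← IsScalarTower.algebraMap_apply R B Φ, ← IsScalarTower.algebraMap_apply R K Φ]
  refine hbc.inductionOn z _ ?_ ?_ ?_ ?_
  · exact ⟨1, S.one_mem, 0, by simp⟩
  · intro c
    obtain ⟨d, hd, a, h⟩ := hK c
    refine ⟨d, hd, algebraMap R B a, ?_⟩
    have : (IsScalarTower.toAlgHom R K Φ).toLinearMap c = algebraMap K Φ c := rfl
    rw [this, hRB, hRB, ← map_mul, h]
  · rintro b z ⟨d, hd, s, h⟩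
    refine ⟨d, hd, b * s, ?_⟩
    rw [Algebra.smul_def, map_mul, ← h]
    ring
  · rintro z₁ z₂ ⟨d₁, hd₁, s₁, h₁⟩ ⟨d₂, hd₂, s₂, h₂⟩
    refine ⟨d₁ * d₂, S.mul_mem hd₁ hd₂,
      algebraMap R B d₂ * s₁ + algebraMap R B d₁ * s₂, ?_⟩
    simp only [map_mul, map_add]
    rw [← h₁, ← h₂]
    ring

/-- The scaling automorphism of a polynomial ring is surjective when the scalars are nonzero. -/
theorem scale_surjective {K : Type u} [Field K] {n : ℕ} (u : Fin n → K) (hu : ∀ i, u i ≠ 0) :
    Function.Surjective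
      (MvPolynomial.aeval (R := K) (fun i => MvPolynomial.C (u i) * MvPolynomial.X i) :
        MvPolynomial (Fin n) K →ₐ[K] MvPolynomial (Fin n) K) := by
  set σ := (MvPolynomial.aeval (R := K) (fun i => MvPolynomial.C (u i) * MvPolynomial.X i) :
        MvPolynomial (Fin n) K →ₐ[K] MvPolynomial (Fin n) K)
  set τ := (MvPolynomial.aeval (R := K)
      (fun i => MvPolynomial.C ((u i)⁻¹) * MvPolynomial.X i) :
        MvPolynomial (Fin n) K →ₐ[K] MvPolynomial (Fin n) K)
  have h : σ.comp τ = AlgHom.id K _ := by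
    apply MvPolynomial.algHom_ext
    intro i
    simp only [σ, τ, AlgHom.comp_apply, MvPolynomial.aeval_X, map_mul, MvPolynomial.aeval_C,
      AlgHom.id_apply, MvPolynomial.algebraMap_eq]
    rw [← mul_assoc, ← map_mul, inv_mul_cancel₀ (hu i), map_one, one_mul]
  intro p
  exact ⟨τ p, by rw [← AlgHom.comp_apply, h]; rfl⟩

/-- Noether normalisation of `Φ = B ⊗[R] K` with the coordinates coming from `B`. -/
theorem exists_finite_aeval_of_isPushout {R B K Φ : Type u} [CommRing R] [CommRing B] [Field K]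
    [CommRing Φ] [Algebra R B] [Algebra R K] [Algebra B Φ] [Algebra K Φ] [Algebra R Φ]
    [IsScalarTower R B Φ] [IsScalarTower R K Φ] [Algebra.IsPushout R B K Φ]
    [Nontrivial Φ] [Algebra.FiniteType K Φ]
    (hK : ∀ c : K, ∃ a d : R, algebraMap R K d ≠ 0 ∧ algebraMap R K d * c = algebraMap R K a)
    (e : ℕ) (he : ringKrullDim Φ = e) :
    ∃ s : Fin e → B,
      (MvPolynomial.aeval (R := K) (fun i => algebraMap B Φ (s i)) :
        MvPolynomial (Fin e) K →ₐ[K] Φ).Finite := by
  obtain ⟨n, g₀, hinj, hfin⟩ := exists_finite_inj_algHom_of_fg K Φ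
  have hdim : ringKrullDim Φ = (n : WithBot ℕ∞) := by
    rw [Groth.Agent.H54.ringKrullDim_eq_of_ringHom_isIntegral_of_injective g₀.toRingHom
      (RingHom.IsIntegral.of_finite hfin) hinj, Groth.Agent.H54.ringKrullDim_mvPolynomial_field]
  have hne : n = e := by
    rw [he] at hdim
    exact_mod_cast hdim.symm
  subst hne
  haveI : (RingHom.ker (algebraMap R K)).IsPrime := RingHom.ker_isPrime _
  let S : Submonoid R := (Ideal.primeCompl (RingHom.ker (algebraMap R K)))
  have hS : ∀ d : R, d ∈ S ↔ algebraMap R K d ≠ 0 := by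
    intro d
    rw [Ideal.mem_primeCompl_iff, RingHom.mem_ker]
  have hK' : ∀ c : K, ∃ d ∈ S, ∃ a : R, algebraMap R K d * c = algebraMap R K a := by
    intro c
    obtain ⟨a, d, hd, h⟩ := hK c
    exact ⟨d, (hS d).mpr hd, a, h⟩
  choose d hd s hs using fun i : Fin n =>
    exists_mul_eq_of_isPushout (R := R) (B := B) (K := K) (Φ := Φ) S hK' (g₀ (MvPolynomial.X i))
  refine ⟨s, ?_⟩
  have hRB : ∀ r : R, algebraMap B Φ (algebraMap R B r) = algebraMap K Φ (algebraMap R K r) := by
    intro r
    rw [← IsScalarTower.algebraMap_apply R B Φ, ← IsScalarTower.algebraMap_apply R K Φ]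
  set σ := (MvPolynomial.aeval (R := K)
      (fun i => MvPolynomial.C (algebraMap R K (d i)) * MvPolynomial.X i) :
        MvPolynomial (Fin n) K →ₐ[K] MvPolynomial (Fin n) K) with hσ
  have hcomp : (MvPolynomial.aeval (R := K) (fun i => algebraMap B Φ (s i)) :
        MvPolynomial (Fin n) K →ₐ[K] Φ) = g₀.comp σ := by
    apply MvPolynomial.algHom_ext
    intro i
    simp only [hσ, AlgHom.comp_apply, MvPolynomial.aeval_X, map_mul]
    rw [← hs i, hRB, ← MvPolynomial.algebraMap_eq, AlgHom.commutes]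
  rw [hcomp]
  have hσfin : σ.Finite :=
    RingHom.Finite.of_surjective _ (scale_surjective _ fun i => (hS _).mp (hd i))
  exact hfin.comp hσfin

section Scheme

/-- The Krull dimension of the ring of global sections of an affine scheme. -/
theorem ringKrullDim_appTop_eq (Z : Scheme.{u}) [IsAffine Z] :
    ringKrullDim Γ(Z, ⊤) = topologicalKrullDim Z := by
  rw [← PrimeSpectrum.topologicalKrullDim_eq_ringKrullDim Γ(Z, ⊤)]
  change topologicalKrullDim (Spec Γ(Z, ⊤)) = _
  exact (IsHomeomorph.topologicalKrullDim_eq _ Z.isoSpec.hom.homeomorph.isHomeomorph).symm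

variable {X Y : Scheme.{u}} (f : X ⟶ Y) (y : Y)

/-- The `κ(y)`-algebra structure map on global sections of the fibre. -/
noncomputable def fibreAlg : Y.residueField y ⟶ Γ(f.fiber y, ⊤) :=
  (Scheme.ΓSpecIso (Y.residueField y)).inv ≫ (f.fiberToSpecResidueField y).appTop

theorem isPushout_fibre [IsAffine X] [IsAffine Y] :
    IsPushout f.appTop (Y.Γevaluation y) (f.fiberι y).appTop (fibreAlg f y) := by
  have h := isPushout_appTop_of_isPullback
    (IsPullback.of_hasPullback f (Y.fromSpecResidueField y))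
  refine h.of_iso (Iso.refl _) (Iso.refl _) (Scheme.ΓSpecIso (Y.residueField y)) (Iso.refl _)
    (by simp) ?_ ?_ ?_
  · rw [fromSpecResidueField_appTop]; simp
  · simp only [Iso.refl_hom, Category.comp_id, Category.id_comp]; rfl
  · simp only [Iso.refl_hom, Category.comp_id, fibreAlg, Iso.hom_inv_id_assoc]; rfl

theorem exists_sections_finite [IsAffine X] [IsAffine Y] [LocallyOfFiniteType f]
    (hy : y ∈ Set.range f.base) (e : ℕ) (he : topologicalKrullDim ↥(f.fiber y) = e) :
    ∃ s : Fin e → Γ(X, ⊤),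
      (MvPolynomial.eval₂Hom (fibreAlg f y).hom
        (fun i => (f.fiberι y).appTop.hom (s i))).Finite := by
  have hpo := isPushout_fibre f y
  algebraize [f.appTop.hom, (Y.Γevaluation y).hom, (f.fiberι y).appTop.hom, (fibreAlg f y).hom,
    (f.fiberι y).appTop.hom.comp f.appTop.hom]
  have : IsScalarTower Γ(Y, ⊤) (Y.residueField y) Γ(f.fiber y, ⊤) :=
    .of_algebraMap_eq' <| congr($(hpo.1.1).hom)
  have : Algebra.IsPushout Γ(Y, ⊤) Γ(X, ⊤) (Y.residueField y) Γ(f.fiber y, ⊤) :=
    CommRingCat.isPushout_iff_isPushout.mp hpo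
  have hne : Nonempty ↥(f.fiber y) := by
    obtain ⟨x, hx⟩ := hy
    exact ⟨(f.fiberHomeo y).symm ⟨x, hx⟩⟩
  have : Nonempty ((⊤ : (f.fiber y).Opens)) := by
    obtain ⟨z⟩ := hne
    exact ⟨⟨z, trivial⟩⟩
  have : Nontrivial Γ(f.fiber y, ⊤) := Scheme.component_nontrivial _ _
  have hlft : LocallyOfFiniteType (f.fiberToSpecResidueField y) :=
    MorphismProperty.pullback_snd _ _ inferInstance
  have hft : (fibreAlg f y).hom.FiniteType := by
    have h1 : (f.fiberToSpecResidueField y).appTop.hom.FiniteType :=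
      (HasRingHomProperty.iff_of_isAffine (P := @LocallyOfFiniteType)).mp hlft
    have h2 : (Scheme.ΓSpecIso (Y.residueField y)).inv.hom.FiniteType :=
      RingHom.FiniteType.of_surjective _
        (ConcreteCategory.bijective_of_isIso (Scheme.ΓSpecIso (Y.residueField y)).inv).2
    exact h1.comp h2
  have : Algebra.FiniteType (Y.residueField y) Γ(f.fiber y, ⊤) := hft
  have hdim : ringKrullDim Γ(f.fiber y, ⊤) = e := by
    rw [ringKrullDim_appTop_eq, he]
  obtain ⟨s, hs⟩ := exists_finite_aeval_of_isPushout (R := Γ(Y, ⊤)) (B := Γ(X, ⊤))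
    (K := Y.residueField y) (Φ := Γ(f.fiber y, ⊤)) (exists_evaluation_mul_eq y) e hdim
  exact ⟨s, hs⟩

theorem exists_sections_finite' [IsAffine X] [IsAffine Y] [LocallyOfFiniteType f]
    (hy : y ∈ Set.range f.base) (e : ℕ) (he : topologicalKrullDim ↥(f.fiber y) = e) :
    ∃ s : ULift.{u} (Fin e) → Γ(X, ⊤),
      (MvPolynomial.eval₂Hom (fibreAlg f y).hom
        (fun i => (f.fiberι y).appTop.hom (s i))).Finite := by
  obtain ⟨s, hs⟩ := exists_sections_finite f y hy e he
  refine ⟨fun i => s i.down, ?_⟩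
  have hcomp : MvPolynomial.eval₂Hom (fibreAlg f y).hom
      (fun i : ULift.{u} (Fin e) => (f.fiberι y).appTop.hom (s i.down)) =
      (MvPolynomial.eval₂Hom (fibreAlg f y).hom
        (fun i => (f.fiberι y).appTop.hom (s i))).comp
        (MvPolynomial.rename (R := Y.residueField y) (ULift.down.{u})).toRingHom := by
    apply MvPolynomial.ringHom_ext
    · intro c; simp
    · intro i; simp
  rw [hcomp]
  refine hs.comp (RingHom.Finite.of_surjective _ ?_)
  exact MvPolynomial.rename_surjective _ ULift.down_surjective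

open AffineSpace in
/-- Finiteness on the fibre, from finiteness of the induced map of coordinate rings. -/
theorem isFinite_snd_of_finite {n : Type u} [IsAffine X] [IsAffine Y] (g : X ⟶ 𝔸(n; Y))
    (hfin : (MvPolynomial.eval₂Hom (fibreAlg (g ≫ (𝔸(n; Y) ↘ Y)) y).hom
        (fun i => ((g ≫ (𝔸(n; Y) ↘ Y)).fiberι y).appTop.hom
          (g.appTop.hom (coord Y i)))).Finite) :
    IsFinite (pullback.snd g ((𝔸(n; Y) ↘ Y).fiberι y)) := by
  set h := (𝔸(n; Y) ↘ Y) with hh
  set k := Y.fromSpecResidueField y with hk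
  have hH : IsAffine (h.fiber y) := (inferInstance : IsAffine (pullback h k))
  have hP : IsAffine (pullback g (h.fiberι y)) := inferInstance
  let θ : pullback g (pullback.fst h k) ≅ pullback (g ≫ h) k := pullbackRightPullbackFstIso h k g
  have hθ₁ : θ.hom ≫ (g ≫ h).fiberι y = pullback.fst g (h.fiberι y) :=
    pullbackRightPullbackFstIso_hom_fst h k g
  have hθ₂ : θ.hom ≫ (g ≫ h).fiberToSpecResidueField y =
      pullback.snd g (h.fiberι y) ≫ h.fiberToSpecResidueField y :=
    pullbackRightPullbackFstIso_hom_snd h k g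
  let β : MvPolynomial n (Y.residueField y) →+* Γ(h.fiber y, ⊤) :=
    MvPolynomial.eval₂Hom (fibreAlg h y).hom (fun i => (h.fiberι y).appTop.hom (coord Y i))
  have hcomp : (pullback.snd g (h.fiberι y)).appTop.hom.comp β =
      θ.hom.appTop.hom.comp (MvPolynomial.eval₂Hom (fibreAlg (g ≫ h) y).hom
        (fun i => ((g ≫ h).fiberι y).appTop.hom (g.appTop.hom (coord Y i)))) := by
    apply MvPolynomial.ringHom_ext
    · intro c
      simp only [β, RingHom.comp_apply, MvPolynomial.coe_eval₂Hom, MvPolynomial.eval₂_C, fibreAlg,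
        CommRingCat.hom_comp]
      have := congrArg (fun m => m.appTop.hom ((Scheme.ΓSpecIso (Y.residueField y)).inv.hom c)) hθ₂
      simp only [Scheme.Hom.comp_appTop, CommRingCat.hom_comp, RingHom.comp_apply] at this
      refine this.symm.trans ?_
      change _ = θ.hom.appTop.hom (MvPolynomial.eval₂Hom _ _ (MvPolynomial.C c))
      rw [MvPolynomial.coe_eval₂Hom, MvPolynomial.eval₂_C]
      rfl
    · intro i
      simp only [β, RingHom.comp_apply, MvPolynomial.coe_eval₂Hom, MvPolynomial.eval₂_X]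
      have h1 := congrArg (fun m => m.appTop.hom (g.appTop.hom (coord Y i))) hθ₁
      have h2 := congrArg (fun m => m.appTop.hom (coord Y i))
        (pullback.condition (f := g) (g := h.fiberι y))
      simp only [Scheme.Hom.comp_appTop, CommRingCat.hom_comp, RingHom.comp_apply] at h1 h2
      refine h2.symm.trans (h1.symm.trans ?_)
      change _ = θ.hom.appTop.hom (MvPolynomial.eval₂Hom _ _ (MvPolynomial.X i))
      rw [MvPolynomial.coe_eval₂Hom, MvPolynomial.eval₂_X]
      rfl
  have hfin' : ((pullback.snd g (h.fiberι y)).appTop.hom.comp β).Finite := by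
    rw [hcomp]
    refine RingHom.Finite.comp (RingHom.Finite.of_surjective _ ?_) hfin
    have : IsIso θ.hom.appTop := inferInstanceAs (IsIso (θ.hom.app ⊤))
    exact (ConcreteCategory.bijective_of_isIso θ.hom.appTop).2
  exact (HasAffineProperty.iff_of_isAffine (P := @IsFinite)).mpr
    ⟨hP, RingHom.Finite.of_comp_finite hfin'⟩

end Scheme

end Groth.Agent.H69.FibreNoether
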