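import Mathlib
import Groth.Agent.H54.IntegralDim
import Groth.Agent.H69.FibreNoether

/-!
# Finite morphisms to an affine space on a fibre: surjectivity and quasi-finiteness nearby
-/

set_option autoImplicit false
set_option linter.style.haveILetI false

universe u

open CategoryTheory CategoryTheory.Limits AlgebraicGeometry

namespace Groth.Agent.H69.FibreNoether

/-- An integral ring map from a domain of finite Krull dimension `e` to a ring of the same Krull
dimension is injective. -/
theorem injective_of_isIntegral_of_ringKrullDim_eq {D A : Type*} [CommRing D] [IsDomain D]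
    [CommRing A] (ψ : D →+* A) (hψ : ψ.IsIntegral) (e : ℕ) (hD : ringKrullDim D = e)
    (hA : ringKrullDim A = e) : Function.Injective ψ := by
  rw [injective_iff_map_eq_zero]
  intro x hx
  by_contra hx0
  have hxmem : x ∈ RingHom.ker ψ := hx
  have hinj : Function.Injective (RingHom.kerLift ψ) := RingHom.kerLift_injective ψ
  have hcomp : (RingHom.kerLift ψ).comp (Ideal.Quotient.mk (RingHom.ker ψ)) = ψ := by
    ext a; rfl
  have hint : (RingHom.kerLift ψ).IsIntegral :=
    RingHom.IsIntegral.tower_top (Ideal.Quotient.mk (RingHom.ker ψ)) _ (hcomp ▸ hψ)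
  have h1 : ringKrullDim A = ringKrullDim (D ⧸ RingHom.ker ψ) :=
    Groth.Agent.H54.ringKrullDim_eq_of_ringHom_isIntegral_of_injective _ hint hinj
  have hle : Ideal.span {x} ≤ RingHom.ker ψ := by
    rw [Ideal.span_singleton_le_iff_mem]; exact hxmem
  have h2 : ringKrullDim (D ⧸ RingHom.ker ψ) ≤ ringKrullDim (D ⧸ Ideal.span {x}) :=
    ringKrullDim_le_of_surjective (Ideal.Quotient.factor hle)
      (Ideal.Quotient.factor_surjective hle)
  have h3 : ringKrullDim (D ⧸ Ideal.span {x}) + 1 ≤ ringKrullDim D :=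
    ringKrullDim_quotient_succ_le_of_nonZeroDivisor (mem_nonZeroDivisors_of_ne_zero hx0)
  rw [hD] at h3
  rw [hA] at h1
  rw [← h1] at h2
  have h4 : ((e : WithBot ℕ∞)) + 1 ≤ e := (add_le_add_left h2 1).trans h3
  have h5 : ((e + 1 : ℕ) : WithBot ℕ∞) ≤ (e : ℕ) := by exact_mod_cast h4
  have h6 : e + 1 ≤ e := by exact_mod_cast h5
  omega

section Scheme

variable {Y : Scheme.{u}} (y : Y)

open AffineSpace in
/-- The fibre of affine space over `y` is the spectrum of a polynomial ring over `κ(y)`. -/
noncomputable def fibreAffineSpaceIso (n : Type u) :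
    (𝔸(n; Y) ↘ Y).fiber y ≅ Spec (.of (MvPolynomial n (Y.residueField y))) :=
  (AffineSpace.isPullback_map (n := n) (Y.fromSpecResidueField y)).isoPullback.symm ≪≫
    AffineSpace.SpecIso n (Y.residueField y)

open AffineSpace in
/-- Global sections of the fibre of affine space over `y` form a polynomial ring over `κ(y)`. -/
noncomputable def fibreAffineSpaceRingEquiv (n : Type u) :
    Γ((𝔸(n; Y) ↘ Y).fiber y, ⊤) ≃+* MvPolynomial n (Y.residueField y) :=
  haveI : IsIso (fibreAffineSpaceIso y n).inv.appTop :=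
    inferInstanceAs (IsIso ((fibreAffineSpaceIso y n).inv.app ⊤))
  (asIso (fibreAffineSpaceIso y n).inv.appTop ≪≫
    Scheme.ΓSpecIso (.of (MvPolynomial n (Y.residueField y)))).commRingCatIsoToRingEquiv

theorem ringKrullDim_mvPolynomial_ulift (k : Type u) [Field k] (e : ℕ) :
    ringKrullDim (MvPolynomial (ULift.{u} (Fin e)) k) = e := by
  rw [ringKrullDim_eq_of_ringEquiv
    (MvPolynomial.renameEquiv k (Equiv.ulift.{u} (α := Fin e))).toRingEquiv]
  exact Groth.Agent.H54.ringKrullDim_mvPolynomial_field k e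

open AffineSpace in
/-- If the base change of `g : X ⟶ 𝔸ᵉ_Y` to the fibre of affine space over `y` is finite and the
fibre of `X` over `y` has dimension `e`, then that base change is surjective. -/
theorem surjective_snd_of_isFinite {X : Scheme.{u}} [IsAffine X] [IsAffine Y] (e : ℕ)
    (g : X ⟶ 𝔸(ULift.{u} (Fin e); Y))
    (he : topologicalKrullDim ↥((g ≫ (𝔸(ULift.{u} (Fin e); Y) ↘ Y)).fiber y) = e)
    (hfin : IsFinite (pullback.snd g ((𝔸(ULift.{u} (Fin e); Y) ↘ Y).fiberι y))) :
    Function.Surjective (pullback.snd g ((𝔸(ULift.{u} (Fin e); Y) ↘ Y).fiberι y)).base := by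
  set h := (𝔸(ULift.{u} (Fin e); Y) ↘ Y) with hh
  set k := Y.fromSpecResidueField y with hk
  have hH : IsAffine (h.fiber y) := (inferInstance : IsAffine (pullback h k))
  have hP : IsAffine (pullback g (h.fiberι y)) := inferInstance
  let θ : pullback g (pullback.fst h k) ≅ pullback (g ≫ h) k := pullbackRightPullbackFstIso h k g
  have hdimP : ringKrullDim Γ(pullback g (h.fiberι y), ⊤) = e := by
    rw [ringKrullDim_appTop_eq, ← he]
    exact IsHomeomorph.topologicalKrullDim_eq _ θ.hom.homeomorph.isHomeomorph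
  haveI : IsDomain Γ(h.fiber y, ⊤) :=
    (fibreAffineSpaceRingEquiv y (ULift.{u} (Fin e))).toMulEquiv.isDomain _
  have hdimH : ringKrullDim Γ(h.fiber y, ⊤) = e := by
    rw [ringKrullDim_eq_of_ringEquiv (fibreAffineSpaceRingEquiv y (ULift.{u} (Fin e)))]
    exact ringKrullDim_mvPolynomial_ulift _ e
  have hψ : (pullback.snd g (h.fiberι y)).appTop.hom.Finite :=
    ((HasAffineProperty.iff_of_isAffine (P := @IsFinite)).mp hfin).2
  have hinj : Function.Injective (pullback.snd g (h.fiberι y)).appTop.hom :=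
    injective_of_isIntegral_of_ringKrullDim_eq _ (RingHom.IsIntegral.of_finite hψ) e hdimH hdimP
  haveI : IsDominant (pullback.snd g (h.fiberι y)) := isDominant_of_of_appTop_injective hinj
  exact (surjective_of_isDominant_of_isClosed_range _
    (pullback.snd g (h.fiberι y)).isClosedMap.isClosed_range).surj

/-- If the base change of `g` along a preimmersion `ι` is locally quasi-finite, then `g` is
quasi-finite at every point mapping into the range of `ι`. -/
theorem quasiFiniteAt_of_locallyQuasiFinite_snd {X A H : Scheme.{u}} (g : X ⟶ A)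
    [LocallyOfFiniteType g] (ι : H ⟶ A) [IsPreimmersion ι]
    [LocallyQuasiFinite (pullback.snd g ι)] (x : X) (hx : g x ∈ Set.range ι) :
    g.QuasiFiniteAt x := by
  obtain ⟨z, hz⟩ := hx
  obtain ⟨p₀, hp₁, hp₂⟩ := Scheme.Pullback.exists_preimage_pullback (f := g) (g := ι) x z hz.symm
  have hdisc := (pullback.snd g ι).isDiscrete_preimage_singleton z
  rw [isDiscrete_iff_discreteTopology] at hdisc
  have hp₀ : p₀ ∈ (pullback.snd g ι) ⁻¹' {z} := hp₂
  have hopen : IsOpen ({⟨p₀, hp₀⟩} : Set ↥((pullback.snd g ι) ⁻¹' {z})) := isOpen_discrete _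
  obtain ⟨V, hV, hVeq⟩ := isOpen_induced_iff.mp hopen
  haveI : IsPreimmersion (pullback.fst g ι) := MorphismProperty.pullback_fst _ _ inferInstance
  obtain ⟨W, hW, rfl⟩ := (pullback.fst g ι).isEmbedding.isInducing.isOpen_iff.mp hV
  rw [Scheme.Hom.quasiFiniteAt_iff_isOpen_singleton_asFiber,
    ← (g.fiberHomeo (g x)).isOpen_image]
  have himg : (g.fiberHomeo (g x)) '' {g.asFiber x} = {⟨x, rfl⟩} := by
    rw [Set.image_singleton]
    congr 1
    exact (g.fiberHomeo (g x)).apply_symm_apply _
  rw [himg]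
  refine isOpen_induced_iff.mpr ⟨W, hW, ?_⟩
  ext ⟨x', hx'⟩
  simp only [Set.mem_preimage, Set.mem_singleton_iff, Subtype.mk.injEq]
  have hx'' : g x' = g x := hx'
  constructor
  · intro hx'W
    obtain ⟨p, hp₁', hp₂'⟩ := Scheme.Pullback.exists_preimage_pullback (f := g) (g := ι) x' z
      (hx''.trans hz.symm)
    have hpmem : p ∈ (pullback.snd g ι) ⁻¹' {z} := hp₂'
    have : (⟨p, hpmem⟩ : ↥((pullback.snd g ι) ⁻¹' {z})) ∈
        Subtype.val ⁻¹' ((pullback.fst g ι) ⁻¹' W) := by
      show (pullback.fst g ι) p ∈ W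
      rw [hp₁']; exact hx'W
    rw [hVeq] at this
    have hpp : p = p₀ := congrArg Subtype.val (Set.mem_singleton_iff.mp this)
    rw [← hp₁', hpp, hp₁]
  · intro hxx
    have : (⟨p₀, hp₀⟩ : ↥((pullback.snd g ι) ⁻¹' {z})) ∈
        Subtype.val ⁻¹' ((pullback.fst g ι) ⁻¹' W) := by
      rw [hVeq]; exact Set.mem_singleton _
    have h2 : (pullback.fst g ι) p₀ ∈ W := this
    rw [hxx, ← hp₁]
    exact h2

end Scheme

end Groth.Agent.H69.FibreNoether
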