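import Mathlib
import Groth.Agent.H69.DimAffSpaceA
import Groth.Agent.H69.DimAffSpaceB
import Groth.Agent.H69.FibreNoether2

/-!
# Dimension of a scheme of finite type over a field via maps to affine space
-/

set_option autoImplicit false
set_option linter.style.haveILetI false

universe u

open CategoryTheory AlgebraicGeometry Limits AffineSpace

namespace Groth.Agent.H69.DimAffSpace

variable (k : Type u) [Field k]

/-- The dimension of affine `n`-space over a field. -/
theorem topologicalKrullDim_affineSpace (n : ℕ) :
    topologicalKrullDim 𝔸(ULift.{u} (Fin n); Spec (CommRingCat.of k)) = n := by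
  rw [IsHomeomorph.topologicalKrullDim_eq _
    (SpecIso (ULift.{u} (Fin n)) (CommRingCat.of k)).hom.homeomorph.isHomeomorph]
  change topologicalKrullDim (PrimeSpectrum (MvPolynomial (ULift.{u} (Fin n)) k)) = _
  rw [PrimeSpectrum.topologicalKrullDim_eq_ringKrullDim]
  exact Groth.Agent.H69.FibreNoether.ringKrullDim_mvPolynomial_ulift k n

theorem isEmpty_of_topologicalKrullDim_eq_bot {T : Type*} [TopologicalSpace T]
    (h : topologicalKrullDim T = ⊥) : IsEmpty T := by
  rw [topologicalKrullDim, Order.krullDim_eq_bot_iff] at h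
  refine ⟨fun t => h.false ⟨closure {t}, isIrreducible_singleton.closure, isClosed_closure⟩⟩

theorem topologicalKrullDim_eq_bot_of_isEmpty {T : Type*} [TopologicalSpace T] [IsEmpty T] :
    topologicalKrullDim T = ⊥ := by
  rw [topologicalKrullDim, Order.krullDim_eq_bot_iff]
  exact ⟨fun Z => (Z.isIrreducible.nonempty.some : T) |> IsEmpty.false⟩

theorem withBotENat_cases (x : WithBot ℕ∞) : x = ⊥ ∨ x = ⊤ ∨ ∃ m : ℕ, x = m := by
  induction x using WithBot.recBotCoe with
  | bot => exact Or.inl rfl
  | coe a =>
    induction a using ENat.recTopCoe with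
    | top => exact Or.inr (Or.inl rfl)
    | coe m => exact Or.inr (Or.inr ⟨m, rfl⟩)

/-- The dimension of a dense open of a scheme locally of finite type over a field is the dimension
of the scheme. -/
theorem topologicalKrullDim_eq_of_dense {X : Scheme.{u}}
    (s : X ⟶ Spec (CommRingCat.of k)) [LocallyOfFiniteType s] (U : X.Opens)
    (hU : Dense (U : Set X)) : topologicalKrullDim U = topologicalKrullDim X := by
  apply le_antisymm (topologicalKrullDim_subspace_le X (U : Set X))
  rcases withBotENat_cases (topologicalKrullDim U) with h | h | ⟨m, h⟩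
  · have hemp : IsEmpty U := isEmpty_of_topologicalKrullDim_eq_bot h
    have : IsEmpty X := by
      refine ⟨fun x => ?_⟩
      obtain ⟨y, hy⟩ := hU.nonempty_iff.mpr ⟨x⟩
      exact hemp.false ⟨y, hy⟩
    rw [topologicalKrullDim_eq_bot_of_isEmpty]
    exact bot_le
  · exact le_of_le_of_eq le_top h.symm
  · exact le_of_le_of_eq (topologicalKrullDim_le_of_dense s U hU m h.le) h.symm

open Groth.Agent.H54 in
/-- A surjective morphism of schemes locally of finite type over a field does not raise the
dimension. -/
theorem topologicalKrullDim_le_of_surjective {Y Z : Scheme.{u}}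
    (p : Y ⟶ Spec (CommRingCat.of k)) (q : Z ⟶ Spec (CommRingCat.of k))
    [LocallyOfFiniteType p] [LocallyOfFiniteType q] (g : Z ⟶ Y) (hg : g ≫ p = q)
    (hs : Function.Surjective g.base) : topologicalKrullDim Y ≤ topologicalKrullDim Z := by
  rcases withBotENat_cases (topologicalKrullDim Z) with h | h | ⟨m, h⟩
  · have hemp : IsEmpty Z := isEmpty_of_topologicalKrullDim_eq_bot h
    have : IsEmpty Y := ⟨fun y => by obtain ⟨z, -⟩ := hs y; exact hemp.false z⟩
    rw [topologicalKrullDim_eq_bot_of_isEmpty]
    exact bot_le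
  · exact le_of_le_of_eq le_top h.symm
  · refine le_of_le_of_eq ?_ h.symm
    apply topologicalKrullDim_le_of_forall_tdeg_le p m
    intro y
    obtain ⟨z, rfl⟩ := hs y
    have h1 : tdeg p (g z) ≤ tdeg q z := tdeg_le_of_hom p q g hg z
    have h2 : (tdeg q z : WithBot ℕ∞) ≤ topologicalKrullDim (⊤ : Z.Opens) :=
      tdeg_le_topologicalKrullDim q z ⊤ trivial
    have h3 : topologicalKrullDim (⊤ : Z.Opens) ≤ topologicalKrullDim Z :=
      topologicalKrullDim_subspace_le Z _
    have h4 : (tdeg q z : WithBot ℕ∞) ≤ m := (h2.trans h3).trans h.le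
    have h5 : tdeg q z ≤ m := by exact_mod_cast h4
    exact h1.trans h5

end Groth.Agent.H69.DimAffSpace
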