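import Mathlib
import Groth.Prelude.Def_SGA1

/-! Quotients by finite groups: the quotient property can be checked on a basis. -/

set_option autoImplicit false
set_option linter.style.haveILetI false
set_option linter.unusedSectionVars false
open AlgebraicGeometry CategoryTheory TopologicalSpace

universe u

namespace Groth.Agent.H69.QuotBasis


theorem appLE_congr {X Y : Scheme.{u}} (a b : X ⟶ Y) (hab : a = b) (U : Y.Opens) (V : X.Opens)
    (ha : V ≤ a ⁻¹ᵁ U) (hb : V ≤ b ⁻¹ᵁ U) : a.appLE U V ha = b.appLE U V hb := by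
  subst hab; rfl

variable {X Y : Scheme.{u}} {G : Type u} [Group G]

theorem app_res (π : X ⟶ Y) (V U : Y.Opens) (hle : V ≤ U) (a : Γ(Y, U)) :
    (π.app V).hom ((Y.presheaf.map (homOfLE hle).op).hom a) =
      (X.presheaf.map (homOfLE (π.preimage_mono hle)).op).hom ((π.app U).hom a) := by
  have := π.naturality (homOfLE hle).op
  exact congr($(this) a)

/-- The action of `g` on sections over `p⁻¹U`. -/
noncomputable def act (ρ : G →* Aut X) (p : X ⟶ Y) (hinv : ∀ g : G, (ρ g).hom ≫ p = p) (g : G)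
    (U : Y.Opens) : Γ(X, p ⁻¹ᵁ U) →+* Γ(X, p ⁻¹ᵁ U) :=
  ((ρ g).hom.appLE (p ⁻¹ᵁ U) (p ⁻¹ᵁ U) (SGA1.preimage_le_of_inv ρ p hinv g U)).hom

theorem act_res (ρ : G →* Aut X) (p : X ⟶ Y) (hinv : ∀ g : G, (ρ g).hom ≫ p = p) (g : G)
    (V U : Y.Opens) (hle : V ≤ U) (t : Γ(X, p ⁻¹ᵁ U)) :
    act ρ p hinv g V ((X.presheaf.map (homOfLE (p.preimage_mono hle)).op).hom t) =
      (X.presheaf.map (homOfLE (p.preimage_mono hle)).op).hom (act ρ p hinv g U t) := by
  have e1 := Scheme.Hom.map_appLE (ρ g).hom (SGA1.preimage_le_of_inv ρ p hinv g V)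
    (homOfLE (p.preimage_mono hle)).op
  have e2 := Scheme.Hom.appLE_map (ρ g).hom (SGA1.preimage_le_of_inv ρ p hinv g U)
    (homOfLE (p.preimage_mono hle)).op
  have h1 : act ρ p hinv g V ((X.presheaf.map (homOfLE (p.preimage_mono hle)).op).hom t) =
      ((ρ g).hom.appLE (p ⁻¹ᵁ U) (p ⁻¹ᵁ V)
        ((SGA1.preimage_le_of_inv ρ p hinv g V).trans
          ((Opens.map (ρ g).hom.base).map (homOfLE (p.preimage_mono hle))).le)).hom t :=
    congr($(e1) t)
  have h2 : (X.presheaf.map (homOfLE (p.preimage_mono hle)).op).hom (act ρ p hinv g U t) =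
      ((ρ g).hom.appLE (p ⁻¹ᵁ U) (p ⁻¹ᵁ V)
        ((homOfLE (p.preimage_mono hle)).le.trans
          (SGA1.preimage_le_of_inv ρ p hinv g U))).hom t :=
    congr($(e2) t)
  rw [h1, h2]

theorem act_app (ρ : G →* Aut X) (p : X ⟶ Y) (hinv : ∀ g : G, (ρ g).hom ≫ p = p) (g : G)
    (U : Y.Opens) (s : Γ(Y, U)) : act ρ p hinv g U ((p.app U).hom s) = (p.app U).hom s := by
  have e1 : p.app U ≫ (ρ g).hom.appLE (p ⁻¹ᵁ U) (p ⁻¹ᵁ U)
      (SGA1.preimage_le_of_inv ρ p hinv g U) =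
      ((ρ g).hom ≫ p).appLE U (p ⁻¹ᵁ U) (by rw [hinv g]) := by
    rw [Scheme.Hom.app_eq_appLE, Scheme.Hom.appLE_comp_appLE]
  have e2 : ((ρ g).hom ≫ p).appLE U (p ⁻¹ᵁ U) (by rw [hinv g]) = p.app U := by
    rw [Scheme.Hom.app_eq_appLE]
    exact appLE_congr _ _ (hinv g) _ _ _ _
  exact congr($(e1.trans e2) s)

/-- The quotient property can be checked on a basis of the target. -/
theorem isQuot_of_basis (ρ : G →* Aut X) (p : X ⟶ Y) [IsAffineHom p]
    (hinv : ∀ g : G, (ρ g).hom ≫ p = p) (𝔅 : Set Y.Opens)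
    (hB : ∀ (U : Y.Opens) (y : Y), y ∈ U → ∃ V ∈ 𝔅, y ∈ V ∧ V ≤ U)
    (hinj : ∀ V ∈ 𝔅, Function.Injective (p.app V).hom)
    (hrange : ∀ V ∈ 𝔅, ∀ t : Γ(X, p ⁻¹ᵁ V), (∀ g : G, act ρ p hinv g V t = t) →
      t ∈ Set.range (p.app V).hom) : SGA1.IsQuot ρ p := by
  have hinjall : ∀ U : Y.Opens, Function.Injective (p.app U).hom := by
    intro U s₁ s₂ h
    let ι := {V : Y.Opens // V ∈ 𝔅 ∧ V ≤ U}
    have hcov : U ≤ ⨆ i : ι, i.1 := by
      intro y hy
      obtain ⟨V, hV, hyV, hVU⟩ := hB U y hy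
      exact Opens.mem_iSup.mpr ⟨⟨V, hV, hVU⟩, hyV⟩
    apply Y.sheaf.eq_of_locally_eq' (fun i : ι => i.1) U (fun i => homOfLE i.2.2) hcov
    intro i
    apply hinj i.1 i.2.1
    show (p.app i.1).hom ((Y.presheaf.map (homOfLE i.2.2).op).hom s₁) =
      (p.app i.1).hom ((Y.presheaf.map (homOfLE i.2.2).op).hom s₂)
    rw [app_res, app_res, h]
  refine ⟨inferInstance, hinv, hinjall, fun U t => ⟨?_, ?_⟩⟩
  · rintro ⟨s, rfl⟩ g
    exact act_app ρ p hinv g U s
  · intro ht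
    let ι := {V : Y.Opens // V ∈ 𝔅 ∧ V ≤ U}
    have hcov : U ≤ ⨆ i : ι, i.1 := by
      intro y hy
      obtain ⟨V, hV, hyV, hVU⟩ := hB U y hy
      exact Opens.mem_iSup.mpr ⟨⟨V, hV, hVU⟩, hyV⟩
    have hloc : ∀ i : ι, ∃ s : Γ(Y, i.1), (p.app i.1).hom s =
        (X.presheaf.map (homOfLE (p.preimage_mono i.2.2)).op).hom t := by
      intro i
      apply hrange i.1 i.2.1
      intro g
      rw [act_res ρ p hinv g i.1 U i.2.2 t]
      exact congrArg _ (ht g)
    choose sf hsf using hloc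
    have hcompat : TopCat.Presheaf.IsCompatible Y.sheaf.1 (fun i : ι => i.1) sf := by
      intro i j
      apply hinjall (i.1 ⊓ j.1)
      show (p.app (i.1 ⊓ j.1)).hom ((Y.presheaf.map (homOfLE inf_le_left).op).hom (sf i)) =
        (p.app (i.1 ⊓ j.1)).hom ((Y.presheaf.map (homOfLE inf_le_right).op).hom (sf j))
      rw [app_res, app_res, hsf, hsf]
      rw [← CommRingCat.comp_apply, ← CommRingCat.comp_apply, ← Functor.map_comp,
        ← Functor.map_comp]
      rfl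
    obtain ⟨s, hs, -⟩ := Y.sheaf.existsUnique_gluing' (fun i : ι => i.1) U
      (fun i => homOfLE i.2.2) hcov sf hcompat
    refine ⟨s, ?_⟩
    have hcovX : p ⁻¹ᵁ U ≤ ⨆ i : ι, p ⁻¹ᵁ i.1 := by
      intro x hx
      obtain ⟨i, hi⟩ := Opens.mem_iSup.mp (hcov hx)
      exact Opens.mem_iSup.mpr ⟨i, hi⟩
    apply X.sheaf.eq_of_locally_eq' (fun i : ι => p ⁻¹ᵁ i.1) (p ⁻¹ᵁ U)
      (fun i => homOfLE (p.preimage_mono i.2.2)) hcovX
    intro i
    show (X.presheaf.map (homOfLE (p.preimage_mono i.2.2)).op).hom ((p.app U).hom s) =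
      (X.presheaf.map (homOfLE (p.preimage_mono i.2.2)).op).hom t
    rw [← app_res p i.1 U i.2.2 s, ← hsf i]
    exact congrArg _ (hs i)

/-- Invariants commute with localization at an invariant element (abstract form). -/
theorem loc_quot {A₀ A A₀' A' : Type*} [CommRing A₀] [CommRing A] [CommRing A₀'] [CommRing A']
    [Algebra A₀ A₀'] [Algebra A A'] (b : A₀) (φ : A₀ →+* A) (φ' : A₀' →+* A')
    [IsLocalization.Away b A₀'] [IsLocalization.Away (φ b) A']
    (hcomm : ∀ c, φ' (algebraMap A₀ A₀' c) = algebraMap A A' (φ c))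
    {H : Type*} [Finite H] (σ : H → A →+* A) (σ' : H → A' →+* A')
    (hσ : ∀ g s, σ' g (algebraMap A A' s) = algebraMap A A' (σ g s))
    (hσφ : ∀ g c, σ g (φ c) = φ c)
    (hinj : Function.Injective φ)
    (hrange : ∀ t : A, (∀ g, σ g t = t) → t ∈ Set.range φ) :
    Function.Injective φ' ∧ ∀ t' : A', (∀ g, σ' g t' = t') → t' ∈ Set.range φ' := by
  have hunit₀ : ∀ m : ℕ, IsUnit (algebraMap A₀ A₀' (b ^ m)) := fun m =>
    IsLocalization.map_units A₀' (⟨b ^ m, m, rfl⟩ : Submonoid.powers b)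
  have hunit : ∀ m : ℕ, IsUnit (algebraMap A A' (φ b ^ m)) := fun m =>
    IsLocalization.map_units A' (⟨φ b ^ m, m, rfl⟩ : Submonoid.powers (φ b))
  have hpow : ∀ m : ℕ, φ' (algebraMap A₀ A₀' (b ^ m)) = algebraMap A A' (φ b ^ m) := fun m => by
    rw [hcomm, map_pow]
  constructor
  · rw [injective_iff_map_eq_zero]
    intro u hu
    obtain ⟨⟨c, ⟨_, n, rfl⟩⟩, hc⟩ := IsLocalization.surj (Submonoid.powers b) u
    simp only at hc
    have h1 : algebraMap A A' (φ c) = 0 := by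
      rw [← hcomm, ← hc, map_mul, hu, zero_mul]
    obtain ⟨⟨_, k, rfl⟩, hk⟩ := (IsLocalization.map_eq_zero_iff (Submonoid.powers (φ b)) A' _).mp h1
    simp only at hk
    have h2 : b ^ k * c = 0 := hinj (by rw [map_mul, map_pow, hk, map_zero])
    have h3 : algebraMap A₀ A₀' c = 0 := by
      have := congrArg (algebraMap A₀ A₀') h2
      rw [map_mul, map_zero] at this
      exact (hunit₀ k).mul_right_eq_zero.mp this
    rw [h3] at hc
    exact (hunit₀ n).mul_left_eq_zero.mp hc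
  · intro t' ht'
    obtain ⟨⟨s, ⟨_, n, rfl⟩⟩, hs⟩ := IsLocalization.surj (Submonoid.powers (φ b)) t'
    simp only at hs
    have hσb : ∀ g (m : ℕ), σ g (φ b ^ m) = φ b ^ m := fun g m => by rw [map_pow, hσφ]
    have h1 : ∀ g, algebraMap A A' (σ g s - s) = 0 := by
      intro g
      rw [map_sub, ← hσ, ← hs, map_mul, ht', hσ, hσb, sub_self]
    have h2 : ∀ g, ∃ k : ℕ, φ b ^ k * (σ g s - s) = 0 := by
      intro g
      obtain ⟨⟨_, k, rfl⟩, hk⟩ :=
        (IsLocalization.map_eq_zero_iff (Submonoid.powers (φ b)) A' _).mp (h1 g)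
      exact ⟨k, hk⟩
    choose k hk using h2
    obtain ⟨K, hK⟩ : ∃ K, ∀ g, k g ≤ K := by
      cases nonempty_fintype H
      exact ⟨Finset.univ.sup k, fun g => Finset.le_sup (Finset.mem_univ g)⟩
    have h3 : ∀ g, φ b ^ K * (σ g s - s) = 0 := by
      intro g
      rw [← Nat.sub_add_cancel (hK g), pow_add, mul_assoc, hk g, mul_zero]
    have h4 : ∀ g, σ g (φ b ^ K * s) = φ b ^ K * s := by
      intro g
      rw [map_mul, hσb]
      have := h3 g
      rw [mul_sub, sub_eq_zero] at this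
      exact this
    obtain ⟨c, hc⟩ := hrange _ h4
    obtain ⟨w, hw⟩ := hunit₀ (n + K)
    refine ⟨algebraMap A₀ A₀' c * ↑w⁻¹, ?_⟩
    have h5 : φ' (algebraMap A₀ A₀' c * ↑w⁻¹) * algebraMap A A' (φ b ^ (n + K)) =
        t' * algebraMap A A' (φ b ^ (n + K)) := by
      have e1 : φ' (algebraMap A₀ A₀' c * ↑w⁻¹) * algebraMap A A' (φ b ^ (n + K)) =
          algebraMap A A' (φ c) := by
        rw [← hpow (n + K), ← hw, ← map_mul, mul_assoc, Units.inv_mul, mul_one, hcomm]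
      have e2 : t' * algebraMap A A' (φ b ^ (n + K)) = algebraMap A A' (φ c) := by
        rw [hc, map_mul, pow_add, map_mul, ← mul_assoc, hs]
        ring
      rw [e1, e2]
    exact (hunit (n + K)).mul_left_injective h5

theorem act_top (ρ : G →* Aut X) (p : X ⟶ Y) (hinv : ∀ g : G, (ρ g).hom ≫ p = p) (g : G)
    (t : Γ(X, ⊤)) : act ρ p hinv g ⊤ t = (ρ g).hom.appTop.hom t := by
  have : (ρ g).hom.appLE (p ⁻¹ᵁ ⊤) (p ⁻¹ᵁ ⊤) (SGA1.preimage_le_of_inv ρ p hinv g ⊤) =
      (ρ g).hom.appTop := by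
    rw [Scheme.Hom.appTop, Scheme.Hom.app_eq_appLE]
    rfl
  exact congr($(this) t)

/-- A `G`-invariant morphism of affine schemes inducing `Γ(Y) ≅ Γ(X)^G` is a quotient. -/
theorem isQuot_of_isAffine [Finite G] [IsAffine X] [IsAffine Y] (ρ : G →* Aut X) (p : X ⟶ Y)
    (hinv : ∀ g : G, (ρ g).hom ≫ p = p)
    (hinjTop : Function.Injective p.appTop.hom)
    (hrangeTop : ∀ t : Γ(X, ⊤), (∀ g : G, (ρ g).hom.appTop.hom t = t) →
      t ∈ Set.range p.appTop.hom) : SGA1.IsQuot ρ p := by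
  refine isQuot_of_basis ρ p hinv (Set.range (Y.basicOpen : Γ(Y, ⊤) → Y.Opens)) ?_ ?_ ?_
  · intro U y hy
    obtain ⟨V, hV, hyV, hVU⟩ := Opens.isBasis_iff_nbhd.mp (isBasis_basicOpen Y) hy
    exact ⟨V, hV, hyV, hVU⟩
  all_goals
    rintro _ ⟨b, rfl⟩
    letI algY : Algebra Γ(Y, ⊤) Γ(Y, Y.basicOpen b) :=
      (Y.presheaf.map (homOfLE (le_top : Y.basicOpen b ≤ ⊤)).op).hom.toAlgebra
    haveI locY : IsLocalization.Away b Γ(Y, Y.basicOpen b) :=
      (isAffineOpen_top Y).isLocalization_of_eq_basicOpen b (homOfLE le_top) rfl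
    letI algX : Algebra Γ(X, ⊤) Γ(X, p ⁻¹ᵁ Y.basicOpen b) :=
      (X.presheaf.map (homOfLE (le_top : p ⁻¹ᵁ Y.basicOpen b ≤ ⊤)).op).hom.toAlgebra
    haveI locX : IsLocalization.Away (p.appTop.hom b) Γ(X, p ⁻¹ᵁ Y.basicOpen b) :=
      (isAffineOpen_top X).isLocalization_of_eq_basicOpen (p.appTop.hom b) (homOfLE le_top)
        (Scheme.preimage_basicOpen_top p b)
    have key := loc_quot (A₀ := Γ(Y, ⊤)) (A := Γ(X, ⊤)) (A₀' := Γ(Y, Y.basicOpen b))
      (A' := Γ(X, p ⁻¹ᵁ Y.basicOpen b)) b p.appTop.hom (p.app (Y.basicOpen b)).hom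
      (fun c => app_res p (Y.basicOpen b) ⊤ le_top c)
      (fun g : G => act ρ p hinv g ⊤) (fun g : G => act ρ p hinv g (Y.basicOpen b))
      (fun g s => act_res ρ p hinv g (Y.basicOpen b) ⊤ le_top s)
      (fun g c => act_app ρ p hinv g ⊤ c)
      hinjTop
      (fun t ht => hrangeTop t (fun g => by rw [← act_top ρ p hinv g t]; exact ht g))
  · exact key.1
  · exact key.2

theorem ΓSpecIso_appTop {R S : CommRingCat.{u}} (f : R ⟶ S) (x : Γ(Spec R, ⊤)) :
    (Scheme.ΓSpecIso S).hom.hom ((Spec.map f).appTop.hom x) =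
      f.hom ((Scheme.ΓSpecIso R).hom.hom x) :=
  congr($(Scheme.ΓSpecIso_naturality f) x)

/-- `Spec A ⟶ Spec A^G` is a quotient. -/
theorem isQuot_Spec (G : Type u) [Group G] [Finite G] (A B : Type u) [CommRing A] [CommRing B]
    [Algebra B A] [MulSemiringAction G A] [SMulCommClass G B A] [Algebra.IsInvariant B A G]
    [FaithfulSMul B A]
    (ρ : G →* Aut (Spec (CommRingCat.of A)))
    (hρ : Set.range (fun g : G => (ρ g).hom) =
      Set.range (fun g : G => Spec.map (CommRingCat.ofHom (MulSemiringAction.toRingHom G A g)))) :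
    SGA1.IsQuot ρ (Spec.map (CommRingCat.ofHom (algebraMap B A))) := by
  have hbij : ∀ R : CommRingCat.{u}, Function.Bijective (Scheme.ΓSpecIso R).hom.hom := fun R =>
    ConcreteCategory.bijective_of_isIso (Scheme.ΓSpecIso R).hom
  apply isQuot_of_isAffine
  · intro g
    obtain ⟨h, hh⟩ : (ρ g).hom ∈ Set.range (fun g : G =>
        Spec.map (CommRingCat.ofHom (MulSemiringAction.toRingHom G A g))) := by
      rw [← hρ]; exact Set.mem_range_self g
    simp only at hh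
    rw [← hh, ← Spec.map_comp]
    congr 1
    ext b
    change h • algebraMap B A b = algebraMap B A b
    exact smul_algebraMap h b
  · intro x y hxy
    apply (hbij (CommRingCat.of B)).1
    apply FaithfulSMul.algebraMap_injective B A
    have hx := ΓSpecIso_appTop (CommRingCat.ofHom (algebraMap B A)) x
    have hy := ΓSpecIso_appTop (CommRingCat.ofHom (algebraMap B A)) y
    rw [hxy] at hx
    exact hx.symm.trans hy
  · intro t ht
    have hinvt : ∀ h : G, h • (Scheme.ΓSpecIso (CommRingCat.of A)).hom.hom t =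
        (Scheme.ΓSpecIso (CommRingCat.of A)).hom.hom t := by
      intro h
      obtain ⟨g, hg⟩ : Spec.map (CommRingCat.ofHom (MulSemiringAction.toRingHom G A h)) ∈
          Set.range (fun g : G => (ρ g).hom) := by
        rw [hρ]; exact Set.mem_range_self h
      simp only at hg
      have h1 := ΓSpecIso_appTop (CommRingCat.ofHom (MulSemiringAction.toRingHom G A h)) t
      rw [← hg, ht g] at h1
      exact h1.symm
    obtain ⟨b, hb⟩ := Algebra.IsInvariant.isInvariant (A := B) (G := G) _ hinvt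
    obtain ⟨s, hs⟩ := (hbij (CommRingCat.of B)).2 b
    refine ⟨s, ?_⟩
    apply (hbij (CommRingCat.of A)).1
    rw [ΓSpecIso_appTop, hs]
    exact hb

end Groth.Agent.H69.QuotBasis
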