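import Groth.Agent.H69.UHomeo
import Mathlib

set_option autoImplicit false
universe u
open AlgebraicGeometry CategoryTheory

namespace Groth.Agent.H69

theorem universallyInjective_of_isUnivHomeo {X Y : Scheme.{u}} (f : X ⟶ Y)
    (h : FlatMor.IsUnivHomeo f) : UniversallyInjective f :=
  ⟨fun _ _ i₁ i₂ f' hp => (h i₁ i₂ f' hp).injective⟩

theorem surjective_of_isUnivHomeo {X Y : Scheme.{u}} (f : X ⟶ Y)
    (h : FlatMor.IsUnivHomeo f) : Surjective f :=
  ⟨(isHomeomorph_of_isUnivHomeo f h).surjective⟩

/-- Field-valued points criterion for universally injective maps, ring version. -/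
theorem ringHom_ext_of_universallyInjective_Spec {A C : Type u} [CommRing A] [CommRing C]
    (ψ : A →+* C) (hψ : UniversallyInjective (Spec.map (CommRingCat.ofHom ψ)))
    {L : Type u} [Field L] (f g : C →+* L) (hfg : f.comp ψ = g.comp ψ) : f = g := by
  have h2' : ∀ (K : Type u) [Field K], Function.Injective
      (fun g : Spec (.of K) ⟶ Spec (CommRingCat.of C) ↦ g ≫ Spec.map (CommRingCat.ofHom ψ)) :=
    ((tfae_universallyInjective (Spec.map (CommRingCat.ofHom ψ))).out 0 1).mp hψ
  have h2 := h2' L
  have h3 : Spec.map (CommRingCat.ofHom f) = Spec.map (CommRingCat.ofHom g) := by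
    apply h2
    show Spec.map (CommRingCat.ofHom f) ≫ Spec.map (CommRingCat.ofHom ψ) =
      Spec.map (CommRingCat.ofHom g) ≫ Spec.map (CommRingCat.ofHom ψ)
    rw [← Spec.map_comp, ← Spec.map_comp, ← CommRingCat.ofHom_comp, ← CommRingCat.ofHom_comp, hfg]
  have h4 := Spec.map_injective h3
  exact congrArg CommRingCat.Hom.hom h4

theorem universallyInjective_Spec_of_ringHom_ext {A C : Type u} [CommRing A] [CommRing C]
    (ψ : A →+* C)
    (H : ∀ (L : Type u) [Field L] (f g : C →+* L), f.comp ψ = g.comp ψ → f = g) :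
    UniversallyInjective (Spec.map (CommRingCat.ofHom ψ)) := by
  refine ((tfae_universallyInjective (Spec.map (CommRingCat.ofHom ψ))).out 0 1).mpr ?_
  intro K _ g₁ g₂ hg
  obtain ⟨φ₁, rfl⟩ := Spec.map_surjective g₁
  obtain ⟨φ₂, rfl⟩ := Spec.map_surjective g₂
  have hg' : Spec.map φ₁ ≫ Spec.map (CommRingCat.ofHom ψ) =
      Spec.map φ₂ ≫ Spec.map (CommRingCat.ofHom ψ) := hg
  rw [← Spec.map_comp, ← Spec.map_comp] at hg'
  have h1 := Spec.map_injective hg'
  have h2 : φ₁.hom = φ₂.hom := by
    apply H K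
    have := congrArg CommRingCat.Hom.hom h1
    simpa using this
  congr 1
  exact CommRingCat.hom_ext h2

/-- Lifting a ring hom to an algebraically closed field along an integral extension. -/
theorem exists_ringHom_extension_algClosed {R S : Type*} [CommRing R] [CommRing S] [Algebra R S]
    [Algebra.IsIntegral R S] {Ω : Type*} [Field Ω] [IsAlgClosed Ω] (φ : R →+* Ω)
    (hker : RingHom.ker (algebraMap R S) ≤ RingHom.ker φ) :
    ∃ ψ : S →+* Ω, ψ.comp (algebraMap R S) = φ := by
  haveI hP : (RingHom.ker φ).IsPrime := RingHom.ker_isPrime φ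
  obtain ⟨Q, -, hQ, hQP⟩ := Ideal.exists_ideal_over_prime_of_isIntegral (RingHom.ker φ)
    (⊥ : Ideal S) (by rw [← RingHom.ker_eq_comap_bot]; exact hker)
  haveI := hQ
  haveI : Q.LiesOver (RingHom.ker φ) := ⟨hQP.symm⟩
  letI : Algebra (R ⧸ RingHom.ker φ) Ω := (RingHom.kerLift φ).toAlgebra
  haveI : FaithfulSMul (R ⧸ RingHom.ker φ) Ω :=
    (faithfulSMul_iff_algebraMap_injective _ _).mpr (RingHom.kerLift_injective φ)
  haveI : Algebra.IsAlgebraic (R ⧸ RingHom.ker φ) (S ⧸ Q) := Algebra.IsIntegral.isAlgebraic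
  let σ : (S ⧸ Q) →ₐ[R ⧸ RingHom.ker φ] Ω := IsAlgClosed.lift
  refine ⟨σ.toRingHom.comp (Ideal.Quotient.mk Q), ?_⟩
  ext r
  have := σ.commutes (Ideal.Quotient.mk _ r)
  simpa [RingHom.algebraMap_toAlgebra] using this

/-- Residue field extensions of a universally injective `Spec` map are purely inseparable. -/
theorem exists_pow_mem_range_residueFieldMap {A C : Type u} [CommRing A] [CommRing C]
    (ψ : A →+* C) (hψ : UniversallyInjective (Spec.map (CommRingCat.ofHom ψ)))
    (r : Ideal C) [r.IsPrime] (x : r.ResidueField) :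
    ∃ n : ℕ, x ^ ringExpChar (r.comap ψ).ResidueField ^ n ∈
      Set.range (Ideal.ResidueField.map (r.comap ψ) r ψ rfl) := by
  letI : Algebra (r.comap ψ).ResidueField r.ResidueField :=
    (Ideal.ResidueField.map (r.comap ψ) r ψ rfl).toAlgebra
  haveI : Nonempty (r.ResidueField →+* AlgebraicClosure r.ResidueField) := ⟨algebraMap _ _⟩
  haveI : IsPurelyInseparable (r.comap ψ).ResidueField r.ResidueField := by
    refine IsPurelyInseparable.of_injective_comp_algebraMap _ _
      (AlgebraicClosure r.ResidueField) ?_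
    intro f g hfg
    dsimp only at hfg
    apply Ideal.ResidueField.ringHom_ext
    apply ringHom_ext_of_universallyInjective_Spec ψ hψ
    ext a
    have := congrArg (fun h => h (algebraMap A _ a)) hfg
    simpa [RingHom.algebraMap_toAlgebra] using this
  obtain ⟨n, y, hy⟩ := IsPurelyInseparable.pow_mem (r.comap ψ).ResidueField
    (ringExpChar (r.comap ψ).ResidueField) x
  exact ⟨n, y, hy⟩

/-- An injective integral ring map whose field-valued points are injective induces a
universal homeomorphism on spectra. -/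
theorem isUnivHomeo_Spec_of_integral_of_ringHom_ext {A C : Type u} [CommRing A] [CommRing C]
    (ψ : A →+* C) (hint : ψ.IsIntegral) (hinj : Function.Injective ψ)
    (H : ∀ (L : Type u) [Field L] (f g : C →+* L), f.comp ψ = g.comp ψ → f = g) :
    FlatMor.IsUnivHomeo (Spec.map (CommRingCat.ofHom ψ)) := by
  haveI : IsIntegralHom (Spec.map (CommRingCat.ofHom ψ)) := IsIntegralHom.SpecMap_iff.mpr hint
  haveI : UniversallyInjective (Spec.map (CommRingCat.ofHom ψ)) :=
    universallyInjective_Spec_of_ringHom_ext ψ H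
  haveI : Surjective (Spec.map (CommRingCat.ofHom ψ)) :=
    ⟨hint.comap_surjective hinj⟩
  exact isUnivHomeo_of_integral _

end Groth.Agent.H69
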