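import Groth.Agent.H69.GUPoly

/-! Ring-level form of: geometric unibranchness ascends to polynomial rings. -/

set_option autoImplicit false
set_option linter.style.haveILetI false
set_option linter.unusedSectionVars false
open AlgebraicGeometry CategoryTheory

universe u

namespace Groth.Agent.H69.GeomUnibranch

open MvPolynomial

/-- Localization at a prime commutes with surjections. -/
theorem isLocalization_atPrime_of_surjective {A₀ A : Type*} [CommRing A₀] [CommRing A]
    (f : A₀ →+* A) (hf : Function.Surjective f) (p₀ : Ideal A₀) [p₀.IsPrime]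
    (Rp : Type*) [CommRing Rp] [Algebra A₀ Rp] [IsLocalization.AtPrime Rp p₀]
    (R' : Type*) [CommRing R'] (g : Rp →+* R') (hg : Function.Surjective g) [Algebra A R']
    (H : g.comp (algebraMap A₀ Rp) = (algebraMap A R').comp f)
    (H' : RingHom.ker g ≤ (RingHom.ker f).map (algebraMap A₀ Rp))
    (p' : Ideal A) [p'.IsPrime] (hp : p'.comap f = p₀) : IsLocalization.AtPrime R' p' := by
  have key := IsLocalization.of_surjective p₀.primeCompl Rp f hf g hg H H'
  have hM : p₀.primeCompl.map f = p'.primeCompl := by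
    ext x
    obtain ⟨a, rfl⟩ := hf x
    constructor
    · rintro ⟨b, hb, hba⟩ ha
      apply hb
      rw [← hp]
      change f b ∈ p'
      have hba' : f b = f a := hba
      rw [hba']
      exact ha
    · intro ha
      refine ⟨a, ?_, rfl⟩
      intro ha'
      apply ha
      rw [← hp] at ha'
      exact ha'
  change IsLocalization p'.primeCompl R'
  rw [← hM]
  exact key

section Model

variable {A : Type u} [CommRing A] [IsDomain A] (p : Ideal A) [p.IsPrime]
  (K : Type u) [Field K] [Algebra A K] [IsFractionRing A K]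
  (R : Type u) [CommRing R] [IsLocalRing R] [Algebra A (CAlg2.red R)]
  [IsLocalization.AtPrime (CAlg2.red R) p]

include p in
theorem isDomain_red_of_model : IsDomain (CAlg2.red R) :=
  IsLocalization.isDomain_of_le_nonZeroDivisors (CAlg2.red R) p.primeCompl_le_nonZeroDivisors

/-- If `R_red` is a model of `A_p` and `R` is geometrically unibranch then `H_p` holds. -/
theorem Hp_of_isGeomUnibranch_model (hGU : CAlg2.IsGeomUnibranch R) : Hp A p K := by
  haveI hd := isDomain_red_of_model p R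
  haveI hfr : IsFractionRing A (FractionRing (CAlg2.red R)) :=
    isFractionRing_AK' p (CAlg2.red R) (FractionRing (CAlg2.red R))
  have hinj : Function.Injective (algebraMap A (FractionRing (CAlg2.red R))) :=
    IsFractionRing.injective A _
  letI : Algebra K (FractionRing (CAlg2.red R)) := (IsFractionRing.lift hinj).toAlgebra
  haveI : IsScalarTower A K (FractionRing (CAlg2.red R)) :=
    IsScalarTower.of_algebraMap_eq (fun x => (IsFractionRing.lift_algebraMap hinj x).symm)
  obtain ⟨hloc, hres⟩ := (isGeomUnibranch_iff R hd).mp hGU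
  exact Hp_of_local p K (CAlg2.red R) (FractionRing (CAlg2.red R)) hloc hres

/-- If `R_red` is a model of `A_p` and `H_p` holds then `R` is geometrically unibranch. -/
theorem isGeomUnibranch_of_Hp_model (hH : Hp A p K) : CAlg2.IsGeomUnibranch R := by
  haveI hd := isDomain_red_of_model p R
  haveI hfr : IsFractionRing A (FractionRing (CAlg2.red R)) :=
    isFractionRing_AK' p (CAlg2.red R) (FractionRing (CAlg2.red R))
  have hinj : Function.Injective (algebraMap A (FractionRing (CAlg2.red R))) :=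
    IsFractionRing.injective A _
  letI : Algebra K (FractionRing (CAlg2.red R)) := (IsFractionRing.lift hinj).toAlgebra
  haveI : IsScalarTower A K (FractionRing (CAlg2.red R)) :=
    IsScalarTower.of_algebraMap_eq (fun x => (IsFractionRing.lift_algebraMap hinj x).symm)
  exact (isGeomUnibranch_iff R hd).mpr
    (local_of_Hp p K (CAlg2.red R) (FractionRing (CAlg2.red R)) hH)

end Model

/-- Ring-level core: geometric unibranchness ascends along `A₀ → A₀[T]`. -/
theorem isGeomUnibranch_mvPolynomial {A₀ : Type u} [CommRing A₀] (σ : Type u)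
    (P₀ : Ideal (MvPolynomial σ A₀)) [P₀.IsPrime] (p₀ : Ideal A₀) [p₀.IsPrime]
    (hp₀ : P₀.comap (C : A₀ →+* MvPolynomial σ A₀) = p₀)
    (Rp : Type u) [CommRing Rp] [Algebra A₀ Rp] [IsLocalization.AtPrime Rp p₀] [IsLocalRing Rp]
    (RP : Type u) [CommRing RP] [Algebra (MvPolynomial σ A₀) RP] [IsLocalization.AtPrime RP P₀]
    [IsLocalRing RP] (hGU : CAlg2.IsGeomUnibranch Rp) : CAlg2.IsGeomUnibranch RP := by
  haveI hd : IsDomain (CAlg2.red Rp) := hGU.1.1
  -- the prime `𝔞`
  let φ : A₀ →+* CAlg2.red Rp := (Ideal.Quotient.mk (nilradical Rp)).comp (algebraMap A₀ Rp)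
  set 𝔞 : Ideal A₀ := RingHom.ker φ with h𝔞
  haveI : 𝔞.IsPrime := RingHom.ker_isPrime φ
  haveI : IsDomain (A₀ ⧸ 𝔞) := Ideal.Quotient.isDomain 𝔞
  have hmem : ∀ a ∈ 𝔞, ∃ s ∈ p₀.primeCompl, ∃ n : ℕ, s * a ^ n = 0 := by
    intro a ha
    have h1 : algebraMap A₀ Rp a ∈ nilradical Rp := Ideal.Quotient.eq_zero_iff_mem.mp ha
    obtain ⟨n, hn⟩ := mem_nilradical.1 h1
    rw [← map_pow, IsLocalization.map_eq_zero_iff p₀.primeCompl] at hn
    obtain ⟨s, hs⟩ := hn
    exact ⟨s, s.2, n, hs⟩
  have h𝔞p : 𝔞 ≤ p₀ := by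
    intro a ha
    obtain ⟨s, hs, n, hsn⟩ := hmem a ha
    have : s * a ^ n ∈ p₀ := hsn ▸ p₀.zero_mem
    exact Ideal.IsPrime.mem_of_pow_mem inferInstance n
      ((Ideal.IsPrime.mem_or_mem inferInstance this).resolve_left hs)
  -- algebra structure `A₀/𝔞 → (Rp)_red`
  letI algR : Algebra (A₀ ⧸ 𝔞) (CAlg2.red Rp) := (RingHom.kerLift φ).toAlgebra
  -- the polynomial side
  let f : MvPolynomial σ A₀ →+* MvPolynomial σ (A₀ ⧸ 𝔞) := MvPolynomial.map (Ideal.Quotient.mk 𝔞)
  have hf : Function.Surjective f := MvPolynomial.map_surjective _ Ideal.Quotient.mk_surjective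
  have hkerf : RingHom.ker f = 𝔞.map C := by
    rw [MvPolynomial.ker_map, Ideal.mk_ker]
  have hkerP : RingHom.ker f ≤ P₀ := by
    rw [hkerf, Ideal.map_le_iff_le_comap, hp₀]
    exact h𝔞p
  haveI hPprime : (P₀.map f).IsPrime := Ideal.map_isPrime_of_surjective hf hkerP
  have hcomapP : (P₀.map f).comap f = P₀ := by
    rw [Ideal.comap_map_of_surjective f hf]
    exact sup_eq_left.mpr (by rw [← RingHom.ker_eq_comap_bot]; exact hkerP)
  set p : Ideal (A₀ ⧸ 𝔞) := (P₀.map f).comap C with hp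
  have hpp₀ : p.comap (Ideal.Quotient.mk 𝔞) = p₀ := by
    rw [hp, Ideal.comap_comap]
    have : (C : (A₀ ⧸ 𝔞) →+* MvPolynomial σ (A₀ ⧸ 𝔞)).comp (Ideal.Quotient.mk 𝔞) =
        f.comp C := by
      ext a
      simp [f]
    rw [this, ← Ideal.comap_comap, hcomapP, hp₀]
  -- `(Rp)_red` is a model of `(A₀/𝔞)_p`
  haveI : IsLocalization.AtPrime (CAlg2.red Rp) p :=
    isLocalization_atPrime_of_surjective (Ideal.Quotient.mk 𝔞) Ideal.Quotient.mk_surjective p₀ Rp
      (CAlg2.red Rp) (Ideal.Quotient.mk (nilradical Rp)) Ideal.Quotient.mk_surjective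
      (by ext a; rfl)
      (by
        rw [Ideal.mk_ker, Ideal.mk_ker]
        exact (nilradical_le_map_nilradical p₀.primeCompl Rp).trans
          (Ideal.map_mono (nilradical_le_prime 𝔞)))
      p hpp₀
  have hH : Hp (A₀ ⧸ 𝔞) p (FractionRing (A₀ ⧸ 𝔞)) :=
    Hp_of_isGeomUnibranch_model p (FractionRing (A₀ ⧸ 𝔞)) Rp hGU
  have hH' : Hp (MvPolynomial σ (A₀ ⧸ 𝔞)) (P₀.map f)
      (FractionRing (MvPolynomial σ (A₀ ⧸ 𝔞))) :=
    Hp_mvPolynomial (FractionRing (A₀ ⧸ 𝔞)) σ (FractionRing (MvPolynomial σ (A₀ ⧸ 𝔞)))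
      (P₀.map f) p rfl hH
  -- algebra structure `(A₀/𝔞)[T] → (RP)_red`
  let ψ₀ : A₀ →+* CAlg2.red RP :=
    (Ideal.Quotient.mk (nilradical RP)).comp ((algebraMap (MvPolynomial σ A₀) RP).comp C)
  have hψ₀ : ∀ a ∈ 𝔞, ψ₀ a = 0 := by
    intro a ha
    obtain ⟨s, hs, n, hsn⟩ := hmem a ha
    have hunit : IsUnit (algebraMap (MvPolynomial σ A₀) RP (C s)) := by
      apply IsLocalization.map_units RP (⟨C s, ?_⟩ : P₀.primeCompl)
      intro hCs
      apply hs
      rw [← hp₀]
      exact hCs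
    have h0 : algebraMap (MvPolynomial σ A₀) RP (C s) *
        (algebraMap (MvPolynomial σ A₀) RP (C a)) ^ n = 0 := by
      rw [← map_pow, ← map_mul, ← map_pow, ← map_mul, hsn, map_zero, map_zero]
    have h1 : (algebraMap (MvPolynomial σ A₀) RP (C a)) ^ n = 0 :=
      (hunit.mul_right_eq_zero).mp h0
    change Ideal.Quotient.mk (nilradical RP) (algebraMap (MvPolynomial σ A₀) RP (C a)) = 0
    rw [Ideal.Quotient.eq_zero_iff_mem]
    exact mem_nilradical.2 ⟨n, h1⟩
  let ψ₁ : (A₀ ⧸ 𝔞) →+* CAlg2.red RP := Ideal.Quotient.lift 𝔞 ψ₀ hψ₀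
  let ψ : MvPolynomial σ (A₀ ⧸ 𝔞) →+* CAlg2.red RP :=
    eval₂Hom ψ₁ (fun i => Ideal.Quotient.mk (nilradical RP)
      (algebraMap (MvPolynomial σ A₀) RP (X i)))
  letI algRP : Algebra (MvPolynomial σ (A₀ ⧸ 𝔞)) (CAlg2.red RP) := ψ.toAlgebra
  haveI : IsDomain (MvPolynomial σ (A₀ ⧸ 𝔞)) := inferInstance
  haveI : IsLocalization.AtPrime (CAlg2.red RP) (P₀.map f) :=
    isLocalization_atPrime_of_surjective f hf P₀ RP
      (CAlg2.red RP) (Ideal.Quotient.mk (nilradical RP)) Ideal.Quotient.mk_surjective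
      (by
        apply MvPolynomial.ringHom_ext
        · intro a
          change _ = ψ (f (C a))
          simp only [f, map_C, ψ, coe_eval₂Hom, eval₂_C]
          rfl
        · intro i
          change _ = ψ (f (X i))
          simp only [f, map_X, ψ, coe_eval₂Hom, eval₂_X]
          rfl)
      (by
        rw [Ideal.mk_ker]
        refine (nilradical_le_map_nilradical P₀.primeCompl RP).trans (Ideal.map_mono ?_)
        intro w hw
        rw [RingHom.mem_ker]
        exact ((mem_nilradical.1 hw).map f).eq_zero)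
      (P₀.map f) hcomapP
  exact isGeomUnibranch_of_Hp_model (P₀.map f) (FractionRing (MvPolynomial σ (A₀ ⧸ 𝔞))) RP hH'

end Groth.Agent.H69.GeomUnibranch
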