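import Groth.Agent.H69.Unibranch

/-! Pointwise criterion for geometric unibranchness: for a domain `A`, a prime `p` and a domain model
`R'` of `A_p`, the normalization of `R'` is local with purely inseparable residue extension iff ring
maps from the normalization of `A` to fields, with kernel `p` on `A`, are determined by their
restriction to `A`. -/

set_option autoImplicit false
set_option linter.style.haveILetI false
set_option linter.unusedSectionVars false
open AlgebraicGeometry CategoryTheory

universe u

namespace Groth.Agent.H69.GeomUnibranch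

/-- The pointwise criterion `H_p`. -/
def Hp (A : Type u) [CommRing A] (p : Ideal A) (K : Type u) [Field K] [Algebra A K] : Prop :=
  ∀ (L : Type u) [Field L] (f g : integralClosure A K →+* L),
    f.comp (algebraMap A (integralClosure A K)) = g.comp (algebraMap A (integralClosure A K)) →
    RingHom.ker (f.comp (algebraMap A (integralClosure A K))) = p → f = g

/-- Two maximal ideals of an integral extension over the same ideal are kernels of two maps to a
common field agreeing on the base. -/
theorem exists_ringHom_of_isMaximal {R' B : Type u} [CommRing R'] [CommRing B] [Algebra R' B]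
    [Algebra.IsIntegral R' B] (m₀ m₁ : Ideal B) [m₀.IsMaximal] [m₁.IsMaximal]
    (h : m₀.comap (algebraMap R' B) = m₁.comap (algebraMap R' B)) :
    ∃ (L : Type u) (_ : Field L) (f₀ f₁ : B →+* L), RingHom.ker f₀ = m₀ ∧ RingHom.ker f₁ = m₁ ∧
      f₀.comp (algebraMap R' B) = f₁.comp (algebraMap R' B) := by
  set n := m₀.comap (algebraMap R' B) with hn
  haveI : n.IsMaximal := Ideal.isMaximal_comap_of_isIntegral_of_isMaximal (R := R') m₀
  haveI : m₀.LiesOver n := ⟨rfl⟩
  haveI : m₁.LiesOver n := ⟨h⟩
  letI : Field (R' ⧸ n) := Ideal.Quotient.field n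
  letI : Field (B ⧸ m₀) := Ideal.Quotient.field m₀
  letI : Field (B ⧸ m₁) := Ideal.Quotient.field m₁
  haveI : Algebra.IsIntegral (R' ⧸ n) (B ⧸ m₁) :=
    Ideal.Quotient.algebra_isIntegral_of_liesOver m₁ n
  haveI : Algebra.IsAlgebraic (R' ⧸ n) (B ⧸ m₁) := Algebra.IsIntegral.isAlgebraic
  let L := AlgebraicClosure (B ⧸ m₀)
  let σ : (B ⧸ m₁) →ₐ[R' ⧸ n] L := IsAlgClosed.lift
  refine ⟨L, inferInstance, (algebraMap (B ⧸ m₀) L).comp (Ideal.Quotient.mk m₀),
    (σ : (B ⧸ m₁) →+* L).comp (Ideal.Quotient.mk m₁), ?_, ?_, ?_⟩
  · ext b
    rw [RingHom.mem_ker, RingHom.comp_apply, map_eq_zero, Ideal.Quotient.eq_zero_iff_mem]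
  · ext b
    rw [RingHom.mem_ker, RingHom.comp_apply]
    change σ _ = 0 ↔ _
    rw [map_eq_zero, Ideal.Quotient.eq_zero_iff_mem]
  · ext r
    simp only [RingHom.comp_apply]
    have h0 : Ideal.Quotient.mk m₀ (algebraMap R' B r) =
        algebraMap (R' ⧸ n) (B ⧸ m₀) (Ideal.Quotient.mk n r) := rfl
    have h1 : Ideal.Quotient.mk m₁ (algebraMap R' B r) =
        algebraMap (R' ⧸ n) (B ⧸ m₁) (Ideal.Quotient.mk n r) := rfl
    rw [h0, h1]
    change _ = σ _
    rw [σ.commutes, ← IsScalarTower.algebraMap_apply]

section Abstract

variable {A : Type u} [CommRing A] [IsDomain A] (p : Ideal A) [p.IsPrime]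
  (K : Type u) [Field K] [Algebra A K] [IsFractionRing A K]
  (R' : Type u) [CommRing R'] [IsDomain R'] [Algebra A R']
  (K' : Type u) [Field K'] [Algebra R' K'] [IsFractionRing R' K'] [Algebra A K']
  [IsScalarTower A R' K'] [Algebra K K'] [IsScalarTower A K K']

attribute [local instance] algA'B isScalarTower_A'BK isScalarTower_AA'B

/-- (⇐) pointwise: `H_p` implies that the normalization of `A_p` is local with purely inseparable
residue field extension. -/
theorem local_of_Hp [IsLocalization.AtPrime R' p] (hH : Hp A p K) :
    IsLocalRing (integralClosure R' K') ∧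
    ∀ (m' : Ideal (integralClosure R' K')) [m'.IsMaximal]
      (x : integralClosure R' K' ⧸ m'), ∃ n : ℕ,
        x ^ (ringExpChar (integralClosure R' K' ⧸ m')) ^ n ∈
          ((Ideal.Quotient.mk m').comp (algebraMap R' (integralClosure R' K'))).range := by
  haveI := isLocalization_integralClosure p K R' K'
  haveI : IsLocalRing R' := IsLocalization.AtPrime.isLocalRing R' p
  have hmax : ∀ (m : Ideal (integralClosure R' K')) [m.IsMaximal],
      m.comap (algebraMap R' (integralClosure R' K')) = IsLocalRing.maximalIdeal R' := by
    intro m _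
    exact IsLocalRing.eq_maximalIdeal
      (Ideal.isMaximal_comap_of_isIntegral_of_isMaximal (R := R') m)
  constructor
  · apply IsLocalRing.of_unique_max_ideal
    obtain ⟨m₀, hm₀⟩ := Ideal.exists_maximal (integralClosure R' K')
    refine ⟨m₀, hm₀, fun m₁ hm₁ => ?_⟩
    haveI := hm₀
    haveI := hm₁
    obtain ⟨L, _, f₀, f₁, hk₀, hk₁, h01⟩ := exists_ringHom_of_isMaximal (R' := R') m₀ m₁
      ((hmax m₀).trans (hmax m₁).symm)
    have hA : f₀.comp (algebraMap A (integralClosure R' K')) =
        f₁.comp (algebraMap A (integralClosure R' K')) := by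
      rw [IsScalarTower.algebraMap_eq A R' (integralClosure R' K'), ← RingHom.comp_assoc,
        ← RingHom.comp_assoc, h01]
    have e1 : f₀.comp (algebraMap (integralClosure A K) (integralClosure R' K')) =
        f₁.comp (algebraMap (integralClosure A K) (integralClosure R' K')) := by
      apply hH L
      · rw [RingHom.comp_assoc, RingHom.comp_assoc, ← IsScalarTower.algebraMap_eq, hA]
      · rw [RingHom.comp_assoc, ← IsScalarTower.algebraMap_eq]
        rw [← comap_eq_of_isMaximal p R' K' m₀, ← hk₀]
        rfl
    have e2 : f₀ = f₁ := IsLocalization.ringHom_ext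
      (Algebra.algebraMapSubmonoid (integralClosure A K) p.primeCompl) e1
    rw [← hk₁, ← e2, hk₀]
  · intro m' _ x
    refine exists_pow_mem_range_of_ringHom_ext
      ((Ideal.Quotient.maximal_ideal_iff_isField_quotient m').mp inferInstance)
      ((Ideal.Quotient.mk m').comp (algebraMap R' (integralClosure R' K'))) ?_ ?_ x
    · exact RingHom.IsIntegral.trans _ _
        (algebraMap_isIntegral_iff.mpr inferInstance)
        (RingHom.isIntegral_of_surjective _ Ideal.Quotient.mk_surjective)
    · intro L _ σ τ hστ
      letI : Field (integralClosure R' K' ⧸ m') := Ideal.Quotient.field m'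
      have e1 : (σ.comp (Ideal.Quotient.mk m')).comp
          (algebraMap (integralClosure A K) (integralClosure R' K')) =
          (τ.comp (Ideal.Quotient.mk m')).comp
          (algebraMap (integralClosure A K) (integralClosure R' K')) := by
        apply hH L
        · ext a
          have h1 := congrArg (fun h => h (algebraMap A R' a)) hστ
          simp only [RingHom.comp_apply] at h1 ⊢
          rw [← IsScalarTower.algebraMap_apply A (integralClosure A K) (integralClosure R' K'),
            IsScalarTower.algebraMap_apply A R' (integralClosure R' K')]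
          exact h1
        · rw [RingHom.comp_assoc, ← IsScalarTower.algebraMap_eq,
            ← comap_eq_of_isMaximal p R' K' m']
          ext a
          rw [RingHom.mem_ker, Ideal.mem_comap, RingHom.comp_apply, RingHom.comp_apply,
            map_eq_zero, Ideal.Quotient.eq_zero_iff_mem]
      have e2 : σ.comp (Ideal.Quotient.mk m') = τ.comp (Ideal.Quotient.mk m') :=
        IsLocalization.ringHom_ext
          (Algebra.algebraMapSubmonoid (integralClosure A K) p.primeCompl) e1
      exact Ideal.Quotient.ringHom_ext e2

/-- (⇒) pointwise (restating `ringHom_ext_of_local`). -/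
theorem Hp_of_local [IsLocalization.AtPrime R' p]
    (hloc : IsLocalRing (integralClosure R' K'))
    (hres : ∀ (m' : Ideal (integralClosure R' K')) [m'.IsMaximal]
      (x : integralClosure R' K' ⧸ m'), ∃ n : ℕ,
        x ^ (ringExpChar (integralClosure R' K' ⧸ m')) ^ n ∈
          ((Ideal.Quotient.mk m').comp (algebraMap R' (integralClosure R' K'))).range) :
    Hp A p K :=
  fun _ _ f g hfg hker => ringHom_ext_of_local p K R' K' hloc hres f g hfg hker

end Abstract

end Groth.Agent.H69.GeomUnibranch
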