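import Mathlib
import Groth.Agent.H24.LimBCClosed

/-!
# Finite morphisms descend to a finite stage along base change

Adapted from `H24.LimBCClosed` (closed immersions), replacing surjectivity on sections by
integrality.
-/

set_option autoImplicit false

open CategoryTheory AlgebraicGeometry Limits TopologicalSpace Topology
open Groth.Agent.H24

universe u

namespace Groth.Agent.H69.LimBCFinite

section affine

variable {I : Type u} [SmallCategory I] [IsCofiltered I]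
    (D : I ⥤ Scheme.{u}) (c : Limits.Cone D) (hc : Limits.IsLimit c)

include hc in
/-- a monic polynomial over the sections of the limit comes from a stage -/
theorem exists_monic_lift [∀ i, IsAffine (D.obj i)] [IsAffine c.pt]
    (p : Polynomial Γ(c.pt, ⊤)) (hp : p.Monic) (l₀ : I) :
    ∃ (l : I) (_ : l ⟶ l₀) (p₁ : Polynomial Γ(D.obj l, ⊤)), p₁.Monic ∧
      p₁.map (c.π.app l).appTop.hom = p := by
  classical
  let P : I → Γ(c.pt, ⊤) → Prop := fun l a => a ∈ Set.range (c.π.app l).appTop.hom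
  have hP : ∀ a ∈ ((p.coeffs : Finset Γ(c.pt, ⊤)) : Set Γ(c.pt, ⊤)), ∀ i₁ : I,
      ∃ (i : I) (_ : i ⟶ i₁), ∀ (j : I) (_ : j ⟶ i), P j a := by
    intro a _ i₁
    obtain ⟨l₁, r₁, hr₁⟩ := exists_appTop_π_eq_of_isAffine_of_isLimit D c hc a
    refine ⟨IsCofiltered.min i₁ l₁, IsCofiltered.minToLeft _ _, fun j ψ => ?_⟩
    refine ⟨(D.map (ψ ≫ IsCofiltered.minToRight i₁ l₁)).appTop r₁, ?_⟩
    rw [← hr₁, ← c.w (ψ ≫ IsCofiltered.minToRight i₁ l₁)]
    rfl
  obtain ⟨l, φ, hl⟩ := exists_index_forall_finite (I := I) _ (p.coeffs.finite_toSet) P hP l₀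
  have hlifts : p ∈ Polynomial.lifts (c.π.app l).appTop.hom := by
    rw [Polynomial.lifts_iff_coeff_lifts]
    intro n
    by_cases hn : p.coeff n = 0
    · exact ⟨0, by rw [map_zero, hn]⟩
    · exact hl l (𝟙 l) _ (Polynomial.coeff_mem_coeffs hn)
  obtain ⟨q, hq, -, hqm⟩ := Polynomial.lifts_and_natDegree_eq_and_monic
    (f := ((c.π.app l).appTop.hom : Γ(D.obj l, ⊤) →+* Γ(c.pt, ⊤))) hlifts hp
  exact ⟨l, φ, q, hqm, hq⟩

include hc in
/-- Affine case. -/
theorem exists_isFinite_pullback_stage_affine [∀ i, IsAffine (D.obj i)] [IsAffine c.pt]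
    (i₀ : I) {W₀ : Scheme.{u}} [IsAffine W₀] (h₀ : W₀ ⟶ D.obj i₀) [LocallyOfFiniteType h₀]
    (h : IsFinite (pullback.snd h₀ (c.π.app i₀))) :
    ∃ m : Over i₀, IsFinite (pullback.snd h₀ (D.map (m.hom ≫ 𝟙 i₀))) := by
  classical
  have hft : h₀.appTop.hom.FiniteType :=
    HasRingHomProperty.appTop @LocallyOfFiniteType h₀ inferInstance
  obtain ⟨⟨t, ht⟩⟩ := id hft
  have hP : IsPullback (pullback.fst h₀ (c.π.app i₀)) (pullback.snd h₀ (c.π.app i₀)) h₀
      (c.π.app i₀) := IsPullback.of_hasPullback _ _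
  haveI : IsAffine (((Functor.const I).obj c.pt).obj i₀) := ‹IsAffine c.pt›
  have hint : (pullback.snd h₀ (c.π.app i₀)).appTop.hom.IsIntegral :=
    ((HasAffineProperty.iff_of_isAffine (P := @IsFinite)).mp h).2.to_isIntegral
  have haffE : ∀ m : Over i₀, IsAffine ((pbDiagram D (𝟙 i₀) h₀).obj m) := fun m =>
    inferInstanceAs (IsAffine (pullback h₀ (D.map (m.hom ≫ 𝟙 i₀))))
  let P : Over i₀ → Γ(W₀, ⊤) → Prop := fun m b =>
    (pullback.snd h₀ (D.map (m.hom ≫ 𝟙 i₀))).appTop.hom.IsIntegralElem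
      ((pullback.fst h₀ (D.map (m.hom ≫ 𝟙 i₀))).appTop b)
  -- key: vanishing of the evaluation at a stage gives `P`
  have key : ∀ (m₂ m' : Over i₀) (a : m' ⟶ m₂) (b : Γ(W₀, ⊤))
      (p₂ : Polynomial Γ(D.obj m₂.left, ⊤)), p₂.Monic →
      (pbMap D (𝟙 i₀) h₀ a).appTop.hom
        (Polynomial.eval₂ (pullback.snd h₀ (D.map (m₂.hom ≫ 𝟙 i₀))).appTop.hom
          ((pullback.fst h₀ (D.map (m₂.hom ≫ 𝟙 i₀))).appTop b) p₂) = 0 → P m' b := by
    intro m₂ m' a b p₂ hp₂ h0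
    refine ⟨p₂.map (D.map a.left).appTop.hom, hp₂.map _, ?_⟩
    rw [Polynomial.eval₂_map]
    rw [Polynomial.hom_eval₂] at h0
    have e1 : (pbMap D (𝟙 i₀) h₀ a).appTop.hom.comp
        (pullback.snd h₀ (D.map (m₂.hom ≫ 𝟙 i₀))).appTop.hom =
        (pullback.snd h₀ (D.map (m'.hom ≫ 𝟙 i₀))).appTop.hom.comp (D.map a.left).appTop.hom := by
      rw [← CommRingCat.hom_comp, ← CommRingCat.hom_comp, ← Scheme.Hom.comp_appTop,
        ← Scheme.Hom.comp_appTop, pbMap_snd]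
    have e2 : (pbMap D (𝟙 i₀) h₀ a).appTop.hom
        ((pullback.fst h₀ (D.map (m₂.hom ≫ 𝟙 i₀))).appTop b) =
        (pullback.fst h₀ (D.map (m'.hom ≫ 𝟙 i₀))).appTop b := by
      change (pbMap D (𝟙 i₀) h₀ a).appTop ((pullback.fst h₀ (D.map (m₂.hom ≫ 𝟙 i₀))).appTop b) = _
      rw [← appTop_comp_apply, pbMap_fst]
    rw [e1, e2] at h0
    exact h0
  have hPP : ∀ b ∈ (t : Set Γ(W₀, ⊤)), ∀ m₁ : Over i₀,
      ∃ (m : Over i₀) (_ : m ⟶ m₁), ∀ (m' : Over i₀) (_ : m' ⟶ m), P m' b := by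
    intro b _ m₁
    obtain ⟨p, hpm, hpx⟩ := hint ((pullback.fst h₀ (c.π.app i₀)).appTop b)
    obtain ⟨l₁, β, p₁, hp₁, hp₁p⟩ := exists_monic_lift D c hc p hpm m₁.left
    let m₂ : Over i₀ := Over.mk (β ≫ m₁.hom)
    let a₂ : m₂ ⟶ m₁ := Over.homMk β rfl
    have hy : (pbLift D (𝟙 i₀) h₀ c (pullback.fst h₀ (c.π.app i₀))
        (pullback.snd h₀ (c.π.app i₀)) hP.w m₂).appTop.hom
        (Polynomial.eval₂ (pullback.snd h₀ (D.map (m₂.hom ≫ 𝟙 i₀))).appTop.hom
          ((pullback.fst h₀ (D.map (m₂.hom ≫ 𝟙 i₀))).appTop b) p₁) = 0 := by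
      rw [Polynomial.hom_eval₂]
      have e1 : (pbLift D (𝟙 i₀) h₀ c (pullback.fst h₀ (c.π.app i₀))
          (pullback.snd h₀ (c.π.app i₀)) hP.w m₂).appTop.hom.comp
          (pullback.snd h₀ (D.map (m₂.hom ≫ 𝟙 i₀))).appTop.hom =
          (pullback.snd h₀ (c.π.app i₀)).appTop.hom.comp (c.π.app l₁).appTop.hom := by
        rw [← CommRingCat.hom_comp, ← CommRingCat.hom_comp, ← Scheme.Hom.comp_appTop,
          ← Scheme.Hom.comp_appTop, pbLift_snd]
        rfl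
      have e2 : (pbLift D (𝟙 i₀) h₀ c (pullback.fst h₀ (c.π.app i₀))
          (pullback.snd h₀ (c.π.app i₀)) hP.w m₂).appTop.hom
          ((pullback.fst h₀ (D.map (m₂.hom ≫ 𝟙 i₀))).appTop b) =
          (pullback.fst h₀ (c.π.app i₀)).appTop b := by
        change (pbLift D (𝟙 i₀) h₀ c (pullback.fst h₀ (c.π.app i₀))
          (pullback.snd h₀ (c.π.app i₀)) hP.w m₂).appTop
          ((pullback.fst h₀ (D.map (m₂.hom ≫ 𝟙 i₀))).appTop b) = _
        rw [← appTop_comp_apply, pbLift_fst]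
      rw [e1, e2, ← Polynomial.eval₂_map, hp₁p]
      exact hpx
    obtain ⟨m₃, a₃, hm₃⟩ := exists_appTop_map_eq_zero_of_isAffine_of_isLimit
      (pbDiagram D (𝟙 i₀) h₀) (pbCone D (𝟙 i₀) h₀ c _ _ hP.w)
      (isLimitPbCone D (𝟙 i₀) h₀ c hc _ _ hP) m₂ _ hy
    refine ⟨m₃, a₃ ≫ a₂, fun m' a' => ?_⟩
    refine key m₂ m' (a' ≫ a₃) b p₁ hp₁ ?_
    rw [pbMap_comp, Scheme.Hom.comp_appTop, CommRingCat.hom_comp, RingHom.comp_apply]
    have hm₃' : (pbMap D (𝟙 i₀) h₀ a₃).appTop.hom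
        (Polynomial.eval₂ (pullback.snd h₀ (D.map (m₂.hom ≫ 𝟙 i₀))).appTop.hom
          ((pullback.fst h₀ (D.map (m₂.hom ≫ 𝟙 i₀))).appTop b) p₁) = 0 := hm₃
    rw [hm₃', map_zero]
  obtain ⟨m, _, hm⟩ := exists_index_forall_finite (I := Over i₀) (t : Set Γ(W₀, ⊤))
    t.finite_toSet P hPP (Over.mk (𝟙 i₀))
  refine ⟨m, ?_⟩
  have sq := isPushout_appTop_of_isPullback
    (IsPullback.of_hasPullback h₀ (D.map (m.hom ≫ 𝟙 i₀)))
  rw [HasAffineProperty.iff_of_isAffine (P := @IsFinite)]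
  refine ⟨inferInstance, ?_⟩
  -- every element is integral, and the algebra is of finite type
  have hall : ∀ y, (pullback.snd h₀ (D.map (m.hom ≫ 𝟙 i₀))).appTop.hom.IsIntegralElem y := by
    intro y
    have hT : (Subring.closure
        {y | (pullback.snd h₀ (D.map (m.hom ≫ 𝟙 i₀))).appTop.hom.IsIntegralElem y}) = ⊤ := by
      refine subring_eq_top_of_isPushout sq _ ?_ ?_
      · intro b₀
        let _ := h₀.appTop.hom.toAlgebra
        have hb : b₀ ∈ Algebra.adjoin Γ(D.obj i₀, ⊤) (t : Set Γ(W₀, ⊤)) := by rw [ht]; trivial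
        induction hb using Algebra.adjoin_induction with
        | mem x hx => exact Subring.subset_closure (hm m (𝟙 m) x hx)
        | algebraMap r₀ =>
          apply Subring.subset_closure
          have : (pullback.fst h₀ (D.map (m.hom ≫ 𝟙 i₀))).appTop (h₀.appTop r₀) =
              (pullback.snd h₀ (D.map (m.hom ≫ 𝟙 i₀))).appTop
                ((D.map (m.hom ≫ 𝟙 i₀)).appTop r₀) := ConcreteCategory.congr_hom sq.w r₀
          change (pullback.snd h₀ (D.map (m.hom ≫ 𝟙 i₀))).appTop.hom.IsIntegralElem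
            ((pullback.fst h₀ (D.map (m.hom ≫ 𝟙 i₀))).appTop (h₀.appTop r₀))
          rw [this]
          exact RingHom.isIntegralElem_map _
        | add x y _ _ hx hy => rw [map_add]; exact Subring.add_mem _ hx hy
        | mul x y _ _ hx hy => rw [map_mul]; exact Subring.mul_mem _ hx hy
      · intro r
        exact Subring.subset_closure (RingHom.isIntegralElem_map _)
    have hy : y ∈ Subring.closure
        {y | (pullback.snd h₀ (D.map (m.hom ≫ 𝟙 i₀))).appTop.hom.IsIntegralElem y} := by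
      rw [hT]; trivial
    induction hy using Subring.closure_induction with
    | mem x hx => exact hx
    | zero => exact RingHom.isIntegralElem_zero _
    | one => exact RingHom.isIntegralElem_one _
    | add x y _ _ hx hy => exact RingHom.IsIntegralElem.add _ hx hy
    | neg x _ hx => exact RingHom.IsIntegralElem.neg _ hx
    | mul x y _ _ hx hy => exact RingHom.IsIntegralElem.mul _ hx hy
  have hft' : (pullback.snd h₀ (D.map (m.hom ≫ 𝟙 i₀))).appTop.hom.FiniteType :=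
    HasRingHomProperty.appTop @LocallyOfFiniteType _
      (MorphismProperty.pullback_snd (P := @LocallyOfFiniteType) _ _ inferInstance)
  exact RingHom.IsIntegral.to_finite hall hft'

end affine

section glob

/-- Base change along a further map preserves finite morphisms (explicit pullbacks). -/
theorem isFinite_snd_comp {A B T T' : Scheme.{u}} (m : A ⟶ B) (w : T ⟶ B)
    (r : T' ⟶ T) (h : IsFinite (pullback.snd m w)) :
    IsFinite (pullback.snd m (r ≫ w)) :=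
  MorphismProperty.of_isPullback (P := @IsFinite) (isPullback_lift_comp m w r) h

/-- The restriction of a base change to an open is the base change along the inclusion. -/
theorem isFinite_restrict_snd_iff {A B T : Scheme.{u}} (m : A ⟶ B) (w : T ⟶ B)
    (U : T.Opens) :
    IsFinite (pullback.snd m w ∣_ U) ↔ IsFinite (pullback.snd m (U.ι ≫ w)) := by
  have top := isPullback_morphismRestrict (pullback.snd m w) U
  have bot := (IsPullback.of_hasPullback m w).flip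
  have sq := (top.paste_vert bot).flip
  rw [← sq.isoPullback_hom_snd]
  exact MorphismProperty.cancel_left_of_respectsIso @IsFinite _ _

variable {I : Type u} [SmallCategory I] [IsCofiltered I]
    (D : I ⥤ Scheme.{u}) (c : Limits.Cone D) (hc : Limits.IsLimit c)
    [∀ {i j : I} (f : i ⟶ j), IsAffineHom (D.map f)]

include hc in
/-- **Finite morphisms descend along base change** (stage form): `ι₀` affine and locally of
finite type over a quasi-compact stage. -/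
theorem exists_isFinite_stage_of_isAffineHom_lft (i₀ : I) [CompactSpace (D.obj i₀)]
    {Z₀ : Scheme.{u}} (ι₀ : Z₀ ⟶ D.obj i₀) [IsAffineHom ι₀] [LocallyOfFiniteType ι₀]
    (h : IsFinite (pullback.snd ι₀ (c.π.app i₀))) :
    ∃ (j : I) (φ : j ⟶ i₀), IsFinite (pullback.snd ι₀ (D.map φ)) := by
  classical
  have hπ := isAffineHom_π_app D c hc
  obtain ⟨s, hs⟩ :=
    (IsOpenCover.mk (iSup_affineOpens_eq_top (D.obj i₀))).exists_finite_of_compactSpace
  let P : Over i₀ → (D.obj i₀).affineOpens → Prop := fun l O =>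
    IsFinite (pullback.snd ι₀ ((D.map l.hom ⁻¹ᵁ O.1).ι ≫ D.map l.hom))
  have hP : ∀ O ∈ (s : Set (D.obj i₀).affineOpens), ∀ l₁ : Over i₀,
      ∃ (l : Over i₀) (_ : l ⟶ l₁), ∀ (l' : Over i₀) (_ : l' ⟶ l), P l' O := by
    intro O _ l₁
    have pers : ∀ (l l' : Over i₀) (ψ : l' ⟶ l), P l O → P l' O := by
      intro l l' ψ hl
      have hr : D.map ψ.left ≫ D.map l.hom = D.map l'.hom := by
        rw [← D.map_comp, Over.w ψ]
      have hle := preimage_le_of_comp_eq (D.map l.hom) (D.map l'.hom) (D.map ψ.left) hr O.1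
      have e : (D.map l'.hom ⁻¹ᵁ O.1).ι ≫ D.map l'.hom =
          (D.map ψ.left).resLE (D.map l.hom ⁻¹ᵁ O.1) (D.map l'.hom ⁻¹ᵁ O.1) hle ≫
            (D.map l.hom ⁻¹ᵁ O.1).ι ≫ D.map l.hom := by
        rw [Scheme.Hom.resLE_comp_ι_assoc, hr]
      change IsFinite (pullback.snd ι₀ ((D.map l'.hom ⁻¹ᵁ O.1).ι ≫ D.map l'.hom))
      rw [snd_iff_of_eq ι₀ @IsFinite e]
      exact isFinite_snd_comp ι₀ _ _ hl
    have haff : ∀ l : Over i₀, IsAffine ((opensDiagram D i₀ O.1).obj l) := fun l =>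
      O.2.preimage (D.map l.hom)
    have hptaff : IsAffine (opensCone D c i₀ O.1).pt := O.2.preimage (c.π.app i₀)
    have hW₀ : IsAffine (pullback ι₀ ((D.map (Over.mk (𝟙 i₀)).hom ⁻¹ᵁ O.1).ι ≫
        D.map (Over.mk (𝟙 i₀)).hom)) := by
      have : IsAffine (D.map (Over.mk (𝟙 i₀)).hom ⁻¹ᵁ O.1).toScheme :=
        O.2.preimage (D.map (Over.mk (𝟙 i₀)).hom)
      exact isAffine_of_isAffineHom (pullback.snd ι₀ ((D.map (Over.mk (𝟙 i₀)).hom ⁻¹ᵁ O.1).ι ≫
        D.map (Over.mk (𝟙 i₀)).hom))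
    have hrInf : c.π.app i₀ ≫ D.map (Over.mk (𝟙 i₀)).hom = c.π.app i₀ := c.w _
    have hleInf := preimage_le_of_comp_eq (D.map (Over.mk (𝟙 i₀)).hom) (c.π.app i₀) (c.π.app i₀)
      hrInf O.1
    have hInf : IsFinite (pullback.snd (pullback.snd ι₀
        ((D.map (Over.mk (𝟙 i₀)).hom ⁻¹ᵁ O.1).ι ≫ D.map (Over.mk (𝟙 i₀)).hom))
        ((c.π.app i₀).resLE (D.map (Over.mk (𝟙 i₀)).hom ⁻¹ᵁ O.1) (c.π.app i₀ ⁻¹ᵁ O.1) hleInf)) :=
      (snd_resLE_iff @IsFinite ι₀ (D.map (Over.mk (𝟙 i₀)).hom) (c.π.app i₀)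
        (c.π.app i₀) hrInf O.1 hleInf).mpr (isFinite_snd_comp ι₀ _ _ h)
    obtain ⟨m, hm⟩ := @exists_isFinite_pullback_stage_affine (Over i₀) _ _
      (opensDiagram D i₀ O.1) (opensCone D c i₀ O.1) (isLimitOpensCone D c hc i₀ O.1) haff hptaff
      (Over.mk (𝟙 i₀)) _ hW₀
      (pullback.snd ι₀ ((D.map (Over.mk (𝟙 i₀)).hom ⁻¹ᵁ O.1).ι ≫ D.map (Over.mk (𝟙 i₀)).hom))
      (MorphismProperty.pullback_snd (P := @LocallyOfFiniteType) _ _ inferInstance) hInf
    have hrm : D.map (m.hom ≫ 𝟙 (Over.mk (𝟙 i₀))).left ≫ D.map (Over.mk (𝟙 i₀)).hom =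
        D.map m.left.hom := by
      rw [← D.map_comp, Over.w (m.hom ≫ 𝟙 (Over.mk (𝟙 i₀)))]
    have hlem := preimage_le_of_comp_eq (D.map (Over.mk (𝟙 i₀)).hom) (D.map m.left.hom)
      (D.map (m.hom ≫ 𝟙 (Over.mk (𝟙 i₀))).left) hrm O.1
    have hm1 : IsFinite (pullback.snd (pullback.snd ι₀
        ((D.map (Over.mk (𝟙 i₀)).hom ⁻¹ᵁ O.1).ι ≫ D.map (Over.mk (𝟙 i₀)).hom))
        ((D.map (m.hom ≫ 𝟙 (Over.mk (𝟙 i₀))).left).resLE (D.map (Over.mk (𝟙 i₀)).hom ⁻¹ᵁ O.1)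
          (D.map m.left.hom ⁻¹ᵁ O.1) hlem)) := hm
    have hm' : P m.left O :=
      (snd_resLE_iff @IsFinite ι₀ (D.map (Over.mk (𝟙 i₀)).hom) (D.map m.left.hom)
        (D.map (m.hom ≫ 𝟙 (Over.mk (𝟙 i₀))).left) hrm O.1 hlem).mp hm1
    refine ⟨IsCofiltered.min l₁ m.left, IsCofiltered.minToLeft _ _, fun l' ψ => ?_⟩
    exact pers m.left l' (ψ ≫ IsCofiltered.minToRight _ _) hm'
  obtain ⟨l, _, hl⟩ := exists_index_forall_finite (I := Over i₀)
    (s : Set (D.obj i₀).affineOpens) s.finite_toSet P hP (Over.mk (𝟙 i₀))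
  refine ⟨l.left, l.hom, ?_⟩
  refine IsZariskiLocalAtTarget.of_iSup_eq_top (P := @IsFinite)
    (fun O : s => D.map l.hom ⁻¹ᵁ O.1.1) ?_ (fun O => ?_)
  · refine eq_top_iff.mpr fun x _ => ?_
    obtain ⟨O, hO⟩ := hs.exists_mem (D.map l.hom x)
    exact Opens.mem_iSup.mpr ⟨O, hO⟩
  · rw [isFinite_restrict_snd_iff]
    exact hl l (𝟙 l) O.1 O.2

end glob

section descend

variable {I : Type u} [SmallCategory I] [IsCofiltered I]
    (D : I ⥤ Scheme.{u}) (c : Limits.Cone D) (hc : Limits.IsLimit c)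
    [∀ {i j : I} (f : i ⟶ j), IsAffineHom (D.map f)]
    (i₀ : I) {X₀ Y₀ : Scheme.{u}} (f₀ : X₀ ⟶ Y₀) (g₀ : Y₀ ⟶ D.obj i₀)

include hc in
/-- **Finite morphisms descend to a finite stage** (`f₀` locally of finite type). -/
theorem exists_isFinite_pbRel [CompactSpace (D.obj i₀)]
    [QuasiSeparatedSpace (D.obj i₀)] [QuasiCompact g₀] [QuasiSeparated g₀]
    [QuasiCompact (f₀ ≫ g₀)] [QuasiSeparated (f₀ ≫ g₀)] [LocallyOfFiniteType f₀]
    {X Y : Scheme.{u}} (f : X ⟶ Y) (g : Y ⟶ c.pt) (qY : Y ⟶ Y₀) (qX : X ⟶ X₀)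
    (hY : IsPullback qY g g₀ (c.π.app i₀)) (hX : IsPullback qX f f₀ qY) [IsFinite f] :
    ∃ j : Over i₀, IsFinite (pbRel D (𝟙 i₀) f₀ g₀ j) := by
  obtain ⟨k, hk⟩ := exists_isAffineHom_pbRel D c hc i₀ f₀ g₀ f g qY qX hY hX
  have hlft : LocallyOfFiniteType (pbRel D (𝟙 i₀) f₀ g₀ k) :=
    MorphismProperty.of_isPullback (P := @LocallyOfFiniteType)
      (isPullback_pbRel D (𝟙 i₀) f₀ g₀ k) inferInstance
  have hY₀ : CompactSpace Y₀ := QuasiCompact.compactSpace_of_compactSpace g₀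
  have hcompk : CompactSpace ↥((pbDiagram D (𝟙 i₀) g₀).obj k) := by
    have : IsAffineHom (pullback.fst g₀ (D.map (k.hom ≫ 𝟙 i₀))) :=
      MorphismProperty.pullback_fst (P := @IsAffineHom) _ _ inferInstance
    have h : CompactSpace ↥(pullback g₀ (D.map (k.hom ≫ 𝟙 i₀))) :=
      QuasiCompact.compactSpace_of_compactSpace (pullback.fst g₀ (D.map (k.hom ≫ 𝟙 i₀)))
    exact h
  have sq := isPullback_pbLift_pbRel D (𝟙 i₀) f₀ g₀ c f g qY qX hY hX k
  have hcl : IsFinite (pullback.snd (pbRel D (𝟙 i₀) f₀ g₀ k)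
      (pbLift D (𝟙 i₀) g₀ c qY g hY.w k)) := by
    have e : pullback.snd (pbRel D (𝟙 i₀) f₀ g₀ k) (pbLift D (𝟙 i₀) g₀ c qY g hY.w k) =
        sq.isoPullback.inv ≫ f := by
      rw [Iso.eq_inv_comp, sq.isoPullback_hom_snd]
    rw [e]
    infer_instance
  obtain ⟨j, φ, hj⟩ := @exists_isFinite_stage_of_isAffineHom_lft (Over i₀) _ _
    (pbDiagram D (𝟙 i₀) g₀) (pbCone D (𝟙 i₀) g₀ c qY g hY.w)
    (isLimitPbCone D (𝟙 i₀) g₀ c hc qY g hY) _ k hcompk _ (pbRel D (𝟙 i₀) f₀ g₀ k) hk hlft hcl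
  refine ⟨j, ?_⟩
  have sq' := isPullback_pbMap_pbRel D (𝟙 i₀) f₀ g₀ φ
  have hj' : IsFinite (pullback.snd (pbRel D (𝟙 i₀) f₀ g₀ k)
      (pbMap D (𝟙 i₀) g₀ φ)) := hj
  rw [← sq'.isoPullback_hom_snd]
  infer_instance

end descend


end Groth.Agent.H69.LimBCFinite
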