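import Mathlib

/-!
# The degree stratification of an étale separated morphism of schemes (helper69)

`degGE n g` is the set of points of the target over which the (geometric) fibre of `g` has at least `n` points.
-/

set_option autoImplicit false
set_option linter.style.haveILetI false
universe u
open CategoryTheory AlgebraicGeometry Limits

namespace Groth.Agent.H69.DegStrat

variable {Y U : Scheme.{u}}

/-- The open complement of the diagonal in `Y ×_U Y` (the interior of the complement in general). -/
noncomputable def offDiag (g : Y ⟶ U) : (pullback g g).Opens :=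
  ⟨interior (Set.range (pullback.diagonal g))ᶜ, isOpen_interior⟩

theorem mem_offDiag_iff (g : Y ⟶ U) [IsSeparated g] (z : ↥(pullback g g)) :
    z ∈ offDiag g ↔ z ∉ Set.range (pullback.diagonal g) := by
  have hcl : IsClosed (Set.range (pullback.diagonal g)) :=
    (pullback.diagonal g).isClosedEmbedding.isClosed_range
  change z ∈ interior (Set.range (pullback.diagonal g))ᶜ ↔ _
  rw [hcl.isOpen_compl.interior_eq]
  rfl

/-- The first projection from the complement of the diagonal. -/
noncomputable def offDiagFst (g : Y ⟶ U) : (offDiag g).toScheme ⟶ Y :=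
  (offDiag g).ι ≫ pullback.fst g g

instance (g : Y ⟶ U) [Etale g] : Etale (offDiagFst g) := by
  unfold offDiagFst; infer_instance

instance (g : Y ⟶ U) [IsSeparated g] : IsSeparated (offDiagFst g) := by
  unfold offDiagFst; infer_instance

/-- The set of points of `U` over which `g` has at least `n` geometric points in its fibre. -/
noncomputable def degGE : ℕ → ∀ {Y U : Scheme.{u}} (_ : Y ⟶ U), Set ↥U
  | 0, _, _, _ => Set.univ
  | n + 1, _, _, g => g '' (degGE n (offDiagFst g))

theorem degGE_zero (g : Y ⟶ U) : degGE 0 g = Set.univ := rfl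

theorem degGE_succ (n : ℕ) (g : Y ⟶ U) : degGE (n + 1) g = g '' (degGE n (offDiagFst g)) := rfl

theorem isOpen_degGE (n : ℕ) : ∀ {Y U : Scheme.{u}} (g : Y ⟶ U) [Etale g] [IsSeparated g],
    IsOpen (degGE n g) := by
  induction n with
  | zero => intro Y U g _ _; exact isOpen_univ
  | succ n ih =>
    intro Y U g _ _
    rw [degGE_succ]
    exact g.isOpenMap _ (ih (offDiagFst g))

theorem degGE_antitone (n : ℕ) : ∀ {Y U : Scheme.{u}} (g : Y ⟶ U), degGE (n + 1) g ⊆ degGE n g := by
  induction n with
  | zero => intro Y U g; exact Set.subset_univ _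
  | succ n ih =>
    intro Y U g
    rw [degGE_succ (n + 1), degGE_succ n]
    exact Set.image_mono (ih _)

/-- If the fibre over `u` has at least `n` points then `u ∈ degGE n g`. -/
theorem mem_degGE_of_card (n : ℕ) : ∀ {Y U : Scheme.{u}} (g : Y ⟶ U) [IsSeparated g] (u : ↥U)
    (F : Finset ↥Y), (∀ y ∈ F, g y = u) → n ≤ F.card → u ∈ degGE n g := by
  induction n with
  | zero => intro Y U g _ u F _ _; exact Set.mem_univ _
  | succ n ih =>
    intro Y U g _ u F hF hcard
    classical
    have hne : F.Nonempty := by
      rw [← Finset.card_pos]; omega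
    obtain ⟨y₁, hy₁⟩ := hne
    have hz : ∀ y : ↥Y, ∃ z : ↥(pullback g g), y ∈ F.erase y₁ →
        pullback.fst g g z = y₁ ∧ pullback.snd g g z = y := by
      intro y
      by_cases hy : y ∈ F.erase y₁
      · obtain ⟨z, h1, h2⟩ := Scheme.Pullback.exists_preimage_pullback (f := g) (g := g) y₁ y
          ((hF y₁ hy₁).trans (hF y (Finset.mem_of_mem_erase hy)).symm)
        exact ⟨z, fun _ => ⟨h1, h2⟩⟩
      · exact ⟨pullback.diagonal g y₁, fun h => absurd h hy⟩
    choose z hz using hz
    have hoff : ∀ y ∈ F.erase y₁, z y ∈ offDiag g := by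
      intro y hy
      rw [mem_offDiag_iff]
      rintro ⟨w, hw⟩
      obtain ⟨h1, h2⟩ := hz y hy
      have e1 : pullback.fst g g (pullback.diagonal g w) = w := by
        rw [← Scheme.Hom.comp_apply, pullback.diagonal_fst]; rfl
      have e2 : pullback.snd g g (pullback.diagonal g w) = w := by
        rw [← Scheme.Hom.comp_apply, pullback.diagonal_snd]; rfl
      rw [hw] at e1 e2
      have : y = y₁ := by rw [← h2, e2, ← e1, h1]
      exact (Finset.ne_of_mem_erase hy) this
    let z' : ↥(F.erase y₁) → ↥(offDiag g).toScheme := fun y => ⟨z y.1, hoff y.1 y.2⟩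
    have hinj : Function.Injective z' := by
      intro y y' h
      have h' : z y.1 = z y'.1 := congrArg Subtype.val h
      apply Subtype.ext
      rw [← (hz y.1 y.2).2, ← (hz y'.1 y'.2).2, h']
    let F' : Finset ↥(offDiag g).toScheme := Finset.univ.image z'
    have hF'card : n ≤ F'.card := by
      rw [Finset.card_image_of_injective _ hinj, Finset.card_univ, Fintype.card_coe,
        Finset.card_erase_of_mem hy₁]
      omega
    have hF' : ∀ w ∈ F', offDiagFst g w = y₁ := by
      intro w hw
      obtain ⟨y, -, rfl⟩ := Finset.mem_image.1 hw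
      change ((offDiag g).ι ≫ pullback.fst g g) (z' y) = y₁
      rw [Scheme.Hom.comp_apply]
      exact (hz y.1 y.2).1
    rw [degGE_succ]
    exact ⟨y₁, ih (offDiagFst g) y₁ F' hF' hF'card, hF y₁ hy₁⟩

/-- A point of `degGE n g` admits, over some field, `n` pairwise distinct lifts to `Y`. -/
theorem exists_lifts_of_mem_degGE (n : ℕ) : ∀ {Y U : Scheme.{u}} (g : Y ⟶ U) [IsSeparated g] (u : ↥U),
    u ∈ degGE n g → ∃ (L : Type u) (_ : Field L) (ρ : Spec (CommRingCat.of L) ⟶ U)
      (σ : Fin n → (Spec (CommRingCat.of L) ⟶ Y)),
      (∀ s, ρ s = u) ∧ (∀ i, σ i ≫ g = ρ) ∧ Function.Injective σ := by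
  induction n with
  | zero =>
    intro Y U g _ u _
    refine ⟨U.residueField u, inferInstance, U.fromSpecResidueField u, Fin.elim0, ?_, ?_, ?_⟩
    · intro s
      exact Scheme.fromSpecResidueField_apply _ _
    · intro i; exact i.elim0
    · intro i; exact i.elim0
  | succ n ih =>
    intro Y U g _ u hu
    rw [degGE_succ] at hu
    obtain ⟨y, hy, rfl⟩ := hu
    obtain ⟨L, _, ρ', σ', hρ', hσ', hinj⟩ := ih (offDiagFst g) y hy
    refine ⟨L, inferInstance, ρ' ≫ g,
      Fin.cons ρ' (fun i => σ' i ≫ (offDiag g).ι ≫ pullback.snd g g), ?_, ?_, ?_⟩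
    · intro s
      rw [Scheme.Hom.comp_apply, hρ']
    · intro i
      refine Fin.cases ?_ (fun j => ?_) i
      · rfl
      · simp only [Fin.cons_succ, Category.assoc]
        rw [← pullback.condition, ← hσ' j]
        simp only [offDiagFst, Category.assoc]
    · have hfst : ∀ j, (σ' j ≫ (offDiag g).ι) ≫ pullback.fst g g = ρ' := by
        intro j
        rw [← hσ' j]; simp only [offDiagFst, Category.assoc]
      intro i j hij
      induction i using Fin.cases with
      | zero =>
        induction j using Fin.cases with
        | zero => rfl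
        | succ j =>
          exfalso
          simp only [Fin.cons_zero, Fin.cons_succ] at hij
          have hd : σ' j ≫ (offDiag g).ι = ρ' ≫ pullback.diagonal g := by
            apply pullback.hom_ext
            · rw [hfst j, Category.assoc, pullback.diagonal_fst, Category.comp_id]
            · rw [Category.assoc, Category.assoc, pullback.diagonal_snd, Category.comp_id, ← hij]
          let s₀ : ↥(Spec (CommRingCat.of L)) := (IsLocalRing.closedPoint L : PrimeSpectrum L)
          have hmem : (σ' j ≫ (offDiag g).ι) s₀ ∈ offDiag g := by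
            rw [Scheme.Hom.comp_apply]
            exact ((σ' j) s₀).2
          rw [mem_offDiag_iff, hd, Scheme.Hom.comp_apply] at hmem
          exact hmem ⟨_, rfl⟩
      | succ i =>
        induction j using Fin.cases with
        | zero =>
          exfalso
          simp only [Fin.cons_zero, Fin.cons_succ] at hij
          have hd : σ' i ≫ (offDiag g).ι = ρ' ≫ pullback.diagonal g := by
            apply pullback.hom_ext
            · rw [hfst i, Category.assoc, pullback.diagonal_fst, Category.comp_id]
            · rw [Category.assoc, Category.assoc, pullback.diagonal_snd, Category.comp_id, hij]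
          let s₀ : ↥(Spec (CommRingCat.of L)) := (IsLocalRing.closedPoint L : PrimeSpectrum L)
          have hmem : (σ' i ≫ (offDiag g).ι) s₀ ∈ offDiag g := by
            rw [Scheme.Hom.comp_apply]
            exact ((σ' i) s₀).2
          rw [mem_offDiag_iff, hd, Scheme.Hom.comp_apply] at hmem
          exact hmem ⟨_, rfl⟩
        | succ j =>
          simp only [Fin.cons_succ] at hij
          have h1 : σ' i ≫ (offDiag g).ι = σ' j ≫ (offDiag g).ι := by
            apply pullback.hom_ext
            · rw [hfst i, hfst j]
            · simpa only [Category.assoc] using hij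
          have h2 : σ' i = σ' j := (cancel_mono (offDiag g).ι).1 h1
          rw [hinj h2]

end Groth.Agent.H69.DegStrat
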