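import Mathlib

/-!
# Bounding the number of field-valued lifts through a finite morphism to the spectrum of a field (helper69)
-/

set_option autoImplicit false
set_option linter.style.haveILetI false
universe u
open CategoryTheory AlgebraicGeometry Limits

namespace Groth.Agent.H69.LiftsBound

/-- For `φ : F ⟶ Spec k` finite, the number of lifts of any `Spec L ⟶ Spec k` to `F` is bounded by the
degree. -/
theorem exists_bound_lifts {k : Type u} [Field k] {F : Scheme.{u}}
    (φ : F ⟶ Spec (CommRingCat.of k)) [IsFinite φ] :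
    ∃ d : ℕ, ∀ (L : Type u) [Field L] (c : Spec (CommRingCat.of L) ⟶ Spec (CommRingCat.of k)) (n : ℕ)
      (τ : Fin n → (Spec (CommRingCat.of L) ⟶ F)), (∀ i, τ i ≫ φ = c) → Function.Injective τ →
      n ≤ d := by
  haveI : IsAffine F := isAffine_of_isAffineHom φ
  let φr : k →+* Γ(F, ⊤) := ((Scheme.ΓSpecIso (CommRingCat.of k)).inv ≫ φ.appTop).hom
  letI : Algebra k Γ(F, ⊤) := φr.toAlgebra
  haveI : Module.Finite k Γ(F, ⊤) := by
    have h1 : φ.appTop.hom.Finite := φ.finite_appTop
    have h2 : φr.Finite := by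
      change ((Scheme.ΓSpecIso (CommRingCat.of k)).inv ≫ φ.appTop).hom.Finite
      rw [CommRingCat.hom_comp]
      exact RingHom.Finite.comp h1 (RingHom.Finite.of_surjective _
        (ConcreteCategory.bijective_of_isIso (Scheme.ΓSpecIso _).inv).surjective)
    exact h2
  refine ⟨Module.finrank k Γ(F, ⊤), ?_⟩
  intro L _ c n τ hτ hinj
  let cr : k →+* L := (Spec.preimage c).hom
  letI : Algebra k L := cr.toAlgebra
  have hcomm : ∀ i, (Scheme.ΓSpecIso (CommRingCat.of k)).inv ≫ φ.appTop ≫ (τ i).appTop ≫
      (Scheme.ΓSpecIso (CommRingCat.of L)).hom = Spec.preimage c := by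
    intro i
    have h1 : φ.appTop ≫ (τ i).appTop = c.appTop := by
      rw [← Scheme.Hom.comp_appTop, hτ i]
    have h2 : c = Spec.map (Spec.preimage c) := (Spec.map_preimage c).symm
    rw [← Category.assoc φ.appTop, h1]
    conv_lhs => rw [h2]
    rw [← Category.assoc, ← Scheme.ΓSpecIso_inv_naturality, Category.assoc, Iso.inv_hom_id,
      Category.comp_id]
  let β : Fin n → (Γ(F, ⊤) →ₐ[k] L) := fun i =>
    { toRingHom := ((τ i).appTop ≫ (Scheme.ΓSpecIso (CommRingCat.of L)).hom).hom
      commutes' := by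
        intro r
        have := congrArg (fun f => f.hom r) (hcomm i)
        simp only [CommRingCat.hom_comp, RingHom.coe_comp, Function.comp_apply] at this
        exact this }
  have hβinj : Function.Injective β := by
    intro i j hij
    apply hinj
    apply ext_of_isAffine
    have h1 : ((τ i).appTop ≫ (Scheme.ΓSpecIso (CommRingCat.of L)).hom).hom =
        ((τ j).appTop ≫ (Scheme.ΓSpecIso (CommRingCat.of L)).hom).hom :=
      congrArg (fun f : Γ(F, ⊤) →ₐ[k] L => f.toRingHom) hij
    have h2 : (τ i).appTop ≫ (Scheme.ΓSpecIso (CommRingCat.of L)).hom =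
        (τ j).appTop ≫ (Scheme.ΓSpecIso (CommRingCat.of L)).hom := CommRingCat.hom_ext h1
    exact (cancel_mono _).1 h2
  have h1 := card_algHom_le_finrank k Γ(F, ⊤) L
  have h2 : Nat.card (Fin n) ≤ Nat.card (Γ(F, ⊤) →ₐ[k] L) :=
    Nat.card_le_card_of_injective β hβinj
  rw [Nat.card_fin] at h2
  exact h2.trans h1

end Groth.Agent.H69.LiftsBound
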