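import Mathlib

/-!
# Generic points of irreducible sets in quotients of affine schemes with bounded fibres (helper69)

Pure topology / commutative algebra used for sobriety of decent algebraic spaces.
-/

set_option autoImplicit false
set_option linter.style.haveILetI false
universe u v
open PrimeSpectrum TopologicalSpace

namespace Groth.Agent.H69.SoberTop

variable {A : Type u} [CommRing A]

/-- Baire-type lemma for closed subsets of prime spectra: a pointwise-finite sequence of opens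
misses some nonempty relatively open subset. -/
theorem exists_basicOpen_bounded (I : Ideal A) (hne : (zeroLocus (I : Set A)).Nonempty)
    (D : ℕ → Set (PrimeSpectrum A)) (hDo : ∀ n, IsOpen (D n))
    (hDfin : ∀ z ∈ zeroLocus (I : Set A), ∃ n, z ∉ D n) :
    ∃ (n : ℕ) (f : A), ((basicOpen f : Set (PrimeSpectrum A)) ∩ zeroLocus (I : Set A)).Nonempty ∧
      (basicOpen f : Set (PrimeSpectrum A)) ∩ zeroLocus (I : Set A) ∩ D n = ∅ := by
  by_contra hcon
  have h : ∀ (n : ℕ) (f : A),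
      ((basicOpen f : Set (PrimeSpectrum A)) ∩ zeroLocus (I : Set A)).Nonempty →
      ((basicOpen f : Set (PrimeSpectrum A)) ∩ zeroLocus (I : Set A) ∩ D n).Nonempty := by
    intro n f hf
    by_contra hemp
    exact hcon ⟨n, f, hf, Set.not_nonempty_iff_eq_empty.1 hemp⟩
  let Pg : A → Prop := fun g =>
    ((basicOpen g : Set (PrimeSpectrum A)) ∩ zeroLocus (I : Set A)).Nonempty
  have step : ∀ (n : ℕ) (g : {g : A // Pg g}), ∃ g' : {g : A // Pg g},
      basicOpen g'.1 ≤ basicOpen g.1 ∧ (basicOpen g'.1 : Set (PrimeSpectrum A)) ⊆ D n := by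
    intro n g
    obtain ⟨z, ⟨hzg, hzZ⟩, hzD⟩ := h n g.1 g.2
    obtain ⟨_, ⟨h', rfl⟩, hzh, hsub⟩ :=
      (isTopologicalBasis_basic_opens (R := A)).exists_subset_of_mem_open
        (show z ∈ (basicOpen g.1 : Set (PrimeSpectrum A)) ∩ D n from ⟨hzg, hzD⟩)
        ((basicOpen g.1).isOpen.inter (hDo n))
    exact ⟨⟨h', ⟨z, hzh, hzZ⟩⟩, fun y hy => (hsub hy).1, fun y hy => (hsub hy).2⟩
  have h1 : Pg 1 := by
    obtain ⟨z, hz⟩ := hne
    refine ⟨z, ?_, hz⟩
    rw [basicOpen_one]; trivial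
  let seq : ℕ → {g : A // Pg g} := fun n =>
    Nat.rec ⟨1, h1⟩ (fun n g => Classical.choose (step n g)) n
  have hseq : ∀ n, basicOpen (seq (n + 1)).1 ≤ basicOpen (seq n).1 ∧
      (basicOpen (seq (n + 1)).1 : Set (PrimeSpectrum A)) ⊆ D n := fun n =>
    Classical.choose_spec (step n (seq n))
  have hanti : Antitone fun n => basicOpen (seq n).1 := antitone_nat_of_succ_le fun n => (hseq n).1
  let M : Submonoid A := Submonoid.closure (Set.range fun n => (seq n).1)
  have hM : ∀ a ∈ M, ∃ n, basicOpen (seq n).1 ≤ basicOpen a := by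
    intro a ha
    induction ha using Submonoid.closure_induction with
    | mem x hx =>
      obtain ⟨n, rfl⟩ := hx
      exact ⟨n, le_rfl⟩
    | one =>
      refine ⟨0, ?_⟩
      rw [basicOpen_one]; exact le_top
    | mul x y _ _ hx hy =>
      obtain ⟨n, hn⟩ := hx
      obtain ⟨k, hk⟩ := hy
      refine ⟨max n k, ?_⟩
      rw [basicOpen_mul]
      exact le_inf ((hanti (le_max_left n k)).trans hn) ((hanti (le_max_right n k)).trans hk)
  have hdisj : Disjoint (I : Set A) (M : Set A) := by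
    rw [Set.disjoint_left]
    intro a haI haM
    obtain ⟨n, hn⟩ := hM a haM
    obtain ⟨z, hz1, hz2⟩ := (seq n).2
    have hza : z ∈ basicOpen a := hn hz1
    exact hza ((mem_zeroLocus _ _).1 hz2 haI)
  obtain ⟨q, hq, hIq, hqM⟩ := Ideal.exists_le_prime_disjoint I M hdisj
  let zq : PrimeSpectrum A := ⟨q, hq⟩
  have hzq : zq ∈ zeroLocus (I : Set A) := (mem_zeroLocus _ _).2 hIq
  have hmem : ∀ n, zq ∈ basicOpen (seq n).1 := by
    intro n hn
    exact (Set.disjoint_left.1 hqM) hn (Submonoid.subset_closure ⟨n, rfl⟩)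
  obtain ⟨n, hn⟩ := hDfin zq hzq
  exact hn ((hseq n).2 (hmem (n + 1)))

/-- Two distinct minimal primes over `I` have neighbourhoods disjoint on `V(I)`. -/
theorem exists_disjoint_basicOpen (I : Ideal A) (w w' : PrimeSpectrum A)
    (hw : w.asIdeal ∈ I.minimalPrimes) (hw' : w'.asIdeal ∈ I.minimalPrimes) (hne : w ≠ w') :
    ∃ f f' : A, w ∈ basicOpen f ∧ w' ∈ basicOpen f' ∧
      ∀ z ∈ zeroLocus (I : Set A), ¬ (z ∈ basicOpen f ∧ z ∈ basicOpen f') := by
  let M : Submonoid A := w.asIdeal.primeCompl ⊔ w'.asIdeal.primeCompl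
  by_cases hdisj : Disjoint (I : Set A) (M : Set A)
  · exfalso
    obtain ⟨q, hq, hIq, hqM⟩ := Ideal.exists_le_prime_disjoint I M hdisj
    have hqw : q ≤ w.asIdeal := by
      intro a ha
      by_contra hna
      exact (Set.disjoint_left.1 hqM) ha
        ((le_sup_left : w.asIdeal.primeCompl ≤ M) (show a ∈ w.asIdeal.primeCompl from hna))
    have hqw' : q ≤ w'.asIdeal := by
      intro a ha
      by_contra hna
      exact (Set.disjoint_left.1 hqM) ha
        ((le_sup_right : w'.asIdeal.primeCompl ≤ M) (show a ∈ w'.asIdeal.primeCompl from hna))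
    have e1 : w.asIdeal = q := le_antisymm (hw.2 ⟨hq, hIq⟩ hqw) hqw
    have e2 : w'.asIdeal = q := le_antisymm (hw'.2 ⟨hq, hIq⟩ hqw') hqw'
    exact hne (PrimeSpectrum.ext (e1.trans e2.symm))
  · rw [Set.not_disjoint_iff] at hdisj
    obtain ⟨a, haI, haM⟩ := hdisj
    obtain ⟨f, hf, f', hf', rfl⟩ := Submonoid.mem_sup.1 haM
    refine ⟨f, f', hf, hf', ?_⟩
    rintro z hz ⟨hzf, hzf'⟩
    have := (mem_zeroLocus _ _).1 hz haI
    rcases z.isPrime.mem_or_mem this with h | h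
    · exact hzf h
    · exact hzf' h

/-- The key topological statement: an open map from a prime spectrum with bounded fibres over a nonempty open part
of the preimage of an irreducible closed set `T` produces a generic point of `T`. -/
theorem exists_isGenericPoint_aux {Y : Type v} [TopologicalSpace Y] (p : PrimeSpectrum A → Y)
    (hpc : Continuous p) (hpo : IsOpenMap p) (T : Set Y) (hT : IsIrreducible T) (hTc : IsClosed T)
    (V : Set (PrimeSpectrum A)) (hV : IsOpen V) (hVT : (V ∩ p ⁻¹' T).Nonempty) (m : ℕ)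
    (hcard : ∀ v ∈ V ∩ p ⁻¹' T, ∀ F : Finset (PrimeSpectrum A), (∀ y ∈ F, p y = p v) →
      F.card ≤ m) :
    ∃ x, IsGenericPoint x T := by
  classical
  set Z : Set (PrimeSpectrum A) := p ⁻¹' T with hZdef
  have hZc : IsClosed Z := hTc.preimage hpc
  set I : Ideal A := vanishingIdeal Z with hIdef
  have hZI : zeroLocus (I : Set A) = Z := by
    rw [hIdef, zeroLocus_vanishingIdeal_eq_closure, hZc.closure_eq]
  let G : Set (PrimeSpectrum A) := {w | w ∈ V ∧ w ∈ Z ∧ w.asIdeal ∈ I.minimalPrimes}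
  -- pairwise separation
  have hsep : ∀ w w' : PrimeSpectrum A, ∃ ff : A × A, w ∈ G → w' ∈ G → w ≠ w' →
      w ∈ basicOpen ff.1 ∧ w' ∈ basicOpen ff.2 ∧
      ∀ z ∈ Z, ¬ (z ∈ basicOpen ff.1 ∧ z ∈ basicOpen ff.2) := by
    intro w w'
    by_cases hc : w ∈ G ∧ w' ∈ G ∧ w ≠ w'
    · obtain ⟨f, f', h1, h2, h3⟩ := exists_disjoint_basicOpen I w w' hc.1.2.2 hc.2.1.2.2 hc.2.2
      refine ⟨(f, f'), fun _ _ _ => ⟨h1, h2, ?_⟩⟩
      intro z hz
      exact h3 z (by rw [hZI]; exact hz)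
    · exact ⟨(0, 0), fun h1 h2 h3 => absurd ⟨h1, h2, h3⟩ hc⟩
  choose sep hsep using hsep
  have hGcard : ∀ F : Finset (PrimeSpectrum A), (↑F : Set (PrimeSpectrum A)) ⊆ G → F.card ≤ m := by
    intro F hFG
    by_contra hgt
    push Not at hgt
    let N : PrimeSpectrum A → Set (PrimeSpectrum A) := fun w =>
      V ∩ ⋂ w' ∈ F.erase w, ((basicOpen (sep w w').1 : Set (PrimeSpectrum A)) ∩
        (basicOpen (sep w' w).2 : Set (PrimeSpectrum A)))
    have hNo : ∀ w, IsOpen (N w) := fun w =>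
      hV.inter (isOpen_biInter_finset fun w' _ =>
        (basicOpen (sep w w').1).isOpen.inter (basicOpen (sep w' w).2).isOpen)
    have hNmem : ∀ w ∈ F, w ∈ N w := by
      intro w hw
      refine ⟨(hFG hw).1, ?_⟩
      simp only [Set.mem_iInter]
      intro w' hw'
      have hw'F : w' ∈ F := Finset.mem_of_mem_erase hw'
      have hne : w' ≠ w := Finset.ne_of_mem_erase hw'
      exact ⟨(hsep w w' (hFG hw) (hFG hw'F) hne.symm).1,
        (hsep w' w (hFG hw'F) (hFG hw) hne).2.1⟩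
    have hNdisj : ∀ w ∈ F, ∀ w' ∈ F, w ≠ w' → ∀ z ∈ Z, ¬ (z ∈ N w ∧ z ∈ N w') := by
      rintro w hw w' hw' hne z hz ⟨h1, h2⟩
      have a1 := h1.2
      have a2 := h2.2
      simp only [Set.mem_iInter] at a1 a2
      have b1 := (a1 w' (Finset.mem_erase.2 ⟨hne.symm, hw'⟩)).1
      have b2 := (a2 w (Finset.mem_erase.2 ⟨hne, hw⟩)).2
      exact (hsep w w' (hFG hw) (hFG hw') hne).2.2 z hz ⟨b1, b2⟩
    let 𝒰 : Finset (Set Y) := F.image fun w => p '' N w
    have h𝒰o : ∀ u ∈ 𝒰, IsOpen u := by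
      intro u hu
      obtain ⟨w, -, rfl⟩ := Finset.mem_image.1 hu
      exact hpo _ (hNo w)
    have h𝒰T : ∀ u ∈ 𝒰, (T ∩ u).Nonempty := by
      intro u hu
      obtain ⟨w, hw, rfl⟩ := Finset.mem_image.1 hu
      exact ⟨p w, (hFG hw).2.1, w, hNmem w hw, rfl⟩
    obtain ⟨x, hxT, hx𝒰⟩ := (isIrreducible_iff_sInter.1 hT) 𝒰 h𝒰o h𝒰T
    have hv : ∀ w : PrimeSpectrum A, ∃ v, w ∈ F → v ∈ N w ∧ p v = x := by
      intro w
      by_cases hw : w ∈ F
      · have : x ∈ p '' N w := Set.mem_sInter.1 hx𝒰 _ (Finset.mem_image.2 ⟨w, hw, rfl⟩)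
        obtain ⟨v, hv1, hv2⟩ := this
        exact ⟨v, fun _ => ⟨hv1, hv2⟩⟩
      · exact ⟨w, fun h => absurd h hw⟩
    choose v hv using hv
    have hvZ : ∀ w ∈ F, v w ∈ Z := fun w hw => by
      change p (v w) ∈ T
      rw [(hv w hw).2]; exact hxT
    have hvinj : Set.InjOn v ↑F := by
      intro w hw w' hw' hvv
      by_contra hne
      exact hNdisj w hw w' hw' hne (v w) (hvZ w hw) ⟨(hv w hw).1, hvv ▸ (hv w' hw').1⟩
    have hFne : F.Nonempty := by
      rw [← Finset.card_pos]; omega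
    obtain ⟨w₀, hw₀⟩ := hFne
    have := hcard (v w₀) ⟨(hv w₀ hw₀).1.1, hvZ w₀ hw₀⟩ (F.image v) (by
      intro y hy
      obtain ⟨w, hw, rfl⟩ := Finset.mem_image.1 hy
      rw [(hv w hw).2, (hv w₀ hw₀).2])
    rw [Finset.card_image_of_injOn hvinj] at this
    omega
  have hGfin : G.Finite := by
    by_contra hinf
    obtain ⟨F, hFG, hFc⟩ := (Set.not_finite.1 hinf).exists_subset_card_eq (m + 1)
    have := hGcard F hFG
    omega
  -- every point of `V ∩ Z` has a generization in `G`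
  have hgen : ∀ v ∈ V ∩ Z, ∃ w ∈ G, w ⤳ v := by
    rintro v ⟨hvV, hvZ⟩
    have hIv : I ≤ v.asIdeal := by
      rw [← hZI] at hvZ
      exact (mem_zeroLocus _ _).1 hvZ
    obtain ⟨q, hq, hqv⟩ := Ideal.exists_minimalPrimes_le hIv
    let w : PrimeSpectrum A := ⟨q, hq.1.1⟩
    have hwv : w ⤳ v := (PrimeSpectrum.le_iff_specializes w v).1 hqv
    have hwZ : w ∈ Z := by
      rw [← hZI]; exact (mem_zeroLocus _ _).2 hq.1.2
    exact ⟨w, ⟨hwv.mem_open hV hvV, hwZ, hq⟩, hwv⟩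
  have hsub1 : p '' (V ∩ Z) ⊆ ⋃ w ∈ G, closure {p w} := by
    rintro _ ⟨v, hv, rfl⟩
    obtain ⟨w, hwG, hwv⟩ := hgen v hv
    simp only [Set.mem_iUnion]
    exact ⟨w, hwG, (hwv.map hpc).mem_closed isClosed_closure (subset_closure rfl)⟩
  have hpV : p '' (V ∩ Z) = T ∩ p '' V := by
    ext y
    constructor
    · rintro ⟨v, ⟨hvV, hvZ⟩, rfl⟩
      exact ⟨hvZ, v, hvV, rfl⟩
    · rintro ⟨hyT, v, hvV, rfl⟩
      exact ⟨v, ⟨hvV, hyT⟩, rfl⟩
  have hne' : (T ∩ p '' V).Nonempty := by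
    obtain ⟨v, hvV, hvZ⟩ := hVT
    exact ⟨p v, hvZ, v, hvV, rfl⟩
  have hdense : T ⊆ closure (T ∩ p '' V) :=
    subset_closure_inter_of_isPreirreducible_of_isOpen hT.2 (hpo _ hV) hne'
  have hclosed : IsClosed (⋃ w ∈ G, closure {p w}) :=
    hGfin.isClosed_biUnion fun _ _ => isClosed_closure
  have hTsub : T ⊆ ⋃ w ∈ G, closure {p w} := by
    refine hdense.trans ?_
    rw [← hpV]
    exact closure_minimal hsub1 hclosed
  let 𝒵 : Finset (Set Y) := hGfin.toFinset.image fun w => closure {p w}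
  have h𝒵c : ∀ z ∈ 𝒵, IsClosed z := by
    intro z hz
    obtain ⟨w, -, rfl⟩ := Finset.mem_image.1 hz
    exact isClosed_closure
  have hT𝒵 : T ⊆ ⋃₀ ↑𝒵 := by
    intro y hy
    obtain ⟨_, ⟨w, rfl⟩, _, ⟨hwG, rfl⟩, hyw⟩ := hTsub hy
    exact ⟨closure {p w}, Finset.mem_coe.2 (Finset.mem_image.2
      ⟨w, hGfin.mem_toFinset.2 hwG, rfl⟩), hyw⟩
  obtain ⟨z, hz, hTz⟩ := (isIrreducible_iff_sUnion_isClosed.1 hT) 𝒵 h𝒵c hT𝒵
  obtain ⟨w, hw, rfl⟩ := Finset.mem_image.1 hz
  have hwG : w ∈ G := hGfin.mem_toFinset.1 hw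
  refine ⟨p w, ?_⟩
  change closure {p w} = T
  exact le_antisymm (closure_minimal (Set.singleton_subset_iff.2 hwG.2.1) hTc) hTz

/-- Generic points from a pointwise finite degree stratification. -/
theorem exists_isGenericPoint {Y : Type v} [TopologicalSpace Y] (p : PrimeSpectrum A → Y)
    (hpc : Continuous p) (hpo : IsOpenMap p) (T : Set Y) (hT : IsIrreducible T) (hTc : IsClosed T)
    (hmeet : (p ⁻¹' T).Nonempty)
    (D : ℕ → Set (PrimeSpectrum A)) (hDo : ∀ n, IsOpen (D n)) (hDa : ∀ n, D (n + 1) ⊆ D n)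
    (hDfin : ∀ u, ∃ n, u ∉ D n)
    (hDcard : ∀ n u, u ∉ D (n + 1) → ∀ F : Finset (PrimeSpectrum A), (∀ y ∈ F, p y = p u) →
      F.card ≤ n) :
    ∃ x, IsGenericPoint x T := by
  have hZc : IsClosed (p ⁻¹' T) := hTc.preimage hpc
  have hZI : zeroLocus ((vanishingIdeal (p ⁻¹' T) : Ideal A) : Set A) = p ⁻¹' T := by
    rw [zeroLocus_vanishingIdeal_eq_closure, hZc.closure_eq]
  obtain ⟨n, f, hne, hemp⟩ := exists_basicOpen_bounded (vanishingIdeal (p ⁻¹' T))
    (by rw [hZI]; exact hmeet) D hDo (fun z _ => hDfin z)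
  rw [hZI] at hne hemp
  refine exists_isGenericPoint_aux p hpc hpo T hT hTc (basicOpen f : Set (PrimeSpectrum A))
    (basicOpen f).isOpen hne n ?_
  intro v hv F hF
  refine hDcard n v (fun hvD => ?_) F hF
  have : v ∈ (basicOpen f : Set (PrimeSpectrum A)) ∩ p ⁻¹' T ∩ D n := ⟨hv, hDa n hvD⟩
  rw [hemp] at this
  exact this

/-- The same for a space homeomorphic to a prime spectrum. -/
theorem exists_isGenericPoint_of_homeomorph {P : Type u} [TopologicalSpace P]
    (e : P ≃ₜ PrimeSpectrum A) {Y : Type v} [TopologicalSpace Y] (p : P → Y)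
    (hpc : Continuous p) (hpo : IsOpenMap p) (T : Set Y) (hT : IsIrreducible T) (hTc : IsClosed T)
    (hmeet : (p ⁻¹' T).Nonempty)
    (D : ℕ → Set P) (hDo : ∀ n, IsOpen (D n)) (hDa : ∀ n, D (n + 1) ⊆ D n)
    (hDfin : ∀ u, ∃ n, u ∉ D n)
    (hDcard : ∀ n u, u ∉ D (n + 1) → ∀ F : Finset P, (∀ y ∈ F, p y = p u) → F.card ≤ n) :
    ∃ x, IsGenericPoint x T := by
  refine exists_isGenericPoint (p ∘ e.symm) (hpc.comp e.symm.continuous)
    (hpo.comp e.symm.isOpenMap) T hT hTc ?_ (fun n => e.symm ⁻¹' D n)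
    (fun n => (hDo n).preimage e.symm.continuous) (fun n _ hx => hDa n hx)
    (fun u => hDfin (e.symm u)) ?_
  · obtain ⟨u, hu⟩ := hmeet
    exact ⟨e u, by simpa using hu⟩
  · intro n u hu F hF
    have := hDcard n (e.symm u) hu (F.map e.symm.toEquiv.toEmbedding) (by
      intro y hy
      obtain ⟨y', hy', rfl⟩ := Finset.mem_map.1 hy
      exact hF y' hy')
    rwa [Finset.card_map] at this

end Groth.Agent.H69.SoberTop
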