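import Mathlib
import Groth.Agent.H52.DecentTop
import Groth.Agent.H52.MonoPt
import Groth.Agent.H50.Points
import Groth.Agent.H69.DegStrat
import Groth.Agent.H69.SoberTop
import Groth.Agent.H69.LiftsBound

/-!
# The space of points of a decent algebraic space is quasi-sober (helper69)
-/

set_option autoImplicit false
set_option linter.style.haveILetI false
universe u
open CategoryTheory AlgebraicGeometry Limits Opposite
open AlgSp

namespace Groth.Agent.H69.DecentSober

open Groth.Agent.H69.DegStrat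

variable {S : Scheme.{u}}

/-- The two projections of `R = U ×_X U` are jointly monomorphic on schemes. -/
theorem left_ext_of_isPullback {X : Sp S} {R U : Over S} (a : (yon S).obj U ⟶ X) (s t : R ⟶ U)
    (sq : IsPullback ((yon S).map s) ((yon S).map t) a a) {T : Scheme.{u}} (f g : T ⟶ R.left)
    (hs : f ≫ s.left = g ≫ s.left) (ht : f ≫ t.left = g ≫ t.left) : f = g := by
  have hR : R.hom = s.left ≫ U.hom := (Over.w s).symm
  let T' : Over S := Over.mk (f ≫ R.hom)
  let f' : T' ⟶ R := Over.homMk f rfl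
  let g' : T' ⟶ R := Over.homMk g (by
    change g ≫ R.hom = f ≫ R.hom
    rw [hR, ← Category.assoc, ← hs, Category.assoc])
  have e1 : f' ≫ s = g' ≫ s := by
    apply Over.OverMorphism.ext; exact hs
  have e2 : f' ≫ t = g' ≫ t := by
    apply Over.OverMorphism.ext; exact ht
  have e3 : (yon S).map f' = (yon S).map g' := by
    apply sq.hom_ext
    · rw [← Functor.map_comp, ← Functor.map_comp, e1]
    · rw [← Functor.map_comp, ← Functor.map_comp, e2]
  have e4 : f' = g' := (yon S).map_injective e3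
  exact congrArg (fun h => h.left) e4

/-- The projection `R = U ×_X U ⟶ U` is separated when `U` is separated over the base. -/
theorem isSeparated_left_of_isPullback {X : Sp S} {R U : Over S} (a : (yon S).obj U ⟶ X)
    (s t : R ⟶ U) (sq : IsPullback ((yon S).map s) ((yon S).map t) a a) [IsSeparated U.hom] :
    IsSeparated s.left := by
  have hw : s.left ≫ U.hom = t.left ≫ U.hom := by rw [Over.w s, Over.w t]
  let l : R.left ⟶ pullback U.hom U.hom := pullback.lift s.left t.left hw
  haveI : Mono l := by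
    refine ⟨fun f g h => ?_⟩
    apply left_ext_of_isPullback a s t sq
    · have := congrArg (fun k => k ≫ pullback.fst U.hom U.hom) h
      simp only [Category.assoc] at this
      rwa [pullback.lift_fst] at this
    · have := congrArg (fun k => k ≫ pullback.snd U.hom U.hom) h
      simp only [Category.assoc] at this
      rwa [pullback.lift_snd] at this
  have e : s.left = l ≫ pullback.fst U.hom U.hom := (pullback.lift_fst _ _ _).symm
  rw [e]
  infer_instance

/-- Bounded fibres outside a degree stratum. -/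
theorem card_le_of_notMem_degGE {X : Sp S} {R U : Over S} (a : (yon S).obj U ⟶ X) (s t : R ⟶ U)
    (sq : IsPullback ((yon S).map s) ((yon S).map t) a a) [IsSeparated s.left] (n : ℕ)
    (u : ↥U.left) (hu : u ∉ degGE (n + 1) s.left) (F : Finset ↥U.left)
    (hF : ∀ y ∈ F, Points.ofPt a y = Points.ofPt a u) : F.card ≤ n := by
  classical
  by_contra hgt
  push Not at hgt
  apply hu
  have hr : ∀ y : ↥U.left, ∃ r : ↥R.left, y ∈ F → s.left r = u ∧ t.left r = y := by
    intro y
    by_cases hy : y ∈ F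
    · obtain ⟨r, h1, h2⟩ := H52.exists_of_ofPt_eq_ofPt sq u y (hF y hy).symm
      exact ⟨r, fun _ => ⟨h1, h2⟩⟩
    · obtain ⟨r, h1, -⟩ := H52.exists_of_ofPt_eq_ofPt sq u u rfl
      exact ⟨r, fun h => absurd h hy⟩
  choose r hr using hr
  have hinj : Set.InjOn r ↑F := by
    intro y hy y' hy' h
    rw [← (hr y hy).2, ← (hr y' hy').2, h]
  refine mem_degGE_of_card (n + 1) s.left u (F.image r) ?_ ?_
  · intro z hz
    obtain ⟨y, hy, rfl⟩ := Finset.mem_image.1 hz
    exact (hr y hy).1
  · rw [Finset.card_image_of_injOn hinj]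
    omega

/-- Over a point represented by a quasi-compact monomorphism from the spectrum of a field, the degree of `R ⟶ U`
is finite. -/
theorem exists_notMem_degGE {X : Sp S} {R U : Over S} [CompactSpace ↥U.left]
    (a : (yon S).obj U ⟶ X) (ha : RepWith @Etale a) (s t : R ⟶ U)
    (sq : IsPullback ((yon S).map s) ((yon S).map t) a a) [IsSeparated s.left]
    (u : ↥U.left) (q : FieldPt X) (hq : Points.mk q = Points.ofPt a u) (hm : Mono q.toHom)
    (hqc : RepWith @QuasiCompact q.toHom) : ∃ n, u ∉ degGE n s.left := by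
  obtain ⟨F, ψ, fst, sqF⟩ := hqc.1 a
  have hψ : QuasiCompact ψ.left := hqc.2 _ _ _ sqF
  obtain ⟨φ, rfl⟩ := (yon S).map_surjective fst
  have hφ : Etale φ.left := ha.2 _ _ _ sqF.flip
  haveI : CompactSpace ↥F.left := QuasiCompact.compactSpace_of_compactSpace ψ.left
  let φl : F.left ⟶ Spec (CommRingCat.of q.K) := φ.left
  haveI : Etale φl := hφ
  haveI : LocallyQuasiFinite φl := H50.locallyQuasiFinite_of_unramified φl
  haveI : QuasiCompact φl := inferInstance
  haveI : IsLocallyArtinian (Spec (CommRingCat.of q.K)) :=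
    Scheme.isLocallyArtinianScheme_Spec.2 inferInstance
  haveI : IsFinite φl := IsFinite.of_locallyQuasiFinite φl
  obtain ⟨d, hd⟩ := LiftsBound.exists_bound_lifts φl
  refine ⟨d + 1, fun hu => ?_⟩
  obtain ⟨L, _, ρ, σ, hρ, hσ, hinj⟩ := exists_lifts_of_mem_degGE (d + 1) s.left u hu
  let w : Spec (CommRingCat.of L) ⟶ S := ρ ≫ U.hom
  let ρ' : Over.mk w ⟶ U := Over.homMk ρ rfl
  have hR : R.hom = s.left ≫ U.hom := (Over.w s).symm
  let σ' : ∀ i, Over.mk w ⟶ R := fun i => Over.homMk (σ i) (by
    change σ i ≫ R.hom = ρ ≫ U.hom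
    rw [hR, ← Category.assoc, hσ i])
  have hσs : ∀ i, σ' i ≫ s = ρ' := fun i => by
    apply Over.OverMorphism.ext; exact hσ i
  let ξ : FieldPt X := H50.fieldPtOfHom w ((yon S).map ρ' ≫ a)
  have hξ : ξ.toHom = (yon S).map ρ' ≫ a := H50.toHom_fieldPtOfHom _ _
  have hξq : Points.mk ξ = Points.mk q := by
    let s₀ : ↥(Spec (CommRingCat.of L)) := (IsLocalRing.closedPoint L : PrimeSpectrum L)
    have h1 : Points.ofPt ((yon S).map ρ' ≫ a) s₀ = Points.mk ξ :=
      (congrArg (fun z : (yon S).obj (Over.mk w) ⟶ X => Points.ofPt z s₀) hξ).symm.trans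
        (Points.ofPt_toHom ξ s₀)
    rw [← h1, H52.ofPt_yon_map_comp, hq]
    congr 1
    exact hρ s₀
  obtain ⟨c, hc⟩ := H52.exists_factor_of_mk_eq q ξ hm hqc hξq
  change Over.mk w ⟶ q.pt at c
  have hlam : ∀ i, (yon S).map c ≫ q.toHom = (yon S).map (σ' i ≫ t) ≫ a := by
    intro i
    refine (hc.trans hξ).trans ?_
    rw [Functor.map_comp, Category.assoc, ← sq.w, ← Category.assoc, ← Functor.map_comp,
      hσs i]
  have hτ : ∀ i, ∃ τ : Over.mk w ⟶ F, τ ≫ φ = c ∧ τ ≫ ψ = σ' i ≫ t := by
    intro i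
    obtain ⟨τ, hτ⟩ := (yon S).map_surjective (sqF.lift _ _ (hlam i))
    refine ⟨τ, ?_, ?_⟩
    · apply (yon S).map_injective
      rw [Functor.map_comp, hτ, sqF.lift_fst]
    · apply (yon S).map_injective
      rw [Functor.map_comp, hτ, sqF.lift_snd]
  choose τ hτ1 hτ2 using hτ
  have key := hd L c.left (d + 1) (fun i => (τ i).left) ?_ ?_
  · omega
  · intro i
    change (τ i).left ≫ φ.left = c.left
    rw [← Over.comp_left, hτ1 i]
  · intro i j hij
    have h1 : τ i = τ j := Over.OverMorphism.ext hij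
    have h2 : σ' i ≫ t = σ' j ≫ t := by rw [← hτ2 i, ← hτ2 j, h1]
    have h3 : σ i = σ j := by
      apply left_ext_of_isPullback a s t sq
      · rw [hσ i, hσ j]
      · exact congrArg (fun h => h.left) h2
    exact hinj h3

/-- The space of points of a decent algebraic space is quasi-sober. -/
theorem quasiSober_of_isDecent {X : Sp S} (hXa : IsAlgSpace X) (hX : IsDecent X) :
    QuasiSober (Points X) := by
  refine ⟨fun {T} hT hTc => ?_⟩
  obtain ⟨x₀, hx₀⟩ := hT.nonempty
  obtain ⟨U₀, a₀, hae, has⟩ := hXa.atlas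
  obtain ⟨u₀, hu₀⟩ := H52.surjective_ofPt_of_surjective a₀ has x₀
  obtain ⟨V, hV, u₁, hu₁, ha, -⟩ := H52.exists_affine_restriction a₀ hae u₀
  let U : Over S := H52.overOpen U₀ V
  let a : (yon S).obj U ⟶ X := (yon S).map (H52.overOpenHom U₀ V) ≫ a₀
  haveI : IsAffine U.left := hV
  haveI : CompactSpace ↥U.left := inferInstance
  obtain ⟨R, t, fst, sq⟩ := ha.1 a
  obtain ⟨s, rfl⟩ := (yon S).map_surjective fst
  have ht : Etale t.left := ha.2 _ _ _ sq
  haveI hs : Etale s.left := ha.2 _ _ _ sq.flip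
  haveI : IsSeparated U.hom := inferInstance
  haveI : IsSeparated s.left := isSeparated_left_of_isPullback a s t sq
  let e : ↥U.left ≃ₜ PrimeSpectrum Γ(U.left, ⊤) := Scheme.homeoOfIso U.left.isoSpec
  refine SoberTop.exists_isGenericPoint_of_homeomorph e (Points.ofPt a) (Points.continuous_ofPt a)
    (H52.isOpenMap_ofPt_of_etale a ha) T hT hTc ⟨u₁, ?_⟩ (fun n => degGE n s.left)
    (fun n => isOpen_degGE n s.left) (fun n => degGE_antitone n s.left) ?_ ?_
  · change Points.ofPt a u₁ ∈ T
    rw [H52.ofPt_yon_map_comp, hu₁, hu₀]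
    exact hx₀
  · intro u
    obtain ⟨q, hq, hm, hqc⟩ := hX (Points.ofPt a u)
    exact exists_notMem_degGE a ha s t sq u q hq hm hqc
  · intro n u hu F hF
    exact card_le_of_notMem_degGE a s t sq n u hu F hF

end Groth.Agent.H69.DecentSober
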