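import Mathlib

set_option autoImplicit false
set_option linter.style.haveILetI false
universe u
open IsLocalRing

namespace Groth.Agent.H69.KatoExt_Ea

theorem isLocalRing_of_sup {A K : Type u} [CommRing A] [IsLocalRing A] [CommRing K] [Algebra A K]
    (hinj : Function.Injective (algebraMap A K))
    (B : Subalgebra A K) [Module.Finite A B] (N : Submodule A K)
    (hB : Subalgebra.toSubmodule B = 1 ⊔ N)
    (hN : ∀ y ∈ N, y * y ∈ maximalIdeal A • N) :
    ∃ _ : IsLocalRing B, Function.Surjective (algebraMap A (ResidueField B)) := by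
  classical
  -- elements of `N` lie in `B`
  have hNB : ∀ y ∈ N, y ∈ B := by
    intro y hy
    have : y ∈ Subalgebra.toSubmodule B := by
      rw [hB]
      exact Submodule.mem_sup_right hy
    exact this
  -- decomposition of elements of `B`
  have hdec : ∀ b : B, ∃ (a : A) (y : K) (hy : y ∈ N), b = algebraMap A B a + ⟨y, hNB y hy⟩ := by
    intro b
    have hb : (b : K) ∈ (1 ⊔ N : Submodule A K) := by
      rw [← hB]
      exact b.2
    obtain ⟨x, hx, y, hy, hxy⟩ := Submodule.mem_sup.mp hb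
    obtain ⟨a, rfl⟩ := Submodule.mem_one.mp hx
    refine ⟨a, y, hy, ?_⟩
    apply Subtype.ext
    simpa using hxy.symm
  haveI : Nontrivial K := hinj.nontrivial
  haveI : Nontrivial B := inferInstance
  haveI : Algebra.IsIntegral A B := inferInstance
  -- maximal ideals of `B` lie over the maximal ideal of `A`
  have hcomap : ∀ (𝔫 : Ideal B) [𝔫.IsMaximal], 𝔫.comap (algebraMap A B) = maximalIdeal A := by
    intro 𝔫 _
    haveI : (𝔫.comap (algebraMap A B)).IsMaximal :=
      Ideal.isMaximal_comap_of_isIntegral_of_isMaximal 𝔫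
    exact IsLocalRing.eq_maximalIdeal inferInstance
  -- `N` is contained in every maximal ideal
  have hJ : ∀ (𝔫 : Ideal B) [𝔫.IsMaximal] (y : K) (hy : y ∈ N), (⟨y, hNB y hy⟩ : B) ∈ 𝔫 := by
    intro 𝔫 _ y hy
    have hsq : ∀ z ∈ maximalIdeal A • N, ∃ hz : z ∈ B, (⟨z, hz⟩ : B) ∈ 𝔫 := by
      intro z hz
      refine Submodule.smul_induction_on hz ?_ ?_
      · intro r hr n hn
        have hrn : r • n ∈ B := B.smul_mem (hNB n hn) r
        refine ⟨hrn, ?_⟩
        have h1 : algebraMap A B r ∈ 𝔫 := by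
          have : r ∈ 𝔫.comap (algebraMap A B) := by rw [hcomap 𝔫]; exact hr
          exact this
        have h2 : (⟨r • n, hrn⟩ : B) = algebraMap A B r * ⟨n, hNB n hn⟩ := by
          apply Subtype.ext
          simp [Algebra.smul_def]
        rw [h2]
        exact 𝔫.mul_mem_right _ h1
      · rintro z₁ z₂ ⟨h1, h1'⟩ ⟨h2, h2'⟩
        refine ⟨B.add_mem h1 h2, ?_⟩
        have : (⟨z₁ + z₂, B.add_mem h1 h2⟩ : B) = ⟨z₁, h1⟩ + ⟨z₂, h2⟩ := rfl
        rw [this]
        exact 𝔫.add_mem h1' h2'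
    obtain ⟨hz, hz'⟩ := hsq (y * y) (hN y hy)
    have hmul : (⟨y * y, hz⟩ : B) = ⟨y, hNB y hy⟩ * ⟨y, hNB y hy⟩ := rfl
    rw [hmul] at hz'
    exact (Ideal.IsPrime.mem_or_mem (Ideal.IsMaximal.isPrime inferInstance) hz').elim id id
  -- key: unit of `A` plus element of `N` is a unit of `B`
  have hkey : ∀ (a : A) (y : K) (hy : y ∈ N), IsUnit a →
      IsUnit (algebraMap A B a + ⟨y, hNB y hy⟩ : B) := by
    intro a y hy ha
    by_contra hnu
    obtain ⟨𝔫, h𝔫, hmem⟩ := exists_max_ideal_of_mem_nonunits hnu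
    haveI := h𝔫
    have hy𝔫 := hJ 𝔫 y hy
    have ha𝔫 : algebraMap A B a ∈ 𝔫 := by
      have := 𝔫.sub_mem hmem hy𝔫
      simpa using this
    have : a ∈ maximalIdeal A := by
      rw [← hcomap 𝔫]
      exact ha𝔫
    exact (IsLocalRing.mem_maximalIdeal a).mp this ha
  have hloc : IsLocalRing B := by
    refine IsLocalRing.of_isUnit_or_isUnit_one_sub_self fun b => ?_
    obtain ⟨a, y, hy, rfl⟩ := hdec b
    by_cases ha : IsUnit a
    · exact Or.inl (hkey a y hy ha)
    · right
      have ha' : IsUnit (1 - a) := by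
        have hm : a ∈ maximalIdeal A := (IsLocalRing.mem_maximalIdeal a).mpr ha
        exact IsLocalRing.isUnit_one_sub_self_of_mem_nonunits a hm
      have := hkey (1 - a) (-y) (N.neg_mem hy) ha'
      convert this using 1
      apply Subtype.ext
      simp
      ring
  refine ⟨hloc, ?_⟩
  intro z
  obtain ⟨b, rfl⟩ := IsLocalRing.residue_surjective z
  obtain ⟨a, y, hy, rfl⟩ := hdec b
  refine ⟨a, ?_⟩
  have hym : (⟨y, hNB y hy⟩ : B) ∈ maximalIdeal B := hJ (maximalIdeal B) y hy
  rw [map_add, (IsLocalRing.residue_eq_zero_iff _).mpr hym, add_zero]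
  rfl

end Groth.Agent.H69.KatoExt_Ea
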