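import Mathlib
import Groth.Prelude.Def_SGA1

set_option autoImplicit false
set_option linter.style.haveILetI false
universe u
open CategoryTheory CategoryTheory.Limits AlgebraicGeometry

namespace Groth.Agent.H69.DVRQuot

/-- The two points of the spectrum of a discrete valuation ring. -/
theorem eq_closedPoint_or_eq_bot {A : Type u} [CommRing A] [IsDomain A]
    [IsDiscreteValuationRing A] (s : PrimeSpectrum A) :
    s = IsLocalRing.closedPoint A ∨ s = ⟨⊥, Ideal.isPrime_bot⟩ := by
  by_cases hs : s.asIdeal = ⊥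
  · right
    exact PrimeSpectrum.ext hs
  · left
    apply PrimeSpectrum.ext
    have hmax : s.asIdeal.IsMaximal := Ring.DimensionLEOne.maximalOfPrime hs s.isPrime
    exact IsLocalRing.eq_maximalIdeal hmax

theorem bot_ne_closedPoint {A : Type u} [CommRing A] [IsDomain A]
    [IsDiscreteValuationRing A] :
    (⟨⊥, Ideal.isPrime_bot⟩ : PrimeSpectrum A) ≠ IsLocalRing.closedPoint A := by
  intro h
  have h1 : (⊥ : Ideal A) = IsLocalRing.maximalIdeal A := congrArg PrimeSpectrum.asIdeal h
  exact IsDiscreteValuationRing.not_a_field A h1.symm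

/-- A morphism to the spectrum of a discrete valuation ring which is a topological quotient map
has a specialization from a point of the generic fibre to a point of the closed fibre. -/
theorem exists_specializes_of_isQuotientMap {A : Type u} [CommRing A] [IsDomain A]
    [IsDiscreteValuationRing A] {P : Scheme.{u}} (q : P ⟶ Spec (CommRingCat.of A))
    (hq : Topology.IsQuotientMap q.base) :
    ∃ w' w : P, w' ⤳ w ∧ q.base w' = (⟨⊥, Ideal.isPrime_bot⟩ : PrimeSpectrum A) ∧
      q.base w = IsLocalRing.closedPoint A := by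
  classical
  let g₀ : ↥(Spec (CommRingCat.of A)) := (⟨⊥, Ideal.isPrime_bot⟩ : PrimeSpectrum A)
  let c₀ : ↥(Spec (CommRingCat.of A)) := IsLocalRing.closedPoint A
  have hpts : ∀ s : ↥(Spec (CommRingCat.of A)), s = c₀ ∨ s = g₀ := fun s =>
    eq_closedPoint_or_eq_bot (A := A) s
  have hne : g₀ ≠ c₀ := bot_ne_closedPoint (A := A)
  have hc₀closed : IsClosed ({c₀} : Set ↥(Spec (CommRingCat.of A))) :=
    IsLocalRing.isClosed_singleton_closedPoint A
  have hcompl : ({g₀} : Set ↥(Spec (CommRingCat.of A))) = {c₀}ᶜ := by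
    ext s
    simp only [Set.mem_singleton_iff, Set.mem_compl_iff]
    constructor
    · rintro rfl
      exact hne
    · intro h
      rcases hpts s with h1 | h1
      · exact absurd h1 h
      · exact h1
  have hg₀open : IsOpen ({g₀} : Set ↥(Spec (CommRingCat.of A))) := by
    rw [hcompl]
    exact hc₀closed.isOpen_compl
  by_contra hcon
  push Not at hcon
  let U : (Spec (CommRingCat.of A)).Opens := ⟨{g₀}, hg₀open⟩
  haveI : QuasiCompact U.ι := inferInstance
  haveI : QuasiCompact (q ⁻¹ᵁ U).ι :=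
    MorphismProperty.of_isPullback (P := @QuasiCompact) (isPullback_morphismRestrict q U)
      inferInstance
  have hrange : Set.range (q ⁻¹ᵁ U).ι.base = q.base ⁻¹' {g₀} := by
    rw [Scheme.Opens.range_ι]
    rfl
  have hsp : SpecializingMap (q ⁻¹ᵁ U).ι.base := by
    intro a b hab
    have ha : q.base ((q ⁻¹ᵁ U).ι.base a) = g₀ := by
      have : (q ⁻¹ᵁ U).ι.base a ∈ Set.range (q ⁻¹ᵁ U).ι.base := ⟨a, rfl⟩
      rw [hrange] at this
      exact this
    have hb : q.base b = g₀ := by
      rcases hpts (q.base b) with h1 | h1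
      · exact absurd h1 (hcon _ _ hab ha)
      · exact h1
    have hb' : b ∈ Set.range (q ⁻¹ᵁ U).ι.base := by
      rw [hrange]
      exact hb
    obtain ⟨b', rfl⟩ := hb'
    exact ⟨b', ((q ⁻¹ᵁ U).ι.isOpenEmbedding.isInducing.specializes_iff).mp hab, rfl⟩
  have hclosed : IsClosed (Set.range (q ⁻¹ᵁ U).ι.base) :=
    ((isClosedMap_iff_specializingMap (q ⁻¹ᵁ U).ι).mpr hsp).isClosed_range
  have hopen : IsOpen (q.base ⁻¹' {c₀}) := by
    have : q.base ⁻¹' {c₀} = (Set.range (q ⁻¹ᵁ U).ι.base)ᶜ := by
      rw [hrange, ← Set.preimage_compl, hcompl, compl_compl]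
    rw [this]
    exact hclosed.isOpen_compl
  have hc₀open : IsOpen ({c₀} : Set ↥(Spec (CommRingCat.of A))) := hq.isOpen_preimage.mp hopen
  have hspec : g₀ ⤳ c₀ :=
    (PrimeSpectrum.le_iff_specializes (⟨⊥, Ideal.isPrime_bot⟩ : PrimeSpectrum A)
      (IsLocalRing.closedPoint A)).mp (show (⊥ : Ideal A) ≤ _ from bot_le)
  exact hne (hspec.mem_open hc₀open rfl)

end Groth.Agent.H69.DVRQuot
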