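import Groth.Agent.H69.SubtrAlg
import Groth.Agent.H69.DVRQuot
import Groth.Prelude.Def_SGA1
import Groth.Prelude.Def_W4c2submetdescSubtr

/-! Universally submersive ⇔ universally S-subtrusive over a locally Noetherian base, via lifting
of ordered pairs along discrete valuation rings. -/

set_option autoImplicit false
set_option linter.style.haveILetI false
universe u
open CategoryTheory CategoryTheory.Limits AlgebraicGeometry TensorProduct

namespace Groth.Agent.H69.Subtr

/-- `f` lifts ordered pairs along discrete valuation rings: for every discrete valuation ring `D`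
and morphism `Spec D ⟶ Y`, the base change of `f` has a point over the generic point specializing
to a point over the closed point. -/
def HasDVRPairs {X Y : Scheme.{u}} (f : X ⟶ Y) : Prop :=
  ∀ (D : Type u) [CommRing D] [IsDomain D] [IsDiscreteValuationRing D]
    (g : Spec (CommRingCat.of D) ⟶ Y) (P : Scheme.{u}) (fst : P ⟶ X)
    (snd : P ⟶ Spec (CommRingCat.of D)), IsPullback fst snd f g →
    ∃ w' w : P, w' ⤳ w ∧ snd.base w' = (⟨⊥, Ideal.isPrime_bot⟩ : PrimeSpectrum D) ∧
      snd.base w = IsLocalRing.closedPoint D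

theorem hasDVRPairs_of_univSubmersive {X Y : Scheme.{u}} (f : X ⟶ Y)
    (hf : SGA1.UnivSubmersive f) : HasDVRPairs f := by
  intro D _ _ _ g P fst snd sq
  exact DVRQuot.exists_specializes_of_isQuotientMap snd (hf _ _ _ sq.flip)

/-- Stability under base change. -/
theorem HasDVRPairs.baseChange {X Y X' Y' : Scheme.{u}} {f : X ⟶ Y} (hf : HasDVRPairs f)
    {i₁ : X' ⟶ X} {f' : X' ⟶ Y'} {i₂ : Y' ⟶ Y} (sq : IsPullback i₁ f' f i₂) :
    HasDVRPairs f' := by
  intro D _ _ _ g P fst snd sq'
  exact hf D (g ≫ i₂) P (fst ≫ i₁) snd (sq'.paste_horiz sq)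

/-- Precomposition with a flat surjective morphism. -/
theorem HasDVRPairs.comp_of_flat_of_surjective {W U Y₀ : Scheme.{u}} {f₀ : U ⟶ Y₀}
    (hf : HasDVRPairs f₀) (π : W ⟶ U) [Flat π] [Surjective π] : HasDVRPairs (π ≫ f₀) := by
  intro D _ _ _ g PW fstW sndW sqW
  let ρ : PW ⟶ pullback f₀ g := pullback.lift (fstW ≫ π) sndW (by
    rw [Category.assoc]; exact sqW.w)
  have hρfst : ρ ≫ pullback.fst f₀ g = fstW ≫ π := pullback.lift_fst _ _ _
  have hρsnd : ρ ≫ pullback.snd f₀ g = sndW := pullback.lift_snd _ _ _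
  have sqL : IsPullback ρ fstW (pullback.fst f₀ g) π := by
    refine IsPullback.of_right ?_ hρfst (IsPullback.of_hasPullback f₀ g).flip
    rw [hρsnd]
    exact sqW.flip
  haveI : Flat ρ := MorphismProperty.of_isPullback (P := @Flat) sqL.flip inferInstance
  haveI : Surjective ρ := MorphismProperty.of_isPullback (P := @Surjective) sqL.flip inferInstance
  obtain ⟨w', w, hsp, hw', hw⟩ := hf D g (pullback f₀ g) (pullback.fst f₀ g) (pullback.snd f₀ g)
    (IsPullback.of_hasPullback f₀ g)
  obtain ⟨wt, hwt⟩ := ρ.surjective w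
  have hgen : GeneralizingMap ρ.base := Flat.generalizingMap ρ
  obtain ⟨wt', hwt', hwt'ρ⟩ := hgen (hwt ▸ hsp : w' ⤳ ρ.base wt)
  have hsnd : ∀ p : PW, sndW.base p = (pullback.snd f₀ g).base (ρ.base p) := by
    intro p
    rw [← Scheme.Hom.comp_apply, hρsnd]
  refine ⟨wt', wt, hwt', ?_, ?_⟩
  · rw [hsnd, hwt'ρ, hw']
  · rw [hsnd, hwt, hw]

/-- A morphism lifting ordered pairs along discrete valuation rings is surjective. -/
theorem HasDVRPairs.surjective {X Y : Scheme.{u}} {f : X ⟶ Y} (hf : HasDVRPairs f) :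
    Function.Surjective f.base := by
  intro y
  let κ := Y.residueField y
  let g : Spec (CommRingCat.of (PowerSeries κ)) ⟶ Y :=
    Spec.map (CommRingCat.ofHom (PowerSeries.C : κ →+* PowerSeries κ)) ≫
      Y.fromSpecResidueField y
  obtain ⟨w', w, -, -, -⟩ := hf (PowerSeries κ) g (pullback f g) (pullback.fst f g)
    (pullback.snd f g) (IsPullback.of_hasPullback f g)
  refine ⟨(pullback.fst f g).base w, ?_⟩
  rw [← Scheme.Hom.comp_apply, pullback.condition, Scheme.Hom.comp_apply]
  simp only [g, Scheme.Hom.comp_base, TopCat.comp_app]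
  exact Scheme.fromSpecResidueField_apply _ _

/-- Ring-level translation of `HasDVRPairs` for a morphism of affine schemes. -/
theorem exists_primes_of_hasDVRPairs {R₀ B : Type u} [CommRing R₀] [CommRing B] [Algebra R₀ B]
    (hf : HasDVRPairs (Spec.map (CommRingCat.ofHom (algebraMap R₀ B))))
    (D : Type u) [CommRing D] [IsDomain D] [IsDiscreteValuationRing D] [Algebra R₀ D] :
    ∃ Q' Q : Ideal (D ⊗[R₀] B), Q'.IsPrime ∧ Q.IsPrime ∧ Q' ≤ Q ∧
      Q'.comap (algebraMap D (D ⊗[R₀] B)) = ⊥ ∧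
      Q.comap (algebraMap D (D ⊗[R₀] B)) = IsLocalRing.maximalIdeal D := by
  have sq := (isPullback_SpecMap_of_isPushout _ _ _ _
    (CommRingCat.isPushout_tensorProduct R₀ D B)).flip
  obtain ⟨w', w, hsp, hw', hw⟩ := hf D _ _ _ _ sq
  refine ⟨w'.asIdeal, w.asIdeal, w'.isPrime, w.isPrime, ?_, ?_, ?_⟩
  · exact (PrimeSpectrum.le_iff_specializes w' w).mpr hsp
  · exact congrArg PrimeSpectrum.asIdeal hw'
  · exact congrArg PrimeSpectrum.asIdeal hw

open IsLocalRing in
/-- A specialization `t' ⤳ t` with `t' ≠ t` in a scheme is the image of the generic and closed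
points of the spectrum of a valuation ring which is not a field. -/
theorem exists_valuationRing_through {T : Scheme.{u}} {t' t : T} (h : t' ⤳ t) (hne : t' ≠ t) :
    ∃ (A : ValuationSubring (T.residueField t')) (j : Spec (CommRingCat.of A) ⟶ T),
      j.base (closedPoint A) = t ∧
      j.base (⟨⊥, Ideal.isPrime_bot⟩ : PrimeSpectrum A) = t' ∧
      ∃ v₀ ∈ maximalIdeal A, v₀ ≠ 0 := by
  let φc : T.presheaf.stalk t ⟶ T.residueField t' :=
    T.presheaf.stalkSpecializes h ≫ T.residue t'
  let φ : T.presheaf.stalk t →+* T.residueField t' := φc.hom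
  have hkey : Spec.map φc ≫ T.fromSpecStalk t = T.fromSpecResidueField t' := by
    simp only [φc, Spec.map_comp, Category.assoc]
    rw [Scheme.SpecMap_stalkSpecializes_fromSpecStalk]
    rfl
  have hφ : ∃ a ∈ maximalIdeal (T.presheaf.stalk t), φ a ≠ 0 := by
    by_contra hcon
    push Not at hcon
    have hloc : IsLocalHom φ := ⟨fun a ha => by
      by_contra hna
      have hm : a ∈ maximalIdeal (T.presheaf.stalk t) := hna
      rw [hcon a hm] at ha
      exact not_isUnit_zero ha⟩
    apply hne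
    have h1 := congrArg (fun f => f.base (closedPoint (T.residueField t'))) hkey
    simp only [Scheme.Hom.comp_base, TopCat.comp_app] at h1
    rw [Scheme.fromSpecResidueField_apply] at h1
    rw [← h1]
    have h2 : (Spec.map φc).base (closedPoint (T.residueField t')) =
        closedPoint (T.presheaf.stalk t) := comap_closedPoint φ
    rw [h2]
    exact Scheme.fromSpecStalk_closedPoint
  obtain ⟨A, hA, hAloc⟩ := exists_factor_valuationRing φ
  let ψ : T.presheaf.stalk t →+* A := φ.codRestrict A.toSubring hA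
  haveI : IsLocalHom ψ := hAloc
  refine ⟨A, Spec.map (CommRingCat.ofHom ψ) ≫ T.fromSpecStalk t, ?_, ?_, ?_⟩
  · simp only [Scheme.Hom.comp_base, TopCat.comp_app]
    have h2 : (Spec.map (CommRingCat.ofHom ψ)).base (closedPoint A) =
        closedPoint (T.presheaf.stalk t) := comap_closedPoint ψ
    rw [h2]
    exact Scheme.fromSpecStalk_closedPoint
  · let pt₀ : ↥(Spec (T.residueField t')) :=
      (⟨⊥, Ideal.isPrime_bot⟩ : PrimeSpectrum (T.residueField t'))
    have e1 : (Spec.map (CommRingCat.ofHom A.subtype)).base pt₀ =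
        (⟨⊥, Ideal.isPrime_bot⟩ : PrimeSpectrum A) := by
      apply PrimeSpectrum.ext
      change Ideal.comap A.subtype ⊥ = ⊥
      exact Ideal.comap_bot_of_injective _ Subtype.val_injective
    have h3 : CommRingCat.ofHom ψ ≫ CommRingCat.ofHom A.subtype = φc :=
      CommRingCat.hom_ext (RingHom.ext fun a => rfl)
    have h4 : Spec.map (CommRingCat.ofHom A.subtype) ≫
        (Spec.map (CommRingCat.ofHom ψ) ≫ T.fromSpecStalk t) = T.fromSpecResidueField t' := by
      rw [← Category.assoc, ← Spec.map_comp, h3]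
      exact hkey
    rw [← e1, ← Scheme.Hom.comp_apply, h4]
    exact Scheme.fromSpecResidueField_apply _ _
  · obtain ⟨a, ham, ha⟩ := hφ
    refine ⟨ψ a, ?_, ?_⟩
    · rw [mem_maximalIdeal, mem_nonunits_iff]
      intro hu
      exact ham (isUnit_of_map_unit ψ a hu)
    · intro h0
      exact ha (congrArg Subtype.val h0)

open IsLocalRing in
/-- **Main step.** Over a locally Noetherian base, a quasi-compact morphism lifting ordered pairs
along discrete valuation rings lifts the ordered pair (generic point, closed point) along every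
local domain which is not a field. -/
theorem exists_pair_of_hasDVRPairs {X Y : Scheme.{u}} [IsLocallyNoetherian Y] (f : X ⟶ Y)
    [QuasiCompact f] (hf : HasDVRPairs f)
    (V : Type u) [CommRing V] [IsDomain V] [IsLocalRing V]
    (hV : ∃ v₀ ∈ maximalIdeal V, v₀ ≠ 0) (j : Spec (CommRingCat.of V) ⟶ Y) :
    ∃ (P : Scheme.{u}) (a : P ⟶ X) (b : P ⟶ Spec (CommRingCat.of V)), a ≫ f = b ≫ j ∧
      ∃ w' w : P, w' ⤳ w ∧ b.base w' = (⟨⊥, Ideal.isPrime_bot⟩ : PrimeSpectrum V) ∧
        b.base w = closedPoint V := by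
  classical
  let y : Y := j.base (closedPoint V)
  have hι' : IsOpenImmersion (Y.affineCover.f (Y.affineCover.idx y)) := inferInstance
  obtain ⟨R₀, ι, hι, hy⟩ : ∃ (R₀ : CommRingCat.{u}) (ι : Spec R₀ ⟶ Y),
      IsOpenImmersion ι ∧ y ∈ Set.range ι.base :=
    ⟨_, Y.affineCover.f (Y.affineCover.idx y), hι', Y.affineCover.covers y⟩
  haveI := hι
  haveI : IsLocallyNoetherian (Spec R₀) := isLocallyNoetherian_of_isOpenImmersion ι
  haveI : IsNoetherian (Spec R₀) := { }
  haveI : IsNoetherianRing R₀ := isNoetherian_Spec.mp inferInstance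
  have hrange : Set.range j.base ⊆ Set.range ι.base := by
    rintro _ ⟨s, rfl⟩
    have hs : j.base s ⤳ y := (specializes_closedPoint s).map j.continuous
    exact hs.mem_open ι.isOpenEmbedding.isOpen_range hy
  let j₀ : Spec (CommRingCat.of V) ⟶ Spec R₀ := IsOpenImmersion.lift ι j hrange
  have hj₀ : j₀ ≫ ι = j := IsOpenImmersion.lift_fac ι j hrange
  let ψ : R₀ ⟶ CommRingCat.of V := Spec.preimage j₀
  have hψ : Spec.map ψ = j₀ := Spec.map_preimage j₀
  -- the base change to the affine open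
  let f₀ : pullback f ι ⟶ Spec R₀ := pullback.snd f ι
  have hf₀ : HasDVRPairs f₀ := hf.baseChange (IsPullback.of_hasPullback f ι)
  haveI : CompactSpace ↥(pullback f ι) := QuasiCompact.compactSpace_of_compactSpace f₀
  let 𝒱 := (pullback f ι).affineCover.finiteSubcover
  haveI : Finite 𝒱.I₀ := by dsimp [𝒱]; infer_instance
  haveI : ∀ i, IsAffine (𝒱.X i) := by intro i; dsimp [𝒱]; infer_instance
  let W : Scheme.{u} := ∐ 𝒱.X
  let πW : W ⟶ pullback f ι := Sigma.desc 𝒱.f
  haveI : Surjective πW := by dsimp [πW]; infer_instance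
  haveI : Flat πW := by dsimp [πW]; infer_instance
  let Bc : CommRingCat.{u} := Γ(W, ⊤)
  let π : Spec Bc ⟶ pullback f ι := W.isoSpec.inv ≫ πW
  haveI : Surjective π := by dsimp [π]; infer_instance
  haveI : Flat π := by dsimp [π]; infer_instance
  have hπ : HasDVRPairs (π ≫ f₀) := hf₀.comp_of_flat_of_surjective π
  let φ : R₀ ⟶ Bc := Spec.preimage (π ≫ f₀)
  have hφ : Spec.map φ = π ≫ f₀ := Spec.map_preimage _
  letI : Algebra R₀ Bc := φ.hom.toAlgebra
  letI : Algebra R₀ V := ψ.hom.toAlgebra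
  have hφ' : Spec.map (CommRingCat.ofHom (algebraMap R₀ Bc)) = π ≫ f₀ := hφ
  have hψ' : Spec.map (CommRingCat.ofHom (algebraMap R₀ V)) = j₀ := hψ
  rw [← hφ'] at hπ
  obtain ⟨Q', Q, hQ'p, hQp, hle, hQ'bot, hQm⟩ :=
    exists_primes_tensor (R₀ := R₀) (B := Bc) (V := V) hV
      (fun D _ _ _ _ => exists_primes_of_hasDVRPairs hπ D)
  have sq := isPullback_SpecMap_of_isPushout _ _ _ _
    (CommRingCat.isPushout_tensorProduct R₀ V Bc)
  refine ⟨Spec (CommRingCat.of (V ⊗[R₀] Bc)),
    Spec.map (CommRingCat.ofHom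
      (Algebra.TensorProduct.includeRight.toRingHom : Bc →+* V ⊗[R₀] Bc)) ≫ π ≫
      pullback.fst f ι,
    Spec.map (CommRingCat.ofHom
      (Algebra.TensorProduct.includeLeftRingHom : V →+* V ⊗[R₀] Bc)), ?_, ?_⟩
  · have hw := sq.w
    rw [hφ', hψ'] at hw
    calc (Spec.map (CommRingCat.ofHom
          (Algebra.TensorProduct.includeRight.toRingHom : Bc →+* V ⊗[R₀] Bc)) ≫ π ≫
          pullback.fst f ι) ≫ f
        = Spec.map (CommRingCat.ofHom
          (Algebra.TensorProduct.includeRight.toRingHom : Bc →+* V ⊗[R₀] Bc)) ≫ π ≫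
          (pullback.fst f ι ≫ f) := by simp only [Category.assoc]
      _ = Spec.map (CommRingCat.ofHom
          (Algebra.TensorProduct.includeRight.toRingHom : Bc →+* V ⊗[R₀] Bc)) ≫ π ≫
          (f₀ ≫ ι) := by rw [pullback.condition]
      _ = (Spec.map (CommRingCat.ofHom
          (Algebra.TensorProduct.includeRight.toRingHom : Bc →+* V ⊗[R₀] Bc)) ≫ π ≫ f₀) ≫ ι := by
          simp only [Category.assoc]
      _ = (Spec.map (CommRingCat.ofHom
          (Algebra.TensorProduct.includeLeftRingHom : V →+* V ⊗[R₀] Bc)) ≫ j₀) ≫ ι := by rw [hw]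
      _ = _ := by rw [Category.assoc, hj₀]
  · refine ⟨⟨Q', hQ'p⟩, ⟨Q, hQp⟩, ?_, ?_, ?_⟩
    · exact (PrimeSpectrum.le_iff_specializes (⟨Q', hQ'p⟩ : PrimeSpectrum (V ⊗[R₀] Bc))
        ⟨Q, hQp⟩).mp hle
    · exact PrimeSpectrum.ext hQ'bot
    · exact PrimeSpectrum.ext hQm

/-- **Theorem C.** Over a locally Noetherian base, a quasi-compact morphism lifting ordered pairs
along discrete valuation rings is universally S-subtrusive. -/
theorem univSSubtrusive_of_hasDVRPairs {X Y : Scheme.{u}} [IsLocallyNoetherian Y] (f : X ⟶ Y)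
    [QuasiCompact f] (hf : HasDVRPairs f) : Subtr.UnivSSubtrusive f := by
  intro X' T i₁ i₂ f' sq t t' h
  by_cases hne : t' = t
  · subst hne
    obtain ⟨x, hx⟩ := (hf.baseChange sq.flip).surjective t'
    exact ⟨x, x, specializes_rfl, hx, hx⟩
  · obtain ⟨A, jT, hcl, hgen, hv₀⟩ := exists_valuationRing_through h hne
    obtain ⟨P, a, b, hab, w', w, hsp, hw', hw⟩ :=
      exists_pair_of_hasDVRPairs f hf A hv₀ (jT ≫ i₂)
    let l : P ⟶ X' := sq.lift (b ≫ jT) a (by rw [Category.assoc, ← hab])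
    have hl : l ≫ f' = b ≫ jT := sq.lift_fst _ _ _
    have hpt : ∀ p : P, f'.base (l.base p) = jT.base (b.base p) := by
      intro p
      rw [← Scheme.Hom.comp_apply, hl, Scheme.Hom.comp_apply]
    refine ⟨l.base w, l.base w', hsp.map l.continuous, ?_, ?_⟩
    · exact (hpt w).trans ((congrArg jT.base hw).trans hcl)
    · exact (hpt w').trans ((congrArg jT.base hw').trans hgen)

/-- For a quasi-compact morphism, a point in the closure of the image of a closed set is a
specialization of a point of the image. -/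
theorem exists_specializes_of_mem_closure_image {X Y : Scheme.{u}} (f : X ⟶ Y) [QuasiCompact f]
    {Z : Set X} (hZ : IsClosed Z) {y : Y} (hy : y ∈ closure (f.base '' Z)) :
    ∃ z ∈ Z, f.base z ⤳ y := by
  have hι' : IsOpenImmersion (Y.affineCover.f (Y.affineCover.idx y)) := inferInstance
  obtain ⟨R, ι, hι, hyι⟩ : ∃ (R : CommRingCat.{u}) (ι : Spec R ⟶ Y),
      IsOpenImmersion ι ∧ y ∈ Set.range ι.base :=
    ⟨_, Y.affineCover.f (Y.affineCover.idx y), hι', Y.affineCover.covers y⟩
  haveI := hι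
  obtain ⟨y₀, rfl⟩ := hyι
  haveI : CompactSpace ↥(pullback f ι) :=
    QuasiCompact.compactSpace_of_compactSpace (pullback.snd f ι)
  obtain ⟨B, g, hg⟩ := compactSpace_iff_exists.mp (inferInstance : CompactSpace ↥(pullback f ι))
  let k : Spec B ⟶ Spec R := g ≫ pullback.snd f ι
  let gX : Spec B ⟶ X := g ≫ pullback.fst f ι
  let φ : R ⟶ B := Spec.preimage k
  have hφ : Spec.map φ = k := Spec.map_preimage k
  have hcomm : ∀ b : Spec B, ι.base (k.base b) = f.base (gX.base b) := by
    intro b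
    simp only [k, gX]
    rw [← Scheme.Hom.comp_apply, ← Scheme.Hom.comp_apply, Category.assoc, Category.assoc,
      pullback.condition]
  let Z' : Set (Spec B) := gX.base ⁻¹' Z
  have hZ' : IsClosed Z' := hZ.preimage gX.continuous
  have himg : f.base '' Z ∩ Set.range ι.base = ι.base '' (k.base '' Z') := by
    ext p
    constructor
    · rintro ⟨⟨z, hz, rfl⟩, ⟨r, hr⟩⟩
      obtain ⟨u, hu1, hu2⟩ := Scheme.Pullback.exists_preimage_pullback (f := f) (g := ι) z r hr.symm
      obtain ⟨b, rfl⟩ := hg u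
      refine ⟨r, ⟨b, ?_, hu2⟩, hr⟩
      change gX.base b ∈ Z
      have : gX.base b = z := hu1
      rw [this]
      exact hz
    · rintro ⟨_, ⟨b, hb, rfl⟩, rfl⟩
      exact ⟨⟨gX.base b, hb, (hcomm b).symm⟩, ⟨_, rfl⟩⟩
  have hy1 : ι.base y₀ ∈ closure (f.base '' Z ∩ Set.range ι.base) := by
    rw [mem_closure_iff]
    intro o ho hyo
    obtain ⟨p, hp1, hp2⟩ := mem_closure_iff.mp hy (o ∩ Set.range ι.base)
      (ho.inter ι.isOpenEmbedding.isOpen_range) ⟨hyo, ⟨y₀, rfl⟩⟩
    exact ⟨p, hp1.1, hp2, hp1.2⟩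
  rw [himg] at hy1
  have hy2 : y₀ ∈ closure (k.base '' Z') := by
    rw [ι.isOpenEmbedding.isInducing.closure_eq_preimage_closure_image]
    exact hy1
  obtain ⟨I, hI⟩ := (PrimeSpectrum.isClosed_iff_zeroLocus_ideal Z').mp hZ'
  have hk : ∀ b : Spec B, k.base b = PrimeSpectrum.comap φ.hom b := by
    intro b
    rw [← hφ]
    rfl
  have hy3 : (y₀ : PrimeSpectrum R) ∈ PrimeSpectrum.zeroLocus (I.comap φ.hom : Set R) := by
    rw [← PrimeSpectrum.closure_image_comap_zeroLocus, ← hI]
    have : k.base '' Z' = PrimeSpectrum.comap φ.hom '' Z' := by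
      ext p
      simp only [Set.mem_image, hk]
      exact Iff.rfl
    rw [← this]
    exact hy2
  have hle : I.comap φ.hom ≤ (y₀ : PrimeSpectrum R).asIdeal := by
    intro r hr
    exact hy3 hr
  obtain ⟨Q, hIQ, hQ, hQle⟩ := Ideal.exists_ideal_comap_le_prime (y₀ : PrimeSpectrum R).asIdeal I hle
  let q : Spec B := (⟨Q, hQ⟩ : PrimeSpectrum B)
  have hqZ' : q ∈ Z' := by
    rw [hI]
    exact hIQ
  refine ⟨gX.base q, hqZ', ?_⟩
  rw [← hcomm q]
  apply Specializes.map _ ι.continuous
  rw [hk q]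
  exact (PrimeSpectrum.le_iff_specializes (PrimeSpectrum.comap φ.hom q) y₀).mp hQle

/-- A quasi-compact S-subtrusive morphism is a topological quotient map. -/
theorem isQuotientMap_of_isSSubtrusive {P T : Scheme.{u}} (g : P ⟶ T) [QuasiCompact g]
    (hg : Subtr.IsSSubtrusive g) : Topology.IsQuotientMap g.base := by
  have hsurj : Function.Surjective g.base := fun t => by
    obtain ⟨x, x', -, hx, -⟩ := hg (specializes_rfl : t ⤳ t)
    exact ⟨x, hx⟩
  rw [Topology.isQuotientMap_iff_isClosed]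
  refine ⟨hsurj, fun s => ⟨fun hs => hs.preimage g.continuous, fun hs => ?_⟩⟩
  rw [← closure_subset_iff_isClosed]
  intro y hy
  rw [← Set.image_preimage_eq s hsurj] at hy
  obtain ⟨z, hz, hzy⟩ := exists_specializes_of_mem_closure_image g hs hy
  obtain ⟨x, x', hxx', hx, hx'⟩ := hg hzy
  have hx's : x' ∈ g.base ⁻¹' s := by
    change g.base x' ∈ s
    have : g.base x' = g.base z := hx'
    rw [this]
    exact hz
  have hxs : x ∈ g.base ⁻¹' s := hxx'.mem_closed hs hx's
  have : g.base x = y := hx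
  rw [← this]
  exact hxs

/-- A quasi-compact universally S-subtrusive morphism is universally submersive. -/
theorem univSubmersive_of_univSSubtrusive {X Y : Scheme.{u}} (f : X ⟶ Y) [QuasiCompact f]
    (hf : Subtr.UnivSSubtrusive f) : SGA1.UnivSubmersive f := by
  intro X' Y' i₁ i₂ f' sq
  haveI : QuasiCompact f' := MorphismProperty.of_isPullback (P := @QuasiCompact) sq.flip
    inferInstance
  exact isQuotientMap_of_isSSubtrusive f' (hf _ _ _ sq)

/-- **Universally submersive ⇔ universally S-subtrusive** for quasi-compact morphisms to a locally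
Noetherian scheme. -/
theorem univSubmersive_iff_univSSubtrusive {X Y : Scheme.{u}} [IsLocallyNoetherian Y] (f : X ⟶ Y)
    [QuasiCompact f] : SGA1.UnivSubmersive f ↔ Subtr.UnivSSubtrusive f :=
  ⟨fun h => univSSubtrusive_of_hasDVRPairs f (hasDVRPairs_of_univSubmersive f h),
    univSubmersive_of_univSSubtrusive f⟩

end Groth.Agent.H69.Subtr
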