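import Groth.Agent.H59.LefConn.Defs
import Groth.Agent.H8.UnitHom
import Groth.Agent.H68.ClopenIdem
import Groth.Agent.H63.Pi0Conn

/-!
# (T1) for S2946: `T` is connected if the support of `𝓙` is and `Γ(T, O) → lim Γ(Y_n, O)` is injective
-/

set_option autoImplicit false
set_option linter.style.haveILetI false
universe u
open CategoryTheory CategoryTheory.Limits AlgebraicGeometry
open Groth.Agent.H59.LefConn

namespace Groth.Agent.H69.LefConn_T1

variable {T : Scheme.{u}} (𝓙 : T.IdealSheafData)

theorem range_ι (n : ℕ) :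
    Set.range (𝓙 ^ (n + 1)).subschemeι = (𝓙.support : Set T) := by
  rw [Scheme.IdealSheafData.range_subschemeι]
  rfl

theorem connectedSpace_of_support (hinj : SecInj 𝓙)
    (hY : ConnectedSpace (𝓙.support : Set T)) : ConnectedSpace T := by
  classical
  rw [connectedSpace_iff_clopen]
  constructor
  · obtain ⟨y⟩ := hY.toNonempty
    exact ⟨y.1⟩
  · intro W hW
    obtain ⟨e, he, hbe⟩ := Groth.Agent.H68.ClopenIdem.exists_idempotent_of_isClopen W hW
    have hWY : IsClopen ((Subtype.val : {x // x ∈ (𝓙.support : Set T)} → T) ⁻¹' W) :=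
      hW.preimage continuous_subtype_val
    have hmem : ∀ (n : ℕ) (x : ↥(𝓙 ^ (n + 1)).subscheme),
        (𝓙 ^ (n + 1)).subschemeι x ∈ (𝓙.support : Set T) := by
      intro n x
      rw [← range_ι 𝓙 n]
      exact ⟨x, rfl⟩
    have hb : ∀ n : ℕ, ((𝓙 ^ (n + 1)).subscheme.basicOpen
        ((𝓙 ^ (n + 1)).subschemeι.appTop.hom e) : Set _) =
        (𝓙 ^ (n + 1)).subschemeι ⁻¹' W := by
      intro n
      have h1 := Scheme.preimage_basicOpen_top (𝓙 ^ (n + 1)).subschemeι e
      rw [← hbe]
      exact congrArg (fun U : TopologicalSpace.Opens ↥(𝓙 ^ (n + 1)).subscheme =>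
        (U : Set ↥(𝓙 ^ (n + 1)).subscheme)) h1.symm
    have hid : ∀ n : ℕ, IsIdempotentElem ((𝓙 ^ (n + 1)).subschemeι.appTop.hom e) :=
      fun n => he.map _
    rcases isClopen_iff.mp hWY with h0 | h1
    · left
      have he0 : e = 0 := by
        refine hinj e 0 fun n => ?_
        rw [map_zero]
        refine Groth.Agent.H68.ClopenIdem.eq_of_basicOpen_eq (hid n) IsIdempotentElem.zero ?_
        apply TopologicalSpace.Opens.ext
        rw [hb n, Scheme.basicOpen_zero]
        ext x
        simp only [Set.mem_preimage, TopologicalSpace.Opens.coe_bot, Set.mem_empty_iff_false,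
          iff_false]
        intro hx
        have : (⟨_, hmem n x⟩ : {x // x ∈ (𝓙.support : Set T)}) ∈
            (Subtype.val : {x // x ∈ (𝓙.support : Set T)} → T) ⁻¹' W := hx
        rw [h0] at this
        exact this
      rw [← hbe, he0, Scheme.basicOpen_zero]
      rfl
    · right
      have he1 : e = 1 := by
        refine hinj e 1 fun n => ?_
        rw [map_one]
        refine Groth.Agent.H68.ClopenIdem.eq_of_basicOpen_eq (hid n) IsIdempotentElem.one ?_
        apply TopologicalSpace.Opens.ext
        rw [hb n, Scheme.basicOpen_one]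
        ext x
        simp only [Set.mem_preimage, TopologicalSpace.Opens.coe_top, Set.mem_univ, iff_true]
        have : (⟨_, hmem n x⟩ : {x // x ∈ (𝓙.support : Set T)}) ∈
            (Subtype.val : {x // x ∈ (𝓙.support : Set T)} → T) ⁻¹' W := by
          rw [h1]
          trivial
        exact this
      rw [← hbe, he1, Scheme.basicOpen_one]
      rfl

end Groth.Agent.H69.LefConn_T1
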