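import Groth.Agent.H59.LefConn.Defs
import Groth.Agent.H8.UnitHom
import Groth.Agent.H68.ClopenIdem
import Groth.Agent.H63.Pi0Conn

/-!
# (T2) for S2946: the support of `𝓙` is connected if `T` is and `Γ(T, O) → lim Γ(Y_n, O)` is bijective
-/

set_option autoImplicit false
set_option linter.style.haveILetI false
universe u
open CategoryTheory CategoryTheory.Limits AlgebraicGeometry
open Groth.Agent.H59.LefConn

namespace Groth.Agent.H69.LefConn_T2

variable {T : Scheme.{u}} (𝓙 : T.IdealSheafData)

theorem range_ι (n : ℕ) :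
    Set.range (𝓙 ^ (n + 1)).subschemeι = (𝓙.support : Set T) := by
  rw [Scheme.IdealSheafData.range_subschemeι]
  rfl

theorem connectedSpace_support (hinj : SecInj 𝓙) (hsurj : SecSurj 𝓙) (hT : ConnectedSpace T) :
    ConnectedSpace (𝓙.support : Set T) := by
  classical
  rw [connectedSpace_iff_clopen]
  constructor
  · -- nonempty
    by_contra hne
    rw [not_nonempty_iff] at hne
    have hemp : ∀ n : ℕ, IsEmpty ↥(𝓙 ^ (n + 1)).subscheme := by
      intro n
      refine ⟨fun x => hne.false ⟨(𝓙 ^ (n + 1)).subschemeι x, ?_⟩⟩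
      rw [← range_ι 𝓙 n]
      exact ⟨x, rfl⟩
    have h01 : (0 : Γ(T, ⊤)) = 1 := by
      refine hinj 0 1 fun n => ?_
      haveI := hemp n
      exact Subsingleton.elim _ _
    haveI : Nonempty T := hT.toNonempty
    haveI : Nonempty (⊤ : T.Opens) := ⟨⟨Classical.arbitrary T, trivial⟩⟩
    haveI : Nontrivial Γ(T, ⊤) := inferInstance
    exact zero_ne_one h01
  · intro A hA
    have hYcl : IsClosed (𝓙.support : Set T) := 𝓙.support.isClosed
    have hemb : Topology.IsClosedEmbedding (Subtype.val : {x // x ∈ (𝓙.support : Set T)} → T) :=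
      hYcl.isClosedEmbedding_subtypeVal
    have hA' : IsClosed (Subtype.val '' A : Set T) := hemb.isClosedMap _ hA.1
    have hB' : IsClosed (Subtype.val '' Aᶜ : Set T) := hemb.isClosedMap _ hA.2.isClosed_compl
    -- the clopen subsets `A_n`
    have hAn : ∀ n : ℕ, IsClopen ((𝓙 ^ (n + 1)).subschemeι ⁻¹' (Subtype.val '' A)) := by
      intro n
      refine ⟨hA'.preimage (𝓙 ^ (n + 1)).subschemeι.continuous, ?_⟩
      have : ((𝓙 ^ (n + 1)).subschemeι ⁻¹' (Subtype.val '' A)) =
          ((𝓙 ^ (n + 1)).subschemeι ⁻¹' (Subtype.val '' Aᶜ))ᶜ := by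
        ext x
        simp only [Set.mem_preimage, Set.mem_image, Set.mem_compl_iff]
        constructor
        · rintro ⟨y, hy, hyx⟩ ⟨z, hz, hzx⟩
          have : y = z := Subtype.ext (hyx.trans hzx.symm)
          exact hz (this ▸ hy)
        · intro h
          have hx : (𝓙 ^ (n + 1)).subschemeι x ∈ (𝓙.support : Set T) := by
            rw [← range_ι 𝓙 n]
            exact ⟨x, rfl⟩
          by_cases hy : (⟨_, hx⟩ : (𝓙.support : Set T)) ∈ A
          · exact ⟨⟨_, hx⟩, hy, rfl⟩
          · exact (h ⟨⟨_, hx⟩, hy, rfl⟩).elim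
      rw [this]
      exact (hB'.preimage (𝓙 ^ (n + 1)).subschemeι.continuous).isOpen_compl
    choose e he hbe using fun n : ℕ =>
      Groth.Agent.H68.ClopenIdem.exists_idempotent_of_isClopen _ (hAn n)
    -- compatibility
    have hcompat : ∀ n : ℕ,
        (Scheme.IdealSheafData.inclusion (Lef.pow_succ_le 𝓙 n)).appTop.hom (e (n + 1)) = e n := by
      intro n
      refine Groth.Agent.H68.ClopenIdem.eq_of_basicOpen_eq
        ((he (n + 1)).map (Scheme.IdealSheafData.inclusion (Lef.pow_succ_le 𝓙 n)).appTop.hom)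
        (he n) ?_
      have h1 := Scheme.preimage_basicOpen_top
        (Scheme.IdealSheafData.inclusion (Lef.pow_succ_le 𝓙 n)) (e (n + 1))
      refine h1.symm.trans ?_
      apply TopologicalSpace.Opens.ext
      rw [hbe n]
      show (Scheme.IdealSheafData.inclusion (Lef.pow_succ_le 𝓙 n)) ⁻¹'
        ((𝓙 ^ (n + 1 + 1)).subscheme.basicOpen (e (n + 1)) : Set _) = _
      rw [hbe (n + 1)]
      have hi := Scheme.IdealSheafData.inclusion_subschemeι (Lef.pow_succ_le 𝓙 n)
      ext x
      simp only [Set.mem_preimage]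
      have hx : (𝓙 ^ (n + 1 + 1)).subschemeι
          ((Scheme.IdealSheafData.inclusion (Lef.pow_succ_le 𝓙 n)) x) =
          (𝓙 ^ (n + 1)).subschemeι x := by
        rw [← hi]
        rfl
      rw [hx]
    obtain ⟨a, ha⟩ := hsurj e hcompat
    have haid : IsIdempotentElem a := by
      refine hinj (a * a) a fun n => ?_
      rw [map_mul, ha n, (he n).eq]
    have hA0 : ∀ y : (𝓙.support : Set T), ∃ x : ↥(𝓙 ^ (0 + 1)).subscheme,
        (𝓙 ^ (0 + 1)).subschemeι x = y.1 := by
      intro y
      have : y.1 ∈ Set.range (𝓙 ^ (0 + 1)).subschemeι := by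
        rw [range_ι 𝓙 0]
        exact y.2
      exact this
    rcases Groth.Agent.H63.Pi0.idem_trivial T a haid with h0 | h1
    · left
      have he0 : e 0 = 0 := by rw [← ha 0, h0, map_zero]
      have hb0 := hbe 0
      rw [he0, Scheme.basicOpen_zero] at hb0
      ext y
      simp only [Set.mem_empty_iff_false, iff_false]
      intro hy
      obtain ⟨x, hx⟩ := hA0 y
      have : x ∈ ((𝓙 ^ (0 + 1)).subschemeι ⁻¹' (Subtype.val '' A)) := ⟨y, hy, hx.symm⟩
      rw [← hb0] at this
      exact this
    · right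
      have he1 : e 0 = 1 := by rw [← ha 0, h1, map_one]
      have hb0 := hbe 0
      rw [he1, Scheme.basicOpen_one] at hb0
      ext y
      simp only [Set.mem_univ, iff_true]
      obtain ⟨x, hx⟩ := hA0 y
      have : x ∈ ((𝓙 ^ (0 + 1)).subschemeι ⁻¹' (Subtype.val '' A)) := by
        rw [← hb0]
        trivial
      obtain ⟨z, hz, hzx⟩ := this
      have : z = y := Subtype.ext (hzx.trans hx)
      exact this ▸ hz

end Groth.Agent.H69.LefConn_T2
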