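import Groth.Agent.H69.ChevScheme
import Groth.Agent.H9.Equidim

/-! Chevalley's criterion for universal openness over a locally Noetherian geometrically unibranch
base: equidimensional morphisms are universally open. -/

set_option autoImplicit false
set_option linter.style.haveILetI false
set_option linter.unusedSectionVars false
open AlgebraicGeometry CategoryTheory Limits

universe u

namespace Groth.Agent.H69.Chev

open Groth.Agent.H69.GeomUnibranch Groth.Agent.H9.FibDim Groth.Agent.H54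
  Groth.Agent.H9.FibreFormula Groth.Agent.H9.Equidim

/-- Unpacking equidimensionality at a point: constant local fibre dimension near `x`, and maximal
points near `x` map to maximal points. -/
theorem exists_of_isEquidimAt' {X Y : Scheme.{u}} (f : X ⟶ Y)
    [LocallyOfFiniteType f] (x : X) (hf : EGA43.IsEquidimAt f x) :
    ∃ (e₀ : ℕ) (U : X.Opens), x ∈ U ∧
      (∀ x₁ : X, x₁ ∈ U → FlatMor.fibreDimAt f x₁ = (e₀ : WithBot ℕ∞)) ∧
      (∀ ξ : X, ξ ∈ U → (∀ t : X, t ⤳ ξ → t = ξ) → IsMaxPt (f.base ξ)) := by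
  obtain ⟨e₀, U, hxU, h1, h2⟩ := hf
  refine ⟨e₀, U, hxU, ?_, ?_⟩
  · intro x₁ hx₁
    have h3 := fibreDimAt_comp_of_isOpenImmersion U.ι f ⟨x₁, hx₁⟩
    have h4 : U.ι.base ⟨x₁, hx₁⟩ = x₁ := rfl
    rw [h4] at h3
    rw [← h3]
    exact localDim_eq_of_components (fiberQ (U.ι ≫ f) _) e₀ (h2 ⟨x₁, hx₁⟩) _
  · intro ξ hξU hξmax
    have hmaxU : ∀ t : (↥U : Type u), t ⤳ (⟨ξ, hξU⟩ : (↥U : Type u)) → t = ⟨ξ, hξU⟩ := by
      intro t ht
      have h3 : U.ι.base t ⤳ U.ι.base ⟨ξ, hξU⟩ := ht.map U.ι.continuous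
      have h4 : U.ι.base t = ξ := hξmax _ h3
      exact U.ι.isOpenEmbedding.injective h4
    haveI : QuasiSober (↥U : Type u) := inferInstanceAs (QuasiSober (U : Scheme.{u}))
    have hZ := closure_mem_irreducibleComponents_of_forall hmaxU
    obtain ⟨W, hW, -, hcl⟩ := h1 _ hZ
    have hsub : (U.ι ≫ f).base '' closure ({(⟨ξ, hξU⟩ : (↥U : Type u))} : Set (↥U : Type u)) ⊆
        closure ({f.base ξ} : Set Y) := by
      rintro _ ⟨t, ht, rfl⟩
      have h3 : (⟨ξ, hξU⟩ : (↥U : Type u)) ⤳ t := specializes_iff_mem_closure.mpr ht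
      exact (h3.map (U.ι ≫ f).continuous).mem_closure
    have h5 : W ⊆ closure ({f.base ξ} : Set Y) := by
      rw [← hcl]
      exact closure_minimal hsub isClosed_closure
    have h6 : closure ({f.base ξ} : Set Y) ⊆ W := by
      rw [← hcl]
      apply closure_mono
      rw [Set.singleton_subset_iff]
      exact ⟨⟨ξ, hξU⟩, subset_closure rfl, rfl⟩
    have h7 : IsGenericPoint (f.base ξ) W := by
      rw [isGenericPoint_def]
      exact le_antisymm h6 h5
    exact isMaxPt_of_isGenericPoint hW h7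


/-- Chevalley's criterion for universal openness over a locally Noetherian base. -/
theorem universallyOpen_of_isEquidimAt {X Y : Scheme.{u}} [IsLocallyNoetherian Y]
    (hY : ∀ y : Y, CAlg2.IsGeomUnibranch (Y.presheaf.stalk y)) (f : X ⟶ Y)
    [LocallyOfFiniteType f] (h : ∀ x : X, EGA43.IsEquidimAt f x) : UniversallyOpen f := by
  suffices H : ∀ x : X, ∃ U : X.Opens, x ∈ U ∧ UniversallyOpen (U.ι ≫ f) by
    choose U hx hU using H
    refine IsZariskiLocalAtSource.of_iSup_eq_top (P := @UniversallyOpen) U ?_ hU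
    rw [eq_top_iff]
    rintro x -
    exact TopologicalSpace.Opens.mem_iSup.mpr ⟨x, hx x⟩
  intro x
  obtain ⟨e, U₀, hxU₀, hdimU₀, hmaxU₀⟩ := exists_of_isEquidimAt' f x (h x)
  obtain ⟨V, hV, hxV, -⟩ :=
    exists_isAffineOpen_mem_and_subset (X := Y) (x := f.base x) (U := ⊤) trivial
  obtain ⟨U, hU, hxU, hUV'⟩ :=
    exists_isAffineOpen_mem_and_subset (X := X) (x := x) (U := U₀ ⊓ f ⁻¹ᵁ V) ⟨hxU₀, hxV⟩
  have hUU₀ : U ≤ U₀ := hUV'.trans inf_le_left
  have hUV : U ≤ f ⁻¹ᵁ V := hUV'.trans inf_le_right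
  letI algRS : Algebra Γ(Y, V) Γ(X, U) := (f.appLE V U hUV).hom.toAlgebra
  haveI : Algebra.FiniteType Γ(Y, V) Γ(X, U) := f.finiteType_appLE hV hU hUV
  haveI hRnoeth : IsNoetherianRing Γ(Y, V) := IsLocallyNoetherian.component_noetherian ⟨V, hV⟩
  obtain ⟨q, rfl⟩ : x ∈ Set.range hU.fromSpec.base := by rw [hU.range_fromSpec]; exact hxU
  have hmemU : ∀ q₁ : Spec Γ(X, U), hU.fromSpec.base q₁ ∈ U := by
    intro q₁
    have := Set.mem_range_self (f := hU.fromSpec.base) q₁
    rw [hU.range_fromSpec] at this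
    exact this
  have htfd : ∀ q₁ : Spec Γ(X, U),
      tfd (PrimeSpectrum.comap (algebraMap Γ(Y, V) Γ(X, U))) q₁ = (e : WithBot ℕ∞) := by
    intro q₁
    have := fibreDimAt_fromSpec f hU hV hUV q₁
    rw [hdimU₀ _ (hUU₀ (hmemU q₁))] at this
    exact this.symm
  obtain ⟨Q, hQ⟩ := exists_fiber_prime (q.asIdeal.under Γ(Y, V)) q.asIdeal
  have hQdim : FlatMor.localDim (PrimeSpectrum ((q.asIdeal.under Γ(Y, V)).Fiber Γ(X, U))) Q =
      (e : WithBot ℕ∞) := by
    rw [localDim_fiber_eq_tfd _ q rfl Q hQ]; exact htfd q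
  obtain ⟨g, hgq, φ, hφft, hφqf⟩ := Groth.Agent.S9175.result Γ(Y, V) Γ(X, U)
    (q.asIdeal.under Γ(Y, V)) q.asIdeal Q hQ e hQdim
  -- the open piece `W = Spec S_g`
  let j : Spec (.of (Localization.Away g)) ⟶ X :=
    Spec.map (CommRingCat.ofHom (algebraMap Γ(X, U) (Localization.Away g))) ≫ hU.fromSpec
  haveI : IsOpenImmersion hU.fromSpec := hU.isOpenImmersion_fromSpec
  haveI : IsOpenImmersion hV.fromSpec := hV.isOpenImmersion_fromSpec
  haveI hjo : IsOpenImmersion j := inferInstance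
  obtain ⟨q', hq'⟩ : ∃ q' : PrimeSpectrum (Localization.Away g),
      PrimeSpectrum.comap (algebraMap Γ(X, U) (Localization.Away g)) q' = q := by
    have hrange := PrimeSpectrum.localization_away_comap_range (Localization.Away g) g
    have : q ∈ Set.range (PrimeSpectrum.comap (algebraMap Γ(X, U) (Localization.Away g))) := by
      rw [hrange]; exact hgq
    exact this
  have hjq' : j.base q' = hU.fromSpec.base q := by
    show hU.fromSpec.base ((Spec.map (CommRingCat.ofHom
      (algebraMap Γ(X, U) (Localization.Away g)))).base q') = _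
    rw [← hq']
    rfl
  have hjU₀ : ∀ w : ↥(Spec (.of (Localization.Away g))), j.base w ∈ U₀ := by
    intro w
    exact hUU₀ (hmemU ((Spec.map (CommRingCat.ofHom
      (algebraMap Γ(X, U) (Localization.Away g)))).base w))
  refine ⟨j.opensRange, ⟨q', hjq'⟩, ?_⟩
  have hiso := IsOpenImmersion.isoOfRangeEq_inv_fac j (Scheme.Opens.ι j.opensRange)
    (by rw [Scheme.Opens.range_ι]; rfl)
  suffices hj : UniversallyOpen (j ≫ f) by
    rw [← hiso, Category.assoc]
    infer_instance
  -- the polynomial ring in universe `u`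
  let ρ : MvPolynomial (ULift.{u} (Fin e)) Γ(Y, V) ≃ₐ[Γ(Y, V)] MvPolynomial (Fin e) Γ(Y, V) :=
    MvPolynomial.renameEquiv Γ(Y, V) (Equiv.ulift : ULift.{u} (Fin e) ≃ Fin e)
  let φ' : MvPolynomial (ULift.{u} (Fin e)) Γ(Y, V) →+* Localization.Away g :=
    φ.toRingHom.comp ρ.toRingEquiv.toRingHom
  have hφ'qf : φ'.QuasiFinite := RingHom.QuasiFinite.respectsIso.2 _ ρ.toRingEquiv hφqf
  have hφ'ft : φ'.FiniteType := RingHom.finiteType_respectsIso.2 _ ρ.toRingEquiv hφft
  have hφ'C : ∀ r : Γ(Y, V), φ' (algebraMap Γ(Y, V) _ r) =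
      algebraMap Γ(Y, V) (Localization.Away g) r := by
    intro r
    show φ (ρ (algebraMap Γ(Y, V) _ r)) = _
    rw [AlgEquiv.commutes, AlgHom.commutes]
  let G : Spec (.of (Localization.Away g)) ⟶
      Spec (.of (MvPolynomial (ULift.{u} (Fin e)) Γ(Y, V))) := Spec.map (CommRingCat.ofHom φ')
  let π : Spec (.of (MvPolynomial (ULift.{u} (Fin e)) Γ(Y, V))) ⟶ Spec Γ(Y, V) :=
    Spec.map (CommRingCat.ofHom (algebraMap Γ(Y, V) (MvPolynomial (ULift.{u} (Fin e)) Γ(Y, V))))
  have hfac : j ≫ f = G ≫ π ≫ hV.fromSpec := by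
    have h1 := IsAffineOpen.SpecMap_appLE_fromSpec f hV hU hUV
    show (Spec.map _ ≫ hU.fromSpec) ≫ f = Spec.map _ ≫ Spec.map _ ≫ hV.fromSpec
    rw [Category.assoc, ← h1, ← Category.assoc, ← Category.assoc, ← Spec.map_comp, ← Spec.map_comp]
    congr 2
    ext r
    show algebraMap Γ(X, U) (Localization.Away g) ((f.appLE V U hUV).hom r) =
      φ' (algebraMap Γ(Y, V) _ r)
    rw [hφ'C]
    exact (IsScalarTower.algebraMap_apply Γ(Y, V) Γ(X, U) (Localization.Away g) r).symm
  haveI : Algebra.FiniteType Γ(Y, V) (Localization.Away g) :=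
    Algebra.FiniteType.trans (R := Γ(Y, V)) (S := Γ(X, U)) (A := Localization.Away g)
      inferInstance inferInstance
  -- maximal points map to maximal points
  have hdom : ∀ w : ↥(Spec (.of (Localization.Away g))), IsMaxPt w → IsMaxPt (G.base w) := by
    intro w hw
    set ξ' : PrimeSpectrum (Localization.Away g) := w with hξ'
    have hξmin : ∀ q₁ : PrimeSpectrum (Localization.Away g), q₁ ≤ ξ' → q₁ = ξ' := by
      intro q₁ hle
      have h1 : q₁ ⤳ ξ' := (PrimeSpectrum.le_iff_specializes q₁ ξ').mp hle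
      exact hw q₁ h1
    have hξtfd : (e : WithBot ℕ∞) ≤
        tfd (PrimeSpectrum.comap (algebraMap Γ(Y, V) (Localization.Away g))) ξ' := by
      rw [tfd_eq_of_square (PrimeSpectrum.comap (algebraMap Γ(Y, V) Γ(X, U)))
        (PrimeSpectrum.comap (algebraMap Γ(Y, V) (Localization.Away g)))
        (PrimeSpectrum.comap (algebraMap Γ(X, U) (Localization.Away g))) id
        (PrimeSpectrum.localization_away_isOpenEmbedding (Localization.Away g) g)
        Function.injective_id (fun a' => by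
          simp only [id]
          rw [IsScalarTower.algebraMap_eq Γ(Y, V) Γ(X, U) (Localization.Away g),
            PrimeSpectrum.comap_comp_apply]) ξ']
      exact (htfd _).ge
    have hM := comap_eq_map_C_of_le_tfd e φ hφqf ξ' hξmin hξtfd
    -- `j ξ'` is a maximal point of `X`
    have hjmax : ∀ t : X, t ⤳ j.base w → t = j.base w := by
      intro t ht
      have htr : t ∈ Set.range j.base :=
        ht.mem_open j.isOpenEmbedding.isOpen_range (Set.mem_range_self w)
      obtain ⟨t', rfl⟩ := htr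
      have := j.isOpenEmbedding.isInducing.specializes_iff.mp ht
      rw [hw t' this]
    have hfmax : IsMaxPt (f.base (j.base w)) := hmaxU₀ _ (hjU₀ w) hjmax
    -- the image of `ξ'` in `Spec R`
    set r₀ : PrimeSpectrum Γ(Y, V) :=
      PrimeSpectrum.comap (algebraMap Γ(Y, V) (Localization.Away g)) ξ' with hr₀
    have h4 : f.base (j.base w) = hV.fromSpec.base r₀ := by
      rw [← Scheme.Hom.comp_apply, hfac]
      show hV.fromSpec.base (π.base (G.base ξ')) = _
      congr 1
      show PrimeSpectrum.comap (algebraMap Γ(Y, V) _) (PrimeSpectrum.comap φ' ξ') = _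
      rw [← PrimeSpectrum.comap_comp_apply]
      congr 1
      ext r
      exact hφ'C r
    have hr₀max : ∀ s : PrimeSpectrum Γ(Y, V), s ≤ r₀ → s = r₀ := by
      intro s hs
      have h1 : s ⤳ r₀ := (PrimeSpectrum.le_iff_specializes s r₀).mp hs
      have h2 : hV.fromSpec.base s ⤳ hV.fromSpec.base r₀ := h1.map hV.fromSpec.continuous
      rw [← h4] at h2
      have h3 := hfmax _ h2
      rw [h4] at h3
      exact hV.fromSpec.isOpenEmbedding.injective h3
    -- maximality of `G ξ'`
    intro P' hP'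
    let P'' : PrimeSpectrum (MvPolynomial (ULift.{u} (Fin e)) Γ(Y, V)) := P'
    let ζ' : PrimeSpectrum (MvPolynomial (ULift.{u} (Fin e)) Γ(Y, V)) := PrimeSpectrum.comap φ' ξ'
    have hP'' : P'' ⤳ ζ' := hP'
    have hle : P''.asIdeal ≤ ζ'.asIdeal := (PrimeSpectrum.le_iff_specializes P'' ζ').mpr hP''
    have hP'R : PrimeSpectrum.comap (algebraMap Γ(Y, V)
        (MvPolynomial (ULift.{u} (Fin e)) Γ(Y, V))) P'' = r₀ := by
      apply hr₀max
      intro r hr
      have h1 : algebraMap Γ(Y, V) _ r ∈ ζ'.asIdeal := hle hr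
      have h2 : φ' (algebraMap Γ(Y, V) _ r) ∈ ξ'.asIdeal := h1
      rw [hφ'C] at h2
      exact h2
    have hge : ζ'.asIdeal ≤ P''.asIdeal := by
      intro b hb
      have hb' : ρ b ∈ ξ'.asIdeal.comap φ.toRingHom := hb
      rw [hM] at hb'
      let P : Ideal (MvPolynomial (Fin e) Γ(Y, V)) :=
        Ideal.comap ρ.symm.toRingEquiv.toRingHom P''.asIdeal
      have h1 : Ideal.map (MvPolynomial.C : Γ(Y, V) →+* MvPolynomial (Fin e) Γ(Y, V))
          (ξ'.asIdeal.under Γ(Y, V)) ≤ P := by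
        rw [Ideal.map_le_iff_le_comap]
        intro r hr
        have hr' : r ∈ r₀.asIdeal := hr
        rw [← hP'R] at hr'
        have h2 : algebraMap Γ(Y, V) (MvPolynomial (ULift.{u} (Fin e)) Γ(Y, V)) r ∈
            P''.asIdeal := hr'
        show ρ.symm (MvPolynomial.C r) ∈ P''.asIdeal
        have h3 : ρ.symm (MvPolynomial.C r) =
            algebraMap Γ(Y, V) (MvPolynomial (ULift.{u} (Fin e)) Γ(Y, V)) r :=
          ρ.symm.commutes r
        rw [h3]
        exact h2
      have h2 : ρ b ∈ P := h1 hb'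
      have h3 : ρ.symm (ρ b) ∈ P''.asIdeal := h2
      rwa [AlgEquiv.symm_apply_apply] at h3
    show P'' = ζ'
    exact PrimeSpectrum.ext (le_antisymm hle hge)
  haveI : LocallyQuasiFinite G := (HasRingHomProperty.Spec_iff (P := @LocallyQuasiFinite)).mpr hφ'qf
  haveI : LocallyOfFiniteType G := (HasRingHomProperty.Spec_iff (P := @LocallyOfFiniteType)).mpr hφ'ft
  haveI : IsNoetherianRing (MvPolynomial (ULift.{u} (Fin e)) Γ(Y, V)) := inferInstance
  haveI : IsLocallyNoetherian (Spec (.of (MvPolynomial (ULift.{u} (Fin e)) Γ(Y, V)))) :=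
    inferInstance
  haveI hGuo : UniversallyOpen G := universallyOpen_of_locallyQuasiFinite_of_isGeomUnibranch G
    (isGeomUnibranch_Spec_mvPolynomial_stalk (ULift.{u} (Fin e)) V hV hY) hdom
  haveI : Flat π := (HasRingHomProperty.Spec_iff (P := @Flat)).mpr
    (RingHom.flat_algebraMap_iff.mpr inferInstance)
  haveI : LocallyOfFinitePresentation π :=
    (HasRingHomProperty.Spec_iff (P := @LocallyOfFinitePresentation)).mpr
      (RingHom.finitePresentation_algebraMap.mpr inferInstance)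
  rw [hfac]
  infer_instance

end Groth.Agent.H69.Chev
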