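import Groth.Agent.H69.ResDeg
import Groth.Agent.H37.BddFibLib

/-!
Sum of residue degrees on a finite scheme over a field.
-/

set_option autoImplicit false
universe u

open CategoryTheory CategoryTheory.Limits AlgebraicGeometry BddFib
open Groth.Agent.H37.BddFibLib

namespace Groth.Agent.H69.FibDegRes

/-- evaluation at a point of a scheme finite over a field is surjective, with maximal kernel -/
theorem Γevaluation_surjective {k : Type u} [Field k] {T : Scheme.{u}} [IsAffine T]
    [Algebra k Γ(T, ⊤)] [Module.Finite k Γ(T, ⊤)] (x : T) :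
    Function.Surjective (T.Γevaluation x).hom := by
  haveI : IsArtinianRing Γ(T, ⊤) := IsArtinianRing.of_finite k _
  intro l
  obtain ⟨a, s, hs, hl⟩ := exists_evaluation_div (isAffineOpen_top T) x trivial l
  haveI hker : (RingHom.ker (T.Γevaluation x).hom).IsPrime := RingHom.ker_isPrime _
  haveI : (RingHom.ker (T.Γevaluation x).hom).IsMaximal := inferInstance
  have hs' : s ∉ RingHom.ker (T.Γevaluation x).hom := hs
  obtain ⟨b, i, hi, hb⟩ := Ideal.IsMaximal.exists_inv ‹_› hs'
  have hb' : (T.Γevaluation x).hom b * (T.Γevaluation x).hom s = 1 := by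
    have := congrArg (T.Γevaluation x).hom hb
    rw [map_add, map_mul, map_one, (RingHom.mem_ker).mp hi, add_zero] at this
    exact this
  refine ⟨a * b, ?_⟩
  rw [map_mul]
  have hl' : (T.Γevaluation x).hom a = l * (T.Γevaluation x).hom s := hl.symm
  rw [hl', mul_assoc, mul_comm ((T.Γevaluation x).hom s), hb', mul_one]

lemma ker_Γevaluation {T : Scheme.{u}} (x : T) :
    RingHom.ker (T.Γevaluation x).hom = (T.toSpecΓ x).asIdeal := by
  rw [Scheme.toSpecΓ_apply]
  ext a
  change _ ↔ (T.presheaf.Γgerm x).hom a ∈ IsLocalRing.maximalIdeal _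
  rw [RingHom.mem_ker, ← IsLocalRing.residue_eq_zero_iff]
  rfl

/-- the residue field of `Spec k` at its point is `k` -/
theorem bijective_toResidueField_Spec (k : Type u) [Field k] (y : Spec (CommRingCat.of k)) :
    Function.Bijective (((Scheme.ΓSpecIso (CommRingCat.of k)).inv ≫
      (Spec (CommRingCat.of k)).Γevaluation y).hom) := by
  refine ⟨RingHom.injective _, ?_⟩
  letI : Algebra k Γ(Spec (CommRingCat.of k), ⊤) :=
    (Scheme.ΓSpecIso (CommRingCat.of k)).inv.hom.toAlgebra
  have hbij : Function.Bijective (Scheme.ΓSpecIso (CommRingCat.of k)).inv.hom :=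
    ConcreteCategory.bijective_of_isIso (Scheme.ΓSpecIso (CommRingCat.of k)).inv
  haveI : Module.Finite k Γ(Spec (CommRingCat.of k), ⊤) :=
    Module.Finite.of_surjective (Algebra.linearMap k Γ(Spec (CommRingCat.of k), ⊤)) hbij.2
  rw [CommRingCat.hom_comp, RingHom.coe_comp]
  exact (Γevaluation_surjective (k := k) y).comp hbij.2

theorem sum_residueDegree_le {k : Type u} [Field k] {T : Scheme.{u}}
    (p : T ⟶ Spec (CommRingCat.of k)) (n : ℕ)
    (hp : FiniteOfDegLE (CommRingCat.of k) p n) [Fintype T] :
    ∑ x : T, p.residueDegree x ≤ n := by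
  classical
  obtain ⟨hT, hfin, hrank⟩ := hp
  haveI := hT
  letI aP : Algebra k Γ(T, ⊤) := secAlgebra (CommRingCat.of k) p
  haveI : Module.Finite k Γ(T, ⊤) := hfin
  haveI : IsArtinianRing Γ(T, ⊤) := IsArtinianRing.of_finite k _
  letI aL : ∀ x : T, Algebra k (T.residueField x) := fun x =>
    ((T.Γevaluation x).hom.comp (algebraMap k Γ(T, ⊤))).toAlgebra
  have hsurj : ∀ x : T, Function.Surjective (T.Γevaluation x).hom := fun x =>
    Γevaluation_surjective (k := k) x
  let ev : ∀ x : T, Γ(T, ⊤) →ₗ[k] T.residueField x := fun x =>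
    { toFun := (T.Γevaluation x).hom
      map_add' := map_add _
      map_smul' := fun c a => by
        simp only [Algebra.smul_def, map_mul, RingHom.id_apply]
        rfl }
  let Ψ : Γ(T, ⊤) →ₗ[k] (∀ x : T, T.residueField x) := LinearMap.pi ev
  haveI : ∀ x : T, Module.Finite k (T.residueField x) := fun x =>
    Module.Finite.of_surjective (ev x) (hsurj x)
  -- CRT
  have hmax : ∀ x : T, (RingHom.ker (T.Γevaluation x).hom).IsMaximal := fun x => by
    haveI : (RingHom.ker (T.Γevaluation x).hom).IsPrime := RingHom.ker_isPrime _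
    infer_instance
  have hinj : Function.Injective fun x : T => RingHom.ker (T.Γevaluation x).hom := by
    intro x x' h
    simp only [ker_Γevaluation] at h
    have h2 : T.toSpecΓ x = T.toSpecΓ x' := PrimeSpectrum.ext h
    have hiso : Function.Injective T.toSpecΓ := T.isoSpec.hom.homeomorph.injective
    exact hiso h2
  have hcop : Pairwise (Function.onFun IsCoprime fun x : T => RingHom.ker (T.Γevaluation x).hom) := by
    intro x x' hne
    rw [Function.onFun, Ideal.isCoprime_iff_sup_eq]
    exact Ideal.IsMaximal.coprime_of_ne (hmax x) (hmax x') (fun h => hne (hinj h))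
  have hΨ : Function.Surjective Ψ := by
    intro b
    choose a ha using fun x => hsurj x (b x)
    obtain ⟨c, hc⟩ := Ideal.exists_forall_sub_mem_ideal hcop a
    refine ⟨c, funext fun x => ?_⟩
    have h1 : (T.Γevaluation x).hom (c - a x) = 0 := hc x
    rw [map_sub, sub_eq_zero] at h1
    exact h1.trans (ha x)
  -- residue degrees
  have hdeg : ∀ x : T, p.residueDegree x = Module.finrank k (T.residueField x) := by
    intro x
    letI := (p.residueFieldMap x).hom.toAlgebra
    change Module.finrank ((Spec (CommRingCat.of k)).residueField (p x)) (T.residueField x) = _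
    unfold Module.finrank
    congr 1
    symm
    refine rank_eq_of_equiv_equiv
      (((Scheme.ΓSpecIso (CommRingCat.of k)).inv ≫
        (Spec (CommRingCat.of k)).Γevaluation (p x)).hom)
      (AddEquiv.refl _) (bijective_toResidueField_Spec k (p x)) ?_
    intro c m
    simp only [AddEquiv.refl_apply, Algebra.smul_def]
    congr 1
    exact (Scheme.Γevaluation_naturality_apply p x _).symm
  calc ∑ x : T, p.residueDegree x = ∑ x : T, Module.finrank k (T.residueField x) :=
        Finset.sum_congr rfl fun x _ => hdeg x
    _ = Module.finrank k (∀ x : T, T.residueField x) := (Module.finrank_pi_fintype k).symm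
    _ ≤ Module.finrank k Γ(T, ⊤) := LinearMap.finrank_le_finrank_of_surjective hΨ
    _ ≤ n := hrank

end Groth.Agent.H69.FibDegRes
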