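import Groth.Agent.H69.GUPolyRing

/-! Geometric unibranchness ascends to affine space over a scheme. -/

set_option autoImplicit false
set_option linter.style.haveILetI false
set_option linter.unusedSectionVars false
open AlgebraicGeometry CategoryTheory Limits

universe u

namespace Groth.Agent.H69.GeomUnibranch

theorem exists_preimage_of_isPullback {P X Y S : Scheme.{u}} {fst : P ⟶ X} {snd : P ⟶ Y}
    {f : X ⟶ S} {g : Y ⟶ S} (h : IsPullback fst snd f g) (x : X) (y : Y)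
    (hxy : f.base x = g.base y) : ∃ z : P, fst.base z = x ∧ snd.base z = y := by
  obtain ⟨z, hz1, hz2⟩ := Scheme.Pullback.exists_preimage_pullback x y hxy
  refine ⟨h.isoPullback.inv.base z, ?_, ?_⟩
  · rw [← Scheme.Hom.comp_apply, h.isoPullback_inv_fst]; exact hz1
  · rw [← Scheme.Hom.comp_apply, h.isoPullback_inv_snd]; exact hz2

instance isOpenImmersion_affineSpace_map (σ : Type u) {S T : Scheme.{u}} (f : S ⟶ T)
    [IsOpenImmersion f] : IsOpenImmersion (AffineSpace.map σ f) :=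
  MorphismProperty.of_isPullback (P := @IsOpenImmersion) (AffineSpace.isPullback_map f).flip
    inferInstance

/-- Auxiliary form of S4936 for points in an affine chart. -/
theorem isGeomUnibranch_affineSpace_stalk_aux {Y : Scheme.{u}} (σ : Type u) (U : Y.Opens)
    (hU : IsAffineOpen U) (z : ↥(Spec (.of (MvPolynomial σ Γ(Y, U)))))
    (hy : CAlg2.IsGeomUnibranch (Y.presheaf.stalk ((𝔸(σ; Y) ↘ Y).base
      (((AffineSpace.SpecIso σ Γ(Y, U)).inv ≫ AffineSpace.map σ hU.fromSpec).base z)))) :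
    CAlg2.IsGeomUnibranch ((𝔸(σ; Y)).presheaf.stalk
      (((AffineSpace.SpecIso σ Γ(Y, U)).inv ≫ AffineSpace.map σ hU.fromSpec).base z)) := by
  haveI : IsOpenImmersion hU.fromSpec := hU.isOpenImmersion_fromSpec
  set ι : Spec (.of (MvPolynomial σ Γ(Y, U))) ⟶ 𝔸(σ; Y) :=
    (AffineSpace.SpecIso σ Γ(Y, U)).inv ≫ AffineSpace.map σ hU.fromSpec with hι
  have hcomp : ι ≫ (𝔸(σ; Y) ↘ Y) =
      Spec.map (CommRingCat.ofHom MvPolynomial.C) ≫ hU.fromSpec := by
    rw [hι, Category.assoc, AffineSpace.map_over, AffineSpace.SpecIso_inv_over_assoc]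
  have hπ : (𝔸(σ; Y) ↘ Y).base (ι.base z) = hU.fromSpec.base
      (PrimeSpectrum.comap (MvPolynomial.C : Γ(Y, U) →+* MvPolynomial σ Γ(Y, U)) z) := by
    rw [← Scheme.Hom.comp_apply, hcomp]
    rfl
  have hyU : (𝔸(σ; Y) ↘ Y).base (ι.base z) ∈ U := by
    rw [hπ]
    have := Set.mem_range_self (f := hU.fromSpec.base)
      (PrimeSpectrum.comap (MvPolynomial.C : Γ(Y, U) →+* MvPolynomial σ Γ(Y, U)) z)
    rw [hU.range_fromSpec] at this
    exact this
  have hC : PrimeSpectrum.comap (MvPolynomial.C : Γ(Y, U) →+* MvPolynomial σ Γ(Y, U)) z =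
      hU.primeIdealOf ⟨(𝔸(σ; Y) ↘ Y).base (ι.base z), hyU⟩ := by
    apply hU.fromSpec.isOpenEmbedding.injective
    rw [hU.fromSpec_primeIdealOf]
    exact hπ.symm
  let e : (𝔸(σ; Y)).presheaf.stalk (ι.base z) ≃+*
      (Spec (.of (MvPolynomial σ Γ(Y, U)))).presheaf.stalk z :=
    (asIso (ι.stalkMap z)).commRingCatIsoToRingEquiv
  letI algRP : Algebra (MvPolynomial σ Γ(Y, U))
      ((Spec (.of (MvPolynomial σ Γ(Y, U)))).presheaf.stalk z) :=
    StructureSheaf.stalkAlgebra (R := MvPolynomial σ Γ(Y, U)) z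
  haveI hlocRP : IsLocalization.AtPrime
      ((Spec (.of (MvPolynomial σ Γ(Y, U)))).presheaf.stalk z) z.asIdeal :=
    StructureSheaf.IsLocalization.to_stalk (R := MvPolynomial σ Γ(Y, U)) z
  letI alg𝔸 : Algebra (MvPolynomial σ Γ(Y, U)) ((𝔸(σ; Y)).presheaf.stalk (ι.base z)) :=
    (e.symm.toRingHom.comp (algebraMap (MvPolynomial σ Γ(Y, U))
      ((Spec (.of (MvPolynomial σ Γ(Y, U)))).presheaf.stalk z))).toAlgebra
  haveI hloc𝔸 : IsLocalization.AtPrime ((𝔸(σ; Y)).presheaf.stalk (ι.base z)) z.asIdeal :=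
    (IsLocalization.isLocalization_iff_of_ringEquiv z.asIdeal.primeCompl e.symm).mp hlocRP
  letI algY := Y.presheaf.algebra_section_stalk ⟨(𝔸(σ; Y) ↘ Y).base (ι.base z), hyU⟩
  haveI hlocY := hU.isLocalization_stalk ⟨(𝔸(σ; Y) ↘ Y).base (ι.base z), hyU⟩
  exact isGeomUnibranch_mvPolynomial σ z.asIdeal
    (hU.primeIdealOf ⟨(𝔸(σ; Y) ↘ Y).base (ι.base z), hyU⟩).asIdeal
    (congrArg PrimeSpectrum.asIdeal hC)
    (Y.presheaf.stalk ((𝔸(σ; Y) ↘ Y).base (ι.base z)))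
    ((𝔸(σ; Y)).presheaf.stalk (ι.base z)) hy

/-- S4936 for an arbitrary index type. -/
theorem isGeomUnibranch_affineSpace_stalk {Y : Scheme.{u}} (σ : Type u) (y' : ↥𝔸(σ; Y))
    (hy : CAlg2.IsGeomUnibranch (Y.presheaf.stalk ((𝔸(σ; Y) ↘ Y).base y'))) :
    CAlg2.IsGeomUnibranch ((𝔸(σ; Y)).presheaf.stalk y') := by
  obtain ⟨U, hU, hyU, -⟩ := exists_isAffineOpen_mem_and_subset
    (x := (𝔸(σ; Y) ↘ Y).base y') (U := ⊤) trivial
  obtain ⟨z₀, hz₀1, -⟩ := exists_preimage_of_isPullback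
    (AffineSpace.isPullback_map (n := σ) hU.fromSpec) y'
    (hU.primeIdealOf ⟨(𝔸(σ; Y) ↘ Y).base y', hyU⟩)
    (hU.fromSpec_primeIdealOf ⟨(𝔸(σ; Y) ↘ Y).base y', hyU⟩).symm
  obtain ⟨z, rfl⟩ : ∃ z, ((AffineSpace.SpecIso σ Γ(Y, U)).inv ≫
      AffineSpace.map σ hU.fromSpec).base z = y' := by
    refine ⟨(AffineSpace.SpecIso σ Γ(Y, U)).hom.base z₀, ?_⟩
    rw [Scheme.Hom.comp_apply, ← Scheme.Hom.comp_apply (AffineSpace.SpecIso σ Γ(Y, U)).hom,
      Iso.hom_inv_id]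
    exact hz₀1
  exact isGeomUnibranch_affineSpace_stalk_aux σ U hU z hy

end Groth.Agent.H69.GeomUnibranch
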