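import Groth.Agent.H69.UnibranchScheme2
import Groth.Agent.H69.GUAffineSpace
import Groth.Agent.S1373

/-! Locally quasi-finite morphisms to geometrically unibranch locally Noetherian schemes whose
maximal points map to maximal points are universally open. -/

set_option autoImplicit false
set_option linter.style.haveILetI false
set_option linter.unusedSectionVars false
open AlgebraicGeometry CategoryTheory Limits

universe u

namespace Groth.Agent.H69.GeomUnibranch

/-- A maximal point: one with no proper generization. -/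
def IsMaxPt {α : Type*} [TopologicalSpace α] (x : α) : Prop := ∀ w : α, w ⤳ x → w = x

theorem isMaxPt_of_isGenericPoint {α : Type*} [TopologicalSpace α] [T0Space α] {x : α}
    {Z : Set α} (hZ : Z ∈ irreducibleComponents α) (hx : IsGenericPoint x Z) : IsMaxPt x := by
  intro w hw
  have h1 : Z ⊆ closure {w} := by
    rw [← hx.def]
    exact specializes_iff_closure_subset.mp hw
  have h2 : closure {w} ⊆ Z := hZ.2 isIrreducible_singleton.closure h1
  have h3 : x ⤳ w := by
    rw [specializes_iff_closure_subset, hx.def]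
    exact h2
  exact (hw.antisymm h3).eq

theorem isGenericPoint_of_isMaxPt {α : Type*} [TopologicalSpace α] [QuasiSober α] {x : α}
    (hx : IsMaxPt x) : closure {x} ∈ irreducibleComponents α ∧ IsGenericPoint x (closure {x}) := by
  refine ⟨⟨isIrreducible_singleton.closure, ?_⟩, rfl⟩
  intro T hT hxT
  have hcl : IsIrreducible (closure T) := hT.closure
  obtain ⟨γ, hγ⟩ := QuasiSober.sober hcl isClosed_closure
  have h1 : γ ⤳ x := by
    rw [specializes_iff_mem_closure, hγ.def]
    exact subset_closure (hxT (subset_closure rfl))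
  have h2 := hx γ h1
  rw [h2] at hγ
  exact subset_closure.trans hγ.def.symm.le

theorem exists_isMaxPt_specializes {α : Type*} [TopologicalSpace α] [QuasiSober α] [T0Space α]
    (x : α) : ∃ η : α, IsMaxPt η ∧ η ⤳ x := by
  obtain ⟨η, hη⟩ := QuasiSober.sober (isIrreducible_irreducibleComponent (x := x))
    isClosed_irreducibleComponent
  refine ⟨η, isMaxPt_of_isGenericPoint (irreducibleComponent_mem_irreducibleComponents x) hη, ?_⟩
  rw [specializes_iff_mem_closure, hη.def]
  exact mem_irreducibleComponent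

/-- In a quasi-sober space, a maximal point lying in an irreducible set specializes to every point of it. -/
theorem IsMaxPt.specializes_of_mem {α : Type*} [TopologicalSpace α] [QuasiSober α] {x : α}
    (hx : IsMaxPt x) {T : Set α} (hT : IsIrreducible T) (hxT : x ∈ T) {t : α} (ht : t ∈ T) :
    x ⤳ t := by
  obtain ⟨γ, hγ⟩ := QuasiSober.sober hT.closure isClosed_closure
  have h1 : γ ⤳ x := by
    rw [specializes_iff_mem_closure, hγ.def]
    exact subset_closure hxT
  have h2 := hx γ h1
  rw [h2] at hγ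
  rw [specializes_iff_mem_closure, hγ.def]
  exact subset_closure ht

/-- (D) Maximal points of affine space map to maximal points. -/
theorem isMaxPt_affineSpace_map {X Y : Scheme.{u}} (σ : Type u) (f : X ⟶ Y)
    (hdom : ∀ x : X, IsMaxPt x → IsMaxPt (f.base x)) (η' : ↥𝔸(σ; X)) (hη' : IsMaxPt η') :
    IsMaxPt ((AffineSpace.map σ f).base η') := by
  have hopenX : IsOpenMap (𝔸(σ; X) ↘ X).base := AffineSpace.isOpenMap_over X
  -- Step 1
  have h1 : IsMaxPt ((𝔸(σ; X) ↘ X).base η') := by
    intro ξ' hξ'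
    have hT : IsIrreducible ((𝔸(σ; X) ↘ X).base ⁻¹' closure {ξ'}) :=
      (𝔸(σ; X) ↘ X).isIrreducible_preimage hopenX isIrreducible_singleton.closure
    have hηT : η' ∈ (𝔸(σ; X) ↘ X).base ⁻¹' closure {ξ'} :=
      specializes_iff_mem_closure.mp hξ'
    obtain ⟨t, ht⟩ := (𝔸(σ; X) ↘ X).surjective ξ'
    have htT : t ∈ (𝔸(σ; X) ↘ X).base ⁻¹' closure {ξ'} := by
      change (𝔸(σ; X) ↘ X).base t ∈ closure {ξ'}
      rw [ht]
      exact subset_closure rfl
    have h2 : η' ⤳ t := hη'.specializes_of_mem hT hηT htT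
    have h3 := h2.map (𝔸(σ; X) ↘ X).continuous
    rw [ht] at h3
    exact (hξ'.antisymm h3).eq
  -- Step 2
  have h2 := hdom _ h1
  -- Step 3
  intro ω hω
  have hover : (𝔸(σ; Y) ↘ Y).base ((AffineSpace.map σ f).base η') =
      f.base ((𝔸(σ; X) ↘ X).base η') := by
    rw [← Scheme.Hom.comp_apply, AffineSpace.map_over, Scheme.Hom.comp_apply]
  have h3 : (𝔸(σ; Y) ↘ Y).base ω = f.base ((𝔸(σ; X) ↘ X).base η') := by
    apply h2
    rw [← hover]
    exact hω.map (𝔸(σ; Y) ↘ Y).continuous
  obtain ⟨η'', hη''1, hη''2⟩ := exists_preimage_of_isPullback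
    (AffineSpace.isPullback_map (n := σ) f) ω ((𝔸(σ; X) ↘ X).base η') h3
  have hF : IsIrreducible ((𝔸(σ; X) ↘ X).base ⁻¹' {(𝔸(σ; X) ↘ X).base η'}) :=
    (𝔸(σ; X) ↘ X).isIrreducible_preimage hopenX isIrreducible_singleton
  have h4 : η' ⤳ η'' := hη'.specializes_of_mem hF rfl hη''2
  have h5 := h4.map (AffineSpace.map σ f).continuous
  rw [hη''1] at h5
  exact (hω.antisymm h5).eq

/-- S1454 in terms of maximal points. -/
theorem universallyOpen_of_locallyQuasiFinite_of_isGeomUnibranch {X Y : Scheme.{u}} (f : X ⟶ Y)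
    [LocallyQuasiFinite f] [LocallyOfFiniteType f] [IsLocallyNoetherian Y]
    (hY : ∀ y : Y, CAlg2.IsGeomUnibranch (Y.presheaf.stalk y))
    (hdom : ∀ x : X, IsMaxPt x → IsMaxPt (f.base x)) : UniversallyOpen f := by
  rw [Groth.Agent.S1373.result]
  intro n
  haveI : LocallyOfFiniteType (AffineSpace.map (ULift.{u} (Fin n)) f) :=
    MorphismProperty.of_isPullback (P := @LocallyOfFiniteType)
      (AffineSpace.isPullback_map f).flip inferInstance
  haveI : LocallyQuasiFinite (AffineSpace.map (ULift.{u} (Fin n)) f) :=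
    MorphismProperty.of_isPullback (P := @LocallyQuasiFinite)
      (AffineSpace.isPullback_map f).flip inferInstance
  haveI : IsLocallyNoetherian 𝔸(ULift.{u} (Fin n); Y) :=
    LocallyOfFiniteType.isLocallyNoetherian (𝔸(ULift.{u} (Fin n); Y) ↘ Y)
  intro O hO
  rw [isOpen_iff_mem_nhds]
  rintro _ ⟨x', hx'O, rfl⟩
  obtain ⟨η', hη'max, hη'x'⟩ := exists_isMaxPt_specializes x'
  have key := isOpenAt_of_quasiFiniteAt_of_isUnibranch' (AffineSpace.map (ULift.{u} (Fin n)) f) x'
    ((AffineSpace.map (ULift.{u} (Fin n)) f).quasiFiniteAt x')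
    (isGeomUnibranch_affineSpace_stalk _ _ (hY _)).1 η' hη'x'
    (isMaxPt_affineSpace_map _ f hdom η' hη'max)
  exact key O (hO.mem_nhds hx'O)

end Groth.Agent.H69.GeomUnibranch
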