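import Groth.Agent.H69.ChevRing
import Groth.Agent.H69.UnivOpenQF
import Groth.Agent.H9.FibreFormula

/-! Chevalley's criterion for universal openness, irreducible case. -/

set_option autoImplicit false
set_option linter.style.haveILetI false
set_option linter.unusedSectionVars false
open AlgebraicGeometry CategoryTheory Limits

universe u

namespace Groth.Agent.H69.Chev

open Groth.Agent.H69.GeomUnibranch Groth.Agent.H9.FibDim

/-- Geometric unibranchness ascends to `Spec` of a polynomial ring over an affine open. -/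
theorem isGeomUnibranch_Spec_mvPolynomial_stalk {Y : Scheme.{u}} (σ : Type u) (V : Y.Opens)
    (hV : IsAffineOpen V) (hY : ∀ y : Y, CAlg2.IsGeomUnibranch (Y.presheaf.stalk y))
    (z : ↥(Spec (.of (MvPolynomial σ Γ(Y, V))))) :
    CAlg2.IsGeomUnibranch ((Spec (.of (MvPolynomial σ Γ(Y, V)))).presheaf.stalk z) := by
  set z₀ : PrimeSpectrum Γ(Y, V) :=
    PrimeSpectrum.comap (MvPolynomial.C : Γ(Y, V) →+* MvPolynomial σ Γ(Y, V)) z with hz₀
  have hyV : hV.fromSpec.base z₀ ∈ V := by
    have := Set.mem_range_self (f := hV.fromSpec.base) z₀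
    rw [hV.range_fromSpec] at this
    exact this
  have hC : z₀ = hV.primeIdealOf ⟨hV.fromSpec.base z₀, hyV⟩ := by
    apply hV.fromSpec.isOpenEmbedding.injective
    rw [hV.fromSpec_primeIdealOf]
  letI algRP : Algebra (MvPolynomial σ Γ(Y, V))
      ((Spec (.of (MvPolynomial σ Γ(Y, V)))).presheaf.stalk z) :=
    StructureSheaf.stalkAlgebra (R := MvPolynomial σ Γ(Y, V)) z
  haveI hlocRP : IsLocalization.AtPrime
      ((Spec (.of (MvPolynomial σ Γ(Y, V)))).presheaf.stalk z) z.asIdeal :=
    StructureSheaf.IsLocalization.to_stalk (R := MvPolynomial σ Γ(Y, V)) z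
  letI algY := Y.presheaf.algebra_section_stalk ⟨hV.fromSpec.base z₀, hyV⟩
  haveI hlocY := hV.isLocalization_stalk ⟨hV.fromSpec.base z₀, hyV⟩
  exact isGeomUnibranch_mvPolynomial σ z.asIdeal
    (hV.primeIdealOf ⟨hV.fromSpec.base z₀, hyV⟩).asIdeal
    (congrArg PrimeSpectrum.asIdeal hC)
    (Y.presheaf.stalk (hV.fromSpec.base z₀))
    ((Spec (.of (MvPolynomial σ Γ(Y, V)))).presheaf.stalk z) (hY _)

/-- A locally quasi-finite dominant morphism of irreducible schemes whose target has geometrically
unibranch local rings is universally open. -/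
theorem universallyOpen_of_lqf_of_denseRange {W Z : Scheme.{u}} [IrreducibleSpace W]
    [IrreducibleSpace Z] (G : W ⟶ Z) [LocallyQuasiFinite G] [LocallyOfFiniteType G]
    (hZ : ∀ z : Z, CAlg2.IsGeomUnibranch (Z.presheaf.stalk z)) (hd : DenseRange G.base) :
    UniversallyOpen G := by
  rw [Groth.Agent.S1373.result]
  intro n
  haveI : LocallyOfFiniteType (AffineSpace.map (ULift.{u} (Fin n)) G) :=
    MorphismProperty.of_isPullback (P := @LocallyOfFiniteType)
      (AffineSpace.isPullback_map G).flip inferInstance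
  haveI : LocallyQuasiFinite (AffineSpace.map (ULift.{u} (Fin n)) G) :=
    MorphismProperty.of_isPullback (P := @LocallyQuasiFinite)
      (AffineSpace.isPullback_map G).flip inferInstance
  haveI : IrreducibleSpace ↥𝔸(ULift.{u} (Fin n); W) :=
    GeometricallyIrreducible.irreducibleSpace (𝔸(ULift.{u} (Fin n); W) ↘ W)
      (AffineSpace.isOpenMap_over W)
  haveI : IrreducibleSpace ↥𝔸(ULift.{u} (Fin n); Z) :=
    GeometricallyIrreducible.irreducibleSpace (𝔸(ULift.{u} (Fin n); Z) ↘ Z)
      (AffineSpace.isOpenMap_over Z)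
  have hdom : ∀ x : W, IsMaxPt x → IsMaxPt (G.base x) := by
    intro x hx w hw
    -- x is the generic point of W
    have hx' : x = genericPoint W := by
      have : genericPoint W ⤳ x := genericPoint_specializes x
      exact (hx _ this).symm
    -- G x specializes to everything
    have hall : ∀ z : Z, G.base x ⤳ z := by
      intro z
      rw [specializes_iff_mem_closure]
      have h1 : Set.range G.base ⊆ closure {G.base x} := by
        rintro _ ⟨t, rfl⟩
        rw [← specializes_iff_mem_closure]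
        refine Specializes.map ?_ G.continuous
        rw [hx']
        exact genericPoint_specializes t
      have h2 : closure (Set.range G.base) ⊆ closure {G.base x} :=
        closure_minimal h1 isClosed_closure
      rw [hd.closure_range] at h2
      exact h2 (Set.mem_univ z)
    exact ((hall w).antisymm hw).eq.symm
  have hd' : DenseRange (AffineSpace.map (ULift.{u} (Fin n)) G).base := by
    have hmax : IsMaxPt (genericPoint ↥𝔸(ULift.{u} (Fin n); W)) := by
      intro w hw
      exact ((genericPoint_specializes w).antisymm hw).eq.symm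
    have h1 := isMaxPt_affineSpace_map (ULift.{u} (Fin n)) G hdom _ hmax
    have h2 : (AffineSpace.map (ULift.{u} (Fin n)) G).base
        (genericPoint ↥𝔸(ULift.{u} (Fin n); W)) = genericPoint ↥𝔸(ULift.{u} (Fin n); Z) :=
      (h1 _ (genericPoint_specializes _)).symm
    intro z
    have h3 : genericPoint ↥𝔸(ULift.{u} (Fin n); Z) ⤳ z := genericPoint_specializes z
    rw [specializes_iff_mem_closure] at h3
    refine closure_mono ?_ h3
    rw [Set.singleton_subset_iff, ← h2]
    exact Set.mem_range_self _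
  intro O hO
  rw [isOpen_iff_mem_nhds]
  rintro _ ⟨x', hx'O, rfl⟩
  have key := isOpenAt_of_quasiFiniteAt_of_isUnibranch (AffineSpace.map (ULift.{u} (Fin n)) G) hd' x'
    ((AffineSpace.map (ULift.{u} (Fin n)) G).quasiFiniteAt x')
    (isGeomUnibranch_affineSpace_stalk _ _ (hZ _)).1
  exact key O (hO.mem_nhds hx'O)


theorem specializes_of_denseRange {α β : Type*} [TopologicalSpace α] [TopologicalSpace β]
    {g : α → β} (hg : Continuous g) (hd : DenseRange g) (ξ : α) (hξ : ∀ a, ξ ⤳ a) (b : β) :
    g ξ ⤳ b := by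
  rw [specializes_iff_mem_closure]
  have h1 : Set.range g ⊆ closure {g ξ} := by
    rintro _ ⟨t, rfl⟩
    rw [← specializes_iff_mem_closure]
    exact (hξ t).map hg
  have h2 : closure (Set.range g) ⊆ closure {g ξ} := closure_minimal h1 isClosed_closure
  rw [hd.closure_range] at h2
  exact h2 (Set.mem_univ b)

/-- Chevalley's criterion, irreducible case, with the fibre dimension given as a constant. -/
theorem universallyOpen_of_fibreDimAt_const {X Y : Scheme.{u}} [IrreducibleSpace X]
    [IrreducibleSpace Y] (hY : ∀ y : Y, CAlg2.IsGeomUnibranch (Y.presheaf.stalk y)) (f : X ⟶ Y)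
    [LocallyOfFiniteType f] [IsDominant f] (D : WithBot ℕ∞)
    (h : ∀ x : X, FlatMor.fibreDimAt f x = D) : UniversallyOpen f := by
  obtain ⟨e, he⟩ : ∃ e : ℕ, D = (e : WithBot ℕ∞) := by
    obtain ⟨n, b, -, -, h3⟩ := Groth.Agent.H9.FibreFormula.fibre_formula f (genericPoint X)
    exact ⟨n + b, (h _).symm.trans h3⟩
  suffices H : ∀ x : X, ∃ U : X.Opens, x ∈ U ∧ UniversallyOpen (U.ι ≫ f) by
    choose U hx hU using H
    refine IsZariskiLocalAtSource.of_iSup_eq_top (P := @UniversallyOpen) U ?_ hU
    rw [eq_top_iff]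
    rintro x -
    exact TopologicalSpace.Opens.mem_iSup.mpr ⟨x, hx x⟩
  intro x
  obtain ⟨V, hV, hxV, -⟩ :=
    exists_isAffineOpen_mem_and_subset (X := Y) (x := f.base x) (U := ⊤) trivial
  obtain ⟨U, hU, hxU, hUV⟩ :=
    exists_isAffineOpen_mem_and_subset (X := X) (x := x) (U := f ⁻¹ᵁ V) hxV
  letI algRS : Algebra Γ(Y, V) Γ(X, U) := (f.appLE V U hUV).hom.toAlgebra
  haveI : Algebra.FiniteType Γ(Y, V) Γ(X, U) := f.finiteType_appLE hV hU hUV
  obtain ⟨q, rfl⟩ : x ∈ Set.range hU.fromSpec.base := by rw [hU.range_fromSpec]; exact hxU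
  have htfd : ∀ q₁ : Spec Γ(X, U),
      tfd (PrimeSpectrum.comap (algebraMap Γ(Y, V) Γ(X, U))) q₁ = (e : WithBot ℕ∞) := by
    intro q₁
    have := fibreDimAt_fromSpec f hU hV hUV q₁
    rw [h, he] at this
    exact this.symm
  obtain ⟨Q, hQ⟩ := exists_fiber_prime (q.asIdeal.under Γ(Y, V)) q.asIdeal
  have hQdim : FlatMor.localDim (PrimeSpectrum ((q.asIdeal.under Γ(Y, V)).Fiber Γ(X, U))) Q =
      (e : WithBot ℕ∞) := by
    rw [localDim_fiber_eq_tfd _ q rfl Q hQ]; exact htfd q
  obtain ⟨g, hgq, φ, hφft, hφqf⟩ := Groth.Agent.S9175.result Γ(Y, V) Γ(X, U)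
    (q.asIdeal.under Γ(Y, V)) q.asIdeal Q hQ e hQdim
  -- the open piece `W = Spec S_g`
  let j : Spec (.of (Localization.Away g)) ⟶ X :=
    Spec.map (CommRingCat.ofHom (algebraMap Γ(X, U) (Localization.Away g))) ≫ hU.fromSpec
  haveI : IsOpenImmersion hU.fromSpec := hU.isOpenImmersion_fromSpec
  haveI : IsOpenImmersion hV.fromSpec := hV.isOpenImmersion_fromSpec
  haveI hjo : IsOpenImmersion j := inferInstance
  obtain ⟨q', hq'⟩ : ∃ q' : PrimeSpectrum (Localization.Away g),
      PrimeSpectrum.comap (algebraMap Γ(X, U) (Localization.Away g)) q' = q := by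
    have hrange := PrimeSpectrum.localization_away_comap_range (Localization.Away g) g
    have : q ∈ Set.range (PrimeSpectrum.comap (algebraMap Γ(X, U) (Localization.Away g))) := by
      rw [hrange]; exact hgq
    exact this
  have hjq' : j.base q' = hU.fromSpec.base q := by
    show hU.fromSpec.base ((Spec.map (CommRingCat.ofHom
      (algebraMap Γ(X, U) (Localization.Away g)))).base q') = _
    rw [← hq']
    rfl
  refine ⟨j.opensRange, ⟨q', hjq'⟩, ?_⟩
  have hiso := IsOpenImmersion.isoOfRangeEq_inv_fac j (Scheme.Opens.ι j.opensRange)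
    (by rw [Scheme.Opens.range_ι]; rfl)
  suffices hj : UniversallyOpen (j ≫ f) by
    rw [← hiso, Category.assoc]
    infer_instance
  -- the polynomial ring in universe `u`
  let ρ : MvPolynomial (ULift.{u} (Fin e)) Γ(Y, V) ≃ₐ[Γ(Y, V)] MvPolynomial (Fin e) Γ(Y, V) :=
    MvPolynomial.renameEquiv Γ(Y, V) (Equiv.ulift : ULift.{u} (Fin e) ≃ Fin e)
  let φ' : MvPolynomial (ULift.{u} (Fin e)) Γ(Y, V) →+* Localization.Away g :=
    φ.toRingHom.comp ρ.toRingEquiv.toRingHom
  have hφ'qf : φ'.QuasiFinite := RingHom.QuasiFinite.respectsIso.2 _ ρ.toRingEquiv hφqf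
  have hφ'ft : φ'.FiniteType := RingHom.finiteType_respectsIso.2 _ ρ.toRingEquiv hφft
  have hφ'C : ∀ r : Γ(Y, V), φ' (algebraMap Γ(Y, V) _ r) =
      algebraMap Γ(Y, V) (Localization.Away g) r := by
    intro r
    show φ (ρ (algebraMap Γ(Y, V) _ r)) = _
    rw [AlgEquiv.commutes, AlgHom.commutes]
  let G : Spec (.of (Localization.Away g)) ⟶
      Spec (.of (MvPolynomial (ULift.{u} (Fin e)) Γ(Y, V))) := Spec.map (CommRingCat.ofHom φ')
  let π : Spec (.of (MvPolynomial (ULift.{u} (Fin e)) Γ(Y, V))) ⟶ Spec Γ(Y, V) :=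
    Spec.map (CommRingCat.ofHom (algebraMap Γ(Y, V) (MvPolynomial (ULift.{u} (Fin e)) Γ(Y, V))))
  have hfac : j ≫ f = G ≫ π ≫ hV.fromSpec := by
    have h1 := IsAffineOpen.SpecMap_appLE_fromSpec f hV hU hUV
    show (Spec.map _ ≫ hU.fromSpec) ≫ f = Spec.map _ ≫ Spec.map _ ≫ hV.fromSpec
    rw [Category.assoc, ← h1, ← Category.assoc, ← Category.assoc, ← Spec.map_comp, ← Spec.map_comp]
    congr 2
    ext r
    show algebraMap Γ(X, U) (Localization.Away g) ((f.appLE V U hUV).hom r) =
      φ' (algebraMap Γ(Y, V) _ r)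
    rw [hφ'C]
    exact (IsScalarTower.algebraMap_apply Γ(Y, V) Γ(X, U) (Localization.Away g) r).symm
  -- irreducibility of `W`
  haveI hWirr : IrreducibleSpace ↥(Spec (.of (Localization.Away g))) := by
    have h1 : IsPreirreducible (Set.univ : Set ↥(Spec (.of (Localization.Away g)))) := by
      have := (IrreducibleSpace.isIrreducible_univ X).isPreirreducible.preimage j.isOpenEmbedding
      simpa using this
    exact { toPreirreducibleSpace := ⟨h1⟩, toNonempty := ⟨q'⟩ }
  -- the generic point of `W`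
  set ξ' : PrimeSpectrum (Localization.Away g) :=
    genericPoint ↥(Spec (.of (Localization.Away g))) with hξ'
  have hξall : ∀ a : ↥(Spec (.of (Localization.Away g))), (ξ' : ↥(Spec (.of (Localization.Away g)))) ⤳ a :=
    fun a => genericPoint_specializes a
  have hξmin : ∀ q₁ : PrimeSpectrum (Localization.Away g), q₁ ≤ ξ' → q₁ = ξ' := by
    intro q₁ hle
    have h1 : q₁ ⤳ ξ' := (PrimeSpectrum.le_iff_specializes q₁ ξ').mp hle
    exact (h1.antisymm (hξall q₁)).eq
  have hξtfd : (e : WithBot ℕ∞) ≤
      tfd (PrimeSpectrum.comap (algebraMap Γ(Y, V) (Localization.Away g))) ξ' := by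
    rw [tfd_eq_of_square (PrimeSpectrum.comap (algebraMap Γ(Y, V) Γ(X, U)))
      (PrimeSpectrum.comap (algebraMap Γ(Y, V) (Localization.Away g)))
      (PrimeSpectrum.comap (algebraMap Γ(X, U) (Localization.Away g))) id
      (PrimeSpectrum.localization_away_isOpenEmbedding (Localization.Away g) g)
      Function.injective_id (fun a' => by
        simp only [id]
        rw [IsScalarTower.algebraMap_eq Γ(Y, V) Γ(X, U) (Localization.Away g),
          PrimeSpectrum.comap_comp_apply]) ξ']
    exact (htfd _).ge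
  haveI : Algebra.FiniteType Γ(Y, V) (Localization.Away g) :=
    Algebra.FiniteType.trans (R := Γ(Y, V)) (S := Γ(X, U)) (A := Localization.Away g)
      inferInstance inferInstance
  have hM := comap_eq_map_C_of_le_tfd e φ hφqf ξ' hξmin hξtfd
  -- the image of `ξ'` in `Spec R` is generic
  have hgen : ∀ s : PrimeSpectrum Γ(Y, V), ξ'.asIdeal.under Γ(Y, V) ≤ s.asIdeal := by
    intro s
    have hd : DenseRange (j ≫ f).base := by
      have h1 : DenseRange j.base := by
        have hopen : IsOpen (Set.range j.base) := j.isOpenEmbedding.isOpen_range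
        exact hopen.dense ⟨_, Set.mem_range_self q'⟩
      have h2 : DenseRange f.base := f.denseRange
      have := h2.comp h1 f.continuous
      rwa [Scheme.Hom.comp_base, TopCat.coe_comp]
    have h3 := specializes_of_denseRange (j ≫ f).continuous hd
      (ξ' : ↥(Spec (.of (Localization.Away g)))) hξall (hV.fromSpec.base s)
    have h4 : (j ≫ f).base (ξ' : ↥(Spec (.of (Localization.Away g)))) = hV.fromSpec.base
        (PrimeSpectrum.comap (algebraMap Γ(Y, V) (Localization.Away g)) ξ') := by
      rw [hfac]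
      show hV.fromSpec.base (π.base (G.base ξ')) = _
      congr 1
      show PrimeSpectrum.comap (algebraMap Γ(Y, V) _) (PrimeSpectrum.comap φ' ξ') = _
      rw [← PrimeSpectrum.comap_comp_apply]
      congr 1
      ext r
      exact hφ'C r
    rw [h4] at h3
    have h5 := hV.fromSpec.isOpenEmbedding.isInducing.specializes_iff.mp h3
    exact (PrimeSpectrum.le_iff_specializes _ s).mpr h5
  -- `ζ' = G ξ'` specializes to everything
  have hζ : ∀ P' : ↥(Spec (.of (MvPolynomial (ULift.{u} (Fin e)) Γ(Y, V)))),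
      G.base (ξ' : ↥(Spec (.of (Localization.Away g)))) ⤳ P' := by
    intro P'
    have hle : (PrimeSpectrum.comap φ' ξ') ≤ (P' : PrimeSpectrum _) := by
      intro b hb
      have hb' : ρ b ∈ ξ'.asIdeal.comap φ.toRingHom := hb
      rw [hM] at hb'
      let P : Ideal (MvPolynomial (Fin e) Γ(Y, V)) :=
        Ideal.comap ρ.symm.toRingEquiv.toRingHom (P' : PrimeSpectrum _).asIdeal
      haveI : P.IsPrime := Ideal.comap_isPrime _ _
      have h1 : Ideal.map (MvPolynomial.C : Γ(Y, V) →+* MvPolynomial (Fin e) Γ(Y, V))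
          (ξ'.asIdeal.under Γ(Y, V)) ≤ P := by
        rw [Ideal.map_le_iff_le_comap]
        exact hgen ⟨Ideal.comap MvPolynomial.C P, inferInstance⟩
      have h2 : ρ b ∈ P := h1 hb'
      have h3 : ρ.symm (ρ b) ∈ (P' : PrimeSpectrum _).asIdeal := h2
      rwa [AlgEquiv.symm_apply_apply] at h3
    exact (PrimeSpectrum.le_iff_specializes _ _).mp hle
  haveI hZirr : IrreducibleSpace ↥(Spec (.of (MvPolynomial (ULift.{u} (Fin e)) Γ(Y, V)))) := by
    rw [irreducibleSpace_def]
    have : (⊤ : Set ↥(Spec (.of (MvPolynomial (ULift.{u} (Fin e)) Γ(Y, V))))) =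
        closure {G.base (ξ' : ↥(Spec (.of (Localization.Away g))))} := by
      symm
      rw [Set.top_eq_univ, Set.eq_univ_iff_forall]
      intro P'
      exact specializes_iff_mem_closure.mp (hζ P')
    rw [this]
    exact isIrreducible_singleton.closure
  have hGd : DenseRange G.base := by
    intro P'
    have := specializes_iff_mem_closure.mp (hζ P')
    refine closure_mono ?_ this
    rw [Set.singleton_subset_iff]
    exact Set.mem_range_self _
  haveI : LocallyQuasiFinite G := (HasRingHomProperty.Spec_iff (P := @LocallyQuasiFinite)).mpr hφ'qf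
  haveI : LocallyOfFiniteType G := (HasRingHomProperty.Spec_iff (P := @LocallyOfFiniteType)).mpr hφ'ft
  haveI hGuo : UniversallyOpen G := universallyOpen_of_lqf_of_denseRange G
    (isGeomUnibranch_Spec_mvPolynomial_stalk (ULift.{u} (Fin e)) V hV hY) hGd
  haveI : Flat π := (HasRingHomProperty.Spec_iff (P := @Flat)).mpr
    (RingHom.flat_algebraMap_iff.mpr inferInstance)
  haveI : LocallyOfFinitePresentation π :=
    (HasRingHomProperty.Spec_iff (P := @LocallyOfFinitePresentation)).mpr
      (RingHom.finitePresentation_algebraMap.mpr inferInstance)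
  rw [hfac]
  infer_instance

end Groth.Agent.H69.Chev
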