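import Groth.Agent.H69.ChevFactor
import Groth.Agent.H9.FibreGeneric
import Groth.Agent.S3449

/-! Equidimensionality at a point versus quasi-finite maps to affine space (EGA IV 13.3.1 a ⟺ b). -/

set_option autoImplicit false
set_option linter.style.haveILetI false
set_option linter.unusedSectionVars false
open AlgebraicGeometry CategoryTheory Limits

universe u

namespace Groth.Agent.H69.Chev

open Groth.Agent.H69.GeomUnibranch Groth.Agent.H9.FibDim Groth.Agent.H54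
  Groth.Agent.H9.FibreFormula Groth.Agent.H9.Equidim Groth.Agent.H9.FibreGeneric

theorem IsMaxPt.map_isOpenEmbedding {α β : Type*} [TopologicalSpace α] [TopologicalSpace β]
    {i : α → β} (hi : Topology.IsOpenEmbedding i) {a : α} (ha : IsMaxPt a) : IsMaxPt (i a) := by
  intro t ht
  have htr : t ∈ Set.range i := ht.mem_open hi.isOpen_range (Set.mem_range_self a)
  obtain ⟨t', rfl⟩ := htr
  rw [ha t' (hi.isInducing.specializes_iff.mp ht)]

theorem IsMaxPt.of_map_isEmbedding {α β : Type*} [TopologicalSpace α] [TopologicalSpace β]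
    {i : α → β} (hi : Topology.IsEmbedding i) {a : α} (ha : IsMaxPt (i a)) : IsMaxPt a := by
  intro t ht
  exact hi.injective (ha _ (ht.map hi.continuous))

theorem closure_image_eq_of_isGenericPoint {α β : Type*} [TopologicalSpace α] [TopologicalSpace β]
    {g : α → β} (hg : Continuous g) {ξ : α} {Z : Set α} (hξ : IsGenericPoint ξ Z) :
    closure (g '' Z) = closure {g ξ} := by
  apply le_antisymm
  · apply closure_minimal _ isClosed_closure
    rw [← hξ.def]
    refine (image_closure_subset_closure_image hg).trans ?_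
    rw [Set.image_singleton]
  · apply closure_mono
    rw [Set.singleton_subset_iff]
    exact ⟨ξ, hξ.mem, rfl⟩

/-- Maximal points of affine space lie over maximal points. -/
theorem isMaxPt_over_of_isMaxPt {Y : Scheme.{u}} (σ : Type u) (η' : ↥𝔸(σ; Y)) (hη' : IsMaxPt η') :
    IsMaxPt ((𝔸(σ; Y) ↘ Y).base η') := by
  have hopenX : IsOpenMap (𝔸(σ; Y) ↘ Y).base := AffineSpace.isOpenMap_over Y
  intro ξ' hξ'
  have hT : IsIrreducible ((𝔸(σ; Y) ↘ Y).base ⁻¹' closure {ξ'}) :=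
    (𝔸(σ; Y) ↘ Y).isIrreducible_preimage hopenX isIrreducible_singleton.closure
  have hηT : η' ∈ (𝔸(σ; Y) ↘ Y).base ⁻¹' closure {ξ'} :=
    specializes_iff_mem_closure.mp hξ'
  obtain ⟨t, ht⟩ := (𝔸(σ; Y) ↘ Y).surjective ξ'
  have htT : t ∈ (𝔸(σ; Y) ↘ Y).base ⁻¹' closure {ξ'} := by
    change (𝔸(σ; Y) ↘ Y).base t ∈ closure {ξ'}
    rw [ht]
    exact subset_closure rfl
  have h2 : η' ⤳ t := hη'.specializes_of_mem hT hηT htT
  have h3 := h2.map (𝔸(σ; Y) ↘ Y).continuous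
  rw [ht] at h3
  exact (hξ'.antisymm h3).eq

/-- The local dimension of a discrete space is at most `0`. -/
theorem localDim_le_zero_of_discrete (T : Type*) [TopologicalSpace T] [DiscreteTopology T] (a : T) :
    FlatMor.localDim T a ≤ 0 := by
  refine (localDim_le_of_mem T a ⟨{a}, isOpen_discrete _⟩ rfl).trans ?_
  unfold topologicalKrullDim
  haveI : Subsingleton (TopologicalSpace.IrreducibleCloseds
      ↥((⟨{a}, isOpen_discrete _⟩ : TopologicalSpace.Opens T) : Set T)) := by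
    haveI : Subsingleton ↥((⟨{a}, isOpen_discrete _⟩ : TopologicalSpace.Opens T) : Set T) :=
      ⟨fun x y => Subtype.ext (x.2.trans y.2.symm)⟩
    refine ⟨fun Z₁ Z₂ => ?_⟩
    apply TopologicalSpace.IrreducibleCloseds.ext
    rw [Subsingleton.eq_univ_of_nonempty Z₁.isIrreducible.nonempty,
      Subsingleton.eq_univ_of_nonempty Z₂.isIrreducible.nonempty]
  exact Order.krullDim_nonpos_of_subsingleton


/-- For a locally quasi-finite morphism the residue field extensions have transcendence degree `0`. -/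
theorem trdeg_eq_zero_of_locallyQuasiFinite {U Z : Scheme.{u}} (g : U ⟶ Z) [LocallyQuasiFinite g]
    [LocallyOfFiniteType g] (u : U) :
    @Algebra.trdeg (Z.residueField (g.base u)) (U.residueField u) _ _
        (g.residueFieldMap u).hom.toAlgebra = ((0 : ℕ) : Cardinal.{u}) := by
  obtain ⟨n, b, h1, -, h3⟩ := fibre_formula g u
  have h4 : FlatMor.fibreDimAt g u ≤ 0 := by
    rw [fibreDimAt_eq_tfd]
    unfold tfd
    haveI : DiscreteTopology ↥(g.base ⁻¹' {g.base u}) :=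
      (g.isDiscrete_preimage_singleton (g.base u)).to_subtype
    exact localDim_le_zero_of_discrete _ _
  rw [h3] at h4
  have h5 : n + b ≤ 0 := by exact_mod_cast h4
  have h6 : n = 0 := by omega
  rw [h1, h6]

/-- The polynomial ring in `e` variables over a ring has constant fibre dimension `e`. -/
theorem tfd_mvPolynomial {R : Type u} [CommRing R] (e : ℕ)
    (z : PrimeSpectrum (MvPolynomial (ULift.{u} (Fin e)) R)) :
    tfd (PrimeSpectrum.comap (algebraMap R (MvPolynomial (ULift.{u} (Fin e)) R))) z =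
      (e : WithBot ℕ∞) := by
  set p := z.asIdeal.under R with hp
  obtain ⟨Q, hQ⟩ := exists_fiber_prime p z.asIdeal
  rw [← localDim_fiber_eq_tfd p z rfl Q hQ]
  set κ := p.ResidueField
  let ε : p.Fiber (MvPolynomial (ULift.{u} (Fin e)) R) ≃+* MvPolynomial (Fin e) κ :=
    (MvPolynomial.algebraTensorAlgEquiv (σ := ULift.{u} (Fin e)) R κ).toRingEquiv.trans
      (MvPolynomial.renameEquiv κ (Equiv.ulift : ULift.{u} (Fin e) ≃ Fin e)).toRingEquiv
  have hdim : ringKrullDim (p.Fiber (MvPolynomial (ULift.{u} (Fin e)) R)) = (e : WithBot ℕ∞) := by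
    rw [ringKrullDim_eq_of_ringEquiv ε, Groth.Agent.H54.ringKrullDim_mvPolynomial_field]
  haveI : IsDomain (p.Fiber (MvPolynomial (ULift.{u} (Fin e)) R)) :=
    MulEquiv.isDomain (MvPolynomial (Fin e) κ) ε.toMulEquiv
  apply le_antisymm
  · refine (localDim_le_dim _ Q).trans ?_
    rw [PrimeSpectrum.topologicalKrullDim_eq_ringKrullDim, hdim]
  · rw [Groth.Agent.H9.LocalDimField.localDim_eq_iSup κ
      (p.Fiber (MvPolynomial (ULift.{u} (Fin e)) R)) Q]
    have hbot : (⊥ : Ideal (p.Fiber (MvPolynomial (ULift.{u} (Fin e)) R))) ∈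
        minimalPrimes (p.Fiber (MvPolynomial (ULift.{u} (Fin e)) R)) := by
      rw [IsDomain.minimalPrimes_eq_singleton_bot]; rfl
    refine le_trans ?_ (le_iSup (fun q0 : {q0 : PrimeSpectrum
        (p.Fiber (MvPolynomial (ULift.{u} (Fin e)) R)) //
        q0.asIdeal ∈ minimalPrimes (p.Fiber (MvPolynomial (ULift.{u} (Fin e)) R)) ∧ q0 ≤ Q} =>
        ringKrullDim (p.Fiber (MvPolynomial (ULift.{u} (Fin e)) R) ⧸ q0.1.asIdeal))
      ⟨⟨⊥, Ideal.isPrime_bot⟩, hbot, bot_le⟩)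
    show (e : WithBot ℕ∞) ≤ ringKrullDim (_ ⧸ (⊥ : Ideal _))
    rw [ringKrullDim_eq_of_ringEquiv (RingEquiv.quotientBot _), hdim]

/-- Affine charts of affine space over a scheme. -/
theorem exists_chart_affineSpace {Y : Scheme.{u}} (σ : Type u) (y' : ↥𝔸(σ; Y)) :
    ∃ (U : Y.Opens) (hU : IsAffineOpen U) (z : ↥(Spec (.of (MvPolynomial σ Γ(Y, U))))),
      ((AffineSpace.SpecIso σ Γ(Y, U)).inv ≫ AffineSpace.map σ hU.fromSpec).base z = y' := by
  obtain ⟨U, hU, hyU, -⟩ := exists_isAffineOpen_mem_and_subset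
    (x := (𝔸(σ; Y) ↘ Y).base y') (U := ⊤) trivial
  obtain ⟨z₀, hz₀1, -⟩ := exists_preimage_of_isPullback
    (AffineSpace.isPullback_map (n := σ) hU.fromSpec) y'
    (hU.primeIdealOf ⟨(𝔸(σ; Y) ↘ Y).base y', hyU⟩)
    (hU.fromSpec_primeIdealOf ⟨(𝔸(σ; Y) ↘ Y).base y', hyU⟩).symm
  refine ⟨U, hU, (AffineSpace.SpecIso σ Γ(Y, U)).hom.base z₀, ?_⟩
  rw [Scheme.Hom.comp_apply, ← Scheme.Hom.comp_apply (AffineSpace.SpecIso σ Γ(Y, U)).hom,
    Iso.hom_inv_id]
  exact hz₀1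

/-- Every point of affine `e`-space over `Y` has local fibre dimension `e`. -/
theorem fibreDimAt_affineSpace_over {Y : Scheme.{u}} (e : ℕ) (ζ : ↥𝔸(ULift.{u} (Fin e); Y)) :
    FlatMor.fibreDimAt (𝔸(ULift.{u} (Fin e); Y) ↘ Y) ζ = (e : WithBot ℕ∞) := by
  obtain ⟨U, hU, z, rfl⟩ := exists_chart_affineSpace (ULift.{u} (Fin e)) ζ
  haveI : IsOpenImmersion hU.fromSpec := hU.isOpenImmersion_fromSpec
  set ι : Spec (.of (MvPolynomial (ULift.{u} (Fin e)) Γ(Y, U))) ⟶ 𝔸(ULift.{u} (Fin e); Y) :=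
    (AffineSpace.SpecIso (ULift.{u} (Fin e)) Γ(Y, U)).inv ≫
      AffineSpace.map (ULift.{u} (Fin e)) hU.fromSpec with hι
  have hcomp : ι ≫ (𝔸(ULift.{u} (Fin e); Y) ↘ Y) =
      Spec.map (CommRingCat.ofHom MvPolynomial.C) ≫ hU.fromSpec := by
    rw [hι, Category.assoc, AffineSpace.map_over, AffineSpace.SpecIso_inv_over_assoc]
  rw [← fibreDimAt_comp_of_isOpenImmersion ι (𝔸(ULift.{u} (Fin e); Y) ↘ Y) z, hcomp,
    fibreDimAt_eq_tfd, ← tfd_mvPolynomial e z]
  symm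
  refine tfd_eq_of_square _ _ id hU.fromSpec.base Topology.IsOpenEmbedding.id
    hU.fromSpec.isOpenEmbedding.injective ?_ z
  intro a'
  rfl


theorem trdeg_affineSpace_over {Y : Scheme.{u}} (e : ℕ) (ζ : ↥𝔸(ULift.{u} (Fin e); Y)) :
    ∃ n : ℕ, n ≤ e ∧ (IsMaxPt ζ → n = e) ∧
      @Algebra.trdeg (Y.residueField ((𝔸(ULift.{u} (Fin e); Y) ↘ Y).base ζ))
        ((𝔸(ULift.{u} (Fin e); Y)).residueField ζ) _ _
        ((𝔸(ULift.{u} (Fin e); Y) ↘ Y).residueFieldMap ζ).hom.toAlgebra = (n : Cardinal.{u}) := by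
  obtain ⟨n, b, h1, h2, h3⟩ := fibre_formula (𝔸(ULift.{u} (Fin e); Y) ↘ Y) ζ
  rw [fibreDimAt_affineSpace_over] at h3
  have h4 : e = n + b := by exact_mod_cast h3
  refine ⟨n, by omega, fun hmax => ?_, h1⟩
  rw [ringKrullDim_stalk_eq_coheight, coheight_asFiber_of_forall _ ζ hmax] at h2
  have : ((0 : ℕ) : WithBot ℕ∞) = (b : WithBot ℕ∞) := by exact_mod_cast h2
  have hb : 0 = b := by exact_mod_cast this
  omega

/-- In a space with a Noetherian quasi-sober open neighbourhood of `x`, there is a smaller open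
neighbourhood all of whose maximal points specialize to `x`. -/
theorem exists_open_forall_isMaxPt_specializes {α : Type*} [TopologicalSpace α] [T0Space α]
    (U₁ : TopologicalSpace.Opens α) [TopologicalSpace.NoetherianSpace ↥U₁] [QuasiSober ↥U₁]
    (x : α) (hx : x ∈ U₁) :
    ∃ U' : TopologicalSpace.Opens α, U' ≤ U₁ ∧ x ∈ U' ∧
      ∀ ξ : α, ξ ∈ U' → IsMaxPt ξ → ξ ⤳ x := by
  classical
  let M : Set α := {ξ | ξ ∈ U₁ ∧ IsMaxPt ξ}
  have hMfin : M.Finite := by
    have hfin := TopologicalSpace.NoetherianSpace.finite_irreducibleComponents (α := ↥U₁)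
    let F : M → irreducibleComponents ↥U₁ := fun ξ =>
      ⟨closure {(⟨ξ.1, ξ.2.1⟩ : ↥U₁)}, closure_mem_irreducibleComponents_of_forall (by
        intro t ht
        have h1 : (t : α) ⤳ ξ.1 := ht.map continuous_subtype_val
        exact Subtype.ext (ξ.2.2 _ h1))⟩
    have hF : Function.Injective F := by
      intro a b hab
      have h1 : closure {(⟨a.1, a.2.1⟩ : ↥U₁)} = closure {(⟨b.1, b.2.1⟩ : ↥U₁)} :=
        congrArg Subtype.val hab
      have h2 : Inseparable (⟨a.1, a.2.1⟩ : ↥U₁) ⟨b.1, b.2.1⟩ :=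
        inseparable_iff_closure_eq.mpr h1
      have h3 := h2.eq
      have h4 : a.1 = b.1 := congrArg (fun t : ↥U₁ => (t : α)) h3
      exact Subtype.ext h4
    haveI : Finite (irreducibleComponents ↥U₁) := hfin.to_subtype
    haveI : Finite M := Finite.of_injective F hF
    exact Set.toFinite M
  let B : Set α := ⋃ ξ ∈ {ξ ∈ M | ¬ ξ ⤳ x}, closure {ξ}
  have hBclosed : IsClosed B :=
    (hMfin.subset (Set.sep_subset _ _)).isClosed_biUnion fun _ _ => isClosed_closure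
  refine ⟨⟨(U₁ : Set α) ∩ Bᶜ, U₁.2.inter hBclosed.isOpen_compl⟩, fun _ h => h.1, ⟨hx, ?_⟩, ?_⟩
  · intro hxB
    simp only [B, Set.mem_iUnion] at hxB
    obtain ⟨ξ, hξ, hxξ⟩ := hxB
    exact hξ.2 (specializes_iff_mem_closure.mpr hxξ)
  · rintro ξ ⟨hξU, hξB⟩ hξmax
    by_contra hns
    apply hξB
    simp only [B, Set.mem_iUnion]
    exact ⟨ξ, ⟨⟨hξU, hξmax⟩, hns⟩, subset_closure rfl⟩


/-- a) ⟹ b). -/
theorem exists_locallyQuasiFinite_of_isEquidimAt {X Y : Scheme.{u}} (f : X ⟶ Y)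
    [LocallyOfFiniteType f] (x : X) (h : EGA43.IsEquidimAt f x) :
    ∃ (e : ℕ) (U : X.Opens) (g : (U : Scheme.{u}) ⟶ 𝔸(ULift.{u} (Fin e); Y)),
        x ∈ U ∧ g ≫ (𝔸(ULift.{u} (Fin e); Y) ↘ Y) = U.ι ≫ f ∧ LocallyQuasiFinite g ∧
        ∀ Z ∈ irreducibleComponents (↥U : Type u),
          closure (g.base '' Z) ∈ irreducibleComponents (↥𝔸(ULift.{u} (Fin e); Y) : Type u) := by
  obtain ⟨e, U₀, hxU₀, hdimU₀, hmaxU₀⟩ := exists_of_isEquidimAt' f x h
  obtain ⟨V, hV, A, j, G, hjo, hxj, hjU₀, hfac, hGqf, hGft, hGmax⟩ :=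
    exists_factorization f x e U₀ hxU₀ hdimU₀ hmaxU₀
  haveI := hjo
  haveI := hGqf
  haveI : IsOpenImmersion hV.fromSpec := hV.isOpenImmersion_fromSpec
  set ι : Spec (.of (MvPolynomial (ULift.{u} (Fin e)) Γ(Y, V))) ⟶ 𝔸(ULift.{u} (Fin e); Y) :=
    (AffineSpace.SpecIso (ULift.{u} (Fin e)) Γ(Y, V)).inv ≫
      AffineSpace.map (ULift.{u} (Fin e)) hV.fromSpec with hι
  haveI : IsOpenImmersion ι := by rw [hι]; infer_instance
  have hcomp : ι ≫ (𝔸(ULift.{u} (Fin e); Y) ↘ Y) =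
      Spec.map (CommRingCat.ofHom MvPolynomial.C) ≫ hV.fromSpec := by
    rw [hι, Category.assoc, AffineSpace.map_over, AffineSpace.SpecIso_inv_over_assoc]
  let θ := IsOpenImmersion.isoOfRangeEq (Scheme.Opens.ι j.opensRange) j
    (by rw [Scheme.Opens.range_ι]; rfl)
  have hθ : θ.hom ≫ j = j.opensRange.ι := IsOpenImmersion.isoOfRangeEq_hom_fac _ _ _
  refine ⟨e, j.opensRange, θ.hom ≫ G ≫ ι, hxj, ?_, inferInstance, ?_⟩
  · rw [Category.assoc, Category.assoc, hcomp, ← hθ, Category.assoc, hfac]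
    rfl
  · intro Z hZ
    haveI : QuasiSober (↥j.opensRange : Type u) :=
      inferInstanceAs (QuasiSober (j.opensRange : Scheme.{u}))
    obtain ⟨ξ, hξ⟩ := QuasiSober.sober hZ.1 (isClosed_of_mem_irreducibleComponents Z hZ)
    have hξmax : IsMaxPt ξ := isMaxPt_of_isGenericPoint hZ hξ
    have h1 : IsMaxPt (θ.hom.base ξ) :=
      IsMaxPt.map_isOpenEmbedding θ.hom.isOpenEmbedding hξmax
    have h2 := hGmax _ h1
    have h3 : IsMaxPt (ι.base (G.base (θ.hom.base ξ))) :=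
      IsMaxPt.map_isOpenEmbedding ι.isOpenEmbedding h2
    rw [closure_image_eq_of_isGenericPoint (θ.hom ≫ G ≫ ι).continuous hξ]
    exact (isGenericPoint_of_isMaxPt h3).1


/-- b) ⟹ a) over a locally Noetherian base. -/
theorem isEquidimAt_of_exists_locallyQuasiFinite {X Y : Scheme.{u}} [IsLocallyNoetherian Y]
    (f : X ⟶ Y) [LocallyOfFiniteType f] (x : X) (e : ℕ) (U : X.Opens)
    (g : (U : Scheme.{u}) ⟶ 𝔸(ULift.{u} (Fin e); Y)) (hxU : x ∈ U)
    (hg : g ≫ (𝔸(ULift.{u} (Fin e); Y) ↘ Y) = U.ι ≫ f) [LocallyQuasiFinite g]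
    (hcomp : ∀ Z ∈ irreducibleComponents (↥U : Type u),
      closure (g.base '' Z) ∈ irreducibleComponents (↥𝔸(ULift.{u} (Fin e); Y) : Type u)) :
    EGA43.IsEquidimAt f x := by
  haveI : IsLocallyNoetherian X := LocallyOfFiniteType.isLocallyNoetherian f
  haveI : QuasiSober (↥U : Type u) := inferInstanceAs (QuasiSober (U : Scheme.{u}))
  set p := (𝔸(ULift.{u} (Fin e); Y) ↘ Y) with hp
  haveI : LocallyOfFiniteType g := by
    have : LocallyOfFiniteType (g ≫ p) := by rw [hg]; infer_instance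
    exact locallyOfFiniteType_of_comp g p
  -- facts about maximal points in `U`
  have hα : ∀ u : ↥U, IsMaxPt u → IsMaxPt (g.base u) := by
    intro u hu
    have hZ := closure_mem_irreducibleComponents_of_forall hu
    have h1 := hcomp _ hZ
    have h2 : closure (g.base '' closure {u}) = closure {g.base u} :=
      closure_image_eq_of_isGenericPoint g.continuous (isGenericPoint_def.mpr rfl)
    have h1' : closure {g.base u} ∈ irreducibleComponents (↥𝔸(ULift.{u} (Fin e); Y) : Type u) :=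
      Eq.mp (congrArg (fun s => s ∈ irreducibleComponents (↥𝔸(ULift.{u} (Fin e); Y) : Type u)) h2) h1
    exact isMaxPt_of_isGenericPoint h1' (isGenericPoint_def.mpr rfl)
  have hβ : ∀ u : ↥U, IsMaxPt u → IsMaxPt (f.base u.1) := by
    intro u hu
    have h1 := isMaxPt_over_of_isMaxPt _ _ (hα u hu)
    have h2 : p.base (g.base u) = f.base u.1 := by
      rw [← Scheme.Hom.comp_apply, hg]; rfl
    rwa [h2] at h1
  have htr0 : ∀ u : ↥U, @Algebra.trdeg ((𝔸(ULift.{u} (Fin e); Y)).residueField (g.base u))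
      ((U : Scheme.{u}).residueField u) _ _ (g.residueFieldMap u).hom.toAlgebra =
        ((0 : ℕ) : Cardinal.{u}) := fun u => trdeg_eq_zero_of_locallyQuasiFinite g u
  -- fibre dimension of `g ≫ p`
  have hγ : ∀ u : ↥U, IsMaxPt u → FlatMor.fibreDimAt (g ≫ p) u = (e : WithBot ℕ∞) := by
    intro u hu
    obtain ⟨n, -, hn, htr⟩ := trdeg_affineSpace_over e (g.base u)
    have hne : n = e := hn (hα u hu)
    subst hne
    refine fibreDimAt_eq_trdeg_of_forall (g ≫ p) u hu n ?_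
    rw [← Groth.Agent.S3449.trdeg_residueFieldMap_comp g p u, htr, htr0 u]
    simp
  have hle : ∀ u : ↥U, FlatMor.fibreDimAt (g ≫ p) u ≤ (e : WithBot ℕ∞) := by
    intro u
    obtain ⟨ζ, n, -, -, htr, hle⟩ := exists_fibre_generization (g ≫ p) u
    obtain ⟨n', hn'e, -, htr'⟩ := trdeg_affineSpace_over e (g.base ζ)
    rw [← Groth.Agent.S3449.trdeg_residueFieldMap_comp g p ζ, htr', htr0 ζ] at htr
    have hnn : n' = n := by
      have : ((n' + 0 : ℕ) : Cardinal.{u}) = (n : Cardinal.{u}) := by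
        rw [← htr]; push_cast; rfl
      exact_mod_cast this
    refine hle.trans ?_
    exact_mod_cast (hnn ▸ hn'e)
  -- transfer to `f`
  have hfib : ∀ u : ↥U, FlatMor.fibreDimAt (g ≫ p) u = FlatMor.fibreDimAt f u.1 := by
    intro u
    rw [hg]
    exact fibreDimAt_comp_of_isOpenImmersion U.ι f u
  -- shrink
  obtain ⟨U₁, hU₁, hxU₁, hU₁U⟩ :=
    exists_isAffineOpen_mem_and_subset (X := X) (x := x) (U := U) hxU
  haveI : IsNoetherianRing Γ(X, U₁) := IsLocallyNoetherian.component_noetherian ⟨U₁, hU₁⟩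
  haveI : TopologicalSpace.NoetherianSpace ↥U₁ := noetherianSpace_of_isAffineOpen U₁ hU₁
  haveI : QuasiSober (↥U₁ : Type u) := inferInstanceAs (QuasiSober (U₁ : Scheme.{u}))
  obtain ⟨U'₀, hU'U₁₀, hxU'₀, hspec₀⟩ := exists_open_forall_isMaxPt_specializes U₁ x hxU₁
  obtain ⟨U', hU'U₁, hxU', hspec⟩ : ∃ U' : X.Opens, U' ≤ U₁ ∧ x ∈ U' ∧
      ∀ ξ : X, ξ ∈ U' → IsMaxPt ξ → ξ ⤳ x := ⟨U'₀, hU'U₁₀, hxU'₀, hspec₀⟩
  have hU'U : U' ≤ U := hU'U₁.trans hU₁U
  have hmaxU : ∀ (ξ : X) (hξ : ξ ∈ U), IsMaxPt ξ → IsMaxPt (⟨ξ, hξ⟩ : ↥U) :=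
    fun ξ hξ hmax => IsMaxPt.of_map_isEmbedding (i := (Subtype.val : ↥U → X))
      Topology.IsEmbedding.subtypeVal hmax
  have hdim : ∀ x₁ : X, x₁ ∈ U' → FlatMor.fibreDimAt f x₁ = (e : WithBot ℕ∞) := by
    intro x₁ hx₁
    have hx₁U := hU'U hx₁
    apply le_antisymm
    · rw [← hfib ⟨x₁, hx₁U⟩]; exact hle _
    · obtain ⟨ξ, hξmax, hξx⟩ := exists_isMaxPt_specializes x₁
      have hξU' : ξ ∈ U' := hξx.mem_open U'.2 hx₁
      have hξe : FlatMor.fibreDimAt f ξ = (e : WithBot ℕ∞) := by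
        rw [← hfib ⟨ξ, hU'U hξU'⟩]; exact hγ _ (hmaxU ξ _ hξmax)
      obtain ⟨n, b, -, -, hnb⟩ := fibre_formula f x₁
      rw [hnb]
      by_contra hlt
      have hO := isOpen_setOf_fibreDimAt_le f (n + b)
      have hx₁O : x₁ ∈ {x | FlatMor.fibreDimAt f x ≤ ((n + b : ℕ) : WithBot ℕ∞)} := by
        show FlatMor.fibreDimAt f x₁ ≤ ((n + b : ℕ) : WithBot ℕ∞)
        rw [hnb]
      have hξO := hξx.mem_open hO hx₁O
      have h7 : FlatMor.fibreDimAt f ξ ≤ ((n + b : ℕ) : WithBot ℕ∞) := hξO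
      rw [hξe] at h7
      exact hlt h7
  refine ⟨e, U', hxU', ?_, ?_⟩
  · intro Z hZ
    haveI : QuasiSober (↥U' : Type u) := inferInstanceAs (QuasiSober (U' : Scheme.{u}))
    obtain ⟨ξ, hξ⟩ := QuasiSober.sober hZ.1 (isClosed_of_mem_irreducibleComponents Z hZ)
    have hξmax : IsMaxPt ξ := isMaxPt_of_isGenericPoint hZ hξ
    have hξmaxX : IsMaxPt (ξ.1 : X) :=
      IsMaxPt.map_isOpenEmbedding (i := (Subtype.val : ↥U' → X)) U'.isOpenEmbedding hξmax
    have hfmax : IsMaxPt (f.base ξ.1) := hβ ⟨ξ.1, hU'U ξ.2⟩ (hmaxU _ _ hξmaxX)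
    refine ⟨closure {f.base ξ.1}, (isGenericPoint_of_isMaxPt hfmax).1, ?_, ?_⟩
    · have := (hspec ξ.1 ξ.2 hξmaxX).map f.continuous
      exact this.mem_closure
    · exact closure_image_eq_of_isGenericPoint (U'.ι ≫ f).continuous hξ
  · intro x' Z hZ
    refine dim_component_eq_of_localDim (fiberQ (U'.ι ≫ f) _) e ?_ Z hZ
    intro a
    rw [Groth.Agent.H9.FibDim.localDim_fiber, fibreDimAt_comp_of_isOpenImmersion]
    exact hdim _ (Subtype.property _)

end Groth.Agent.H69.Chev
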