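import Groth.Agent.H69.AWNGlue
import Mathlib

set_option autoImplicit false
universe u
open AlgebraicGeometry CategoryTheory Limits

namespace Groth.Agent.H69

theorem isAWN_of_iso {Y Y' : Scheme.{u}} (e : Y ≅ Y') (h : HTop.IsAWN Y) : HTop.IsAWN Y' := by
  intro x'
  obtain ⟨U, hxU, hU⟩ := h (e.inv x')
  have hW : IsAffineOpen (e.hom ''ᵁ U.1) := U.2.image_of_isOpenImmersion e.hom
  refine ⟨⟨e.hom ''ᵁ U.1, hW⟩, ⟨e.inv x', hxU, ?_⟩, ?_⟩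
  · change (e.inv ≫ e.hom) x' = x'
    rw [e.inv_hom_id]; rfl
  · exact Groth.Agent.S7420.awn_equiv _ _ (e.hom.appIso U.1).symm.commRingCatIsoToRingEquiv hU

theorem isUnivHomeo_of_isIso {X Y : Scheme.{u}} (f : X ⟶ Y) [IsIso f] : FlatMor.IsUnivHomeo f :=
  Groth.Agent.H3.isUnivHomeo_of_surjective_isClosedImmersion f

/-- Two absolute weak normalizations of the same scheme are isomorphic over it. -/
theorem exists_iso_of_isAWNormalization {X X' X'' : Scheme.{u}} (ν : X' ⟶ X) (ν' : X'' ⟶ X)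
    (hν : HTop.IsAWNormalization ν) (hν' : HTop.IsAWNormalization ν') :
    ∃ e : X' ≅ X'', e.hom ≫ ν' = ν := by
  obtain ⟨a, ha, -⟩ := hν.2 X'' ν' hν'.1
  obtain ⟨b, hb, -⟩ := hν'.2 X' ν hν.1
  obtain ⟨c, -, hc⟩ := hν.2 X' ν hν.1
  obtain ⟨c', -, hc'⟩ := hν'.2 X'' ν' hν'.1
  have h1 : a ≫ b = 𝟙 X' := by
    rw [hc (a ≫ b) (by show (a ≫ b) ≫ ν = ν; rw [Category.assoc, hb, ha]),
      hc (𝟙 X') (Category.id_comp ν)]
  have h2 : b ≫ a = 𝟙 X'' := by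
    rw [hc' (b ≫ a) (by show (b ≫ a) ≫ ν' = ν'; rw [Category.assoc, ha, hb]),
      hc' (𝟙 X'') (Category.id_comp ν')]
  exact ⟨⟨a, b, h1, h2⟩, ha⟩

theorem isAWN_of_isAWNormalization {X X' : Scheme.{u}} (ν : X' ⟶ X)
    (hν : HTop.IsAWNormalization ν) : HTop.IsAWN X' := by
  obtain ⟨e, -⟩ := exists_iso_of_isAWNormalization (awnMap X) ν (isAWNormalization_awnMap X) hν
  exact isAWN_of_iso e (isAWN_awnScheme X)

theorem isAWNormalization_of_iso {X X' X'' : Scheme.{u}} (ν : X' ⟶ X)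
    (hν : HTop.IsAWNormalization ν) (e : X'' ≅ X') : HTop.IsAWNormalization (e.hom ≫ ν) := by
  refine ⟨(MorphismProperty.cancel_left_of_respectsIso FlatMor.IsUnivHomeo.{u} e.hom ν).mpr hν.1, ?_⟩
  intro Y π hπ
  obtain ⟨h', hh', huniq⟩ := hν.2 Y π hπ
  refine ⟨e.hom ≫ h', by show (e.hom ≫ h') ≫ π = e.hom ≫ ν; rw [Category.assoc, hh'], ?_⟩
  intro h₂ hh₂
  have hh₂' : h₂ ≫ π = e.hom ≫ ν := hh₂
  have : e.inv ≫ h₂ = h' := huniq _ (by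
    show (e.inv ≫ h₂) ≫ π = ν
    rw [Category.assoc, hh₂', e.inv_hom_id_assoc])
  rw [← this, e.hom_inv_id_assoc]

theorem isIso_of_isUnivHomeo_of_isAWN {X' Y : Scheme.{u}} (h : X' ⟶ Y)
    (hh : FlatMor.IsUnivHomeo h) (hX' : HTop.IsAWN X') (hY : HTop.IsAWN Y) : IsIso h := by
  apply isIso_of_forall_affine
  intro V
  have hV' : IsAffineOpen (h ⁻¹ᵁ V.1) := isAffine_preimage_of_isUnivHomeo h hh V.1 V.2
  haveI : IsAffine ↑(h ⁻¹ᵁ V.1) := hV'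
  haveI : IsAffine ↑V.1 := V.2
  refine ⟨hV', ?_⟩
  have hR := ringUH_appTop_of_isAffine (h ∣_ V.1) (isUnivHomeo_morphismRestrict h hh V.1)
  have hA : HTop.IsAWNRing Γ(↑V.1, ⊤) :=
    ((Groth.Agent.S7420.result Y).2.mp hY) ⟨V.1.ι ''ᵁ ⊤,
      (isAffineOpen_top _).image_of_isOpenImmersion V.1.ι⟩
  have hB : HTop.IsAWNRing Γ(↑(h ⁻¹ᵁ V.1), ⊤) :=
    ((Groth.Agent.S7420.result X').2.mp hX') ⟨(h ⁻¹ᵁ V.1).ι ''ᵁ ⊤,
      (isAffineOpen_top _).image_of_isOpenImmersion (h ⁻¹ᵁ V.1).ι⟩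
  exact bijective_of_ringUH_of_isAWNRing _ hR hA hB

theorem isIso_awnMap_of_isAWN (X : Scheme.{u}) (hX : HTop.IsAWN X) : IsIso (awnMap X) :=
  isIso_of_isUnivHomeo_of_isAWN _ (isUnivHomeo_awnMap X) (isAWN_awnScheme X) hX

end Groth.Agent.H69
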