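import Mathlib.AlgebraicGeometry.Morphisms.UniversallyInjective
import Mathlib.AlgebraicGeometry.Morphisms.Integral
import Mathlib.AlgebraicGeometry.ResidueField
import Mathlib.AlgebraicGeometry.PullbackCarrier
import Groth.Prelude.Def_HTop2

set_option autoImplicit false
universe u

open AlgebraicGeometry CategoryTheory MorphismProperty

namespace Groth.Agent.H69

theorem isUnivHomeo_of_integral {X Y : Scheme.{u}} (f : X ⟶ Y) [IsIntegralHom f]
    [UniversallyInjective f] [Surjective f] : FlatMor.IsUnivHomeo f := by
  intro X' Y' i₁ i₂ f' h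
  have h1 : IsIntegralHom f' := MorphismProperty.of_isPullback h.flip inferInstance
  have h2 : UniversallyInjective f' := MorphismProperty.of_isPullback h.flip inferInstance
  have h3 : Surjective f' := MorphismProperty.of_isPullback h.flip inferInstance
  show IsHomeomorph f'
  rw [isHomeomorph_iff_continuous_isClosedMap_bijective]
  exact ⟨f'.continuous, f'.isClosedMap, f'.injective, f'.surjective⟩

theorem isHomeomorph_of_isUnivHomeo {X Y : Scheme.{u}} (f : X ⟶ Y)
    (h : FlatMor.IsUnivHomeo f) : IsHomeomorph f :=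
  h _ _ _ IsPullback.of_id_snd

theorem universallyClosed_of_isUnivHomeo {X Y : Scheme.{u}} (f : X ⟶ Y)
    (h : FlatMor.IsUnivHomeo f) : UniversallyClosed f :=
  ⟨fun _ _ i₁ i₂ f' hp => (h i₁ i₂ f' hp).isClosedMap⟩

theorem isIntegral_of_isUnivHomeo_Spec {A C : Type u} [CommRing A] [CommRing C] (ψ : A →+* C)
    (h : FlatMor.IsUnivHomeo (Spec.map (CommRingCat.ofHom ψ))) : ψ.IsIntegral := by
  have := universallyClosed_of_isUnivHomeo _ h
  have hint : IsIntegralHom (Spec.map (CommRingCat.ofHom ψ)) :=
    IsIntegralHom.iff_universallyClosed_and_isAffineHom.mpr ⟨this, inferInstance⟩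
  exact IsIntegralHom.SpecMap_iff.mp hint

theorem comap_bijective_of_isUnivHomeo_Spec {A C : Type u} [CommRing A] [CommRing C]
    (ψ : A →+* C) (h : FlatMor.IsUnivHomeo (Spec.map (CommRingCat.ofHom ψ))) :
    Function.Bijective (PrimeSpectrum.comap ψ) :=
  (isHomeomorph_of_isUnivHomeo _ h).bijective


section residue

open IsLocalRing

theorem residueFieldMap_bijective_of_bijective {R S : Type*} [CommRing R] [IsLocalRing R]
    [CommRing S] [IsLocalRing S] (a : R →+* S) [IsLocalHom a] (ha : Function.Bijective a) :
    Function.Bijective (ResidueField.map a) := by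
  refine ⟨(ResidueField.map a).injective, fun z => ?_⟩
  obtain ⟨s, rfl⟩ := residue_surjective z
  obtain ⟨r, rfl⟩ := ha.2 s
  exact ⟨residue R r, ResidueField.map_residue a r⟩

theorem residueFieldMap_bijective_congr {R S : Type*} [CommRing R] [IsLocalRing R]
    [CommRing S] [IsLocalRing S] (f g : R →+* S) [IsLocalHom f] [IsLocalHom g] (h : f = g) :
    Function.Bijective (ResidueField.map f) ↔ Function.Bijective (ResidueField.map g) := by
  subst h
  rfl

theorem residueFieldMap_bijective_comp_iff {R₁ R₂ R₃ R₄ : Type*} [CommRing R₁] [IsLocalRing R₁]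
    [CommRing R₂] [IsLocalRing R₂] [CommRing R₃] [IsLocalRing R₃] [CommRing R₄] [IsLocalRing R₄]
    (a : R₁ →+* R₂) (L : R₂ →+* R₃) (b : R₃ →+* R₄) [IsLocalHom a] [IsLocalHom L] [IsLocalHom b]
    (ha : Function.Bijective a) (hb : Function.Bijective b) :
    Function.Bijective (ResidueField.map (b.comp (L.comp a))) ↔
      Function.Bijective (ResidueField.map L) := by
  rw [ResidueField.map_comp, ResidueField.map_comp, RingHom.coe_comp, RingHom.coe_comp]
  rw [Function.Bijective.of_comp_iff' (residueFieldMap_bijective_of_bijective b hb),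
    Function.Bijective.of_comp_iff _ (residueFieldMap_bijective_of_bijective a ha)]

end residue

/-- Translation between the scheme-theoretic residue field maps of `Spec ψ` and the algebraic
residue field maps. -/
theorem isIso_residueFieldMap_Spec_iff {A C : Type u} [CommRing A] [CommRing C] (ψ : A →+* C)
    (y : Spec (CommRingCat.of C)) :
    IsIso ((Spec.map (CommRingCat.ofHom ψ)).residueFieldMap y) ↔
      Function.Bijective (Ideal.ResidueField.map (PrimeSpectrum.comap ψ y).asIdeal y.asIdeal ψ
        rfl) := by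
  rw [ConcreteCategory.isIso_iff_bijective]
  have hst := Scheme.localRingHom_comp_stalkIso (CommRingCat.ofHom ψ) y
  haveI i0 : IsLocalHom (Spec.stalkIso (CommRingCat.of A)
      (PrimeSpectrum.comap (CommRingCat.ofHom ψ).hom y)).hom.hom := isLocalHom_of_iso _
  haveI i3 : IsLocalHom (Spec.stalkIso (CommRingCat.of C) y).inv.hom :=
    isLocalHom_of_iso (Spec.stalkIso (CommRingCat.of C) y).symm
  have hb1 : Function.Bijective (Spec.stalkIso (CommRingCat.of A)
      (PrimeSpectrum.comap (CommRingCat.ofHom ψ).hom y)).hom.hom :=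
    (ConcreteCategory.isIso_iff_bijective _).mp inferInstance
  have hb2 : Function.Bijective (Spec.stalkIso (CommRingCat.of C) y).inv.hom :=
    (ConcreteCategory.isIso_iff_bijective _).mp inferInstance
  haveI i1 : IsLocalHom ((Localization.localRingHom (PrimeSpectrum.comap ψ y).asIdeal y.asIdeal
      ψ rfl).comp
      (Spec.stalkIso (CommRingCat.of A)
        (PrimeSpectrum.comap (CommRingCat.ofHom ψ).hom y)).hom.hom) :=
    RingHom.isLocalHom_comp _ _
  haveI i2 : IsLocalHom ((Spec.stalkIso (CommRingCat.of C) y).inv.hom.comp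
        ((Localization.localRingHom (PrimeSpectrum.comap ψ y).asIdeal y.asIdeal ψ rfl).comp
          (Spec.stalkIso (CommRingCat.of A)
            (PrimeSpectrum.comap (CommRingCat.ofHom ψ).hom y)).hom.hom)) :=
    RingHom.isLocalHom_comp _ _
  haveI i4 : IsLocalHom ((Spec.map (CommRingCat.ofHom ψ)).stalkMap y).hom := inferInstance
  have heq : ((Spec.map (CommRingCat.ofHom ψ)).stalkMap y).hom =
      (Spec.stalkIso (CommRingCat.of C) y).inv.hom.comp
        ((Localization.localRingHom (PrimeSpectrum.comap ψ y).asIdeal y.asIdeal ψ rfl).comp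
          (Spec.stalkIso (CommRingCat.of A)
            (PrimeSpectrum.comap (CommRingCat.ofHom ψ).hom y)).hom.hom) := by
    rw [← hst]
    rfl
  have key1 := @residueFieldMap_bijective_congr _ _ _ _ _ _ _ _ i4 i2 heq
  have key2 := residueFieldMap_bijective_comp_iff
    (Spec.stalkIso (CommRingCat.of A) (PrimeSpectrum.comap (CommRingCat.ofHom ψ).hom y)).hom.hom
    (Localization.localRingHom (PrimeSpectrum.comap ψ y).asIdeal y.asIdeal ψ rfl)
    (Spec.stalkIso (CommRingCat.of C) y).inv.hom hb1 hb2
  exact key1.trans key2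

end Groth.Agent.H69
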