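import Groth.Agent.H69.UHSch
import Groth.Agent.H69.UHomeo
import Mathlib

set_option autoImplicit false
universe u
open AlgebraicGeometry CategoryTheory Limits

namespace Groth.Agent.H69

theorem isUnivHomeo_of_comp_surjective {X Y Z : Scheme.{u}} (f : X ⟶ Y) (g : Y ⟶ Z)
    [Surjective f] (hfg : FlatMor.IsUnivHomeo (f ≫ g)) : FlatMor.IsUnivHomeo g := by
  intro Y' Z' i₁ i₂ g' sq
  have sq2 : IsPullback (pullback.snd f i₁) (pullback.fst f i₁) i₁ f :=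
    (IsPullback.of_hasPullback f i₁).flip
  have sq3 := sq2.paste_horiz sq
  have h1 : IsHomeomorph (pullback.snd f i₁ ≫ g') := hfg _ _ _ sq3
  have hs : Function.Surjective (pullback.snd f i₁) := (pullback.snd f i₁).surjective
  change IsHomeomorph g'
  have hcomp : ⇑(pullback.snd f i₁ ≫ g') = ⇑g' ∘ ⇑(pullback.snd f i₁) := by
    funext y
    simp only [Function.comp_apply, Scheme.Hom.comp_apply]
  rw [hcomp] at h1
  refine ⟨g'.continuous, ?_, ?_, ?_⟩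
  · intro U hU
    have : ⇑g' '' U = (⇑g' ∘ ⇑(pullback.snd f i₁)) '' (⇑(pullback.snd f i₁) ⁻¹' U) := by
      rw [Set.image_comp, Set.image_preimage_eq _ hs]
    rw [this]
    exact h1.isOpenMap _ (hU.preimage (pullback.snd f i₁).continuous)
  · exact Function.Injective.of_comp_right h1.injective hs
  · exact Function.Surjective.of_comp h1.surjective

theorem residueFieldsIso_of_comp_surjective {X Y Z : Scheme.{u}} (f : X ⟶ Y) (g : Y ⟶ Z)
    [Surjective f] (hfg : HTop.ResidueFieldsIso (f ≫ g)) : HTop.ResidueFieldsIso g := by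
  intro y
  obtain ⟨x, rfl⟩ := f.surjective y
  have h1 : IsIso ((f ≫ g).residueFieldMap x) := hfg x
  rw [Scheme.residueFieldMap_comp] at h1
  have hb : Function.Bijective ((g.residueFieldMap (f x) ≫ f.residueFieldMap x).hom) :=
    (ConcreteCategory.isIso_iff_bijective _).mp h1
  have hinj : Function.Injective (f.residueFieldMap x).hom := (f.residueFieldMap x).hom.injective
  rw [CommRingCat.hom_comp, RingHom.coe_comp] at hb
  refine (ConcreteCategory.isIso_iff_bijective _).mpr ⟨?_, ?_⟩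
  · exact (g.residueFieldMap (f x)).hom.injective
  · intro z
    obtain ⟨w, hw⟩ := hb.2 ((f.residueFieldMap x).hom z)
    exact ⟨w, hinj hw⟩

theorem exists_factor_graph {S X T T' : Scheme.{u}} [X.IsSeparated] (fX : X ⟶ S)
    [LocallyOfFiniteType fX] (fT : T ⟶ S) (ν : T' ⟶ T) (hν : FlatMor.IsUnivHomeo ν)
    (g : T' ⟶ X) (hg : g ≫ fX = ν ≫ fT) :
    ∃ (T₁ : Scheme.{u}) (π : T₁ ⟶ T) (_ : IsFinite π) (_ : FlatMor.IsUnivHomeo π) (g₁ : T₁ ⟶ X)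
      (h : T' ⟶ T₁), Surjective h ∧ h ≫ π = ν ∧ g₁ ≫ fX = π ≫ fT ∧ h ≫ g₁ = g := by
  let Γ : T' ⟶ pullback fX fT := pullback.lift g ν hg
  have hΓ2 : Γ ≫ pullback.snd fX fT = ν := pullback.lift_snd _ _ _
  have hΓ1 : Γ ≫ pullback.fst fX fT = g := pullback.lift_fst _ _ _
  have hνint : IsIntegralHom ν := isIntegralHom_of_isUnivHomeo ν hν
  have i1 : IsIntegralHom (Γ ≫ pullback.snd fX fT) := by rw [hΓ2]; exact hνint
  have i2 : IsIntegralHom Γ := IsIntegralHom.of_comp Γ (pullback.snd fX fT)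
  let h : T' ⟶ Γ.image := Γ.toImage
  have hh : h ≫ Γ.imageι = Γ := Γ.toImage_imageι
  let π : Γ.image ⟶ T := Γ.imageι ≫ pullback.snd fX fT
  have hπ : h ≫ π = ν := by rw [← Category.assoc, hh, hΓ2]
  have i3 : IsIntegralHom (h ≫ Γ.imageι) := by rw [hh]; exact i2
  have i4 : IsIntegralHom h := IsIntegralHom.of_comp h Γ.imageι
  have i5 : IsDominant h := inferInstance
  have i6 : Surjective h :=
    surjective_of_isDominant_of_isClosed_range h h.isClosedMap.isClosed_range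
  have hπUH : FlatMor.IsUnivHomeo π := isUnivHomeo_of_comp_surjective h π (hπ ▸ hν)
  have i7 : IsIntegralHom π := isIntegralHom_of_isUnivHomeo π hπUH
  have i8 : LocallyOfFiniteType π := inferInstance
  have i9 : IsFinite π := (IsFinite.iff_isIntegralHom_and_locallyOfFiniteType π).mpr ⟨i7, i8⟩
  refine ⟨Γ.image, π, i9, hπUH, Γ.imageι ≫ pullback.fst fX fT, h, i6, hπ, ?_, ?_⟩
  · rw [Category.assoc, pullback.condition, Category.assoc]
  · rw [← Category.assoc, hh, hΓ1]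

theorem exists_dominating {T T' T₁ T₂ X : Scheme.{u}} [X.IsSeparated] (ν : T' ⟶ T)
    (hν : FlatMor.IsUnivHomeo ν) (π₁ : T₁ ⟶ T) (π₂ : T₂ ⟶ T) [IsFinite π₁] [IsFinite π₂]
    (hπ₁ : FlatMor.IsUnivHomeo π₁) (hπ₂ : FlatMor.IsUnivHomeo π₂)
    (g₁ : T₁ ⟶ X) (g₂ : T₂ ⟶ X) (h₁ : T' ⟶ T₁) (h₂ : T' ⟶ T₂)
    (e1 : h₁ ≫ π₁ = ν) (e2 : h₂ ≫ π₂ = ν) (e : h₁ ≫ g₁ = h₂ ≫ g₂) :
    ∃ (T₃ : Scheme.{u}) (π₃ : T₃ ⟶ T) (_ : IsFinite π₃) (_ : FlatMor.IsUnivHomeo π₃)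
      (a₁ : T₃ ⟶ T₁) (a₂ : T₃ ⟶ T₂) (k : T' ⟶ T₃), Surjective k ∧ k ≫ π₃ = ν ∧
        a₁ ≫ π₁ = π₃ ∧ a₂ ≫ π₂ = π₃ ∧ a₁ ≫ g₁ = a₂ ≫ g₂ := by
  let p₁ : pullback π₁ π₂ ⟶ T₁ := pullback.fst π₁ π₂
  let p₂ : pullback π₁ π₂ ⟶ T₂ := pullback.snd π₁ π₂
  let Δ : T' ⟶ pullback π₁ π₂ := pullback.lift h₁ h₂ (by rw [e1, e2])
  have hΔ1 : Δ ≫ p₁ = h₁ := pullback.lift_fst _ _ _
  have hΔ2 : Δ ≫ p₂ = h₂ := pullback.lift_snd _ _ _
  have hΔe : Δ ≫ (p₁ ≫ g₁) = Δ ≫ (p₂ ≫ g₂) := by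
    rw [← Category.assoc, hΔ1, ← Category.assoc, hΔ2, e]
  let ι : equalizer (p₁ ≫ g₁) (p₂ ≫ g₂) ⟶ pullback π₁ π₂ := equalizer.ι _ _
  let k : T' ⟶ equalizer (p₁ ≫ g₁) (p₂ ≫ g₂) := equalizer.lift Δ hΔe
  have hk : k ≫ ι = Δ := equalizer.lift_ι _ _
  let π₃ : equalizer (p₁ ≫ g₁) (p₂ ≫ g₂) ⟶ T := ι ≫ p₁ ≫ π₁
  have hkπ : k ≫ π₃ = ν := by
    change k ≫ ι ≫ p₁ ≫ π₁ = ν
    rw [← Category.assoc, hk, ← Category.assoc, hΔ1, e1]
  have hp₁ : FlatMor.IsUnivHomeo p₁ := FlatMor.IsUnivHomeo.pullback_fst _ _ hπ₂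
  have inj3 : Function.Injective π₃ := by
    have a : Function.Injective ι := ι.isClosedEmbedding.injective
    have b : Function.Injective p₁ := (isHomeomorph_of_isUnivHomeo p₁ hp₁).injective
    have c : Function.Injective π₁ := (isHomeomorph_of_isUnivHomeo π₁ hπ₁).injective
    intro x y hxy
    apply a
    apply b
    apply c
    simpa [π₃, Scheme.Hom.comp_apply] using hxy
  have i6 : Surjective k := by
    refine ⟨fun z => ?_⟩
    obtain ⟨t, ht⟩ := (isHomeomorph_of_isUnivHomeo ν hν).surjective (π₃ z)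
    refine ⟨t, inj3 ?_⟩
    rw [← ht, ← hkπ]
    rfl
  have hπ₃UH : FlatMor.IsUnivHomeo π₃ := isUnivHomeo_of_comp_surjective k π₃ (hkπ ▸ hν)
  have i9 : IsFinite π₃ := inferInstance
  refine ⟨_, π₃, i9, hπ₃UH, ι ≫ p₁, ι ≫ p₂, k, i6, hkπ, ?_, ?_, ?_⟩
  · rw [Category.assoc]
  · rw [Category.assoc]
    change ι ≫ p₂ ≫ π₂ = ι ≫ p₁ ≫ π₁
    rw [← pullback.condition]
  · rw [Category.assoc, Category.assoc]
    exact equalizer.condition _ _

end Groth.Agent.H69
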