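import Groth.Agent.H69.UHCancel
import Mathlib

set_option autoImplicit false
universe u
open AlgebraicGeometry CategoryTheory

namespace Groth.Agent.H69

section
variable {A B : Type u} [CommRing A] [CommRing B] [Algebra A B] (p : ℕ) (hp : p.Prime)
  (Hp : ∀ b : B, ∃ n : ℕ, (p : B) ^ n * b ∈ (algebraMap A B).range)

theorem natCast_pow_mem_range (n : ℕ) : ((p : B) ^ n) ∈ (algebraMap A B).range :=
  ⟨(p : A) ^ n, by rw [map_pow, map_natCast]⟩

include Hp in
theorem exists_pow_mul_mem_of_fg (S : Subalgebra A B) (hS : S.toSubmodule.FG) :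
    ∃ N : ℕ, ∀ s ∈ S, (p : B) ^ N * s ∈ (algebraMap A B).range := by
  classical
  obtain ⟨G, hG⟩ := hS
  choose n hn using Hp
  refine ⟨∑ g ∈ G, n g, fun s hs => ?_⟩
  have hs' : s ∈ Submodule.span A (G : Set B) := by rw [hG]; exact hs
  clear hs
  induction hs' using Submodule.span_induction with
  | mem x hx =>
    have hle : n x ≤ ∑ g ∈ G, n g := Finset.single_le_sum (fun _ _ => Nat.zero_le _) hx
    obtain ⟨d, hd⟩ := Nat.exists_eq_add_of_le hle
    rw [hd, pow_add, mul_comm ((p : B) ^ n x), mul_assoc]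
    exact Subring.mul_mem _ (natCast_pow_mem_range p d) (hn x)
  | zero => rw [mul_zero]; exact Subring.zero_mem _
  | add x y _ _ hx hy => rw [mul_add]; exact Subring.add_mem _ hx hy
  | smul a x _ hx =>
    rw [Algebra.smul_def, mul_left_comm]
    exact Subring.mul_mem _ ⟨a, rfl⟩ hx

include hp Hp in
theorem add_mem_good {u v : B} {m : ℕ} (hu : u ^ p ^ m ∈ (algebraMap A B).range)
    (hv : v ^ p ^ m ∈ (algebraMap A B).range) :
    ∃ M, (u + v) ^ p ^ M ∈ (algebraMap A B).range := by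
  have hpm : 0 < p ^ m := pow_pos hp.pos m
  have hui : IsIntegral A u := IsIntegral.of_pow hpm (by
    obtain ⟨a, ha⟩ := hu; rw [← ha]; exact isIntegral_algebraMap)
  have hvi : IsIntegral A v := IsIntegral.of_pow hpm (by
    obtain ⟨a, ha⟩ := hv; rw [← ha]; exact isIntegral_algebraMap)
  have hfg : (Algebra.adjoin A ({u, v} : Set B)).toSubmodule.FG :=
    fg_adjoin_of_finite (Set.toFinite _) (by
      rintro x (rfl | rfl)
      · exact hui
      · exact hvi)
  obtain ⟨N, hN⟩ := exists_pow_mul_mem_of_fg p Hp _ hfg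
  obtain ⟨r, hr⟩ := exists_add_pow_prime_pow_eq hp
    (⟨u, Algebra.subset_adjoin (by simp)⟩ : Algebra.adjoin A ({u, v} : Set B))
    (⟨v, Algebra.subset_adjoin (by simp)⟩ : Algebra.adjoin A ({u, v} : Set B)) m
  have hdvd : ((p : ℕ) : Algebra.adjoin A ({u, v} : Set B)) ∣
      ((⟨u, Algebra.subset_adjoin (by simp)⟩ : Algebra.adjoin A ({u, v} : Set B)) +
        ⟨v, Algebra.subset_adjoin (by simp)⟩) ^ p ^ m -
      ((⟨u, Algebra.subset_adjoin (by simp)⟩ : Algebra.adjoin A ({u, v} : Set B)) ^ p ^ m +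
        (⟨v, Algebra.subset_adjoin (by simp)⟩ : Algebra.adjoin A ({u, v} : Set B)) ^ p ^ m) :=
    ⟨⟨u, Algebra.subset_adjoin (by simp)⟩ * ⟨v, Algebra.subset_adjoin (by simp)⟩ * r, by
      rw [hr]; ring⟩
  obtain ⟨w, hw⟩ := dvd_sub_pow_of_dvd_sub hdvd N
  have hw' := congrArg (Algebra.adjoin A ({u, v} : Set B)).val hw
  simp only [map_sub, map_pow, map_add, map_mul, map_natCast, Subalgebra.coe_val] at hw'
  refine ⟨m + N, ?_⟩
  have e : (u + v) ^ p ^ (m + N) =
      (u ^ p ^ m + v ^ p ^ m) ^ p ^ N + (p : B) ^ (N + 1) * (w : B) := by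
    rw [pow_add, pow_mul]
    exact eq_add_of_sub_eq' hw'
  rw [e]
  refine Subring.add_mem _ (Subring.pow_mem _ (Subring.add_mem _ hu hv) _) ?_
  rw [pow_succ, mul_comm ((p : B) ^ N), mul_assoc]
  exact Subring.mul_mem _ ⟨(p : A), map_natCast _ p⟩ (hN _ w.2)

/-- Elements of `B` with a `p`-power power in the image of `A`. -/
def goodAlg : Subalgebra A B where
  carrier := {b | ∃ m, b ^ p ^ m ∈ (algebraMap A B).range}
  mul_mem' := by
    rintro u v ⟨m₁, h₁⟩ ⟨m₂, h₂⟩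
    refine ⟨m₁ + m₂, ?_⟩
    rw [mul_pow]
    refine Subring.mul_mem _ ?_ ?_
    · rw [pow_add, pow_mul]; exact Subring.pow_mem _ h₁ _
    · rw [add_comm, pow_add, pow_mul]; exact Subring.pow_mem _ h₂ _
  add_mem' := by
    rintro u v ⟨m₁, h₁⟩ ⟨m₂, h₂⟩
    have h₁' : u ^ p ^ (m₁ + m₂) ∈ (algebraMap A B).range := by
      rw [pow_add, pow_mul]; exact Subring.pow_mem _ h₁ _
    have h₂' : v ^ p ^ (m₁ + m₂) ∈ (algebraMap A B).range := by
      rw [add_comm, pow_add, pow_mul]; exact Subring.pow_mem _ h₂ _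
    exact add_mem_good p hp Hp h₁' h₂'
  algebraMap_mem' := fun a => ⟨0, by rw [pow_zero, pow_one]; exact ⟨a, rfl⟩⟩

theorem mem_goodAlg (b : B) : b ∈ goodAlg p hp Hp ↔ ∃ m, b ^ p ^ m ∈ (algebraMap A B).range :=
  Iff.rfl

theorem pow_mem_goodAlg_imp {b : B} {k : ℕ} (h : b ^ k ∈ goodAlg p hp Hp) :
    ∃ m, b ^ (k * p ^ m) ∈ (algebraMap A B).range := by
  obtain ⟨m, hm⟩ := h
  exact ⟨m, by rw [pow_mul]; exact hm⟩

include hp Hp in
theorem goodAlg_eq_top (hU : RingUH (algebraMap A B)) : goodAlg p hp Hp = ⊤ := by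
  by_contra hne
  have hχ : Function.Injective ((goodAlg p hp Hp).val.toRingHom) := Subtype.val_injective
  have hcomp : ((goodAlg p hp Hp).val.toRingHom).comp (algebraMap A (goodAlg p hp Hp)) =
      algebraMap A B := by
    ext a; rfl
  have hUS : RingUH ((goodAlg p hp Hp).val.toRingHom) :=
    (RingUH.of_comp _ _ hχ (by rw [hcomp]; exact hU)).2
  have hns : ¬ Function.Surjective ((goodAlg p hp Hp).val.toRingHom) := by
    intro hs
    apply hne
    rw [eq_top_iff]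
    intro b _
    obtain ⟨s, hs⟩ := hs b
    exact hs ▸ s.2
  have hmem : ∀ b : B, b ∈ ((goodAlg p hp Hp).val.toRingHom).range ↔ b ∈ goodAlg p hp Hp := by
    intro b
    constructor
    · rintro ⟨s, rfl⟩; exact s.2
    · intro hb; exact ⟨⟨b, hb⟩, rfl⟩
  rcases exists_sq_cube_or_prime_of_ringUH _ hχ hns hUS with
    ⟨b, hb, h2, h3⟩ | ⟨ℓ, b, hℓ, hb, h1, h2⟩
  · apply hb
    rw [hmem] at h2 h3 ⊢
    obtain ⟨m₂, hm₂⟩ := h2
    obtain ⟨m₃, hm₃⟩ := h3
    -- common exponent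
    have e2 : b ^ (2 * p ^ (m₂ + m₃)) ∈ (algebraMap A B).range := by
      rw [pow_add, ← mul_assoc, pow_mul, pow_mul]
      exact Subring.pow_mem _ hm₂ _
    have e3 : b ^ (3 * p ^ (m₂ + m₃)) ∈ (algebraMap A B).range := by
      rw [add_comm, pow_add, ← mul_assoc, pow_mul, pow_mul]
      exact Subring.pow_mem _ hm₃ _
    obtain ⟨a, c, hac⟩ : ∃ a c : ℕ, p = 2 * a + 3 * c := by
      have h2le := hp.two_le
      rcases Nat.even_or_odd p with ⟨k, hk⟩ | ⟨k, hk⟩
      · exact ⟨k, 0, by omega⟩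
      · exact ⟨k - 1, 1, by omega⟩
    refine ⟨m₂ + m₃ + 1, ?_⟩
    have e : b ^ p ^ (m₂ + m₃ + 1) =
        (b ^ (2 * p ^ (m₂ + m₃))) ^ a * (b ^ (3 * p ^ (m₂ + m₃))) ^ c := by
      have hexp : p ^ (m₂ + m₃) * p =
          2 * p ^ (m₂ + m₃) * a + 3 * p ^ (m₂ + m₃) * c := by
        generalize p ^ (m₂ + m₃) = q
        rw [hac]
        ring
      rw [← pow_mul, ← pow_mul, ← pow_add, pow_succ, hexp]
    rw [e]
    exact Subring.mul_mem _ (Subring.pow_mem _ e2 _) (Subring.pow_mem _ e3 _)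
  · apply hb
    rw [hmem] at h1 h2 ⊢
    by_cases hℓp : ℓ = p
    · subst hℓp
      obtain ⟨m, hm⟩ := h2
      exact ⟨m + 1, by rw [pow_succ, mul_comm, pow_mul]; exact hm⟩
    · obtain ⟨n, hn⟩ := Hp b
      have hcop : Nat.Coprime ℓ (p ^ n) :=
        Nat.Coprime.pow_right n ((Nat.coprime_primes hℓ hp).mpr hℓp)
      have hbez : (ℓ : ℤ) * Nat.gcdA ℓ (p ^ n) + ((p ^ n : ℕ) : ℤ) * Nat.gcdB ℓ (p ^ n) = 1 := by
        have := Nat.gcd_eq_gcd_ab ℓ (p ^ n)
        rw [hcop.gcd_eq_one] at this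
        exact_mod_cast this.symm
      have hbezB : (ℓ : B) * ((Nat.gcdA ℓ (p ^ n) : ℤ) : B) +
          ((p : B) ^ n) * ((Nat.gcdB ℓ (p ^ n) : ℤ) : B) = 1 := by
        have := congrArg (Int.cast : ℤ → B) hbez
        push_cast at this
        exact this
      have hb' : b = ((Nat.gcdA ℓ (p ^ n) : ℤ) : B) * ((ℓ : B) * b) +
          ((Nat.gcdB ℓ (p ^ n) : ℤ) : B) * ((p : B) ^ n * b) := by
        calc b = 1 * b := (one_mul b).symm
          _ = ((ℓ : B) * ((Nat.gcdA ℓ (p ^ n) : ℤ) : B) +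
              ((p : B) ^ n) * ((Nat.gcdB ℓ (p ^ n) : ℤ) : B)) * b := by rw [hbezB]
          _ = _ := by ring
      rw [hb']
      refine Subalgebra.add_mem _ (Subalgebra.mul_mem _ (Subalgebra.intCast_mem _ _) h1)
        (Subalgebra.mul_mem _ (Subalgebra.intCast_mem _ _) ?_)
      obtain ⟨a, ha⟩ := hn
      rw [← ha]
      exact Subalgebra.algebraMap_mem _ a

end

theorem ppow_of_isUnivHomeo {A B : Type u} [CommRing A] [CommRing B] (φ : A →+* B) (p : ℕ)
    (hp : p.Prime) (h : Function.Surjective (Localization.awayMap φ (p : A)))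
    (hU : RingUH φ) (b : B) :
    ∃ n : ℕ, (p ^ n : B) * b ∈ φ.range ∧ b ^ (p ^ n) ∈ φ.range := by
  letI : Algebra A B := φ.toAlgebra
  have Hp : ∀ b : B, ∃ n : ℕ, (p : B) ^ n * b ∈ (algebraMap A B).range := by
    intro b
    obtain ⟨a, m, ham⟩ := Localization.awayMap_surjective_iff.mp h b
    exact ⟨m, a, by rw [← map_natCast φ p]; exact ham⟩
  have htop := goodAlg_eq_top p hp Hp hU
  obtain ⟨m, hm⟩ : b ∈ goodAlg p hp Hp := by rw [htop]; trivial
  obtain ⟨n, hn⟩ := Hp b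
  refine ⟨n + m, ?_, ?_⟩
  · have e : (p ^ (n + m) : B) * b = (p : B) ^ m * ((p : B) ^ n * b) := by ring
    rw [e]
    exact Subring.mul_mem _ (natCast_pow_mem_range p m) hn
  · rw [add_comm, pow_add, pow_mul]
    exact Subring.pow_mem _ hm _

theorem ringUH_of_ppow {A B : Type u} [CommRing A] [CommRing B] (φ : A →+* B) (p : ℕ)
    (hp : p.Prime) (hker : ∀ a ∈ RingHom.ker φ, IsNilpotent a)
    (H : ∀ b : B, ∃ n : ℕ, (p ^ n : B) * b ∈ φ.range ∧ b ^ (p ^ n) ∈ φ.range) :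
    FlatMor.IsUnivHomeo (Spec.map (CommRingCat.ofHom φ)) := by
  have hint : φ.IsIntegral := by
    intro b
    letI := φ.toAlgebra
    obtain ⟨n, -, a, ha⟩ := H b
    have h1 : IsIntegral A (b ^ p ^ n) := by
      rw [← ha]; exact isIntegral_algebraMap
    exact IsIntegral.of_pow (pow_pos hp.pos n) h1
  haveI : IsIntegralHom (Spec.map (CommRingCat.ofHom φ)) := IsIntegralHom.SpecMap_iff.mpr hint
  haveI : UniversallyInjective (Spec.map (CommRingCat.ofHom φ)) := by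
    apply universallyInjective_Spec_of_ringHom_ext
    intro L _ f g hfg
    ext b
    obtain ⟨n, ⟨a₁, ha₁⟩, ⟨a₂, ha₂⟩⟩ := H b
    have e1 : (p : L) ^ n * f b = (p : L) ^ n * g b := by
      have h1 := congrArg (fun k => k a₁) hfg
      simp only [RingHom.comp_apply, ha₁, map_mul, map_pow, map_natCast] at h1
      exact h1
    have e2 : f b ^ p ^ n = g b ^ p ^ n := by
      have h2 := congrArg (fun k => k a₂) hfg
      simp only [RingHom.comp_apply, ha₂, map_pow] at h2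
      exact h2
    by_cases hp0 : (p : L) = 0
    · exact pow_prime_pow_inj hp hp0 n e2
    · exact mul_left_cancel₀ (pow_ne_zero n hp0) e1
  haveI : Surjective (Spec.map (CommRingCat.ofHom φ)) := by
    refine ⟨fun P => ?_⟩
    obtain ⟨Q, hQ, hQP⟩ := exists_prime_comap_eq_of_isIntegral' φ hint P.asIdeal (by
      intro a ha
      exact (nilpotent_iff_mem_prime.mp (hker a ha)) _ P.2)
    exact ⟨⟨Q, hQ⟩, PrimeSpectrum.ext hQP⟩
  exact isUnivHomeo_of_integral _

end Groth.Agent.H69
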