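import Groth.Agent.H69.RelNorm
import Mathlib

set_option autoImplicit false
universe u
open AlgebraicGeometry CategoryTheory

namespace Groth.Agent.H69

theorem mem_range_residueFieldMap_iff {A B : Type u} [CommRing A] [CommRing B] (φ : A →+* B)
    (q : PrimeSpectrum B) (b : B) :
    algebraMap B q.asIdeal.ResidueField b ∈
      Set.range (Ideal.ResidueField.map (q.asIdeal.comap φ) q.asIdeal φ rfl) ↔
    ∃ a s : A, s ∉ q.asIdeal.comap φ ∧ φ s * b - φ a ∈ q.asIdeal := by
  constructor
  · rintro ⟨k, hk⟩
    obtain ⟨a, s, hs, hks⟩ := exists_frac_residueField (q.asIdeal.comap φ) k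
    refine ⟨a, s, hs, ?_⟩
    rw [← Ideal.algebraMap_residueField_eq_zero, map_sub, map_mul, ← hk,
      ← Ideal.ResidueField.map_algebraMap (q.asIdeal.comap φ) q.asIdeal φ rfl,
      ← Ideal.ResidueField.map_algebraMap (q.asIdeal.comap φ) q.asIdeal φ rfl,
      ← map_mul, mul_comm, hks, sub_self]
  · rintro ⟨a, s, hs, h⟩
    have hs0 : algebraMap A (q.asIdeal.comap φ).ResidueField s ≠ 0 := by
      rw [Ne, Ideal.algebraMap_residueField_eq_zero]; exact hs
    refine ⟨algebraMap A _ a / algebraMap A _ s, ?_⟩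
    rw [← Ideal.algebraMap_residueField_eq_zero, map_sub, map_mul, sub_eq_zero,
      ← Ideal.ResidueField.map_algebraMap (q.asIdeal.comap φ) q.asIdeal φ rfl,
      ← Ideal.ResidueField.map_algebraMap (q.asIdeal.comap φ) q.asIdeal φ rfl] at h
    rw [map_div₀, ← h]
    exact mul_div_cancel_left₀ _ ((map_ne_zero _).mpr hs0)

theorem resTriv_iff_forall {A B : Type u} [CommRing A] [CommRing B] (φ : A →+* B) :
    ResTriv φ ↔ ∀ (q : PrimeSpectrum B) (b : B),
      ∃ a s : A, s ∉ q.asIdeal.comap φ ∧ φ s * b - φ a ∈ q.asIdeal := by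
  constructor
  · intro h q b
    exact (mem_range_residueFieldMap_iff φ q b).mp (h q _)
  · intro h q
    apply surjective_residueFieldMap_of_forall_mem_range
    intro b
    exact (mem_range_residueFieldMap_iff φ q b).mpr (h q b)

section
variable {A B : Type u} [CommRing A] [CommRing B] [Algebra A B]

theorem relClosure_sn_le_awn :
    relClosure (StepSN (A := A) (B := B)) ≤ relClosure (StepAWN (A := A) (B := B)) := by
  apply relClosure_le
  intro b hs
  exact relClosure_closed _ stepAWN_mono b (Or.inl hs)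

theorem ringUH_relClosure_sn (hker : ∀ a ∈ RingHom.ker (algebraMap A B), IsNilpotent a) :
    RingUH (algebraMap A (relClosure (StepSN (A := A) (B := B)))) := by
  have h1 := ringUH_of_isUnivHomeo _ (isUnivHomeo_relClosure_awn (A := A) (B := B) hker)
  have hinj : Function.Injective (Subalgebra.inclusion (relClosure_sn_le_awn (A := A) (B := B))) :=
    Subalgebra.inclusion_injective _
  have hcomp : ((Subalgebra.inclusion (relClosure_sn_le_awn (A := A) (B := B))).toRingHom).comp
      (algebraMap A (relClosure (StepSN (A := A) (B := B)))) = algebraMap A _ := by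
    ext a; rfl
  exact (RingUH.of_comp _ _ hinj (by rw [hcomp]; exact h1)).1

theorem resTriv_relClosure_sn :
    ResTriv (algebraMap A (relClosure (StepSN (A := A) (B := B)))) := by
  intro q
  apply surjective_residueFieldMap_of_forall_mem_range
  let T : Subalgebra A (relClosure (StepSN (A := A) (B := B))) :=
    { carrier := {b | algebraMap _ q.asIdeal.ResidueField b ∈
        Set.range (Ideal.ResidueField.map (q.asIdeal.comap (algebraMap A _)) q.asIdeal
          (algebraMap A _) rfl)}
      mul_mem' := by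
        rintro a b ⟨ka, ha⟩ ⟨kb, hb⟩
        exact ⟨ka * kb, by rw [map_mul, map_mul, ha, hb]⟩
      add_mem' := by
        rintro a b ⟨ka, ha⟩ ⟨kb, hb⟩
        exact ⟨ka + kb, by rw [map_add, map_add, ha, hb]⟩
      algebraMap_mem' := fun a => ⟨algebraMap A _ a, Ideal.ResidueField.map_algebraMap _ _ _ rfl a⟩ }
  have hcl : StepClosed (StepSN (A := A) (B := B))
      (T.map (relClosure (StepSN (A := A) (B := B))).val) := by
    intro b hs
    have hsub : T.map (relClosure (StepSN (A := A) (B := B))).val ≤
        relClosure (StepSN (A := A) (B := B)) := by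
      rintro _ ⟨x, -, rfl⟩
      exact x.2
    have hb : b ∈ relClosure (StepSN (A := A) (B := B)) :=
      relClosure_closed _ stepSN_mono b (stepSN_mono _ _ b hsub hs)
    refine ⟨⟨b, hb⟩, ?_, rfl⟩
    have key : ∀ (y : B) (hy : y ∈ T.map (relClosure (StepSN (A := A) (B := B))).val)
        (hy' : y ∈ relClosure (StepSN (A := A) (B := B))),
        (⟨y, hy'⟩ : relClosure (StepSN (A := A) (B := B))) ∈ T := by
      rintro _ ⟨x, hx, rfl⟩ hy'
      exact hx
    obtain ⟨k₂, hk₂⟩ := key _ hs.1 (Subalgebra.pow_mem _ hb 2)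
    obtain ⟨k₃, hk₃⟩ := key _ hs.2 (Subalgebra.pow_mem _ hb 3)
    have hk₂' : Ideal.ResidueField.map (q.asIdeal.comap (algebraMap A _)) q.asIdeal
        (algebraMap A _) rfl k₂ = (algebraMap _ q.asIdeal.ResidueField
          (⟨b, hb⟩ : relClosure (StepSN (A := A) (B := B)))) ^ 2 := by
      rw [← map_pow]; exact hk₂
    have hk₃' : Ideal.ResidueField.map (q.asIdeal.comap (algebraMap A _)) q.asIdeal
        (algebraMap A _) rfl k₃ = (algebraMap _ q.asIdeal.ResidueField
          (⟨b, hb⟩ : relClosure (StepSN (A := A) (B := B)))) ^ 3 := by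
      rw [← map_pow]; exact hk₃
    show algebraMap _ q.asIdeal.ResidueField
      (⟨b, hb⟩ : relClosure (StepSN (A := A) (B := B))) ∈ Set.range _
    by_cases hb0 : algebraMap _ q.asIdeal.ResidueField
        (⟨b, hb⟩ : relClosure (StepSN (A := A) (B := B))) = 0
    · exact ⟨0, by rw [map_zero, hb0]⟩
    · refine ⟨k₃ / k₂, ?_⟩
      rw [map_div₀, hk₂', hk₃']
      field_simp
  have hle := relClosure_le _ _ hcl
  intro b'
  obtain ⟨x, hx, hxb⟩ := hle b'.2
  have : x = b' := Subtype.ext hxb
  rw [← this]
  exact hx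

theorem le_relClosure_sn (C' : Subalgebra A B) (hC' : RingUH (algebraMap A C'))
    (hres : ResTriv (algebraMap A C')) :
    C' ≤ relClosure (StepSN (A := A) (B := B)) := by
  apply le_sInf
  intro S hS
  have hT : S.comap C'.val = ⊤ := by
    by_contra hT
    obtain ⟨c, hc, hstep⟩ := Groth.Agent.S7400.hex_sn hC' hres _ hT
    apply hc
    show (c : B) ∈ S
    apply hS
    exact ⟨hstep.1, hstep.2⟩
  intro b hb
  have : (⟨b, hb⟩ : C') ∈ S.comap C'.val := by rw [hT]; trivial
  exact this

theorem resTriv_range {C : Type u} [CommRing C] [Algebra A C] (g : C →ₐ[A] B)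
    (hres : ResTriv (algebraMap A C)) : ResTriv (algebraMap A g.range) := by
  rw [resTriv_iff_forall] at hres ⊢
  rintro q ⟨_, c, rfl⟩
  obtain ⟨a, s, hs, h⟩ := hres (PrimeSpectrum.comap (g.rangeRestrict : C →+* g.range) q) c
  have e : ∀ a : A, (g.rangeRestrict : C →+* g.range) (algebraMap A C a) = algebraMap A g.range a :=
    fun a => g.rangeRestrict.commutes a
  refine ⟨a, s, ?_, ?_⟩
  · intro hmem
    apply hs
    show (g.rangeRestrict : C →+* g.range) (algebraMap A C s) ∈ q.asIdeal
    rw [e]; exact hmem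
  · have h' : (g.rangeRestrict : C →+* g.range) (algebraMap A C s * c - algebraMap A C a) ∈
        q.asIdeal := h
    rw [map_sub, map_mul, e, e] at h'
    exact h'

end

end Groth.Agent.H69
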