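import Groth.Agent.H69.AWNGlue
import Groth.Agent.H69.RelNormSN
import Groth.Agent.H69.GraphFactor
import Groth.Agent.S7420
import Groth.Agent.S7421
import Mathlib

set_option autoImplicit false
universe u
open AlgebraicGeometry CategoryTheory Limits TensorProduct

namespace Groth.Agent.H69

/-! ### Ring level -/

theorem exists_retraction_of_isSeminormalRing {A B : Type u} [CommRing A] [CommRing B]
    (hA : HTop.IsSeminormalRing A) (φ : A →+* B) (hU : RingUH φ) (hT : ResTriv φ) :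
    ∃ ρ : B →+* A, ρ.comp φ = RingHom.id A := by
  haveI : IsReduced A := isReduced_of_isSeminormalRing hA
  let q : B →+* B ⧸ nilradical B := Ideal.Quotient.mk (nilradical B)
  have hqs : Function.Surjective q := Ideal.Quotient.mk_surjective
  have hq : RingUH q := ringUH_of_surjective_of_ker_nil q hqs (by
    intro b hb
    rw [RingHom.mem_ker, Ideal.Quotient.eq_zero_iff_mem] at hb
    exact hb)
  have hU' : RingUH (q.comp φ) := RingUH.comp φ q hU hq
  have hT' : ResTriv (q.comp φ) := by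
    rw [resTriv_iff_forall] at hT ⊢
    intro Q b'
    obtain ⟨b, rfl⟩ := hqs b'
    obtain ⟨a, s, hs, h⟩ := hT (PrimeSpectrum.comap q Q) b
    refine ⟨a, s, hs, ?_⟩
    have h' : q (φ s * b - φ a) ∈ Q.asIdeal := h
    rw [map_sub, map_mul] at h'
    exact h'
  haveI : IsReduced (B ⧸ nilradical B) :=
    (Ideal.isRadical_iff_quotient_reduced _).mp (Ideal.radical_isRadical _)
  have hinj : Function.Injective (q.comp φ) := by
    rw [injective_iff_map_eq_zero]
    intro a ha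
    have hn : IsNilpotent a := by
      rw [nilpotent_iff_mem_prime]
      intro P hP
      obtain ⟨Q, hQ⟩ := hU'.bij.2 ⟨P, hP⟩
      have : a ∈ (PrimeSpectrum.comap (q.comp φ) Q).asIdeal := by
        show (q.comp φ) a ∈ Q.asIdeal
        rw [ha]; exact Ideal.zero_mem _
      rw [hQ] at this
      exact this
    exact hn.eq_zero
  have hsurj : Function.Surjective (q.comp φ) := by
    by_contra hns
    obtain ⟨b, hb, ⟨x, hx⟩, ⟨y, hy⟩⟩ :=
      exists_sq_cube_of_ringUH_resTriv (q.comp φ) hinj hns hU' hT'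
    have hxy : x ^ 3 = y ^ 2 := by
      apply hinj
      rw [map_pow, map_pow, hx, hy]; ring
    obtain ⟨a, ⟨h1, h2⟩, -⟩ := hA x y hxy
    apply hb
    refine ⟨a, eq_of_sq_cube_of_isReduced ?_ ?_⟩
    · rw [← map_pow, ← h1, hx]
    · rw [← map_pow, ← h2, hy]
  let e : A ≃+* B ⧸ nilradical B := RingEquiv.ofBijective (q.comp φ) ⟨hinj, hsurj⟩
  refine ⟨e.symm.toRingHom.comp q, ?_⟩
  ext a
  show e.symm (q (φ a)) = a
  exact e.symm_apply_apply a

theorem resTriv_includeLeft {A B C : Type u} [CommRing A] [CommRing B] [CommRing C]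
    [Algebra A B] [Algebra A C] (hT : ResTriv (algebraMap A B)) :
    ResTriv (Algebra.TensorProduct.includeLeftRingHom : C →+* C ⊗[A] B) := by
  rw [resTriv_iff_forall] at hT ⊢
  intro Q t
  have hι : ∀ c : C, (Algebra.TensorProduct.includeLeftRingHom : C →+* C ⊗[A] B) c =
      c ⊗ₜ[A] (1 : B) := fun _ => rfl
  induction t using TensorProduct.induction_on with
  | zero =>
    refine ⟨0, 1, ?_, by simp⟩
    intro h1
    exact (Ideal.ne_top_iff_one _).mp (inferInstance :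
      (Q.asIdeal.comap (Algebra.TensorProduct.includeLeftRingHom : C →+* C ⊗[A] B)).IsPrime).ne_top h1
  | tmul c b =>
    obtain ⟨a, s, hs, h⟩ := hT (PrimeSpectrum.comap
      (Algebra.TensorProduct.includeRight : B →ₐ[A] C ⊗[A] B).toRingHom Q) b
    have h' : (1 : C) ⊗ₜ[A] (algebraMap A B s * b - algebraMap A B a) ∈ Q.asIdeal := h
    refine ⟨a • c, algebraMap A C s, ?_, ?_⟩
    · intro hmem
      apply hs
      show (1 : C) ⊗ₜ[A] (algebraMap A B s) ∈ Q.asIdeal
      have e1 : (1 : C) ⊗ₜ[A] (algebraMap A B s) = (algebraMap A C s) ⊗ₜ[A] (1 : B) := by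
        rw [Algebra.algebraMap_eq_smul_one, Algebra.algebraMap_eq_smul_one,
          TensorProduct.smul_tmul]
      rw [e1]
      exact hmem
    · have key : (Algebra.TensorProduct.includeLeftRingHom : C →+* C ⊗[A] B) (algebraMap A C s) *
            (c ⊗ₜ[A] b) - (Algebra.TensorProduct.includeLeftRingHom : C →+* C ⊗[A] B) (a • c) =
          (c ⊗ₜ[A] (1 : B)) * ((1 : C) ⊗ₜ[A] (algebraMap A B s * b - algebraMap A B a)) := by
        rw [hι, hι, Algebra.TensorProduct.tmul_mul_tmul, Algebra.TensorProduct.tmul_mul_tmul,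
          one_mul, mul_one, one_mul, TensorProduct.tmul_sub, ← Algebra.smul_def,
          ← Algebra.smul_def, TensorProduct.smul_tmul, Algebra.algebraMap_eq_smul_one,
          TensorProduct.smul_tmul]
      rw [key]
      exact Q.asIdeal.mul_mem_left _ h'
  | add t₁ t₂ h₁ h₂ =>
    obtain ⟨c₁, s₁, hs₁, h₁⟩ := h₁
    obtain ⟨c₂, s₂, hs₂, h₂⟩ := h₂
    refine ⟨c₁ * s₂ + c₂ * s₁, s₁ * s₂, ?_, ?_⟩
    · intro hmem
      rcases Ideal.IsPrime.mem_or_mem (inferInstance :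
        (Q.asIdeal.comap (Algebra.TensorProduct.includeLeftRingHom : C →+* C ⊗[A] B)).IsPrime)
        hmem with h | h
      · exact hs₁ h
      · exact hs₂ h
    · have key : (Algebra.TensorProduct.includeLeftRingHom : C →+* C ⊗[A] B) (s₁ * s₂) * (t₁ + t₂) -
            (Algebra.TensorProduct.includeLeftRingHom : C →+* C ⊗[A] B) (c₁ * s₂ + c₂ * s₁) =
          (Algebra.TensorProduct.includeLeftRingHom : C →+* C ⊗[A] B) s₂ *
            ((Algebra.TensorProduct.includeLeftRingHom : C →+* C ⊗[A] B) s₁ * t₁ -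
              (Algebra.TensorProduct.includeLeftRingHom : C →+* C ⊗[A] B) c₁) +
          (Algebra.TensorProduct.includeLeftRingHom : C →+* C ⊗[A] B) s₁ *
            ((Algebra.TensorProduct.includeLeftRingHom : C →+* C ⊗[A] B) s₂ * t₂ -
              (Algebra.TensorProduct.includeLeftRingHom : C →+* C ⊗[A] B) c₂) := by
        simp only [map_mul, map_add]; ring
      rw [key]
      exact Q.asIdeal.add_mem (Q.asIdeal.mul_mem_left _ h₁) (Q.asIdeal.mul_mem_left _ h₂)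

theorem exists_ringDesc {A B C : Type u} [CommRing A] [CommRing B] [CommRing C]
    (hC : HTop.IsSeminormalRing C) (φ : A →+* B) (hU : RingUH φ) (hT : ResTriv φ) (ψ : A →+* C) :
    ∃ ρ : B →+* C, ρ.comp φ = ψ := by
  letI : Algebra A B := φ.toAlgebra
  letI : Algebra A C := ψ.toAlgebra
  have hU' : RingUH (Algebra.TensorProduct.includeLeftRingHom : C →+* C ⊗[A] B) :=
    ringUH_includeLeft (A := A) (B := B) (A' := C) hU
  have hT' : ResTriv (Algebra.TensorProduct.includeLeftRingHom : C →+* C ⊗[A] B) :=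
    resTriv_includeLeft (A := A) (B := B) (C := C) hT
  obtain ⟨r, hr⟩ := exists_retraction_of_isSeminormalRing hC _ hU' hT'
  refine ⟨r.comp (Algebra.TensorProduct.includeRight : B →ₐ[A] C ⊗[A] B).toRingHom, ?_⟩
  ext a
  have h1 : (Algebra.TensorProduct.includeRight : B →ₐ[A] C ⊗[A] B) (algebraMap A B a) =
      (Algebra.TensorProduct.includeLeftRingHom : C →+* C ⊗[A] B) (algebraMap A C a) := by
    rw [AlgHom.commutes, Algebra.TensorProduct.algebraMap_apply]
    rfl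
  show r ((Algebra.TensorProduct.includeRight : B →ₐ[A] C ⊗[A] B) (algebraMap A B a)) = ψ a
  rw [h1]
  exact congrArg (fun k => k (ψ a)) hr

/-! ### Residue field isomorphisms -/

theorem residueFieldsIso_comp {X Y Z : Scheme.{u}} (f : X ⟶ Y) (g : Y ⟶ Z)
    (hf : HTop.ResidueFieldsIso f) (hg : HTop.ResidueFieldsIso g) :
    HTop.ResidueFieldsIso (f ≫ g) := by
  intro x
  rw [Scheme.residueFieldMap_comp]
  exact @IsIso.comp_isIso _ _ _ _ _ (g.residueFieldMap (f x)) (f.residueFieldMap x)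
    (hg (f x)) (hf x)

theorem residueFieldsIso_of_isOpenImmersion {X Y : Scheme.{u}} (f : X ⟶ Y) [IsOpenImmersion f] :
    HTop.ResidueFieldsIso f := fun _ => inferInstance

theorem residueFieldsIso_of_comp_right {X Y Z : Scheme.{u}} (f : X ⟶ Y) (g : Y ⟶ Z)
    (hfg : HTop.ResidueFieldsIso (f ≫ g)) (hg : HTop.ResidueFieldsIso g) :
    HTop.ResidueFieldsIso f := by
  intro x
  have h1 := hfg x
  rw [Scheme.residueFieldMap_comp] at h1
  exact @IsIso.of_isIso_comp_left _ _ _ _ _ (g.residueFieldMap (f x)) (f.residueFieldMap x)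
    (hg (f x)) h1

/-! ### Scheme level -/

theorem resTriv_appLE {U Y : Scheme.{u}} (π : Y ⟶ U) (hπ : FlatMor.IsUnivHomeo π)
    (hR : HTop.ResidueFieldsIso π) (W : U.Opens) (hW : IsAffineOpen W) :
    ResTriv (π.appLE W (π ⁻¹ᵁ W) le_rfl).hom := by
  have hP : IsAffineOpen (π ⁻¹ᵁ W) := isAffine_preimage_of_isUnivHomeo π hπ W hW
  have h1 : HTop.ResidueFieldsIso (Spec.map (π.appLE W (π ⁻¹ᵁ W) le_rfl) ≫ hW.fromSpec) := by
    rw [IsAffineOpen.SpecMap_appLE_fromSpec π hW hP le_rfl]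
    exact residueFieldsIso_comp _ _ (residueFieldsIso_of_isOpenImmersion _) hR
  have h2 : HTop.ResidueFieldsIso (Spec.map (π.appLE W (π ⁻¹ᵁ W) le_rfl)) :=
    residueFieldsIso_of_comp_right _ _ h1 (residueFieldsIso_of_isOpenImmersion _)
  rw [← resTriv_iff]
  intro x
  have h3 : IsIso ((Spec.map (π.appLE W (π ⁻¹ᵁ W) le_rfl)).residueFieldMap x) := h2 x
  exact ((ConcreteCategory.isIso_iff_bijective _).mp h3).2

theorem exists_affineOpen_mem_le {V : Scheme.{u}} (O : V.Opens) (x : V) (hx : x ∈ O) :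
    ∃ W : V.affineOpens, x ∈ (W : V.Opens) ∧ (W : V.Opens) ≤ O := by
  obtain ⟨W, hW, hxW, hle⟩ :=
    TopologicalSpace.Opens.isBasis_iff_nbhd.mp V.isBasis_affineOpens hx
  exact ⟨⟨W, hW⟩, hxW, hle⟩

theorem exists_local_desc {V U Y : Scheme.{u}} (f : V ⟶ U) (π : Y ⟶ U)
    (hπ : FlatMor.IsUnivHomeo π) (hR : HTop.ResidueFieldsIso π)
    (W : U.Opens) (hW : IsAffineOpen W) (W' : V.Opens) (hW' : IsAffineOpen W')
    (hle : W' ≤ f ⁻¹ᵁ W) (hC : HTop.IsSeminormalRing Γ(V, W')) :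
    ∃ g : W'.toScheme ⟶ Y, g ≫ π = W'.ι ≫ f := by
  have hP : IsAffineOpen (π ⁻¹ᵁ W) := isAffine_preimage_of_isUnivHomeo π hπ W hW
  have hφU : RingUH (π.appLE W (π ⁻¹ᵁ W) le_rfl).hom :=
    ringUH_of_isUnivHomeo _ (isUnivHomeo_SpecMap_appLE π hπ W hW)
  have hφT : ResTriv (π.appLE W (π ⁻¹ᵁ W) le_rfl).hom := resTriv_appLE π hπ hR W hW
  obtain ⟨ρ, hρ⟩ := exists_ringDesc hC _ hφU hφT (f.appLE W W' hle).hom
  set ρ' : Γ(Y, π ⁻¹ᵁ W) ⟶ Γ(V, W') := CommRingCat.ofHom ρ with hρ'def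
  have hρ' : π.appLE W (π ⁻¹ᵁ W) le_rfl ≫ ρ' = f.appLE W W' hle := CommRingCat.hom_ext hρ
  refine ⟨hW'.isoSpec.hom ≫ Spec.map ρ' ≫ hP.fromSpec, ?_⟩
  calc (hW'.isoSpec.hom ≫ Spec.map ρ' ≫ hP.fromSpec) ≫ π
      = hW'.isoSpec.hom ≫ Spec.map ρ' ≫ (hP.fromSpec ≫ π) := by simp only [Category.assoc]
    _ = hW'.isoSpec.hom ≫ Spec.map ρ' ≫
          (Spec.map (π.appLE W (π ⁻¹ᵁ W) le_rfl) ≫ hW.fromSpec) := by
        rw [IsAffineOpen.SpecMap_appLE_fromSpec π hW hP le_rfl]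
    _ = hW'.isoSpec.hom ≫ Spec.map (π.appLE W (π ⁻¹ᵁ W) le_rfl ≫ ρ') ≫ hW.fromSpec := by
        rw [Spec.map_comp, Category.assoc]
    _ = hW'.isoSpec.hom ≫ Spec.map (f.appLE W W' hle) ≫ hW.fromSpec := by rw [hρ']
    _ = hW'.isoSpec.hom ≫ hW'.fromSpec ≫ f := by
        rw [IsAffineOpen.SpecMap_appLE_fromSpec f hW hW' hle]
    _ = W'.ι ≫ f := by rw [← Category.assoc, IsAffineOpen.isoSpec_hom_fromSpec]

/-- Morphisms from a seminormal scheme lift along universal homeomorphisms that induce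
isomorphisms on residue fields. -/
theorem exists_desc_of_isSeminormal {V U Y : Scheme.{u}} (hV : HTop.IsSeminormal V) (f : V ⟶ U)
    (π : Y ⟶ U) (hπ : FlatMor.IsUnivHomeo π) (hR : HTop.ResidueFieldsIso π) :
    ∃ h : V ⟶ Y, h ≫ π = f := by
  haveI : IsReduced V := Groth.Agent.S7421.result.2 V hV
  have hloc : ∀ x : V, ∃ (W' : V.Opens) (g : W'.toScheme ⟶ Y), x ∈ W' ∧ g ≫ π = W'.ι ≫ f := by
    intro x
    obtain ⟨W, hfxW, -⟩ := exists_affineOpen_mem_le (⊤ : U.Opens) (f x)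
      (TopologicalSpace.Opens.mem_top _)
    obtain ⟨W', hxW', hle⟩ := exists_affineOpen_mem_le (f ⁻¹ᵁ (W : U.Opens)) x hfxW
    have hC : HTop.IsSeminormalRing Γ(V, W') := (Groth.Agent.S7420.result V).1.mp hV W'
    obtain ⟨g, hg⟩ := exists_local_desc f π hπ hR W.1 W.2 W'.1 W'.2 hle hC
    exact ⟨W', g, hxW', hg⟩
  choose W' g hxW' hg using hloc
  let 𝒰 : V.OpenCover := V.openCoverOfIsOpenCover W' (by
    show iSup W' = ⊤
    exact eq_top_iff.mpr fun x _ => TopologicalSpace.Opens.mem_iSup.mpr ⟨x, hxW' x⟩)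
  have hcompat : ∀ x y : 𝒰.I₀, pullback.fst (𝒰.f x) (𝒰.f y) ≫ g x =
      pullback.snd (𝒰.f x) (𝒰.f y) ≫ g y := by
    intro x y
    haveI : IsReduced (pullback (𝒰.f x) (𝒰.f y)) :=
      isReduced_of_isOpenImmersion (pullback.fst (𝒰.f x) (𝒰.f y) ≫ 𝒰.f x)
    apply hom_ext_of_isUnivHomeo π hπ
    have e1 : (pullback.fst (𝒰.f x) (𝒰.f y) ≫ g x) ≫ π =
        (pullback.fst (𝒰.f x) (𝒰.f y) ≫ 𝒰.f x) ≫ f :=
      (Category.assoc _ _ _).trans
        ((congrArg (fun k => pullback.fst (𝒰.f x) (𝒰.f y) ≫ k) (hg x)).trans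
          (Category.assoc _ _ _).symm)
    have e2 : (pullback.snd (𝒰.f x) (𝒰.f y) ≫ g y) ≫ π =
        (pullback.snd (𝒰.f x) (𝒰.f y) ≫ 𝒰.f y) ≫ f :=
      (Category.assoc _ _ _).trans
        ((congrArg (fun k => pullback.snd (𝒰.f x) (𝒰.f y) ≫ k) (hg y)).trans
          (Category.assoc _ _ _).symm)
    exact e1.trans ((congrArg (fun k => k ≫ f) pullback.condition).trans e2.symm)
  refine ⟨𝒰.glueMorphisms g hcompat, ?_⟩
  apply 𝒰.hom_ext
  intro x
  exact (Category.assoc _ _ _).symm.trans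
    ((congrArg (fun k => k ≫ π) (𝒰.ι_glueMorphisms g hcompat x)).trans (hg x))

theorem isSeminormal_of_isOpenImmersion {V X : Scheme.{u}} (f : V ⟶ X) [IsOpenImmersion f]
    (hX : HTop.IsSeminormal X) : HTop.IsSeminormal V := by
  intro x
  obtain ⟨W, hxW, -⟩ := exists_affineOpen_mem_le (⊤ : V.Opens) x (TopologicalSpace.Opens.mem_top _)
  refine ⟨W, hxW, ?_⟩
  have hW' : IsAffineOpen (f ''ᵁ (W : V.Opens)) := W.2.image_of_isOpenImmersion f
  have h1 : HTop.IsSeminormalRing Γ(X, f ''ᵁ (W : V.Opens)) :=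
    ((Groth.Agent.S7420.result X).1.mp hX) ⟨_, hW'⟩
  exact Groth.Agent.S7420.seminormal_equiv _ _ (f.appIso (W : V.Opens)).commRingCatIsoToRingEquiv h1

end Groth.Agent.H69
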