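import Groth.Agent.H69.AWNSch
import Groth.Agent.H69.SecSN
import Groth.Agent.H69.PPow
import Groth.Prelude.Def_Frob
import Mathlib

set_option autoImplicit false
universe u
open AlgebraicGeometry CategoryTheory Limits

namespace Groth.Agent.H69

instance isUnivHomeo_isStableUnderComposition :
    (FlatMor.IsUnivHomeo.{u}).IsStableUnderComposition := by
  rw [isUnivHomeo_eq_inf]; infer_instance

theorem isUnivHomeo_comp {X Y Z : Scheme.{u}} (f : X ⟶ Y) (g : Y ⟶ Z)
    (hf : FlatMor.IsUnivHomeo f) (hg : FlatMor.IsUnivHomeo g) : FlatMor.IsUnivHomeo (f ≫ g) :=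
  MorphismProperty.comp_mem _ f g hf hg

theorem isUnivHomeo_of_forall_affine {X Y : Scheme.{u}} (π : Y ⟶ X) [IsAffineHom π]
    (h : ∀ U : X.affineOpens,
      FlatMor.IsUnivHomeo (Spec.map (π.appLE U.1 (π ⁻¹ᵁ U.1) le_rfl))) :
    FlatMor.IsUnivHomeo π := by
  rw [IsZariskiLocalAtTarget.iff_of_iSup_eq_top (P := FlatMor.IsUnivHomeo.{u})
    (fun U : X.affineOpens => U.1) (iSup_affineOpens_eq_top X)]
  intro U
  have hU : IsAffineOpen U.1 := U.2
  have hV : IsAffineOpen (π ⁻¹ᵁ U.1) := hU.preimage π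
  rw [← MorphismProperty.cancel_left_of_respectsIso FlatMor.IsUnivHomeo.{u} hV.isoSpec.inv,
    ← MorphismProperty.cancel_right_of_respectsIso FlatMor.IsUnivHomeo.{u} _ hU.isoSpec.hom]
  convert h U using 1
  symm
  rw [← cancel_mono hU.fromSpec, IsAffineOpen.SpecMap_appLE_fromSpec π hU hV le_rfl]
  simp only [Category.assoc, IsAffineOpen.isoSpec_hom_fromSpec, morphismRestrict_ι]
  rw [← Category.assoc, IsAffineOpen.isoSpec_inv_ι]

theorem isUnivHomeo_frob (X : Scheme.{u}) (p : ℕ) [Fact p.Prime] [FrobSch.IsCharP X p] :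
    FlatMor.IsUnivHomeo (FrobSch.frob X p) := by
  haveI : IsAffineHom (FrobSch.frob X p) := ⟨fun U hU => hU⟩
  apply isUnivHomeo_of_forall_affine
  intro U
  have e : (FrobSch.frob X p).appLE U.1 ((FrobSch.frob X p) ⁻¹ᵁ U.1) le_rfl =
      CommRingCat.ofHom (FrobSch.powHom p Γ(X, U.1) (FrobSch.natCast_eq_zero_app X p U.1)) := by
    rw [← Scheme.Hom.app_eq_appLE]
    rfl
  rw [e]
  apply ringUH_of_ppow _ p Fact.out
  · intro a ha
    exact ⟨p, ha⟩
  · intro b
    have hp0 : (p : Γ(X, U.1)) = 0 := FrobSch.natCast_eq_zero_app X p U.1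
    refine ⟨1, ⟨0, ?_⟩, ⟨b, ?_⟩⟩
    · rw [map_zero, pow_one]
      have : ((p : ℕ) : Γ(X, U.1)) = 0 := hp0
      push_cast
      rw [this, zero_mul]
    · rw [pow_one]; rfl

theorem isAWNRing_of_perfect {R : Type u} [CommRing R] (p : ℕ) (hp : p.Prime) (hp0 : (p : R) = 0)
    (hF : Function.Bijective (fun a : R => a ^ p)) : HTop.IsAWNRing R := by
  have hinj : ∀ a b : R, a ^ p = b ^ p → a = b := fun a b h => hF.1 h
  haveI : IsReduced R := by
    rw [isReduced_iff_pow_one_lt p hp.one_lt]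
    intro x hx
    exact hinj x 0 (by rw [hx, zero_pow hp.ne_zero])
  refine ⟨?_, ?_⟩
  · intro x y hxy
    obtain ⟨m, n, hmn⟩ : ∃ m n : ℕ, 2 * m + 3 * n = p := by
      rcases hp.eq_two_or_odd' with h2 | ⟨k, hk⟩
      · exact ⟨1, 0, by omega⟩
      · have : 2 ≤ p := hp.two_le
        exact ⟨k - 1, 1, by omega⟩
    obtain ⟨a, ha⟩ := hF.2 (x ^ m * y ^ n)
    have ha' : a ^ p = x ^ m * y ^ n := ha
    have h2 : a ^ 2 = x := by
      apply hinj
      calc (a ^ 2) ^ p = (a ^ p) ^ 2 := by ring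
        _ = (x ^ m * y ^ n) ^ 2 := by rw [ha']
        _ = x ^ (2 * m) * (y ^ 2) ^ n := by ring
        _ = x ^ (2 * m) * (x ^ 3) ^ n := by rw [hxy]
        _ = x ^ (2 * m + 3 * n) := by ring
        _ = x ^ p := by rw [hmn]
    have h3 : a ^ 3 = y := by
      apply hinj
      calc (a ^ 3) ^ p = (a ^ p) ^ 3 := by ring
        _ = (x ^ m * y ^ n) ^ 3 := by rw [ha']
        _ = (x ^ 3) ^ m * y ^ (3 * n) := by ring
        _ = (y ^ 2) ^ m * y ^ (3 * n) := by rw [hxy]
        _ = y ^ (2 * m + 3 * n) := by ring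
        _ = y ^ p := by rw [hmn]
    refine ⟨a, ⟨h2.symm, h3.symm⟩, ?_⟩
    rintro b ⟨hb2, hb3⟩
    apply eq_of_sq_cube_of_isReduced
    · rw [← hb2, h2]
    · rw [← hb3, h3]
  · intro l hl x y hxy
    by_cases hlp : l = p
    · subst hlp
      have hy : y = 0 := by
        apply hinj
        rw [← hxy, hp0, zero_pow hp.ne_zero, zero_mul]
      obtain ⟨a, ha⟩ := hF.2 x
      have ha' : a ^ l = x := ha
      refine ⟨a, ⟨ha'.symm, by rw [hy, hp0, zero_mul]⟩, ?_⟩
      rintro b ⟨hb, -⟩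
      apply hinj
      rw [← hb, ha']
    · have hcop : Nat.Coprime l p := (Nat.coprime_primes hl hp).mpr hlp
      obtain ⟨u, hu⟩ : ∃ u : R, u * (l : R) = 1 := by
        have h1 : IsCoprime (l : ℤ) (p : ℤ) := Nat.isCoprime_iff_coprime.mpr hcop
        obtain ⟨a, b, hab⟩ := h1
        refine ⟨(a : R), ?_⟩
        have h2 := congrArg (Int.cast : ℤ → R) hab
        push_cast at h2
        rw [hp0, mul_zero, add_zero] at h2
        exact h2
      refine ⟨u * y, ⟨?_, ?_⟩, ?_⟩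
      · calc x = (u * (l : R)) ^ l * x := by rw [hu, one_pow, one_mul]
          _ = u ^ l * ((l : R) ^ l * x) := by ring
          _ = u ^ l * y ^ l := by rw [hxy]
          _ = (u * y) ^ l := by ring
      · calc y = (u * (l : R)) * y := by rw [hu, one_mul]
          _ = (l : R) * (u * y) := by ring
      · rintro b ⟨-, hb⟩
        calc b = (u * (l : R)) * b := by rw [hu, one_mul]
          _ = u * ((l : R) * b) := by ring
          _ = u * y := by rw [← hb]

theorem isAWN_of_isPerfect (p : ℕ) [Fact p.Prime] (Z : Scheme.{u}) [FrobSch.IsCharP Z p]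
    (hZ : FrobSch.IsPerfect Z p) : HTop.IsAWN Z := by
  intro z
  obtain ⟨U, hzU, -⟩ := exists_affineOpen_mem_le (⊤ : Z.Opens) z (TopologicalSpace.Opens.mem_top _)
  refine ⟨U, hzU, isAWNRing_of_perfect p Fact.out (FrobSch.natCast_eq_zero_app Z p U.1) ?_⟩
  haveI : IsIso (FrobSch.frob Z p) := hZ
  have h1 : IsIso ((FrobSch.frob Z p).app U.1) := inferInstance
  exact (ConcreteCategory.isIso_iff_bijective _).mp h1

theorem exists_lift_of_isAWN {Z X W : Scheme.{u}} (hZ : HTop.IsAWN Z) (f : Z ⟶ X) (ν : W ⟶ X)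
    (hν : FlatMor.IsUnivHomeo ν) : ∃ h : Z ⟶ W, h ≫ ν = f := by
  have hq : FlatMor.IsUnivHomeo (pullback.snd ν f) := MorphismProperty.pullback_snd _ _ hν
  have hβ : FlatMor.IsUnivHomeo (awnMap (pullback ν f) ≫ pullback.snd ν f) :=
    isUnivHomeo_comp _ _ (isUnivHomeo_awnMap _) hq
  haveI : IsIso (awnMap (pullback ν f) ≫ pullback.snd ν f) :=
    isIso_of_isUnivHomeo_of_isAWN _ hβ (isAWN_awnScheme _) hZ
  refine ⟨inv (awnMap (pullback ν f) ≫ pullback.snd ν f) ≫ awnMap (pullback ν f) ≫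
    pullback.fst ν f, ?_⟩
  calc (inv (awnMap (pullback ν f) ≫ pullback.snd ν f) ≫ awnMap (pullback ν f) ≫
          pullback.fst ν f) ≫ ν
      = inv (awnMap (pullback ν f) ≫ pullback.snd ν f) ≫ awnMap (pullback ν f) ≫
          (pullback.fst ν f ≫ ν) := by simp only [Category.assoc]
    _ = inv (awnMap (pullback ν f) ≫ pullback.snd ν f) ≫ awnMap (pullback ν f) ≫
          (pullback.snd ν f ≫ f) := by rw [pullback.condition]
    _ = inv (awnMap (pullback ν f) ≫ pullback.snd ν f) ≫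
          (awnMap (pullback ν f) ≫ pullback.snd ν f) ≫ f := by simp only [Category.assoc]
    _ = f := IsIso.inv_hom_id_assoc _ _

theorem isUnivHomeo_of_isPerfection (p : ℕ) [Fact p.Prime] {X XP : Scheme.{u}}
    [FrobSch.IsCharP X p] [FrobSch.IsCharP XP p] (π : XP ⟶ X) (hπ : FrobSch.IsPerfection π p) :
    FlatMor.IsUnivHomeo π := by
  haveI : FrobSch.IsCharP (awnScheme X) p := FrobSch.IsCharP.of_hom (awnMap X) p
  have hWperf : FrobSch.IsPerfect (awnScheme X) p :=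
    isIso_of_isUnivHomeo_of_isAWN _ (isUnivHomeo_frob _ p) (isAWN_awnScheme X) (isAWN_awnScheme X)
  obtain ⟨g, hg⟩ := (hπ.2 (awnScheme X) hWperf).2 (awnMap X)
  have hg' : g ≫ π = awnMap X := hg
  have hXP : HTop.IsAWN XP := isAWN_of_isPerfect p XP hπ.1
  obtain ⟨h, hh⟩ := exists_lift_of_isAWN hXP π (awnMap X) (isUnivHomeo_awnMap X)
  have e1 : h ≫ g = 𝟙 XP := (hπ.2 XP hπ.1).1 (by
    show (h ≫ g) ≫ π = 𝟙 XP ≫ π
    rw [Category.assoc, hg', hh, Category.id_comp])
  haveI : IsReduced (awnScheme X) := isReduced_of_isAWN (isAWN_awnScheme X)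
  have e2 : g ≫ h = 𝟙 _ := hom_ext_of_isUnivHomeo (awnMap X) (isUnivHomeo_awnMap X) _ _ (by
    rw [Category.assoc, hh, hg', Category.id_comp])
  haveI : IsIso h := ⟨⟨g, e1, e2⟩⟩
  rw [← hh]
  exact (MorphismProperty.cancel_left_of_respectsIso FlatMor.IsUnivHomeo.{u} h (awnMap X)).mpr
    (isUnivHomeo_awnMap X)

end Groth.Agent.H69
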