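import Groth.Agent.S0415
import Groth.Agent.H3.UnivHomeo
import Groth.Agent.H69.PPow
import Mathlib

set_option autoImplicit false
universe u
open AlgebraicGeometry CategoryTheory

namespace Groth.Agent.H69

theorem isIntegralHom_of_isUnivHomeo {X Y : Scheme.{u}} (f : X ⟶ Y)
    (hf : FlatMor.IsUnivHomeo f) : IsIntegralHom f :=
  ((Groth.Agent.S0415.result f).mp hf).1

theorem isUnivHomeo_morphismRestrict {X Y : Scheme.{u}} (f : X ⟶ Y)
    (hf : FlatMor.IsUnivHomeo f) (U : Y.Opens) : FlatMor.IsUnivHomeo (f ∣_ U) :=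
  MorphismProperty.of_isPullback (isPullback_morphismRestrict f U).flip hf

instance isUnivHomeo_respectsIso : (FlatMor.IsUnivHomeo.{u}).RespectsIso := by
  unfold FlatMor.IsUnivHomeo; infer_instance

theorem ringUH_appTop_of_isAffine {X Y : Scheme.{u}} [IsAffine X] [IsAffine Y] (f : X ⟶ Y)
    (hf : FlatMor.IsUnivHomeo f) : RingUH f.appTop.hom := by
  have h1 : FlatMor.IsUnivHomeo (Spec.map f.appTop) :=
    (MorphismProperty.arrow_mk_iso_iff _ (arrowIsoSpecΓOfIsAffine f)).mp hf
  exact ringUH_of_isUnivHomeo f.appTop.hom h1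

theorem isAffine_preimage_of_isUnivHomeo {X Y : Scheme.{u}} (f : X ⟶ Y)
    (hf : FlatMor.IsUnivHomeo f) (U : Y.Opens) (hU : IsAffineOpen U) :
    IsAffineOpen (f ⁻¹ᵁ U) := by
  haveI := isIntegralHom_of_isUnivHomeo f hf
  exact IsAffineHom.isAffine_preimage U hU

theorem isIso_of_forall_affine {X Y : Scheme.{u}} (f : X ⟶ Y)
    (h : ∀ U : Y.affineOpens, IsAffine ↑(f ⁻¹ᵁ U.1) ∧
      Function.Bijective ((f ∣_ U.1).appTop.hom)) : IsIso f := by
  have h1 : MorphismProperty.isomorphisms Scheme.{u} f := by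
    rw [HasAffineProperty.eq_targetAffineLocally (P := MorphismProperty.isomorphisms Scheme.{u})]
    intro U
    exact ⟨(h U).1, (ConcreteCategory.isIso_iff_bijective _).mpr (h U).2⟩
  exact h1

theorem pow_prime_pow_injective {A : Type u} [CommRing A] (p : ℕ)
    (hA : Function.Injective (fun a : A => a ^ p)) (n : ℕ) :
    Function.Injective (fun a : A => a ^ (p ^ n)) := by
  induction n with
  | zero => intro a b h; simpa using h
  | succ n ih =>
    intro a b h
    apply ih
    apply hA
    show (a ^ p ^ n) ^ p = (b ^ p ^ n) ^ p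
    rw [← pow_mul, ← pow_mul, ← pow_succ]
    exact h

theorem pow_prime_pow_surjective {A : Type u} [CommRing A] (p : ℕ)
    (hA : Function.Surjective (fun a : A => a ^ p)) (n : ℕ) :
    Function.Surjective (fun a : A => a ^ (p ^ n)) := by
  induction n with
  | zero => intro a; exact ⟨a, by simp⟩
  | succ n ih =>
    intro a
    obtain ⟨b, hb⟩ := hA a
    obtain ⟨c, hc⟩ := ih b
    refine ⟨c, ?_⟩
    show c ^ p ^ (n + 1) = a
    rw [pow_succ, pow_mul]
    have hc' : c ^ p ^ n = b := hc
    rw [hc']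
    exact hb

theorem bijective_of_ringUH_of_perfect {A B : Type u} [CommRing A] [CommRing B] (φ : A →+* B)
    (p : ℕ) (hp : p.Prime) (hA0 : (p : A) = 0) (hA : Function.Bijective (fun a : A => a ^ p))
    (hB : Function.Bijective (fun b : B => b ^ p)) (hU : RingUH φ) : Function.Bijective φ := by
  constructor
  · rw [injective_iff_map_eq_zero]
    intro a ha
    obtain ⟨k, hk⟩ := RingUH.ker_nil φ hU a (RingHom.mem_ker.mpr ha)
    obtain ⟨n, hn⟩ : ∃ n, k ≤ p ^ n := ⟨k, (Nat.lt_pow_self hp.one_lt).le⟩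
    have h0 : a ^ p ^ n = 0 := pow_eq_zero_of_le hn hk
    apply pow_prime_pow_injective p hA.1 n
    show a ^ p ^ n = 0 ^ p ^ n
    rw [h0, zero_pow (pow_pos hp.pos n).ne']
  · intro b
    have hsurj : Function.Surjective (Localization.awayMap φ (p : A)) := by
      haveI : Subsingleton (Localization.Away (φ (p : A))) := by
        apply IsLocalization.subsingleton (M := Submonoid.powers (φ (p : A)))
        rw [hA0, map_zero]
        exact ⟨1, by simp⟩
      exact Function.surjective_to_subsingleton _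
    obtain ⟨n, -, a, ha⟩ := ppow_of_isUnivHomeo φ p hp hsurj hU b
    obtain ⟨a', ha'⟩ := pow_prime_pow_surjective p hA.2 n a
    refine ⟨a', ?_⟩
    apply pow_prime_pow_injective p hB.1 n
    show φ a' ^ p ^ n = b ^ p ^ n
    rw [← map_pow, ← ha]
    exact congrArg φ ha'

end Groth.Agent.H69
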