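import Groth.Agent.H69.AWNGlue
import Groth.Agent.H69.AWNSch
import Groth.Agent.H69.PPow
import Groth.Agent.H69.PerfUH
import Groth.Agent.H69.GraphFactor
import Groth.Agent.H69.UHSch
import Mathlib

set_option autoImplicit false
universe u
open AlgebraicGeometry CategoryTheory Opposite TopologicalSpace

namespace Groth.Agent.H69

theorem sub_pow_prime_pow {R : Type*} [CommRing R] (p : ℕ) (hp : p.Prime) (h0 : (p : R) = 0)
    (a b : R) (M : ℕ) : (a - b) ^ p ^ M = a ^ p ^ M - b ^ p ^ M := by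
  rcases subsingleton_or_nontrivial R with hR | hR
  · exact Subsingleton.elim _ _
  · haveI : Fact p.Prime := ⟨hp⟩
    haveI : CharP R p := (CharP.charP_iff_prime_eq_zero hp).2 h0
    exact sub_pow_char_pow ..

/-- A section over a compact open killed by a surjective morphism is nilpotent. -/
theorem isNilpotent_of_app_eq_zero {X Y : Scheme.{u}} (π : Y ⟶ X)
    (hs : Function.Surjective π.base) (W : X.Opens) (hW : IsCompact (W : Set X))
    (δ : Γ(X, W)) (h : (π.app W).hom δ = 0) : IsNilpotent δ := by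
  rw [Scheme.isNilpotent_iff_basicOpen_eq_bot_of_isCompact hW]
  have h1 : π ⁻¹ᵁ X.basicOpen δ = ⊥ := by
    rw [Scheme.preimage_basicOpen]
    have : (π.app W) δ = 0 := h
    rw [this, Scheme.basicOpen_zero]
  ext x
  constructor
  · intro hx
    obtain ⟨y, rfl⟩ := hs x
    have : y ∈ π ⁻¹ᵁ X.basicOpen δ := hx
    rw [h1] at this
    exact this.elim
  · intro hx
    exact hx.elim

theorem app_res {X Y : Scheme.{u}} (π : Y ⟶ X) (W W' : X.Opens) (h : W ≤ W') (s : Γ(X, W')) :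
    (π.app W).hom ((X.presheaf.map (homOfLE h).op).hom s) =
      (Y.presheaf.map (homOfLE (show π ⁻¹ᵁ W ≤ π ⁻¹ᵁ W' from
        fun _ hx => h hx)).op).hom ((π.app W').hom s) := by
  have := π.naturality (homOfLE h).op
  exact congr($(this) s)

/-- Gluing lemma: for a universal homeomorphism `π : Y ⟶ X` onto a qcqs scheme of characteristic
`p`, every global section of `Y` has a `p`-power coming from a global section of `X`. -/
theorem exists_pow_mem_range_appTop {X Y : Scheme.{u}} (π : Y ⟶ X)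
    (hπ : FlatMor.IsUnivHomeo π) (p : ℕ) (hp : p.Prime) (hp0 : (p : Γ(X, ⊤)) = 0)
    [CompactSpace X] [QuasiSeparatedSpace X] (g : Γ(Y, ⊤)) :
    ∃ (N : ℕ) (a : Γ(X, ⊤)), π.appTop.hom a = g ^ (p ^ N) := by
  classical
  have hsurj : Function.Surjective π.base := (isHomeomorph_of_isUnivHomeo π hπ).surjective
  have hpX : ∀ W : X.Opens, (p : Γ(X, W)) = 0 := fun W => by
    have := congrArg (X.presheaf.map (homOfLE (le_top : W ≤ ⊤)).op).hom hp0
    rwa [map_natCast, map_zero] at this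
  have hpY : ∀ V : Y.Opens, (p : Γ(Y, V)) = 0 := fun V => by
    have h1 : (p : Γ(Y, ⊤)) = 0 := by
      have := congrArg π.appTop.hom hp0
      rwa [map_natCast, map_zero] at this
    have := congrArg (Y.presheaf.map (homOfLE (le_top : V ≤ ⊤)).op).hom h1
    rwa [map_natCast, map_zero] at this
  obtain ⟨F, hF⟩ := (isCompact_univ (X := X)).elim_finite_subcover
    (fun U : X.affineOpens => (U.1 : Set X)) (fun U => U.1.isOpen) (by
      intro x _
      obtain ⟨U, hU, hxU, -⟩ := X.isBasis_affineOpens.exists_subset_of_mem_open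
        (Set.mem_univ x) isOpen_univ
      obtain ⟨V, hV, rfl⟩ := hU
      exact Set.mem_iUnion.mpr ⟨⟨V, hV⟩, hxU⟩)
  let ι := {U : X.affineOpens // U ∈ F}
  let U : ι → X.Opens := fun i => i.1.1
  have hUaff : ∀ i, IsAffineOpen (U i) := fun i => i.1.2
  have hcov : (⊤ : X.Opens) ≤ iSup U := by
    intro x _
    have := hF (Set.mem_univ x)
    simp only [Set.mem_iUnion] at this
    obtain ⟨W, hWF, hxW⟩ := this
    exact Opens.mem_iSup.mpr ⟨⟨W, hWF⟩, hxW⟩
  obtain ⟨gV, hgVdef⟩ : ∃ gV : ∀ W : X.Opens, Γ(Y, π ⁻¹ᵁ W), ∀ W, gV W =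
      (Y.presheaf.map (homOfLE (le_top : π ⁻¹ᵁ W ≤ ⊤)).op).hom g := ⟨_, fun _ => rfl⟩
  have hgV : ∀ (W W' : X.Opens) (h : π ⁻¹ᵁ W ≤ π ⁻¹ᵁ W'),
      (Y.presheaf.map (homOfLE h).op).hom (gV W') = gV W := by
    intro W W' h
    rw [hgVdef, hgVdef, ← CommRingCat.comp_apply, ← Functor.map_comp]
    rfl
  have hloc : ∀ i, ∃ n r, (π.app (U i)).hom r = gV (U i) ^ p ^ n := by
    intro i
    have hφU : RingUH (π.appLE (U i) (π ⁻¹ᵁ U i) le_rfl).hom :=
      ringUH_of_isUnivHomeo _ (isUnivHomeo_SpecMap_appLE π hπ (U i) (hUaff i))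
    have hs : Function.Surjective (Localization.awayMap
        (π.appLE (U i) (π ⁻¹ᵁ U i) le_rfl).hom (p : Γ(X, U i))) := by
      rw [Localization.awayMap_surjective_iff]
      intro b
      refine ⟨0, 1, ?_⟩
      rw [map_zero, map_natCast, hpY, pow_one, zero_mul]
    obtain ⟨n, -, r, hr⟩ := ppow_of_isUnivHomeo _ p hp hs hφU (gV (U i))
    refine ⟨n, r, ?_⟩
    rw [Scheme.Hom.app_eq_appLE]
    exact hr
  choose n r hr using hloc
  obtain ⟨n0, hn0⟩ : ∃ n0, ∀ i, n i ≤ n0 :=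
    ⟨Finset.univ.sup n, fun i => Finset.le_sup (Finset.mem_univ i)⟩
  obtain ⟨r', hr'⟩ : ∃ r' : ∀ i, Γ(X, U i), ∀ i, (π.app (U i)).hom (r' i) = gV (U i) ^ p ^ n0 := by
    refine ⟨fun i => r i ^ p ^ (n0 - n i), fun i => ?_⟩
    rw [map_pow, hr, ← pow_mul, ← pow_add, Nat.add_sub_cancel' (hn0 i)]
  -- overlaps
  obtain ⟨δ, hδdef⟩ : ∃ δ : ∀ i j : ι, Γ(X, U i ⊓ U j), ∀ i j, δ i j =
      (X.presheaf.map (Opens.infLELeft (U i) (U j)).op).hom (r' i) -
        (X.presheaf.map (Opens.infLERight (U i) (U j)).op).hom (r' j) := ⟨_, fun _ _ => rfl⟩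
  have hδ : ∀ i j, (π.app (U i ⊓ U j)).hom (δ i j) = 0 := by
    intro i j
    rw [hδdef, map_sub, sub_eq_zero]
    have e1 := app_res π (U i ⊓ U j) (U i) inf_le_left (r' i)
    have e2 := app_res π (U i ⊓ U j) (U j) inf_le_right (r' j)
    rw [hr' i, map_pow, hgV] at e1
    rw [hr' j, map_pow, hgV] at e2
    exact e1.trans e2.symm
  have hnil : ∀ i j, IsNilpotent (δ i j) := by
    intro i j
    apply isNilpotent_of_app_eq_zero π hsurj (U i ⊓ U j) _ (δ i j) (hδ i j)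
    exact QuasiSeparatedSpace.inter_isCompact _ _ (U i).isOpen (hUaff i).isCompact
      (U j).isOpen (hUaff j).isCompact
  choose k hk using hnil
  obtain ⟨M, hM⟩ : ∃ M, ∀ i j, k i j ≤ M :=
    ⟨Finset.univ.sup (fun ij : ι × ι => k ij.1 ij.2), fun i j =>
      Finset.le_sup (f := fun ij : ι × ι => k ij.1 ij.2) (Finset.mem_univ (i, j))⟩
  have hpowM : ∀ i j, δ i j ^ p ^ M = 0 := by
    intro i j
    apply pow_eq_zero_of_le _ (hk i j)
    exact (hM i j).trans (Nat.lt_pow_self hp.one_lt).le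
  obtain ⟨sf, hsfdef⟩ : ∃ sf : ∀ i : ι, Γ(X, U i), ∀ i, sf i = r' i ^ p ^ M := ⟨_, fun _ => rfl⟩
  have hcompat : TopCat.Presheaf.IsCompatible X.sheaf.1 U sf := by
    intro i j
    show (X.presheaf.map (Opens.infLELeft (U i) (U j)).op).hom (sf i) =
      (X.presheaf.map (Opens.infLERight (U i) (U j)).op).hom (sf j)
    rw [hsfdef, hsfdef, map_pow, map_pow, ← sub_eq_zero, ← sub_pow_prime_pow p hp (hpX _),
      ← hδdef]
    exact hpowM i j
  obtain ⟨a, ha⟩ : ∃ a : Γ(X, ⊤), ∀ i,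
      (X.presheaf.map (homOfLE (le_top : U i ≤ ⊤)).op).hom a = sf i := by
    obtain ⟨a, ha, -⟩ := X.sheaf.existsUnique_gluing' U ⊤ (fun i => homOfLE le_top) hcov sf
      hcompat
    exact ⟨a, ha⟩
  refine ⟨n0 + M, a, ?_⟩
  have hcovY : (⊤ : Y.Opens) ≤ ⨆ i, π ⁻¹ᵁ U i := by
    intro y _
    have := hcov (Set.mem_univ (π.base y))
    obtain ⟨i, hi⟩ := Opens.mem_iSup.mp this
    exact Opens.mem_iSup.mpr ⟨i, hi⟩
  apply Y.sheaf.eq_of_locally_eq' (fun i => π ⁻¹ᵁ U i) ⊤ (fun i => homOfLE le_top) hcovY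
  intro i
  have e1 := app_res π (U i) ⊤ le_top a
  rw [ha i] at e1
  show (Y.presheaf.map (homOfLE le_top).op).hom (π.appTop.hom a) =
    (Y.presheaf.map (homOfLE le_top).op).hom (g ^ p ^ (n0 + M))
  rw [map_pow, ← hgVdef]
  refine e1.symm.trans ?_
  rw [hsfdef, map_pow, hr' i, ← pow_mul, ← pow_add]

/-- A scheme of characteristic `p` receiving a universal homeomorphism from an affine scheme is
affine. -/
theorem isAffine_of_isUnivHomeo_of_charP {X Y : Scheme.{u}} (π : Y ⟶ X)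
    (hπ : FlatMor.IsUnivHomeo π) [IsAffine Y] (p : ℕ) (hp : p.Prime)
    (hp0 : (p : Γ(X, ⊤)) = 0) : IsAffine X := by
  have hhomeo := isHomeomorph_of_isUnivHomeo π hπ
  have hsurj : Function.Surjective π.base := hhomeo.surjective
  haveI : Surjective π := ⟨hsurj⟩
  haveI : CompactSpace X := hhomeo.homeomorph.compactSpace
  haveI : QuasiSeparatedSpace X :=
    (hhomeo.homeomorph.symm.isOpenEmbedding).quasiSeparatedSpace
  have hpY : (p : Γ(Y, ⊤)) = 0 := by
    have := congrArg π.appTop.hom hp0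
    rwa [map_natCast, map_zero] at this
  have hker : ∀ a ∈ RingHom.ker π.appTop.hom, IsNilpotent a := fun a ha =>
    isNilpotent_of_app_eq_zero π hsurj ⊤ isCompact_univ a ha
  have H : ∀ b : Γ(Y, ⊤), ∃ n : ℕ, (p ^ n : Γ(Y, ⊤)) * b ∈ π.appTop.hom.range ∧
      b ^ (p ^ n) ∈ π.appTop.hom.range := by
    intro b
    obtain ⟨N, a, ha⟩ := exists_pow_mem_range_appTop π hπ p hp hp0 b
    refine ⟨N + 1, ⟨0, ?_⟩, ⟨a ^ p, ?_⟩⟩
    · rw [map_zero, pow_succ, hpY, mul_zero, zero_mul]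
    · rw [map_pow, ha, ← pow_mul, ← pow_succ]
  have hUHφ : FlatMor.IsUnivHomeo (Spec.map (CommRingCat.ofHom π.appTop.hom)) :=
    ringUH_of_ppow _ p hp hker H
  have hnat : π ≫ X.toSpecΓ = Y.toSpecΓ ≫ Spec.map π.appTop := Scheme.toSpecΓ_naturality π
  have h1 : FlatMor.IsUnivHomeo (π ≫ X.toSpecΓ) := by
    rw [hnat]
    exact isUnivHomeo_comp _ _ (isUnivHomeo_of_isIso _) hUHφ
  have h2 : FlatMor.IsUnivHomeo X.toSpecΓ := isUnivHomeo_of_comp_surjective π X.toSpecΓ h1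
  haveI : IsIntegralHom X.toSpecΓ := isIntegralHom_of_isUnivHomeo _ h2
  exact isAffine_of_isAffineHom X.toSpecΓ

end Groth.Agent.H69
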