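import Groth.Agent.H69.SNMain
import Groth.Agent.S13837
import Mathlib

set_option autoImplicit false
universe u
open AlgebraicGeometry CategoryTheory
open scoped TensorProduct

namespace Groth.Agent.H69

theorem exists_prime_comap_eq_of_isIntegral' {R S : Type*} [CommRing R] [CommRing S]
    (θ : R →+* S) (hθ : θ.IsIntegral) (P : Ideal R) [P.IsPrime] (hker : RingHom.ker θ ≤ P) :
    ∃ Q : Ideal S, Q.IsPrime ∧ Q.comap θ = P := by
  letI := θ.toAlgebra
  haveI : Algebra.IsIntegral R S := ⟨hθ⟩
  have hker' : (⊥ : Ideal S).comap (algebraMap R S) ≤ P := by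
    rw [← RingHom.ker_eq_comap_bot]; exact hker
  obtain ⟨Q, -, hQ, hQP⟩ := Ideal.exists_ideal_over_prime_of_isIntegral P (⊥ : Ideal S) hker'
  exact ⟨Q, hQ, hQP⟩

section awn
variable (A : Type u) [CommRing A]

/-- Algebraic closure of the residue field at `p`. -/
abbrev Om (p : PrimeSpectrum A) : Type u := AlgebraicClosure p.asIdeal.ResidueField

/-- `A → Ω_p`. -/
noncomputable def iotaP (p : PrimeSpectrum A) : A →+* Om A p :=
  (algebraMap p.asIdeal.ResidueField (Om A p)).comp (algebraMap A p.asIdeal.ResidueField)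

/-- The product of the algebraic closures of all residue fields. -/
def BigPi : Type u := ∀ p : PrimeSpectrum A, Om A p

noncomputable instance : CommRing (BigPi A) := inferInstanceAs (CommRing (∀ p : PrimeSpectrum A, Om A p))

/-- `A → ∏ Ω_p`. -/
noncomputable def iota : A →+* BigPi A := Pi.ringHom (iotaP A)

noncomputable instance : Algebra A (BigPi A) := (iota A).toAlgebra

/-- evaluation at `p`. -/
noncomputable def evP (p : PrimeSpectrum A) : BigPi A →+* Om A p := Pi.evalRingHom (Om A) p

theorem evP_algebraMap (p : PrimeSpectrum A) (a : A) :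
    evP A p (algebraMap A (BigPi A) a) = iotaP A p a := rfl

theorem iotaP_eq_zero_iff (p : PrimeSpectrum A) (a : A) : iotaP A p a = 0 ↔ a ∈ p.asIdeal := by
  rw [iotaP, RingHom.comp_apply, map_eq_zero, Ideal.algebraMap_residueField_eq_zero]

/-- The integral closure of `A` in the big product. -/
noncomputable def BInt : Subalgebra A (BigPi A) := integralClosure A (BigPi A)

/-- The absolute weak normalization. -/
noncomputable def Wawn : Subalgebra A (BInt A) := Groth.Agent.S13837.E A (BInt A)

instance : Algebra.IsIntegral A (BInt A) := integralClosure.AlgebraIsIntegral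

theorem ker_algebraMap_Wawn_le (P : Ideal A) [hP : P.IsPrime] :
    RingHom.ker (algebraMap A (Wawn A)) ≤ P := by
  intro a ha
  have h0 : algebraMap A (Wawn A) a = 0 := RingHom.mem_ker.mp ha
  have h1 : algebraMap A (BigPi A) a = 0 := by
    have := congrArg (fun w : Wawn A => ((w : BInt A) : BigPi A)) h0
    exact this
  have h2 : iotaP A ⟨P, hP⟩ a = 0 := by
    rw [← evP_algebraMap, h1, map_zero]
  exact (iotaP_eq_zero_iff A ⟨P, hP⟩ a).mp h2

theorem isUnivHomeo_Wawn :
    FlatMor.IsUnivHomeo (Spec.map (CommRingCat.ofHom (algebraMap A (Wawn A)))) := by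
  haveI : Algebra.IsIntegral A (Wawn A) :=
    Algebra.IsIntegral.of_injective (Wawn A).val Subtype.val_injective
  have hint : (algebraMap A (Wawn A)).IsIntegral := algebraMap_isIntegral_iff.mpr inferInstance
  haveI : IsIntegralHom (Spec.map (CommRingCat.ofHom (algebraMap A (Wawn A)))) :=
    IsIntegralHom.SpecMap_iff.mpr hint
  haveI : UniversallyInjective (Spec.map (CommRingCat.ofHom (algebraMap A (Wawn A)))) :=
    universallyInjective_Spec_of_ringHom_ext _
      (fun L _ f g h => Groth.Agent.S13837.ext_of_mem_E A (BInt A) f g h)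
  haveI : Surjective (Spec.map (CommRingCat.ofHom (algebraMap A (Wawn A)))) := by
    refine ⟨fun P => ?_⟩
    obtain ⟨Q, hQ, hQP⟩ := exists_prime_comap_eq_of_isIntegral' (algebraMap A (Wawn A)) hint
      P.asIdeal (ker_algebraMap_Wawn_le A P.asIdeal)
    exact ⟨⟨Q, hQ⟩, PrimeSpectrum.ext hQP⟩
  exact isUnivHomeo_of_integral _

variable {A}

theorem exists_lift_Wawn {C : Type u} [CommRing C] (ψ : A →+* C) (hψ : RingUH ψ) :
    ∃ χ : C →+* Wawn A, χ.comp ψ = algebraMap A (Wawn A) := by
  letI : Algebra A C := ψ.toAlgebra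
  haveI : Algebra.IsIntegral A C := ⟨hψ.integral⟩
  -- kernel of ψ consists of nilpotents
  have hnil : ∀ a ∈ RingHom.ker (algebraMap A C), IsNilpotent a := by
    intro a ha
    rw [nilpotent_iff_mem_prime]
    intro P hP
    obtain ⟨Q, hQ⟩ := hψ.bij.2 ⟨P, hP⟩
    have : a ∈ (PrimeSpectrum.comap ψ Q).asIdeal := by
      show ψ a ∈ Q.asIdeal
      have h0 : ψ a = 0 := RingHom.mem_ker.mp ha
      rw [h0]; exact Ideal.zero_mem _
    rw [hQ] at this
    exact this
  have hker : ∀ p : PrimeSpectrum A, RingHom.ker (algebraMap A C) ≤ RingHom.ker (iotaP A p) := by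
    intro p a ha
    rw [RingHom.mem_ker]
    exact ((hnil a ha).map (iotaP A p)).eq_zero
  choose χp hχp using fun p : PrimeSpectrum A =>
    exists_ringHom_extension_algClosed (iotaP A p) (hker p)
  -- the map into the product, as an algebra hom
  let χ₀ : C →ₐ[A] BigPi A :=
    { Pi.ringHom χp with
      commutes' := fun a => by
        funext p
        exact congrArg (fun f => f a) (hχp p) }
  have hint : ∀ c : C, χ₀ c ∈ BInt A := fun c => (Algebra.IsIntegral.isIntegral c).map χ₀
  let χ₁ : C →ₐ[A] BInt A := χ₀.codRestrict (BInt A) hint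
  have hE : ∀ c : C, χ₁ c ∈ Wawn A := by
    intro c
    rw [Wawn, Groth.Agent.S13837.mem_E, nilpotent_iff_mem_prime]
    intro P hP
    have key := hψ.ext P.ResidueField
      ((algebraMap ((BInt A) ⊗[A] (BInt A)) P.ResidueField).comp
        ((Algebra.TensorProduct.includeLeft : BInt A →ₐ[A] (BInt A) ⊗[A] (BInt A)).toRingHom.comp
          χ₁.toRingHom))
      ((algebraMap ((BInt A) ⊗[A] (BInt A)) P.ResidueField).comp
        ((Algebra.TensorProduct.includeRight : BInt A →ₐ[A] (BInt A) ⊗[A] (BInt A)).toRingHom.comp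
          χ₁.toRingHom))
      (by
        ext a
        simp only [RingHom.comp_apply]
        congr 1
        have e1 : χ₁.toRingHom (ψ a) = algebraMap A (BInt A) a := χ₁.commutes a
        rw [e1]
        exact ((Algebra.TensorProduct.includeLeft :
            BInt A →ₐ[A] (BInt A) ⊗[A] (BInt A)).commutes a).trans
          ((Algebra.TensorProduct.includeRight :
            BInt A →ₐ[A] (BInt A) ⊗[A] (BInt A)).commutes a).symm)
    have h1 := congrArg (fun f => f c) key
    simp only [RingHom.comp_apply] at h1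
    have h2 : algebraMap ((BInt A) ⊗[A] (BInt A)) P.ResidueField
        (χ₁ c ⊗ₜ[A] (1 : BInt A) - (1 : BInt A) ⊗ₜ[A] χ₁ c) = 0 := by
      rw [map_sub, sub_eq_zero]
      exact h1
    exact Ideal.algebraMap_residueField_eq_zero.mp h2
  refine ⟨(χ₁.codRestrict (Wawn A) hE).toRingHom, RingHom.ext fun a => ?_⟩
  exact (χ₁.codRestrict (Wawn A) hE).commutes a

theorem lift_Wawn_unique {C : Type u} [CommRing C] (ψ : A →+* C) (hψ : RingUH ψ)
    (χ χ' : C →+* Wawn A) (h : χ.comp ψ = algebraMap A (Wawn A))
    (h' : χ'.comp ψ = algebraMap A (Wawn A)) : χ = χ' := by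
  refine RingHom.ext fun c => ?_
  apply Subtype.ext
  apply Subtype.ext
  funext p
  have key := hψ.ext (Om A p)
    ((evP A p).comp ((BInt A).val.toRingHom.comp ((Wawn A).val.toRingHom.comp χ)))
    ((evP A p).comp ((BInt A).val.toRingHom.comp ((Wawn A).val.toRingHom.comp χ')))
    (by
      rw [RingHom.comp_assoc, RingHom.comp_assoc, RingHom.comp_assoc, RingHom.comp_assoc,
        RingHom.comp_assoc, RingHom.comp_assoc, h, h'])
  exact congrArg (fun f => f c) key

end awn

end Groth.Agent.H69
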