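import Groth.Agent.H69.WawnFun
import Groth.Agent.S7421
import Mathlib

set_option autoImplicit false
universe u
open AlgebraicGeometry CategoryTheory Limits Scheme.AffineZariskiSite

namespace Groth.Agent.H69

theorem isUnivHomeo_eq_inf : FlatMor.IsUnivHomeo.{u} =
    (@IsIntegralHom ⊓ (@UniversallyInjective ⊓ @Surjective) : MorphismProperty Scheme.{u}) := by
  ext X Y f
  exact Groth.Agent.S0415.result f

instance isUnivHomeo_isZariskiLocalAtTarget : IsZariskiLocalAtTarget FlatMor.IsUnivHomeo.{u} := by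
  rw [isUnivHomeo_eq_inf]; infer_instance

variable (X : Scheme.{u})

/-- Restriction maps between sections over affine opens, with explicit types. -/
noncomputable def resHom {U V : X.AffineZariskiSiteᵒᵖ} (i : U ⟶ V) :
    Γ(X, U.unop.toOpens) →+* Γ(X, V.unop.toOpens) :=
  (((toOpensFunctor X).op ⋙ X.presheaf).map i).hom

theorem resHom_id (U : X.AffineZariskiSiteᵒᵖ) :
    resHom X (𝟙 U) = RingHom.id Γ(X, U.unop.toOpens) := by
  unfold resHom
  rw [CategoryTheory.Functor.map_id]; rfl

theorem resHom_comp {U V W : X.AffineZariskiSiteᵒᵖ} (i : U ⟶ V) (j : V ⟶ W) :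
    resHom X (i ≫ j) = (resHom X j).comp (resHom X i) := by
  unfold resHom
  rw [CategoryTheory.Functor.map_comp]; rfl

/-- The presheaf of absolute weak normalizations on the affine opens of `X`. -/
noncomputable def awnDiagram : X.AffineZariskiSiteᵒᵖ ⥤ CommRingCat.{u} where
  obj U := CommRingCat.of (Wawn Γ(X, U.unop.toOpens))
  map {U V} i := CommRingCat.ofHom (WawnMap (resHom X i))
  map_id U := by
    apply CommRingCat.hom_ext
    show WawnMap (resHom X (𝟙 U)) = RingHom.id _
    rw [resHom_id, WawnMap_id]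
  map_comp {U V W} i j := by
    apply CommRingCat.hom_ext
    show WawnMap (resHom X (i ≫ j)) = (WawnMap (resHom X j)).comp (WawnMap (resHom X i))
    rw [resHom_comp, WawnMap_comp]

/-- The structure map of the presheaf of absolute weak normalizations. -/
noncomputable def awnDiagramMap : (toOpensFunctor X).op ⋙ X.presheaf ⟶ awnDiagram X where
  app U := CommRingCat.ofHom (algebraMap Γ(X, U.unop.toOpens) (Wawn Γ(X, U.unop.toOpens)))
  naturality {U V} i := by
    apply CommRingCat.hom_ext
    exact (WawnMap_comp_algebraMap (resHom X i)).symm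

theorem coequifibered_awnDiagramMap : (awnDiagramMap X).Coequifibered := by
  rw [coequifibered_iff_forall_isLocalizationAway]
  intro U r
  haveI : IsLocalization.Away r Γ(X, X.basicOpen r) := U.2.isLocalization_basicOpen r
  exact isLocalization_WawnMap (A := Γ(X, U.toOpens)) (A' := Γ(X, X.basicOpen r)) r

/-- The gluing data. -/
noncomputable def awnGlueData := relativeGluingData (coequifibered_awnDiagramMap X)

instance : ((awnGlueData X).functor ⋙ Scheme.forget).IsLocallyDirected :=
  Scheme.Cover.RelativeGluingData.instIsLocallyDirectedI₀CompFunctorForgetOfIsThin ..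

/-- The absolute weak normalization of a scheme. -/
noncomputable def awnScheme : Scheme.{u} := (awnGlueData X).glued

/-- The structure morphism. -/
noncomputable def awnMap : awnScheme X ⟶ X := (awnGlueData X).toBase

/-- The cover by spectra of absolute weak normalizations of affine opens. -/
noncomputable def awnCover : (awnScheme X).OpenCover := (awnGlueData X).cover

theorem ι_awnMap (U : X.affineOpens) :
    (awnCover X).f U ≫ awnMap X =
      Spec.map ((awnDiagramMap X).app (.op U)) ≫ U.2.fromSpec :=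
  colimit.ι_desc _ _

theorem awnMap_preimage (U : X.affineOpens) :
    awnMap X ⁻¹ᵁ U = ((awnCover X).f U).opensRange := by
  simpa using! (awnGlueData X).toBase_preimage_eq_opensRange_ι U


theorem isUnivHomeo_awnMap : FlatMor.IsUnivHomeo (awnMap X) := by
  rw [IsZariskiLocalAtTarget.iff_of_iSup_eq_top (P := FlatMor.IsUnivHomeo.{u}) _
    (iSup_affineOpens_eq_top _)]
  intro U
  let e := IsOpenImmersion.isoOfRangeEq (awnMap X ⁻¹ᵁ U).ι ((awnCover X).f U)
      (by simpa using congr($(awnMap_preimage X U).1))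
  rw [← MorphismProperty.cancel_left_of_respectsIso FlatMor.IsUnivHomeo.{u} e.inv,
    ← MorphismProperty.cancel_right_of_respectsIso FlatMor.IsUnivHomeo.{u} _ U.2.isoSpec.hom]
  convert! isUnivHomeo_Wawn Γ(X, U.1)
  rw [← cancel_mono U.2.fromSpec]
  simp [IsAffineOpen.isoSpec_hom, e, ι_awnMap]
  rfl


theorem isAWN_awnScheme : HTop.IsAWN (awnScheme X) := by
  intro x
  obtain ⟨U, y, hy⟩ := (awnCover X).exists_eq x
  haveI : IsAffine ((awnCover X).X U) :=
    inferInstanceAs (IsAffine (Spec ((awnDiagram X).obj (.op U))))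
  have hW : IsAffineOpen (((awnCover X).f U) ''ᵁ ⊤) :=
    (isAffineOpen_top ((awnCover X).X U)).image_of_isOpenImmersion ((awnCover X).f U)
  refine ⟨⟨((awnCover X).f U) ''ᵁ ⊤, hW⟩, ⟨y, trivial, hy⟩, ?_⟩
  let e : Γ(awnScheme X, ((awnCover X).f U) ''ᵁ ⊤) ≅
      CommRingCat.of (Wawn Γ(X, U.toOpens)) :=
    ((awnCover X).f U).appIso ⊤ ≪≫ Scheme.ΓSpecIso _
  exact Groth.Agent.S7420.awn_equiv _ _ e.symm.commRingCatIsoToRingEquiv
    (isAWNRing_of_isRingAWN _ (isRingAWN_Wawn _))

theorem isSeminormal_of_isAWN {Y : Scheme.{u}} (h : HTop.IsAWN Y) : HTop.IsSeminormal Y := by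
  intro x
  obtain ⟨U, hx, hU⟩ := h x
  exact ⟨U, hx, hU.1⟩

theorem isReduced_of_isAWN {Y : Scheme.{u}} (h : HTop.IsAWN Y) : IsReduced Y :=
  Groth.Agent.S7421.result.2 Y (isSeminormal_of_isAWN h)

/-- Two morphisms from a reduced scheme into the source of a universal homeomorphism agree as
soon as they agree after composing with it. -/
theorem hom_ext_of_isUnivHomeo {W Y Z : Scheme.{u}} [IsReduced W] (π : Y ⟶ Z)
    (hπ : FlatMor.IsUnivHomeo π) (a b : W ⟶ Y) (h : a ≫ π = b ≫ π) : a = b := by
  haveI hint : IsIntegralHom π := isIntegralHom_of_isUnivHomeo π hπ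
  haveI huinj : UniversallyInjective π := ((Groth.Agent.S0415.result π).mp hπ).2.1
  haveI hsurjΔ : Surjective (pullback.diagonal π) :=
    (UniversallyInjective.iff_diagonal π).mp huinj
  -- the equalizer of `a` and `b` is the pullback of the diagonal
  let ab : W ⟶ pullback π π := pullback.lift a b h
  let q := pullback.snd (pullback.diagonal π) ab
  haveI : Surjective q := MorphismProperty.pullback_snd (P := @Surjective) _ _ hsurjΔ
  apply ext_of_isDominant_of_isSeparated π h q
  have hcond : pullback.fst (pullback.diagonal π) ab ≫ pullback.diagonal π = q ≫ ab :=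
    pullback.condition
  have h1 : q ≫ a = pullback.fst (pullback.diagonal π) ab := by
    have := congrArg (fun k => k ≫ pullback.fst π π) hcond
    simp only [Category.assoc, pullback.diagonal_fst, Category.comp_id] at this
    rw [this]
    show q ≫ a = q ≫ ab ≫ pullback.fst π π
    rw [pullback.lift_fst]
  have h2 : q ≫ b = pullback.fst (pullback.diagonal π) ab := by
    have := congrArg (fun k => k ≫ pullback.snd π π) hcond
    simp only [Category.assoc, pullback.diagonal_snd, Category.comp_id] at this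
    rw [this]
    show q ≫ b = q ≫ ab ≫ pullback.snd π π
    rw [pullback.lift_snd]
  rw [h1, h2]


section universal
variable {X} {Y : Scheme.{u}} (π : Y ⟶ X) (hπ : FlatMor.IsUnivHomeo π)

include hπ in
theorem isUnivHomeo_SpecMap_appLE (U : X.Opens) (hU : IsAffineOpen U) :
    FlatMor.IsUnivHomeo (Spec.map (π.appLE U (π ⁻¹ᵁ U) le_rfl)) := by
  have hV : IsAffineOpen (π ⁻¹ᵁ U) := isAffine_preimage_of_isUnivHomeo π hπ U hU
  have h1 := isUnivHomeo_morphismRestrict π hπ U
  rw [← MorphismProperty.cancel_left_of_respectsIso FlatMor.IsUnivHomeo.{u} hV.isoSpec.inv,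
    ← MorphismProperty.cancel_right_of_respectsIso FlatMor.IsUnivHomeo.{u} _ hU.isoSpec.hom] at h1
  convert h1 using 1
  rw [← cancel_mono hU.fromSpec, IsAffineOpen.SpecMap_appLE_fromSpec π hU hV le_rfl]
  simp only [Category.assoc, IsAffineOpen.isoSpec_hom_fromSpec, morphismRestrict_ι]
  rw [← Category.assoc, IsAffineOpen.isoSpec_inv_ι]

include hπ in
theorem exists_local_lift (U : X.AffineZariskiSite) :
    ∃ hU : (awnGlueData X).functor.obj U ⟶ Y,
      hU ≫ π = colimit.ι (awnGlueData X).functor U ≫ awnMap X := by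
  have hV : IsAffineOpen (π ⁻¹ᵁ U.toOpens) :=
    isAffine_preimage_of_isUnivHomeo π hπ U.toOpens U.2
  have hR : RingUH (π.appLE U.toOpens (π ⁻¹ᵁ U.toOpens) le_rfl).hom :=
    ringUH_of_isUnivHomeo _ (isUnivHomeo_SpecMap_appLE π hπ _ U.2)
  obtain ⟨χ, hχ⟩ := exists_lift_Wawn _ hR
  have hψχ : π.appLE U.toOpens (π ⁻¹ᵁ U.toOpens) le_rfl ≫
      (CommRingCat.ofHom χ : Γ(Y, π ⁻¹ᵁ U.toOpens) ⟶ CommRingCat.of (Wawn Γ(X, U.toOpens))) =
      CommRingCat.ofHom (algebraMap Γ(X, U.toOpens) (Wawn Γ(X, U.toOpens))) :=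
    CommRingCat.hom_ext hχ
  refine ⟨(Spec.map (CommRingCat.ofHom χ :
    Γ(Y, π ⁻¹ᵁ U.toOpens) ⟶ CommRingCat.of (Wawn Γ(X, U.toOpens))) ≫ hV.fromSpec), ?_⟩
  refine Eq.trans ?_ (ι_awnMap X U).symm
  calc (Spec.map (CommRingCat.ofHom χ :
          Γ(Y, π ⁻¹ᵁ U.toOpens) ⟶ CommRingCat.of (Wawn Γ(X, U.toOpens))) ≫ hV.fromSpec) ≫ π
      = Spec.map (CommRingCat.ofHom χ :
          Γ(Y, π ⁻¹ᵁ U.toOpens) ⟶ CommRingCat.of (Wawn Γ(X, U.toOpens))) ≫
          (hV.fromSpec ≫ π) := Category.assoc _ _ _
    _ = Spec.map (CommRingCat.ofHom χ :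
          Γ(Y, π ⁻¹ᵁ U.toOpens) ⟶ CommRingCat.of (Wawn Γ(X, U.toOpens))) ≫
          (Spec.map (π.appLE U.toOpens (π ⁻¹ᵁ U.toOpens) le_rfl) ≫ U.2.fromSpec) :=
        congrArg (fun k => Spec.map (CommRingCat.ofHom χ :
          Γ(Y, π ⁻¹ᵁ U.toOpens) ⟶ CommRingCat.of (Wawn Γ(X, U.toOpens))) ≫ k)
          (IsAffineOpen.SpecMap_appLE_fromSpec π U.2 hV le_rfl).symm
    _ = (Spec.map (CommRingCat.ofHom χ :
          Γ(Y, π ⁻¹ᵁ U.toOpens) ⟶ CommRingCat.of (Wawn Γ(X, U.toOpens))) ≫
          Spec.map (π.appLE U.toOpens (π ⁻¹ᵁ U.toOpens) le_rfl)) ≫ U.2.fromSpec :=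
        (Category.assoc _ _ _).symm
    _ = Spec.map (π.appLE U.toOpens (π ⁻¹ᵁ U.toOpens) le_rfl ≫
          (CommRingCat.ofHom χ :
          Γ(Y, π ⁻¹ᵁ U.toOpens) ⟶ CommRingCat.of (Wawn Γ(X, U.toOpens)))) ≫ U.2.fromSpec :=
        congrArg (fun k => k ≫ U.2.fromSpec) (Spec.map_comp _ _).symm
    _ = Spec.map (CommRingCat.ofHom (algebraMap Γ(X, U.toOpens) (Wawn Γ(X, U.toOpens)))) ≫
          U.2.fromSpec := congrArg (fun k => Spec.map k ≫ U.2.fromSpec) hψχ

include hπ in
theorem exists_awn_desc : ∃ h : awnScheme X ⟶ Y, h ≫ π = awnMap X := by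
  choose hloc hloc_eq using exists_local_lift π hπ
  let c : Cocone (awnGlueData X).functor :=
    { pt := Y
      ι :=
        { app := fun U => hloc U
          naturality := by
            intro U V i
            haveI : _root_.IsReduced (Wawn Γ(X, U.toOpens)) :=
              isReduced_of_isRingAWN _ (isRingAWN_Wawn _)
            haveI : IsReduced ((awnGlueData X).functor.obj U) :=
              inferInstanceAs (IsReduced (Spec (CommRingCat.of (Wawn Γ(X, U.toOpens)))))
            apply hom_ext_of_isUnivHomeo π hπ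
            have e1 : ((awnGlueData X).functor.map i ≫ hloc V) ≫ π =
                colimit.ι (awnGlueData X).functor U ≫ awnMap X := by
              calc ((awnGlueData X).functor.map i ≫ hloc V) ≫ π
                  = (awnGlueData X).functor.map i ≫ (hloc V ≫ π) := Category.assoc _ _ _
                _ = (awnGlueData X).functor.map i ≫
                      (colimit.ι (awnGlueData X).functor V ≫ awnMap X) :=
                    congrArg (fun k => (awnGlueData X).functor.map i ≫ k) (hloc_eq V)
                _ = ((awnGlueData X).functor.map i ≫ colimit.ι (awnGlueData X).functor V) ≫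
                      awnMap X := (Category.assoc _ _ _).symm
                _ = colimit.ι (awnGlueData X).functor U ≫ awnMap X :=
                    congrArg (fun k => k ≫ awnMap X) (colimit.w (awnGlueData X).functor i)
            have e2 : (hloc U ≫ 𝟙 Y) ≫ π =
                colimit.ι (awnGlueData X).functor U ≫ awnMap X := by
              rw [Category.comp_id]; exact hloc_eq U
            exact e1.trans e2.symm } }
  refine ⟨colimit.desc _ c, ?_⟩
  apply colimit.hom_ext
  intro U
  calc colimit.ι (awnGlueData X).functor U ≫ (colimit.desc (awnGlueData X).functor c ≫ π)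
      = (colimit.ι (awnGlueData X).functor U ≫ colimit.desc (awnGlueData X).functor c) ≫ π :=
        (Category.assoc _ _ _).symm
    _ = hloc U ≫ π := congrArg (fun k => k ≫ π) (colimit.ι_desc c U)
    _ = colimit.ι (awnGlueData X).functor U ≫ awnMap X := hloc_eq U

include hπ in
theorem existsUnique_awn_desc : ∃! h : awnScheme X ⟶ Y, h ≫ π = awnMap X := by
  obtain ⟨h, hh⟩ := exists_awn_desc π hπ
  refine ⟨h, hh, ?_⟩
  intro h' hh'
  haveI : IsReduced (awnScheme X) := isReduced_of_isAWN (isAWN_awnScheme X)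
  exact hom_ext_of_isUnivHomeo π hπ h' h (hh'.trans hh.symm)

end universal

theorem isAWNormalization_awnMap : HTop.IsAWNormalization (awnMap X) :=
  ⟨isUnivHomeo_awnMap X, fun _ π hπ => existsUnique_awn_desc π hπ⟩

end Groth.Agent.H69
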