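import Groth.Agent.H69.AdjoinRootUH
import Mathlib

set_option autoImplicit false
universe u
open AlgebraicGeometry CategoryTheory Polynomial

namespace Groth.Agent.H69

theorem sq_cube_inj' {D : Type*} [CommRing D] [IsDomain D] {x y : D} (h2 : x ^ 2 = y ^ 2)
    (h3 : x ^ 3 = y ^ 3) : x = y := by
  have h : (x - y) * y ^ 2 = 0 := by
    calc (x - y) * y ^ 2 = x * y ^ 2 - y ^ 3 := by ring
      _ = x * x ^ 2 - x ^ 3 := by rw [← h2, ← h3]
      _ = 0 := by ring
  rcases mul_eq_zero.mp h with h | h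
  · exact sub_eq_zero.mp h
  · have hy : y = 0 := by simpa using h
    have hx : x = 0 := by
      rw [hy] at h2
      simpa using h2
    rw [hx, hy]

theorem prime_pow_inj' {D : Type*} [CommRing D] [IsDomain D] {p : ℕ} (hp : p.Prime) {x y : D}
    (h1 : (p : D) * x = (p : D) * y) (h2 : x ^ p = y ^ p) : x = y := by
  by_cases hp0 : (p : D) = 0
  · have hdvd : ringChar D ∣ p := (CharP.cast_eq_zero_iff D (ringChar D) p).mp hp0
    have hchar : ringChar D = p := by
      rcases (Nat.dvd_prime hp).mp hdvd with h | h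
      · exact absurd h CharP.ringChar_ne_one
      · exact h
    haveI : CharP D p := by
      have := ringChar.charP D
      rwa [hchar] at this
    haveI := Fact.mk hp
    apply frobenius_inj D p
    simpa [frobenius_def] using h2
  · exact mul_left_cancel₀ hp0 h1

theorem eq_of_forall_prime_mk_eq {R : Type*} [CommRing R] [IsReduced R] {a b : R}
    (h : ∀ P : Ideal R, P.IsPrime → Ideal.Quotient.mk P a = Ideal.Quotient.mk P b) : a = b := by
  have hn : IsNilpotent (a - b) := by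
    rw [nilpotent_iff_mem_prime]
    intro P hP
    exact Ideal.Quotient.eq.mp (h P hP)
  exact sub_eq_zero.mp hn.eq_zero

theorem eq_of_sq_cube_of_isReduced {R : Type*} [CommRing R] [IsReduced R] {a b : R}
    (h2 : a ^ 2 = b ^ 2) (h3 : a ^ 3 = b ^ 3) : a = b := by
  apply eq_of_forall_prime_mk_eq
  intro P hP
  haveI := hP
  apply sq_cube_inj'
  · rw [← map_pow, ← map_pow, h2]
  · rw [← map_pow, ← map_pow, h3]

theorem eq_of_prime_of_isReduced {R : Type*} [CommRing R] [IsReduced R] {p : ℕ} (hp : p.Prime)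
    {a b : R} (h1 : (p : R) * a = (p : R) * b) (h2 : a ^ p = b ^ p) : a = b := by
  apply eq_of_forall_prime_mk_eq
  intro P hP
  haveI := hP
  apply prime_pow_inj' hp
  · have := congrArg (Ideal.Quotient.mk P) h1
    simpa [map_mul, map_natCast] using this
  · rw [← map_pow, ← map_pow, h2]

theorem RingUH.comp {A B C : Type u} [CommRing A] [CommRing B] [CommRing C] (f : A →+* B)
    (g : B →+* C) (hf : RingUH f) (hg : RingUH g) : RingUH (g.comp f) := by
  refine ⟨RingHom.IsIntegral.trans f g hf.integral hg.integral, ?_, ?_⟩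
  · have hcomp : PrimeSpectrum.comap (g.comp f) = PrimeSpectrum.comap f ∘ PrimeSpectrum.comap g := by
      funext q; rfl
    rw [hcomp]
    exact hf.bij.comp hg.bij
  · intro L _ a b hab
    apply hg.ext L
    apply hf.ext L
    rw [RingHom.comp_assoc, RingHom.comp_assoc, hab]

theorem RingUH.of_comp_left {A B W : Type u} [CommRing A] [CommRing B] [CommRing W] (ψ : A →+* B)
    (χ : B →+* W) (hψ : RingUH ψ) (h : RingUH (χ.comp ψ)) : RingUH χ := by
  refine ⟨RingHom.IsIntegral.tower_top ψ χ h.integral, ?_, ?_⟩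
  · have hcomp : PrimeSpectrum.comap (χ.comp ψ) = PrimeSpectrum.comap ψ ∘ PrimeSpectrum.comap χ := by
      funext q; rfl
    have hb := h.bij
    rw [hcomp] at hb
    exact (Function.Bijective.of_comp_iff' hψ.bij _).mp hb
  · intro L _ f g hfg
    apply h.ext L
    rw [← RingHom.comp_assoc, ← RingHom.comp_assoc, hfg]

theorem ringUH_of_surjective_of_ker_nil {W W' : Type u} [CommRing W] [CommRing W'] (π : W →+* W')
    (hs : Function.Surjective π) (hk : ∀ a ∈ RingHom.ker π, IsNilpotent a) : RingUH π := by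
  refine ⟨π.isIntegral_of_surjective hs, ⟨PrimeSpectrum.comap_injective_of_surjective π hs, ?_⟩,
    ?_⟩
  · intro P
    have : P ∈ Set.range (PrimeSpectrum.comap π) := by
      rw [range_comap_of_surjective _ π hs]
      intro a ha
      have hn : IsNilpotent a := hk a ha
      exact (nilpotent_iff_mem_prime.mp hn) P.asIdeal P.2
    exact this
  · intro L _ f g hfg
    ext w'
    obtain ⟨w, rfl⟩ := hs w'
    exact congrArg (fun k => k w) hfg

theorem retraction_prime_aux {W : Type u} [CommRing W] (I : Ideal W[X]) (ρ : W[X] ⧸ I →+* W)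
    (hρ' : ∀ w : W, ρ (algebraMap W _ w) = w) (p : ℕ) (x y : W) (h1 : X ^ p - C x ∈ I)
    (h2 : C (p : W) * X - C y ∈ I) :
    (ρ (Ideal.Quotient.mk I X)) ^ p = x ∧ (p : W) * ρ (Ideal.Quotient.mk I X) = y := by
  constructor
  · rw [← map_pow, ← map_pow]
    have e : Ideal.Quotient.mk I (X ^ p) = algebraMap W _ x := Ideal.Quotient.eq.mpr h1
    rw [e, hρ']
  · have e : Ideal.Quotient.mk I (C (p : W) * X) = algebraMap W _ y := Ideal.Quotient.eq.mpr h2
    have e0 : (p : W) = ρ (Ideal.Quotient.mk I (C (p : W))) := by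
      rw [map_natCast, map_natCast, map_natCast]
    rw [e0, ← map_mul, ← map_mul, e, hρ']

section final
variable {A W : Type u} [CommRing A] [CommRing W] (φ : A →+* W) (hφ : HTop.IsRingAWN φ)

include hφ in
theorem exists_retraction {W' : Type u} [CommRing W'] (θ : W →+* W') (hθ : RingUH θ) :
    ∃ ρ : W' →+* W, ρ.comp θ = RingHom.id W := by
  have hφuh := ringUH_of_isUnivHomeo φ hφ.1
  obtain ⟨ρ, hρ, -⟩ := hφ.2 W' (θ.comp φ) (isUnivHomeo_of_ringUH _ (RingUH.comp φ θ hφuh hθ))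
  obtain ⟨χ, -, huniq⟩ := hφ.2 W φ hφ.1
  refine ⟨ρ, ?_⟩
  have h1 : ρ.comp θ = χ := huniq _ (by
    show (ρ.comp θ).comp φ = φ
    rw [RingHom.comp_assoc]; exact hρ)
  have h2 : RingHom.id W = χ := huniq _ (RingHom.id_comp φ)
  rw [h1, h2]

include hφ in
theorem isReduced_of_isRingAWN : IsReduced W := by
  obtain ⟨ρ, hρ⟩ := exists_retraction φ hφ (Ideal.Quotient.mk (nilradical W))
    (ringUH_of_surjective_of_ker_nil _ Ideal.Quotient.mk_surjective (by
      intro a ha
      rw [Ideal.mk_ker] at ha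
      exact mem_nilradical.mp ha))
  refine ⟨fun a ha => ?_⟩
  have h0 : Ideal.Quotient.mk (nilradical W) a = 0 :=
    Ideal.Quotient.eq_zero_iff_mem.mpr (mem_nilradical.mpr ha)
  have h1 := congrArg (fun k => k a) hρ
  simp only [RingHom.comp_apply, RingHom.id_apply] at h1
  rw [← h1, h0, map_zero]

include hφ in
theorem isAWNRing_of_isRingAWN : HTop.IsAWNRing W := by
  haveI := isReduced_of_isRingAWN φ hφ
  constructor
  · intro x y h
    obtain ⟨ρ, hρ⟩ := exists_retraction φ hφ _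
      (ringUH_of_isUnivHomeo _ (sqCube_quotient W x y h).1)
    have hρ' : ∀ w : W, ρ (algebraMap W _ w) = w := fun w => congrArg (fun k => k w) hρ
    refine ⟨ρ (Ideal.Quotient.mk _ X), ⟨?_, ?_⟩, ?_⟩
    · rw [← map_pow, ← map_pow]
      have e : Ideal.Quotient.mk (Ideal.span ({X ^ 2 - C x, X ^ 3 - C y} : Set W[X])) (X ^ 2) =
          algebraMap W _ x := Ideal.Quotient.eq.mpr (Ideal.subset_span (by simp))
      rw [e, hρ']
    · rw [← map_pow, ← map_pow]
      have e : Ideal.Quotient.mk (Ideal.span ({X ^ 2 - C x, X ^ 3 - C y} : Set W[X])) (X ^ 3) =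
          algebraMap W _ y := Ideal.Quotient.eq.mpr (Ideal.subset_span (by simp))
      rw [e, hρ']
    · rintro b ⟨hb1, hb2⟩
      apply eq_of_sq_cube_of_isReduced
      · rw [← hb1, ← map_pow, ← map_pow]
        have e : Ideal.Quotient.mk (Ideal.span ({X ^ 2 - C x, X ^ 3 - C y} : Set W[X])) (X ^ 2) =
            algebraMap W _ x := Ideal.Quotient.eq.mpr (Ideal.subset_span (by simp))
        rw [e, hρ']
      · rw [← hb2, ← map_pow, ← map_pow]
        have e : Ideal.Quotient.mk (Ideal.span ({X ^ 2 - C x, X ^ 3 - C y} : Set W[X])) (X ^ 3) =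
            algebraMap W _ y := Ideal.Quotient.eq.mpr (Ideal.subset_span (by simp))
        rw [e, hρ']
  · intro p hp x y h
    obtain ⟨ρ, hρ⟩ := exists_retraction φ hφ _
      (ringUH_of_isUnivHomeo _ (primeRoot_quotient W p hp x y h))
    have hρ' : ∀ w : W, ρ (algebraMap W _ w) = w := fun w => congrArg (fun k => k w) hρ
    obtain ⟨e1, e2⟩ := retraction_prime_aux _ ρ hρ' p x y
      (Ideal.subset_span (by simp)) (Ideal.subset_span (by simp))
    refine ⟨ρ (Ideal.Quotient.mk _ X), ⟨e1.symm, e2.symm⟩, ?_⟩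
    rintro b ⟨hb1, hb2⟩
    apply eq_of_prime_of_isReduced hp
    · rw [e2, ← hb2]
    · rw [e1, ← hb1]

end final

theorem isAWNRing_of_bijective {B W : Type u} [CommRing B] [CommRing W] (χ : B →+* W)
    (hχ : Function.Bijective χ) (hW : HTop.IsAWNRing W) : HTop.IsAWNRing B := by
  constructor
  · intro x y h
    have h' : (χ x) ^ 3 = (χ y) ^ 2 := by rw [← map_pow, ← map_pow, h]
    obtain ⟨a', ⟨h1, h2⟩, huniq⟩ := hW.1 (χ x) (χ y) h'
    obtain ⟨a, rfl⟩ := hχ.2 a'
    refine ⟨a, ⟨hχ.1 (by rw [map_pow, ← h1]), hχ.1 (by rw [map_pow, ← h2])⟩, ?_⟩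
    rintro b ⟨hb1, hb2⟩
    exact hχ.1 (huniq (χ b) ⟨by rw [hb1, map_pow], by rw [hb2, map_pow]⟩)
  · intro p hp x y h
    have h' : (p : W) ^ p * (χ x) = (χ y) ^ p := by
      rw [← map_natCast χ, ← map_pow, ← map_mul, h, map_pow]
    obtain ⟨a', ⟨h1, h2⟩, huniq⟩ := hW.2 p hp (χ x) (χ y) h'
    obtain ⟨a, rfl⟩ := hχ.2 a'
    refine ⟨a, ⟨hχ.1 (by rw [map_pow, ← h1]), hχ.1 (by rw [map_mul, map_natCast, ← h2])⟩, ?_⟩
    rintro b ⟨hb1, hb2⟩
    exact hχ.1 (huniq (χ b) ⟨by rw [hb1, map_pow], by rw [hb2, map_mul, map_natCast]⟩)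

theorem isReduced_of_isSeminormalRing {B : Type u} [CommRing B] (h : HTop.IsSeminormalRing B) :
    IsReduced B := by
  rw [isReduced_iff_pow_one_lt 2 (by norm_num)]
  intro n hn
  obtain ⟨a, -, huniq⟩ := h 0 0 (by ring)
  have h1 : n = a := huniq n ⟨by rw [hn], by rw [pow_succ, hn, zero_mul]⟩
  have h2 : (0 : B) = a := huniq 0 ⟨by ring, by ring⟩
  rw [h1, ← h2]

theorem bijective_of_isAWNRing {A B W : Type u} [CommRing A] [CommRing B] [CommRing W]
    (φ : A →+* W) (hφ : HTop.IsRingAWN φ) (ψ : A →+* B) (hψ : RingUH ψ) (χ : B →+* W)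
    (hχ : χ.comp ψ = φ) (hB : HTop.IsAWNRing B) : Function.Bijective χ := by
  haveI := isReduced_of_isRingAWN φ hφ
  haveI := isReduced_of_isSeminormalRing hB.1
  have hχuh : RingUH χ := RingUH.of_comp_left ψ χ hψ (by rw [hχ]; exact ringUH_of_isUnivHomeo φ hφ.1)
  have hinj : Function.Injective χ := by
    rw [injective_iff_map_eq_zero]
    intro b hb
    have hn : IsNilpotent b := by
      rw [nilpotent_iff_mem_prime]
      intro Q hQ
      obtain ⟨Q', hQ'⟩ := hχuh.bij.2 ⟨Q, hQ⟩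
      have : b ∈ (PrimeSpectrum.comap χ Q').asIdeal := by
        show χ b ∈ Q'.asIdeal
        rw [hb]; exact Ideal.zero_mem _
      rw [hQ'] at this
      exact this
    exact hn.eq_zero
  refine ⟨hinj, ?_⟩
  by_contra hns
  rcases exists_sq_cube_or_prime_of_ringUH χ hinj hns hχuh with
    ⟨w, hw, ⟨x, hx⟩, ⟨y, hy⟩⟩ | ⟨p, w, hp, hw, ⟨y, hy⟩, ⟨x, hx⟩⟩
  · have hxy : x ^ 3 = y ^ 2 := by
      apply hinj
      rw [map_pow, map_pow, hx, hy]; ring
    obtain ⟨a, ⟨h1, h2⟩, -⟩ := hB.1 x y hxy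
    apply hw
    refine ⟨a, eq_of_sq_cube_of_isReduced ?_ ?_⟩
    · rw [← map_pow, ← h1, hx]
    · rw [← map_pow, ← h2, hy]
  · have hxy : (p : B) ^ p * x = y ^ p := by
      apply hinj
      rw [map_mul, map_pow, map_pow, map_natCast, hx, hy]; ring
    obtain ⟨a, ⟨h1, h2⟩, -⟩ := hB.2 p hp x y hxy
    apply hw
    refine ⟨a, eq_of_prime_of_isReduced hp ?_ ?_⟩
    · rw [← map_natCast χ, ← map_mul, ← h2, hy, map_natCast]
    · rw [← map_pow, ← h1, hx]

end Groth.Agent.H69
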