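import Groth.Agent.H69.SNTower
import Groth.Agent.H69.AWN
import Mathlib

set_option autoImplicit false
universe u
open AlgebraicGeometry CategoryTheory Polynomial

namespace Groth.Agent.H69

theorem adjoin_mk_X_eq_top {A : Type u} [CommRing A] (I : Ideal A[X]) :
    Algebra.adjoin A {(Ideal.Quotient.mk I X : A[X] ⧸ I)} = ⊤ := by
  have h1 : (Algebra.adjoin A {(X : A[X])}).map (Ideal.Quotient.mkₐ A I) =
      Algebra.adjoin A ((Ideal.Quotient.mkₐ A I) '' {X}) := AlgHom.map_adjoin _ _
  rw [Polynomial.adjoin_X, Algebra.map_top, Set.image_singleton] at h1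
  rw [Ideal.Quotient.mkₐ_eq_mk] at h1
  rw [← h1, AlgHom.range_eq_top]
  exact Ideal.Quotient.mkₐ_surjective A I

theorem towers_singleton {A B : Type u} [CommRing A] [CommRing B] [Algebra A B]
    (Step : Subalgebra A B → B → Prop)
    (hmono : ∀ (S S' : Subalgebra A B) (b : B), S ≤ S' → Step S b → Step S' b)
    (t : B) (htop : Algebra.adjoin A {t} = ⊤) (hstep : Step ⊥ t) :
    ∀ E : Finset B, ∃ l : List B, (↑E : Set B) ⊆ Algebra.adjoin A {b : B | b ∈ l} ∧
      IsTower Step l := by
  intro E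
  refine ⟨[t], ?_, ?_⟩
  · have h1 : {b : B | b ∈ [t]} = {t} := by ext b; simp
    rw [h1, htop]
    exact fun _ _ => Algebra.mem_top
  · intro i
    have e : ([t] : List B).get i = t := by rw [List.get_eq_getElem]; simp
    rw [e]
    exact hmono _ _ _ bot_le hstep

theorem exists_hom_of_root {A : Type u} [CommRing A] (S : Set A[X]) {L : Type*} [Field L]
    (ρ : A →+* L) (τ : L) (hτ : ∀ g ∈ S, eval₂ ρ τ g = 0) :
    ∃ f : (A[X] ⧸ Ideal.span S) →+* L, f.comp (algebraMap A (A[X] ⧸ Ideal.span S)) = ρ := by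
  have hle : Ideal.span S ≤ RingHom.ker (eval₂RingHom ρ τ) :=
    Ideal.span_le.mpr (fun g hg => by
      rw [SetLike.mem_coe, RingHom.mem_ker]; exact hτ g hg)
  refine ⟨Ideal.Quotient.lift (Ideal.span S) (eval₂RingHom ρ τ)
    (fun g hg => RingHom.mem_ker.mp (hle hg)), ?_⟩
  ext a
  rw [RingHom.comp_apply]
  have e : algebraMap A (A[X] ⧸ Ideal.span S) a = Ideal.Quotient.mk (Ideal.span S) (C a) := rfl
  rw [e, Ideal.Quotient.lift_mk]
  simp

theorem comap_surjective_of_forall_exists_hom {A B : Type u} [CommRing A] [CommRing B]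
    (φ : A →+* B)
    (h : ∀ P : PrimeSpectrum A, ∃ (L : Type u) (_ : Field L) (f : B →+* L),
      RingHom.ker (f.comp φ) = P.asIdeal) :
    Function.Surjective (PrimeSpectrum.comap φ) := by
  intro P
  obtain ⟨L, _, f, hf⟩ := h P
  refine ⟨⟨RingHom.ker f, RingHom.ker_isPrime f⟩, PrimeSpectrum.ext ?_⟩
  show (RingHom.ker f).comap φ = P.asIdeal
  rw [RingHom.comap_ker, hf]

theorem isUnivHomeo_of_towers_of_surjective {A B : Type u} [CommRing A] [CommRing B]
    [Algebra A B]
    (H : ∀ E : Finset B, ∃ l : List B, (↑E : Set B) ⊆ Algebra.adjoin A {b : B | b ∈ l} ∧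
      IsTower (StepAWN (A := A)) l)
    (hsurj : Function.Surjective (PrimeSpectrum.comap (algebraMap A B))) :
    FlatMor.IsUnivHomeo (Spec.map (CommRingCat.ofHom (algebraMap A B))) := by
  haveI : IsIntegralHom (Spec.map (CommRingCat.ofHom (algebraMap A B))) :=
    IsIntegralHom.SpecMap_iff.mpr (isIntegral_of_towers H)
  haveI : UniversallyInjective (Spec.map (CommRingCat.ofHom (algebraMap A B))) :=
    universallyInjective_Spec_of_ringHom_ext _ (fun L _ f g hfg => ext_of_towers H L f g hfg)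
  haveI : Surjective (Spec.map (CommRingCat.ofHom (algebraMap A B))) := ⟨hsurj⟩
  exact isUnivHomeo_of_integral _

theorem uh_resTriv_of_singleton_SN {A B : Type u} [CommRing A] [CommRing B] [Algebra A B]
    (t : B) (htop : Algebra.adjoin A {t} = ⊤) (hstep : StepSN (A := A) ⊥ t)
    (hsurj : Function.Surjective (PrimeSpectrum.comap (algebraMap A B))) :
    FlatMor.IsUnivHomeo (Spec.map (CommRingCat.ofHom (algebraMap A B))) ∧
      ResTriv (algebraMap A B) := by
  have H1 := towers_singleton (StepSN (A := A)) stepSN_mono t htop hstep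
  have H' : ∀ E : Finset B, ∃ l : List B, (↑E : Set B) ⊆ Algebra.adjoin A {b | b ∈ l} ∧
        IsTower (StepAWN (A := A)) l := by
    intro E
    obtain ⟨l, hl, ht⟩ := H1 E
    exact ⟨l, hl, isTower_awn_of_sn l ht⟩
  exact ⟨isUnivHomeo_of_towers_of_surjective H' hsurj, resTriv_of_towers H1⟩

/-- `A → A[t]/(t² - x, t³ - y)` with `x³ = y²`. -/
theorem sqCube_quotient (A : Type u) [CommRing A] (x y : A) (h : x ^ 3 = y ^ 2) :
    FlatMor.IsUnivHomeo (Spec.map (CommRingCat.ofHom (algebraMap A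
      (A[X] ⧸ Ideal.span ({X ^ 2 - C x, X ^ 3 - C y} : Set A[X]))))) ∧
    ResTriv (algebraMap A (A[X] ⧸ Ideal.span ({X ^ 2 - C x, X ^ 3 - C y} : Set A[X]))) := by
  have hstep : StepSN (A := A) (⊥ : Subalgebra A
      (A[X] ⧸ Ideal.span ({X ^ 2 - C x, X ^ 3 - C y} : Set A[X])))
      (Ideal.Quotient.mk _ X) := by
    constructor
    · have e : (Ideal.Quotient.mk (Ideal.span ({X ^ 2 - C x, X ^ 3 - C y} : Set A[X])) X) ^ 2 =
          algebraMap A _ x := by
        rw [← map_pow]
        exact Ideal.Quotient.eq.mpr (Ideal.subset_span (by simp))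
      rw [e]; exact Subalgebra.algebraMap_mem _ _
    · have e : (Ideal.Quotient.mk (Ideal.span ({X ^ 2 - C x, X ^ 3 - C y} : Set A[X])) X) ^ 3 =
          algebraMap A _ y := by
        rw [← map_pow]
        exact Ideal.Quotient.eq.mpr (Ideal.subset_span (by simp))
      rw [e]; exact Subalgebra.algebraMap_mem _ _
  refine uh_resTriv_of_singleton_SN _ (adjoin_mk_X_eq_top _) hstep ?_
  apply comap_surjective_of_forall_exists_hom
  intro P
  have hxy : (algebraMap A P.asIdeal.ResidueField x) ^ 3 =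
      (algebraMap A P.asIdeal.ResidueField y) ^ 2 := by
    rw [← map_pow, ← map_pow, h]
  obtain ⟨τ, hτ2, hτ3⟩ : ∃ τ : P.asIdeal.ResidueField,
      τ ^ 2 = algebraMap A _ x ∧ τ ^ 3 = algebraMap A _ y := by
    by_cases hx0 : algebraMap A P.asIdeal.ResidueField x = 0
    · refine ⟨0, by rw [hx0]; ring, ?_⟩
      have hy0 : algebraMap A P.asIdeal.ResidueField y = 0 := by
        rw [hx0] at hxy
        have : (algebraMap A P.asIdeal.ResidueField y) ^ 2 = 0 := by rw [← hxy]; ring
        simpa using this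
      rw [hy0]; ring
    · refine ⟨algebraMap A _ y / algebraMap A _ x, ?_, ?_⟩
      · rw [div_pow, ← hxy]; field_simp
      · rw [div_pow, div_eq_iff (pow_ne_zero 3 hx0), hxy]; ring
  obtain ⟨f, hf⟩ := exists_hom_of_root ({X ^ 2 - C x, X ^ 3 - C y} : Set A[X])
    (algebraMap A P.asIdeal.ResidueField) τ (by
      intro g hg
      rcases hg with rfl | rfl
      · simp [hτ2]
      · simp [hτ3])
  exact ⟨_, inferInstance, f, by rw [hf]; exact Ideal.ker_algebraMap_residueField _⟩

/-- `A → A[t]/(t^p - x, p t - y)` with `p^p x = y^p`. -/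
theorem primeRoot_quotient (A : Type u) [CommRing A] (p : ℕ) (hp : p.Prime) (x y : A)
    (h : (p : A) ^ p * x = y ^ p) :
    FlatMor.IsUnivHomeo (Spec.map (CommRingCat.ofHom (algebraMap A
      (A[X] ⧸ Ideal.span ({X ^ p - C x, C (p : A) * X - C y} : Set A[X]))))) := by
  have hstep : StepAWN (A := A) (⊥ : Subalgebra A
      (A[X] ⧸ Ideal.span ({X ^ p - C x, C (p : A) * X - C y} : Set A[X])))
      (Ideal.Quotient.mk _ X) := by
    refine Or.inr ⟨p, hp, ?_, ?_⟩
    · have e : ((p : ℕ) : A[X] ⧸ Ideal.span ({X ^ p - C x, C (p : A) * X - C y} : Set A[X])) *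
          (Ideal.Quotient.mk (Ideal.span ({X ^ p - C x, C (p : A) * X - C y} : Set A[X])) X) =
          algebraMap A _ y := by
        have e0 : ((p : ℕ) : A[X] ⧸ Ideal.span ({X ^ p - C x, C (p : A) * X - C y} : Set A[X])) =
            Ideal.Quotient.mk _ (C (p : A)) := by
          rw [map_natCast, map_natCast]
        rw [e0, ← map_mul]
        exact Ideal.Quotient.eq.mpr (Ideal.subset_span (by simp))
      rw [e]; exact Subalgebra.algebraMap_mem _ _
    · have e : (Ideal.Quotient.mk (Ideal.span ({X ^ p - C x, C (p : A) * X - C y} : Set A[X]))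
          X) ^ p = algebraMap A _ x := by
        rw [← map_pow]
        exact Ideal.Quotient.eq.mpr (Ideal.subset_span (by simp))
      rw [e]; exact Subalgebra.algebraMap_mem _ _
  have H' := towers_singleton (StepAWN (A := A)) stepAWN_mono _ (adjoin_mk_X_eq_top _) hstep
  refine isUnivHomeo_of_towers_of_surjective H' ?_
  apply comap_surjective_of_forall_exists_hom
  intro P
  have hxy : ((p : ℕ) : Om A P) ^ p * iotaP A P x = (iotaP A P y) ^ p := by
    rw [← map_natCast (iotaP A P), ← map_pow, ← map_mul, h, map_pow]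
  obtain ⟨τ, hτ1, hτ2⟩ : ∃ τ : Om A P, τ ^ p = iotaP A P x ∧ ((p : ℕ) : Om A P) * τ = iotaP A P y := by
    by_cases hp0 : ((p : ℕ) : Om A P) = 0
    · obtain ⟨τ, hτ⟩ := IsAlgClosed.exists_pow_nat_eq (iotaP A P x) hp.pos
      refine ⟨τ, hτ, ?_⟩
      have hy0 : iotaP A P y = 0 := by
        rw [hp0, zero_pow hp.ne_zero, zero_mul] at hxy
        exact pow_eq_zero_iff hp.ne_zero |>.mp hxy.symm
      rw [hp0, hy0, zero_mul]
    · refine ⟨iotaP A P y / (p : Om A P), ?_, ?_⟩
      · rw [div_pow, ← hxy]; field_simp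
      · field_simp
  obtain ⟨f, hf⟩ := exists_hom_of_root ({X ^ p - C x, C (p : A) * X - C y} : Set A[X])
    (iotaP A P) τ (by
      intro g hg
      rcases hg with rfl | rfl
      · simp [hτ1]
      · simp [hτ2])
  refine ⟨_, inferInstance, f, ?_⟩
  rw [hf]
  ext a
  rw [RingHom.mem_ker, iotaP_eq_zero_iff]

end Groth.Agent.H69
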