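import Mathlib

/-! Prime avoidance along the fibre of an integral ring map. -/

set_option autoImplicit false
set_option linter.style.haveILetI false
set_option linter.unusedSectionVars false

universe u

namespace Groth.Agent.H69.AvoidFibre

/-- Let `ψ : A → C` be integral, `res : D → C` a ring map, `𝔭` a prime of `A`, `t` a finite subset
of `D` and `Q` a set of primes of `C` lying over `𝔭` such that no member of `Q` contains `res t`.
Then some element of the ideal generated by `t` maps outside every member of `Q`. -/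
theorem exists_mem_span_forall_notMem {A C D : Type u} [CommRing A] [CommRing C] [CommRing D]
    (ψ : A →+* C) (hψ : ψ.IsIntegral) (res : D →+* C) (𝔭 : Ideal A) [𝔭.IsPrime]
    (t : Finset D) (Q : Set (Ideal C))
    (hQ : ∀ 𝔮 ∈ Q, 𝔮.IsPrime ∧ 𝔮.comap ψ = 𝔭 ∧ ∃ a ∈ t, res a ∉ 𝔮) :
    ∃ h ∈ Ideal.span (t : Set D), ∀ 𝔮 ∈ Q, res h ∉ 𝔮 := by
  classical
  algebraize [ψ]
  -- the finite `A`-subalgebra generated by `res t`
  let B₀ : Subalgebra A C := Algebra.adjoin A ((t.image res : Finset C) : Set C)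
  have hfg : B₀.toSubmodule.FG :=
    fg_adjoin_of_finite (Finset.finite_toSet _) (fun x _ => hψ x)
  haveI : Module.Finite A B₀ := ⟨(Submodule.fg_top _).2 hfg⟩
  have hfin : (𝔭.primesOver B₀).Finite := Algebra.QuasiFinite.finite_primesOver 𝔭
  -- the polynomial ring mapping to `D` and to `B₀`
  let P := MvPolynomial t ℤ
  let evD : P →+* D := MvPolynomial.eval₂Hom (Int.castRingHom D) (fun k => (k : D))
  have hmem : ∀ k : t, res (k : D) ∈ B₀ := fun k =>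
    Algebra.subset_adjoin (Finset.mem_coe.2 (Finset.mem_image_of_mem res k.2))
  let evB : P →+* B₀ :=
    MvPolynomial.eval₂Hom (Int.castRingHom B₀) (fun k => ⟨res (k : D), hmem k⟩)
  have hev : (B₀.val : B₀ →+* C).comp evB = res.comp evD := by
    apply MvPolynomial.ringHom_ext
    · intro n
      simp
    · intro k
      simp [evD, evB]
  let S' : Set (Ideal P) := (fun q : Ideal B₀ => q.comap evB) '' (𝔭.primesOver B₀)
  have hS' : S'.Finite := hfin.image _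
  let S : Set (Ideal P) := (fun 𝔮 : Ideal C => 𝔮.comap (res.comp evD)) '' Q
  have hSS' : S ⊆ S' := by
    rintro _ ⟨𝔮, h𝔮, rfl⟩
    obtain ⟨h1, h2, -⟩ := hQ 𝔮 h𝔮
    refine ⟨𝔮.comap (B₀.val : B₀ →+* C), ⟨Ideal.comap_isPrime _ _, ⟨?_⟩⟩, ?_⟩
    · rw [Ideal.under_def, Ideal.comap_comap, ← h2]
      rfl
    · show Ideal.comap evB (Ideal.comap _ 𝔮) = _
      rw [← hev, Ideal.comap_comap]
  have hS : S.Finite := hS'.subset hSS'
  have hSprime : ∀ 𝔫 ∈ S, 𝔫.IsPrime := by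
    rintro _ ⟨𝔮, h𝔮, rfl⟩
    haveI := (hQ 𝔮 h𝔮).1
    exact Ideal.comap_isPrime _ 𝔮
  let J : Ideal P := Ideal.span (Set.range (MvPolynomial.X : t → P))
  have hJ : J.map evD ≤ Ideal.span (t : Set D) := by
    rw [Ideal.map_span]
    apply Ideal.span_mono
    rintro _ ⟨_, ⟨k, rfl⟩, rfl⟩
    have : evD (MvPolynomial.X k) = (k : D) := MvPolynomial.eval₂Hom_X' _ _ _
    rw [this]
    exact Finset.mem_coe.2 k.2
  by_cases hQe : Q = ∅
  · exact ⟨0, Ideal.zero_mem _, by simp [hQe]⟩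
  obtain ⟨𝔮₀, h𝔮₀⟩ := Set.nonempty_iff_ne_empty.2 hQe
  have hnot : ¬ ((J : Set P) ⊆ ⋃ 𝔫 ∈ (hS.toFinset : Set (Ideal P)), (𝔫 : Set P)) := by
    intro hsub
    have := (Ideal.subset_union_prime (s := hS.toFinset) (f := fun 𝔫 : Ideal P => 𝔫)
      (𝔮₀.comap (res.comp evD)) (𝔮₀.comap (res.comp evD))
      (fun 𝔫 h𝔫 _ _ => hSprime 𝔫 (hS.mem_toFinset.1 h𝔫)) (I := J)).1 hsub
    obtain ⟨𝔫, h𝔫, hJ𝔫⟩ := this
    obtain ⟨𝔮, h𝔮, rfl⟩ := hS.mem_toFinset.1 h𝔫
    obtain ⟨-, -, a, hat, ha⟩ := hQ 𝔮 h𝔮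
    apply ha
    have hX : (MvPolynomial.X (⟨a, hat⟩ : t) : P) ∈ J := Ideal.subset_span ⟨_, rfl⟩
    have := hJ𝔫 hX
    rw [Ideal.mem_comap] at this
    have h2 : evD (MvPolynomial.X (⟨a, hat⟩ : t)) = a := MvPolynomial.eval₂Hom_X' _ _ _
    rw [RingHom.comp_apply, h2] at this
    exact this
  obtain ⟨p, hpJ, hp⟩ := Set.not_subset.1 hnot
  refine ⟨evD p, hJ (Ideal.mem_map_of_mem evD hpJ), ?_⟩
  intro 𝔮 h𝔮 hmem𝔮
  apply hp
  simp only [Set.mem_iUnion]
  refine ⟨𝔮.comap (res.comp evD), ?_, ?_⟩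
  · exact Finset.mem_coe.2 (hS.mem_toFinset.2 ⟨𝔮, h𝔮, rfl⟩)
  · exact hmem𝔮

end Groth.Agent.H69.AvoidFibre
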