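import Mathlib
import Groth.Agent.H69.DecentSober

/-!
# Codimension on decent algebraic spaces via étale charts (helper69)
-/

set_option autoImplicit false
set_option linter.style.haveILetI false
universe u
open CategoryTheory AlgebraicGeometry Limits Opposite
open AlgSp

namespace Groth.Agent.H69.DecentCoheight

variable {S : Scheme.{u}}

/-- On a decent algebraic space, the coheight (for specialization) of a point of an étale chart equals the coheight
of its image. -/
theorem coheight_ofPt_eq {X : Sp S} (hXa : IsAlgSpace X) (hX : IsDecent X) {U : Over S}
    (a : (yon S).obj U ⟶ X) (ha : RepWith @Etale a) (u : ↥U.left) :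
    @Order.coheight ↥U.left (specializationPreorder ↥U.left) u =
      @Order.coheight (Points X) (specializationPreorder (Points X)) (Points.ofPt a u) := by
  haveI : T0Space (Points X) := H52.t0Space_of_isDecent hXa hX
  letI : Preorder ↥U.left := specializationPreorder ↥U.left
  letI : Preorder (Points X) := specializationPreorder (Points X)
  have hmono : ∀ u u' : ↥U.left, u ≤ u' → Points.ofPt a u ≤ Points.ofPt a u' := by
    intro u u' h
    exact Specializes.map (show u' ⤳ u from h) (Points.continuous_ofPt a)
  have hstrict : StrictMono (Points.ofPt a) := by
    intro u u' h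
    refine lt_of_le_not_ge (hmono u u' h.le) ?_
    intro hge
    have he : Points.ofPt a u = Points.ofPt a u' :=
      (Specializes.antisymm (show Points.ofPt a u' ⤳ Points.ofPt a u from hmono u u' h.le)
        (show Points.ofPt a u ⤳ Points.ofPt a u' from hge)).eq.symm
    have : u = u' := H52.eq_of_specializes_of_isDecent hX a ha u u' he h.le
    exact h.not_ge (this ▸ le_refl u)
  refine Order.coheight_eq_of_strictMono (Points.ofPt a) hstrict ?_ u
  intro u x hx
  obtain ⟨q, hq, -, hqc⟩ := hX x
  have hsp : Points.mk q ⤳ Points.ofPt a u := by rw [hq]; exact hx.le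
  obtain ⟨u', hu's, hu'⟩ := H52.exists_generization_of_specializes _ q hsp hqc a ha u rfl
  refine ⟨u', lt_of_le_not_ge hu's ?_, hu'.trans hq⟩
  intro hge
  have : x ≤ Points.ofPt a u := by
    rw [← hq, ← hu']
    exact hmono u' u hge
  exact hx.not_ge this

/-- In a quasi-sober space, generic points of irreducible components are the maximal points for specialization. -/
theorem exists_component_isGenericPoint_iff {α : Type*} [TopologicalSpace α] [QuasiSober α]
    [T0Space α] (x : α) :
    (∃ T ∈ irreducibleComponents α, IsGenericPoint x T) ↔ ∀ y : α, y ⤳ x → x ⤳ y := by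
  constructor
  · rintro ⟨T, hT, hx⟩ y hxy
    have h1 : closure {x} ⊆ closure {y} := specializes_iff_closure_subset.1 hxy
    have h2 : closure {y} ⊆ T := by
      have hirr : IsIrreducible (closure {y}) := isIrreducible_singleton.closure
      have := hT.2 hirr (by rw [← hx.def]; exact h1)
      exact this
    rw [← hx.def] at h2
    exact specializes_iff_closure_subset.2 h2
  · intro hmax
    obtain ⟨η, hη⟩ := QuasiSober.sober (isIrreducible_irreducibleComponent (x := x))
      (isClosed_irreducibleComponent (x := x))
    have h1 : η ⤳ x := hη.specializes mem_irreducibleComponent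
    have h2 : x ⤳ η := hmax η h1
    have h3 : η = x := (h1.antisymm h2).eq
    refine ⟨irreducibleComponent x, irreducibleComponent_mem_irreducibleComponents x, ?_⟩
    exact h3 ▸ hη

/-- Maximal points for specialization are the points of coheight zero. -/
theorem coheight_eq_zero_iff {α : Type*} [TopologicalSpace α] (x : α) :
    @Order.coheight α (specializationPreorder α) x = 0 ↔ ∀ y : α, y ⤳ x → x ⤳ y := by
  letI : Preorder α := specializationPreorder α
  rw [Order.coheight_eq_zero]
  exact Iff.rfl

end Groth.Agent.H69.DecentCoheight
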