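import Mathlib
import Groth.Agent.H69.DecentCoheight
import Groth.Agent.H52.DecentCrit
import Groth.Agent.H52.MonoPt
import Groth.Agent.H51.EtaleChart

/-!
# Algebraic spaces étale over a decent space are decent; generic points of components (helper69)
-/

set_option autoImplicit false
set_option linter.style.haveILetI false
universe u
open CategoryTheory AlgebraicGeometry Limits Opposite
open AlgSp

namespace Groth.Agent.H69.DecentEtale

variable {S : Scheme.{u}}

/-- The two projections of a fibre product of charts are jointly monomorphic on schemes. -/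
theorem left_ext_of_isPullback {X : Sp S} {R U V : Over S} (a : (yon S).obj U ⟶ X)
    (b : (yon S).obj V ⟶ X) (s : R ⟶ U) (t : R ⟶ V)
    (sq : IsPullback ((yon S).map s) ((yon S).map t) a b) {T : Scheme.{u}} (f g : T ⟶ R.left)
    (hs : f ≫ s.left = g ≫ s.left) (ht : f ≫ t.left = g ≫ t.left) : f = g := by
  have hR : R.hom = s.left ≫ U.hom := (Over.w s).symm
  let T' : Over S := Over.mk (f ≫ R.hom)
  let f' : T' ⟶ R := Over.homMk f rfl
  let g' : T' ⟶ R := Over.homMk g (by
    change g ≫ R.hom = f ≫ R.hom
    rw [hR, ← Category.assoc, ← hs, Category.assoc])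
  have e1 : f' ≫ s = g' ≫ s := by
    apply Over.OverMorphism.ext; exact hs
  have e2 : f' ≫ t = g' ≫ t := by
    apply Over.OverMorphism.ext; exact ht
  have e3 : (yon S).map f' = (yon S).map g' := by
    apply sq.hom_ext
    · rw [← Functor.map_comp, ← Functor.map_comp, e1]
    · rw [← Functor.map_comp, ← Functor.map_comp, e2]
  have e4 : f' = g' := (yon S).map_injective e3
  exact congrArg (fun h => h.left) e4

/-- An algebraic space étale over a decent algebraic space is decent. -/
theorem isDecent_of_isEtaleMor {X Y : Sp S} (hYa : IsAlgSpace Y) (f : Y ⟶ X)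
    (hf : IsEtaleMor f) (hX : IsDecent X) : IsDecent Y := by
  refine H52.isDecent_of_finite_fibreProducts hYa ?_
  intro V b hV hb q W wU wZ sqW
  haveI : IsAffine V.left := hV
  haveI : CompactSpace ↥V.left := inferInstance
  have ha : RepWith @Etale (b ≫ f) := hf b hb
  obtain ⟨p, hp, hm, hqc⟩ := hX (Points.mk (q.map f))
  obtain ⟨c, hc⟩ := H52.exists_factor_of_mk_eq p (q.map f) hm hqc hp.symm
  change q.pt ⟶ p.pt at c
  have hc' : (yon S).map c ≫ p.toHom = q.toHom ≫ f := by
    rw [← FieldPt.toHom_map]; exact hc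
  obtain ⟨F, ψ, fst, sqF⟩ := hqc.1 (b ≫ f)
  have hψ : QuasiCompact ψ.left := hqc.2 _ _ _ sqF
  obtain ⟨φ, rfl⟩ := (yon S).map_surjective fst
  have hφ : Etale φ.left := ha.2 _ _ _ sqF.flip
  haveI : CompactSpace ↥F.left := QuasiCompact.compactSpace_of_compactSpace ψ.left
  let φl : F.left ⟶ Spec (CommRingCat.of p.K) := φ.left
  haveI : Etale φl := hφ
  haveI : LocallyQuasiFinite φl := H50.locallyQuasiFinite_of_unramified φl
  haveI : QuasiCompact φl := inferInstance
  haveI : IsLocallyArtinian (Spec (CommRingCat.of p.K)) :=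
    Scheme.isLocallyArtinianScheme_Spec.2 inferInstance
  haveI : IsFinite φl := IsFinite.of_locallyQuasiFinite φl
  -- the map `W ⟶ F`
  have hcomm : (yon S).map (wZ ≫ c) ≫ p.toHom = (yon S).map wU ≫ (b ≫ f) := by
    rw [Functor.map_comp, Category.assoc, hc', ← Category.assoc, ← sqW.w, Category.assoc]
  obtain ⟨ℓ, hℓ⟩ := (yon S).map_surjective (sqF.lift _ _ hcomm)
  have hℓ1 : ℓ ≫ φ = wZ ≫ c := by
    apply (yon S).map_injective
    rw [Functor.map_comp, hℓ, sqF.lift_fst]
  have hℓ2 : ℓ ≫ ψ = wU := by
    apply (yon S).map_injective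
    rw [Functor.map_comp, hℓ, sqF.lift_snd]
  let cl : Spec (CommRingCat.of q.K) ⟶ Spec (CommRingCat.of p.K) := c.left
  have hw : ℓ.left ≫ φl = wZ.left ≫ cl := by
    change ℓ.left ≫ φ.left = wZ.left ≫ c.left
    rw [← Over.comp_left, ← Over.comp_left, hℓ1]
  let m : W.left ⟶ pullback φl cl := pullback.lift ℓ.left wZ.left hw
  haveI : Mono m := by
    refine ⟨fun g₁ g₂ h => ?_⟩
    have h1 : g₁ ≫ ℓ.left = g₂ ≫ ℓ.left := by
      have := congrArg (fun k => k ≫ pullback.fst φl cl) h
      simp only [Category.assoc] at this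
      rwa [pullback.lift_fst] at this
    have h2 : g₁ ≫ wZ.left = g₂ ≫ wZ.left := by
      have := congrArg (fun k => k ≫ pullback.snd φl cl) h
      simp only [Category.assoc] at this
      rwa [pullback.lift_snd] at this
    apply left_ext_of_isPullback b q.toHom wU wZ sqW
    · rw [← hℓ2, Over.comp_left, ← Category.assoc, h1, Category.assoc]
    · exact h2
  haveI : IsFinite (pullback.snd φl cl) := inferInstance
  haveI : Finite ↥(pullback φl cl) := H52.finite_of_isFinite_field (K := q.K) (pullback.snd φl cl)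
  exact Finite.of_injective _ m.injective

end Groth.Agent.H69.DecentEtale
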