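import Mathlib
import Groth.Agent.S4366

/-!
# Isomorphisms of local rings are stable under base change

* `isIso_stalkMap_of_flat_of_isPreimmersion`: a flat preimmersion induces isomorphisms on all local rings.
* `stalkIso_baseChange`: in a pullback square of schemes `W = U ×_{V₁} V₁'`, if `g : U ⟶ V₁` induces an
  isomorphism of local rings at `u`, then `W ⟶ V₁'` induces an isomorphism of local rings at every point over `u`,
  and a point of `W` over `u` is determined by its image in `V₁'`.
-/

set_option autoImplicit false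
set_option linter.style.haveILetI false
universe u
open CategoryTheory CategoryTheory.Limits AlgebraicGeometry

namespace Groth.Agent.H69.StalkIsoBC

/-- A flat preimmersion induces isomorphisms on all local rings. -/
theorem isIso_stalkMap_of_flat_of_isPreimmersion {P X : Scheme.{u}} (p : P ⟶ X) [Flat p]
    [IsPreimmersion p] (t : P) : IsIso (p.stalkMap t) := by
  have hflat : (p.stalkMap t).hom.Flat := Flat.stalkMap p t
  have hsurj : Function.Surjective (p.stalkMap t) := p.stalkMap_surjective t
  have hinj : Function.Injective (p.stalkMap t) := by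
    algebraize [(p.stalkMap t).hom]
    have : Module.FaithfullyFlat (X.presheaf.stalk (p t)) (P.presheaf.stalk t) :=
      @Module.FaithfullyFlat.of_flat_of_isLocalHom _ _ _ _ _ _ _ hflat (p.toLRSHom.prop t)
    exact ‹RingHom.FaithfullyFlat _›.injective
  exact (ConcreteCategory.isIso_iff_bijective _).mpr ⟨hinj, hsurj⟩

theorem stalkIso_baseChange {W U V₁ V₁' : Scheme.{u}} {fstW : W ⟶ U} {sndW : W ⟶ V₁'}
    {g : U ⟶ V₁} {e : V₁' ⟶ V₁} (hW : IsPullback fstW sndW g e) (u : U)
    [IsIso (g.stalkMap u)] :
    (∀ w : W, fstW w = u → IsIso (sndW.stalkMap w)) ∧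
      (∀ w w' : W, fstW w = u → fstW w' = u → sndW w = sndW w' → w = w') := by
  obtain ⟨ρ, hρdef⟩ : ∃ ρ : Spec (U.presheaf.stalk u) ⟶ V₁, ρ = U.fromSpecStalk u ≫ g := ⟨_, rfl⟩
  have hρ : ρ = Spec.map (g.stalkMap u) ≫ V₁.fromSpecStalk (g u) := by
    rw [hρdef]
    exact (Scheme.SpecMap_stalkMap_fromSpecStalk (f := g) (x := u)).symm
  haveI : Flat (V₁.fromSpecStalk (g u)) := Groth.Agent.S4366.flat_fromSpecStalk V₁ (g u)
  haveI : Flat (U.fromSpecStalk u) := Groth.Agent.S4366.flat_fromSpecStalk U u
  haveI hρflat : Flat ρ := by rw [hρ]; infer_instance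
  haveI hρpre : IsPreimmersion ρ := by rw [hρ]; infer_instance
  let b : pullback ρ e ⟶ W := hW.lift (pullback.fst ρ e ≫ U.fromSpecStalk u) (pullback.snd ρ e)
    (by rw [Category.assoc, ← hρdef]; exact pullback.condition)
  have hb1 : b ≫ fstW = pullback.fst ρ e ≫ U.fromSpecStalk u := hW.lift_fst _ _ _
  have hb2 : b ≫ sndW = pullback.snd ρ e := hW.lift_snd _ _ _
  have hsq : IsPullback b (pullback.fst ρ e) fstW (U.fromSpecStalk u) := by
    refine IsPullback.of_right ?_ hb1 hW.flip
    rw [hb2, ← hρdef]
    exact (IsPullback.of_hasPullback ρ e).flip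
  haveI hbflat : Flat b := MorphismProperty.of_isPullback (P := @Flat) hsq.flip inferInstance
  haveI hbpre : IsPreimmersion b :=
    MorphismProperty.of_isPullback (P := @IsPreimmersion) hsq.flip inferInstance
  haveI haflat : Flat (b ≫ sndW) := by
    rw [hb2]; exact MorphismProperty.pullback_snd (P := @Flat) _ _ inferInstance
  haveI hapre : IsPreimmersion (b ≫ sndW) := by
    rw [hb2]; exact MorphismProperty.pullback_snd (P := @IsPreimmersion) _ _ inferInstance
  have hlift : ∀ w : W, fstW w = u → ∃ t : ↥(pullback ρ e), b t = w := by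
    intro w hw
    have h1 : fstW w = U.fromSpecStalk u (IsLocalRing.closedPoint (U.presheaf.stalk u)) := by
      rw [Scheme.fromSpecStalk_closedPoint]; exact hw
    obtain ⟨z, hz1, -⟩ := Scheme.Pullback.exists_preimage_pullback w _ h1
    refine ⟨hsq.isoPullback.inv z, ?_⟩
    rw [← Scheme.Hom.comp_apply, IsPullback.isoPullback_inv_fst]
    exact hz1
  constructor
  · intro w hw
    obtain ⟨t, rfl⟩ := hlift w hw
    haveI h1 : IsIso ((b ≫ sndW).stalkMap t) := isIso_stalkMap_of_flat_of_isPreimmersion _ t
    haveI h2 : IsIso (b.stalkMap t) := isIso_stalkMap_of_flat_of_isPreimmersion _ t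
    have h3 := Scheme.Hom.stalkMap_comp b sndW t
    haveI : IsIso (sndW.stalkMap (b t) ≫ b.stalkMap t) := by rw [← h3]; exact h1
    exact IsIso.of_isIso_comp_right (sndW.stalkMap (b t)) (b.stalkMap t)
  · intro w w' hw hw' hww'
    obtain ⟨t, rfl⟩ := hlift w hw
    obtain ⟨t', rfl⟩ := hlift w' hw'
    have : t = t' := by
      apply (b ≫ sndW).isEmbedding.injective
      rw [Scheme.Hom.comp_apply, Scheme.Hom.comp_apply]
      exact hww'
    rw [this]

end Groth.Agent.H69.StalkIsoBC
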