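import Mathlib
import Groth.Agent.H69.DecentCoheight
import Groth.Agent.H69.DecentEtale
import Groth.Agent.H69.StalkIsoBC
import Groth.Agent.H52.FQDecent
import Groth.Agent.H52.FQMor
import Groth.Agent.H52.FibProd
import Groth.Agent.H52.Points
import Groth.Prelude.Def_W4stk3decentspacesp2Birat

/-!
# Generic points of decent algebraic spaces via étale charts; base change of birational morphisms (helper69)

* `mem_genericPoints_iff`: in a quasi-sober T0 space the generic points of irreducible components are the points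
  without proper generizations.
* `gen_iff`: a point of a decent algebraic space is a generic point of an irreducible component iff a (any) lift of it to
  an étale chart has no proper generization.
* `mem_genericPoints_map_iff_of_repWith_etale`: for a representable étale morphism of decent algebraic spaces `h : P ⟶ X`,
  `p` is a generic point iff `h p` is.
* `finite_irreducibleComponents_iff`: finiteness of the set of irreducible components vs. of the set of generic points.
-/

set_option autoImplicit false
set_option linter.style.haveILetI false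
universe u
open CategoryTheory CategoryTheory.Limits AlgebraicGeometry
open AlgSp

namespace Groth.Agent.H69.BiratBC

open Groth.Agent.H52

variable {S : Scheme.{u}}

theorem mem_genericPoints_iff {α : Type*} [TopologicalSpace α] [QuasiSober α] [T0Space α] (x : α) :
    x ∈ genericPoints α ↔ ∀ y : α, y ⤳ x → x ⤳ y := by
  rw [← DecentCoheight.exists_component_isGenericPoint_iff]
  constructor
  · intro h
    exact ⟨closure {x}, h, rfl⟩
  · rintro ⟨T, hT, hx⟩
    change closure {x} ∈ irreducibleComponents α
    rw [hx.def]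
    exact hT

theorem gen_iff {Z : Sp S} (hZa : IsAlgSpace Z) (hZ : IsDecent Z) {T : Over S}
    (c : (yon S).obj T ⟶ Z) (hc : RepWith @Etale c) (t : ↥T.left) :
    Points.ofPt c t ∈ genericPoints (Points Z) ↔ ∀ t' : ↥T.left, t' ⤳ t → t' = t := by
  haveI : T0Space (Points Z) := t0Space_of_isDecent hZa hZ
  haveI : QuasiSober (Points Z) := DecentSober.quasiSober_of_isDecent hZa hZ
  rw [mem_genericPoints_iff, ← DecentCoheight.coheight_eq_zero_iff,
    ← DecentCoheight.coheight_ofPt_eq hZa hZ c hc t, DecentCoheight.coheight_eq_zero_iff]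
  constructor
  · intro h t' ht'
    exact ((h t' ht').antisymm ht').eq.symm
  · intro h t' ht'
    rw [h t' ht']

theorem isEtaleMor_of_repWith {F G : Sp S} (f : F ⟶ G) (hf : RepWith @Etale f) : IsEtaleMor f := by
  intro U a ha
  exact (RepWith (S := S) @Etale).comp_mem _ _ ha hf

/-- Generic points are detected after a representable étale morphism. -/
theorem mem_genericPoints_map_iff_of_repWith_etale {P X : Sp S} (hPa : IsAlgSpace P) (hP : IsDecent P)
    (hXa : IsAlgSpace X) (hX : IsDecent X) (h : P ⟶ X) (hh : RepWith @Etale h) (p : Points P) :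
    Points.map h p ∈ genericPoints (Points X) ↔ p ∈ genericPoints (Points P) := by
  obtain ⟨T, c, t, -, hc, rfl⟩ := exists_affine_chart_at hPa p
  rw [Points.map_ofPt, gen_iff hXa hX (c ≫ h) ((RepWith (S := S) @Etale).comp_mem _ _ hc hh) t,
    gen_iff hPa hP c hc t]

theorem finite_irreducibleComponents_iff {α : Type*} [TopologicalSpace α] [QuasiSober α] [T0Space α] :
    (irreducibleComponents α).Finite ↔ (genericPoints α).Finite := by
  rw [← Set.finite_coe_iff, ← Set.finite_coe_iff]
  exact (Equiv.finite_iff (genericPoints.equiv (α := α))).symm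

theorem finite_irreducibleComponents_iff_of_isDecent {Z : Sp S} (hZa : IsAlgSpace Z) (hZ : IsDecent Z) :
    (irreducibleComponents (Points Z)).Finite ↔ (genericPoints (Points Z)).Finite := by
  haveI : T0Space (Points Z) := t0Space_of_isDecent hZa hZ
  haveI : QuasiSober (Points Z) := DecentSober.quasiSober_of_isDecent hZa hZ
  exact finite_irreducibleComponents_iff

/-- Finiteness of generic points passes to an affine étale chart of a decent space. -/
theorem finite_genericPoints_of_chart {P X : Sp S} (hPa : IsAlgSpace P) (hP : IsDecent P)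
    (hXa : IsAlgSpace X) (hX : IsDecent X) (h : P ⟶ X) (hh : RepWith @Etale h)
    (hfib : ∀ x : Points X, (Points.map h ⁻¹' {x}).Finite)
    (hfin : (genericPoints (Points X)).Finite) : (genericPoints (Points P)).Finite := by
  have hsub : genericPoints (Points P) ⊆ ⋃ x ∈ genericPoints (Points X), Points.map h ⁻¹' {x} := by
    intro p hp
    have := (mem_genericPoints_map_iff_of_repWith_etale hPa hP hXa hX h hh p).2 hp
    simp only [Set.mem_iUnion]
    exact ⟨_, this, rfl⟩
  exact (hfin.biUnion fun x _ => hfib x).subset hsub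

theorem isPullback_left_of_yon {A B C D : Over S} {p : A ⟶ B} {q : A ⟶ C} {r : B ⟶ D} {s : C ⟶ D}
    (h : IsPullback ((yon S).map p) ((yon S).map q) ((yon S).map r) ((yon S).map s)) :
    IsPullback p.left q.left r.left s.left := by
  have e : p ≫ r = q ≫ s := (yon S).map_injective (by
    rw [Functor.map_comp, Functor.map_comp]; exact h.w)
  exact (IsPullback.of_map (yon S) e h).map (Over.forget S)

/-- The core of the base change of a birational morphism: base change of the "isomorphism of local rings on open
subschemes" datum along an étale chart `b`. -/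
theorem core {X Y P : Sp S} (f : X ⟶ Y) {V : Over S} (b : (yon S).obj V ⟶ Y) (hb : RepWith @Etale b)
    (fst : P ⟶ X) (snd : P ⟶ (yon S).obj V) (hP : IsPullback fst snd f b)
    {U V₁ : Over S} (a : (yon S).obj U ⟶ X) (b₁ : (yon S).obj V₁ ⟶ Y) (g : U ⟶ V₁) (u : ↥U.left)
    (ha : RepWith @IsOpenImmersion a) (hb₁ : RepWith @IsOpenImmersion b₁)
    (hab : a ≫ f = (yon S).map g ≫ b₁) (hiso : IsIso (g.left.stalkMap u)) :
    (∀ p : Points P, Points.map fst p = Points.ofPt a u →
      ∃ (W V₁' : Over S) (κ : (yon S).obj W ⟶ P) (ι : (yon S).obj V₁' ⟶ (yon S).obj V) (θ : W ⟶ V₁')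
        (w : ↥W.left),
        RepWith @IsOpenImmersion κ ∧ RepWith @IsOpenImmersion ι ∧
        κ ≫ snd = (yon S).map θ ≫ ι ∧ Points.ofPt κ w = p ∧ IsIso (θ.left.stalkMap w)) ∧
    (∀ p p' : Points P, Points.map fst p = Points.ofPt a u → Points.map fst p' = Points.ofPt a u →
      Points.map snd p = Points.map snd p' → p = p') := by
  obtain ⟨W, ψ, φ', sq1⟩ := hb.1 (a ≫ f)
  obtain ⟨φ, rfl⟩ := (yon S).map_surjective φ'
  have hw1 : ((yon S).map ψ ≫ a) ≫ f = (yon S).map φ ≫ b := by
    rw [Category.assoc]; exact sq1.w.symm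
  obtain ⟨κ, hκ⟩ : ∃ κ, κ = hP.lift ((yon S).map ψ ≫ a) ((yon S).map φ) hw1 := ⟨_, rfl⟩
  have hκ1 : κ ≫ fst = (yon S).map ψ ≫ a := by rw [hκ]; exact hP.lift_fst _ _ _
  have hκ2 : κ ≫ snd = (yon S).map φ := by rw [hκ]; exact hP.lift_snd _ _ _
  have sqκ : IsPullback κ ((yon S).map ψ) fst a := by
    refine IsPullback.of_right ?_ hκ1 hP.flip
    rw [hκ2]; exact sq1
  have hκo : RepWith @IsOpenImmersion κ :=
    (RepWith (S := S) @IsOpenImmersion).of_isPullback sqκ.flip ha
  obtain ⟨V₁', ι, e', sq2⟩ := hb₁.1 b
  obtain ⟨e, rfl⟩ := (yon S).map_surjective e'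
  have hι : IsOpenImmersion ι.left := hb₁.2 _ _ _ sq2
  have hw2 : ((yon S).map ψ ≫ (yon S).map g) ≫ b₁ = (yon S).map φ ≫ b := by
    rw [Category.assoc, ← hab, ← Category.assoc]; exact hw1
  obtain ⟨θ, hθ⟩ := (yon S).map_surjective
    (sq2.lift ((yon S).map ψ ≫ (yon S).map g) ((yon S).map φ) hw2)
  have hθ1 : (yon S).map θ ≫ (yon S).map e = (yon S).map ψ ≫ (yon S).map g := by
    rw [hθ]; exact sq2.lift_fst _ _ _
  have hθ2 : (yon S).map θ ≫ (yon S).map ι = (yon S).map φ := by
    rw [hθ]; exact sq2.lift_snd _ _ _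
  have sqθ : IsPullback ((yon S).map θ) ((yon S).map ψ) ((yon S).map e) ((yon S).map g) := by
    refine IsPullback.of_right ?_ hθ1 sq2.flip
    rw [hθ2, ← hab]; exact sq1
  have sqS : IsPullback ψ.left θ.left g.left e.left := (isPullback_left_of_yon sqθ).flip
  haveI := hiso
  obtain ⟨hI, hJ⟩ := StalkIsoBC.stalkIso_baseChange sqS u
  have hφθ : θ ≫ ι = φ := (yon S).map_injective (by rw [Functor.map_comp]; exact hθ2)
  have hlift : ∀ p : Points P, Points.map fst p = Points.ofPt a u →
      ∃ w : ↥W.left, ψ.left w = u ∧ Points.ofPt κ w = p := by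
    intro p hp
    rw [Points.ofPt_eq_map_ofScheme] at hp
    obtain ⟨z, hz1, hz2⟩ := Groth.Agent.H52.exists_point_of_isPullback sqκ p (Points.ofScheme U u) hp
    refine ⟨Points.toScheme W z, ?_, ?_⟩
    · apply ofScheme_injective U
      rw [← hz2, ← map_yon_map_ofScheme, Points.ofScheme_toScheme]
    · rw [Points.ofPt_eq_map_ofScheme, Points.ofScheme_toScheme]; exact hz1
  have hsnd : ∀ w : ↥W.left, Points.map snd (Points.ofPt κ w) = Points.ofScheme V (φ.left w) := by
    intro w
    rw [Points.map_ofPt, hκ2, Points.ofPt_eq_map_ofScheme, map_yon_map_ofScheme]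
  constructor
  · intro p hp
    obtain ⟨w, hw, hwp⟩ := hlift p hp
    exact ⟨W, V₁', κ, (yon S).map ι, θ, w, hκo, (repWith_yon_map_iff _ _).2 hι, by rw [hκ2, hθ2], hwp,
      hI w hw⟩
  · intro p p' hp hp' hpp'
    obtain ⟨w, hw, rfl⟩ := hlift p hp
    obtain ⟨w', hw', rfl⟩ := hlift p' hp'
    rw [hsnd, hsnd] at hpp'
    have h1 : φ.left w = φ.left w' := ofScheme_injective V hpp'
    rw [← hφθ] at h1
    have h2 : θ.left w = θ.left w' := by
      apply ι.left.isOpenEmbedding.injective
      simpa using h1
    rw [hJ w w' hw hw' h2]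

/-- Base change of a birational morphism of decent algebraic spaces along an étale morphism from an affine
scheme. -/
theorem isBirational_baseChange {X Y P : Sp S} (hXa : IsAlgSpace X) (hYa : IsAlgSpace Y) (f : X ⟶ Y)
    (hX : IsDecent X) (hY : IsDecent Y)
    (hYf : (irreducibleComponents (Points Y)).Finite)
    (hf : W4stk3decentspacesp2.IsBirational f) {V : Over S} [IsAffine V.left]
    (b : (yon S).obj V ⟶ Y) (hb : RepWith @Etale b) (fst : P ⟶ X) (snd : P ⟶ (yon S).obj V)
    (hP : IsPullback fst snd f b) :
    IsDecent P ∧ (irreducibleComponents (Points P)).Finite ∧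
      (irreducibleComponents (Points ((yon S).obj V))).Finite ∧
        W4stk3decentspacesp2.IsBirational snd := by
  have hVa : IsAlgSpace ((yon S).obj V) := IsAlgSpace.yon_obj V
  have hVd : IsDecent ((yon S).obj V) := isDecent_yon V
  have hPa : IsAlgSpace P := isAlgSpace_of_isPullback hP hYa.diag hXa hVa
  have hfst : RepWith @Etale fst := (RepWith (S := S) @Etale).of_isPullback hP.flip hb
  have hPd : IsDecent P :=
    DecentEtale.isDecent_of_isEtaleMor hPa fst (isEtaleMor_of_repWith fst hfst) hX
  have genP : ∀ p : Points P,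
      Points.map fst p ∈ genericPoints (Points X) ↔ p ∈ genericPoints (Points P) :=
    mem_genericPoints_map_iff_of_repWith_etale hPa hPd hXa hX fst hfst
  have genV : ∀ v : Points ((yon S).obj V),
      Points.map b v ∈ genericPoints (Points Y) ↔ v ∈ genericPoints (Points ((yon S).obj V)) :=
    mem_genericPoints_map_iff_of_repWith_etale hVa hVd hYa hY b hb
  have hYg : (genericPoints (Points Y)).Finite :=
    (finite_irreducibleComponents_iff_of_isDecent hYa hY).1 hYf
  have hVg : (genericPoints (Points ((yon S).obj V))).Finite := by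
    refine finite_genericPoints_of_chart hVa hVd hYa hY b hb ?_ hYg
    intro y
    have hfin := finite_fibre_of_isDecent hY y V b inferInstance hb
    refine (hfin.image (Points.ofScheme V)).subset ?_
    intro v hv
    refine ⟨Points.toScheme V v, ?_, Points.ofScheme_toScheme V v⟩
    change Points.ofPt b (Points.toScheme V v) = y
    rw [Points.ofPt_eq_map_ofScheme, Points.ofScheme_toScheme]
    exact hv
  have hcomm : ∀ p, Points.map b (Points.map snd p) = Points.map f (Points.map fst p) := by
    intro p
    rw [← Points.map_comp, ← Points.map_comp, hP.w]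
  have hbij : Set.BijOn (Points.map snd) (genericPoints (Points P))
      (genericPoints (Points ((yon S).obj V))) := by
    refine ⟨?_, ?_, ?_⟩
    · intro p hp
      rw [← genV, hcomm]
      exact hf.bijOn.mapsTo ((genP p).2 hp)
    · intro p hp p' hp' hpp'
      have hx : Points.map fst p ∈ genericPoints (Points X) := (genP p).2 hp
      have hx' : Points.map fst p' ∈ genericPoints (Points X) := (genP p').2 hp'
      have hxx' : Points.map fst p = Points.map fst p' := by
        apply hf.bijOn.injOn hx hx'
        rw [← hcomm, ← hcomm, hpp']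
      obtain ⟨U, V₁, a, b₁, g, u, ha, hb₁, hab, hu, hiso⟩ := hf.stalkIso _ hx
      exact (core f b hb fst snd hP a b₁ g u ha hb₁ hab hiso).2 p p' hu.symm (hxx'.symm.trans hu.symm)
        hpp'
    · intro v hv
      have hy : Points.map b v ∈ genericPoints (Points Y) := (genV v).2 hv
      obtain ⟨x, hx, hxy⟩ := hf.bijOn.surjOn hy
      obtain ⟨p, hp1, hp2⟩ := Groth.Agent.H52.exists_point_of_isPullback hP x v hxy
      exact ⟨p, (genP p).1 (hp1 ▸ hx), hp2⟩
  refine ⟨hPd, ?_, (finite_irreducibleComponents_iff_of_isDecent hVa hVd).2 hVg, hbij, ?_⟩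
  · rw [finite_irreducibleComponents_iff_of_isDecent hPa hPd]
    exact (Set.BijOn.finite_iff_finite hbij).2 hVg
  · intro p hp
    have hx : Points.map fst p ∈ genericPoints (Points X) := (genP p).2 hp
    obtain ⟨U, V₁, a, b₁, g, u, ha, hb₁, hab, hu, hiso⟩ := hf.stalkIso _ hx
    obtain ⟨W, V₁', κ, ι, θ, w, h1, h2, h3, h4, h5⟩ :=
      (core f b hb fst snd hP a b₁ g u ha hb₁ hab hiso).1 p hu.symm
    exact ⟨W, V₁', κ, ι, θ, w, h1, h2, h3, h4, h5⟩

end Groth.Agent.H69.BiratBC
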