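import Mathlib
import Groth.Agent.H51.ZarGlue
import Groth.Agent.H50.OpenSub
import Groth.Agent.H50.OpenSubChart
import Groth.Agent.H52.Topology

/-!
# The union of a family of open subschemes of a sheaf is an open subscheme (helper69)

`exists_glued_open`: given open-immersion charts `a i : h_{T i} ⟶ Z` there is a scheme `G` over `S` with an open
immersion `α : h_G ⟶ Z` whose image is the union of the images of the `a i`, through which the `a i` factor by open
immersions `c i : T i ⟶ G` covering `G`; any `m : h_T ⟶ Z` with points in the union factors through `α`.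
-/

set_option autoImplicit false
set_option linter.style.haveILetI false
universe u
open CategoryTheory CategoryTheory.Limits AlgebraicGeometry
open AlgSp

namespace Groth.Agent.H69.GlueOpen

open Groth.Agent.H52 Groth.Agent.H50

variable {S : Scheme.{u}}

theorem exists_glued_open {Z : Sp S} {ι : Type u} (T : ι → Over S) (a : ∀ i, (yon S).obj (T i) ⟶ Z)
    (ha : ∀ i, RepWith @IsOpenImmersion (a i)) :
    ∃ (G : Over S) (α : (yon S).obj G ⟶ Z) (c : ∀ i, T i ⟶ G), RepWith @IsOpenImmersion α ∧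
      (∀ i, (yon S).map (c i) ≫ α = a i) ∧ (∀ i, IsOpenImmersion (c i).left) ∧
      (∀ g : ↥G.left, ∃ i, g ∈ Set.range (c i).left) ∧
      (∀ {T' : Over S} (m : (yon S).obj T' ⟶ Z),
        (∀ t : ↥T'.left, ∃ i, Points.ofPt m t ∈ Set.range (Points.ofPt (a i))) →
          ∃ m' : (yon S).obj T' ⟶ (yon S).obj G, m' ≫ α = m) := by
  have hae : ∀ i, RepWith @Etale (a i) := fun i =>
    repWith_mono (fun _ _ g hg => by have := hg; infer_instance) (ha i)
  obtain ⟨W, hWdef⟩ : ∃ W : Set (Points Z), W = ⋃ i, Set.range (Points.ofPt (a i)) := ⟨_, rfl⟩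
  have hW : IsOpen W := by
    rw [hWdef]
    exact isOpen_iUnion fun i => (isOpenMap_ofPt_of_etale (a i) (hae i)).isOpen_range
  have hjo : RepWith @IsOpenImmersion (openSubι Z W) := repWith_isOpenImmersion_openSubι hW
  have hfac : ∀ i, ∃ f : (yon S).obj (T i) ⟶ openSub Z W, f ≫ openSubι Z W = a i := by
    intro i
    refine (factors_openSubι_iff Z W (a i)).2 fun t => ?_
    rw [hWdef]
    exact Set.mem_iUnion.2 ⟨i, t, rfl⟩
  choose f hf using hfac
  have hfo : ∀ i, RepWith @IsOpenImmersion (f i) := fun i =>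
    repWith_of_comp_mono (f i) (openSubι Z W) (by rw [hf i]; exact ha i)
  have hsurj : ∀ (T' : Over S) (y : (yon S).obj T' ⟶ openSub Z W), ∃ Sg ∈ J S T',
      ∀ ⦃T'' : Over S⦄ (φ : T'' ⟶ T'), Sg φ →
        ∃ (i : ι) (x : (yon S).obj T'' ⟶ (yon S).obj (T i)), x ≫ f i = (yon S).map φ ≫ y := by
    intro T' y
    let Sg : Sieve T' :=
      { arrows := fun T'' φ => ∃ (i : ι) (x : (yon S).obj T'' ⟶ (yon S).obj (T i)),
          x ≫ f i = (yon S).map φ ≫ y
        downward_closed := by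
          rintro Z' Z'' ψ ⟨i, x, hx⟩ ψ'
          exact ⟨i, (yon S).map ψ' ≫ x, by
            rw [Category.assoc, hx, Functor.map_comp, Category.assoc]⟩ }
    refine ⟨Sg, ?_, fun T'' φ hφ => hφ⟩
    have key : ∀ ζ : ↥T'.left, ∃ (N : Over S) (n : N ⟶ T'), IsOpenImmersion n.left ∧
        ζ ∈ Set.range n.left ∧ Sg n := by
      intro ζ
      have hζ : Points.ofPt (y ≫ openSubι Z W) ζ ∈ W := ofPt_comp_openSubι_mem Z W y ζ
      have hζ' : Points.ofPt (y ≫ openSubι Z W) ζ ∈ ⋃ i, Set.range (Points.ofPt (a i)) := by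
        rw [← hWdef]; exact hζ
      obtain ⟨i, u, hu⟩ := Set.mem_iUnion.1 hζ'
      obtain ⟨N, n, x', sq⟩ := (ha i).1 (y ≫ openSubι Z W)
      obtain ⟨x, rfl⟩ := (yon S).map_surjective x'
      have hn : IsOpenImmersion n.left := (ha i).2 _ _ _ sq
      obtain ⟨ν, -, hν⟩ := exists_of_ofPt_eq_ofPt sq u ζ hu
      refine ⟨N, n, hn, ⟨ν, hν⟩, i, (yon S).map x, ?_⟩
      rw [← cancel_mono (openSubι Z W), Category.assoc, Category.assoc, hf i]
      exact sq.w
    choose N n hno hnζ hn using key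
    refine Groth.Agent.H50.mem_J_of_fppf_family N n (fun ζ => ?_) (fun ζ => ?_) (fun ζ => ?_) Sg
      (fun ζ => hn ζ)
    · obtain ⟨q, hq⟩ := hnζ ζ
      exact ⟨ζ, q, hq⟩
    · have := hno ζ
      infer_instance
    · have := hno ζ
      infer_instance
  obtain ⟨G, e, c, hc, hco, hcov⟩ := Groth.Agent.H51.ZarGlue.exists_iso_yon hfo hsurj
  have hα : RepWith @IsOpenImmersion (e.hom ≫ openSubι Z W) :=
    ((RepWith (S := S) @IsOpenImmersion).cancel_left_of_respectsIso e.hom (openSubι Z W)).2 hjo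
  refine ⟨G, e.hom ≫ openSubι Z W, c, hα, fun i => ?_, hco, hcov, ?_⟩
  · rw [← Category.assoc, hc i, hf i]
  · intro T' m hm
    have hm' : ∀ t : ↥T'.left, Points.ofPt m t ∈ W := by
      intro t
      obtain ⟨i, hi⟩ := hm t
      rw [hWdef]
      exact Set.mem_iUnion.2 ⟨i, hi⟩
    obtain ⟨m₁, hm₁⟩ := (factors_openSubι_iff Z W m).2 hm'
    refine ⟨m₁ ≫ e.inv, ?_⟩
    rw [Category.assoc, ← Category.assoc e.inv, e.inv_hom_id, Category.id_comp, hm₁]

end Groth.Agent.H69.GlueOpen
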