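import Mathlib
import Groth.Agent.H69.GlueOpen
import Groth.Agent.H69.BiratBC
import Groth.Agent.H49.BiratGlobal
import Groth.Agent.H25.GeomRedAlgSp2
import Groth.Agent.H50.MonoPts
import Groth.Agent.H52.Charts

/-!
# A birational morphism of decent spaces is an isomorphism over dense open subschemes (helper69)
-/

set_option autoImplicit false
set_option linter.style.haveILetI false
universe u
open CategoryTheory CategoryTheory.Limits AlgebraicGeometry
open AlgSp

namespace Groth.Agent.H69.BiratDense

open Groth.Agent.H52 Groth.Agent.H50 Groth.Agent.H69.BiratBC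

variable {S : Scheme.{u}}

theorem repWith_etale_of_isOpenImmersion {F G : Sp S} {a : F ⟶ G} (ha : RepWith @IsOpenImmersion a) :
    RepWith @Etale a :=
  repWith_mono (fun _ _ g hg => by have := hg; infer_instance) ha

theorem ofPt_injective_of_isOpenImmersion {Z : Sp S} {G : Over S} (α : (yon S).obj G ⟶ Z)
    (hα : RepWith @IsOpenImmersion α) : Function.Injective (Points.ofPt α) := by
  haveI : Mono α := mono_of_repWith (fun _ _ g hg => by have := hg; infer_instance) hα
  intro s t h
  rw [Points.ofPt_eq_map_ofScheme, Points.ofPt_eq_map_ofScheme] at h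
  exact ofScheme_injective G (injective_map_of_mono α h)

/-- Generic points of an étale chart (as a scheme) versus generic points of the space. -/
theorem mem_genericPoints_scheme_iff {Z : Sp S} (hZa : IsAlgSpace Z) (hZ : IsDecent Z) {G : Over S}
    (α : (yon S).obj G ⟶ Z) (hα : RepWith @Etale α) (g : ↥G.left) :
    g ∈ genericPoints ↥G.left ↔ Points.ofPt α g ∈ genericPoints (Points Z) := by
  rw [gen_iff hZa hZ α hα g, mem_genericPoints_iff]
  constructor
  · intro h g' hg'
    exact ((h g' hg').antisymm hg').eq.symm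
  · intro h g' hg'
    rw [h g' hg']

theorem exists_dense_open_iso {X Y : Sp S} (hXa : IsAlgSpace X) (hYa : IsAlgSpace Y) (f : X ⟶ Y)
    (hX : IsDecent X) (hY : IsDecent Y)
    (hXf : (irreducibleComponents (Points X)).Finite)
    (hYf : (irreducibleComponents (Points Y)).Finite)
    (hf : W4stk3decentspacesp2.IsBirational f)
    (h : (LocP @LocallyOfFiniteType f ∧ EtaleLocally (fun T => IsReduced T) Y) ∨
      LocP @LocallyOfFinitePresentation f) :
    ∃ (U V : Over S) (a : (yon S).obj U ⟶ X) (b : (yon S).obj V ⟶ Y) (g : U ⟶ V),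
      RepWith @IsOpenImmersion a ∧ RepWith @IsOpenImmersion b ∧
        Dense (Set.range (Points.ofPt a)) ∧ Dense (Set.range (Points.ofPt b)) ∧
          a ≫ f = (yon S).map g ≫ b ∧ IsIso g.left := by
  haveI : T0Space (Points X) := t0Space_of_isDecent hXa hX
  haveI : QuasiSober (Points X) := DecentSober.quasiSober_of_isDecent hXa hX
  haveI : T0Space (Points Y) := t0Space_of_isDecent hYa hY
  haveI : QuasiSober (Points Y) := DecentSober.quasiSober_of_isDecent hYa hY
  have hXg : (genericPoints (Points X)).Finite :=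
    (finite_irreducibleComponents_iff_of_isDecent hXa hX).1 hXf
  have hYg : (genericPoints (Points Y)).Finite :=
    (finite_irreducibleComponents_iff_of_isDecent hYa hY).1 hYf
  obtain ⟨n, e, he⟩ := hXg.fin_embedding
  have hdata : ∀ i : ULift.{u} (Fin n), ∃ (U V : Over S) (a : (yon S).obj U ⟶ X)
      (b : (yon S).obj V ⟶ Y) (g : U ⟶ V) (u : ↥U.left),
      RepWith @IsOpenImmersion a ∧ RepWith @IsOpenImmersion b ∧ a ≫ f = (yon S).map g ≫ b ∧
        Points.ofPt a u = e i.down ∧ IsIso (g.left.stalkMap u) := by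
    intro i
    exact hf.stalkIso (e i.down) (he ▸ Set.mem_range_self i.down)
  choose U₁ V₁ a₁ b₁ g₁ u₁ ha₁ hb₁ hab₁ hu₁ hiso₁ using hdata
  obtain ⟨GU, α, c, hα, hcα, hco, hccov, -⟩ := GlueOpen.exists_glued_open U₁ a₁ ha₁
  obtain ⟨GV, β, d, hβ, hdβ, hdo, hdcov, hβfac⟩ := GlueOpen.exists_glued_open V₁ b₁ hb₁
  have hαe : RepWith @Etale α := repWith_etale_of_isOpenImmersion hα
  have hβe : RepWith @Etale β := repWith_etale_of_isOpenImmersion hβ
  have hαinj := ofPt_injective_of_isOpenImmersion α hα
  have hβinj := ofPt_injective_of_isOpenImmersion β hβ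
  haveI hβmono : Mono β := mono_of_repWith (fun _ _ g hg => by have := hg; infer_instance) hβ
  -- the morphism `g : GU ⟶ GV`
  have hm : ∀ t : ↥GU.left, ∃ i, Points.ofPt (α ≫ f) t ∈ Set.range (Points.ofPt (b₁ i)) := by
    intro t
    obtain ⟨i, u, rfl⟩ := hccov t
    refine ⟨i, (g₁ i).left u, ?_⟩
    rw [← ofPt_yon_map_comp (c i) (α ≫ f) u, ← Category.assoc, hcα i, hab₁ i, ofPt_yon_map_comp]
  obtain ⟨γ, hγ⟩ := hβfac (α ≫ f) hm
  obtain ⟨g, rfl⟩ := (yon S).map_surjective γ
  have hfg : ∀ s : ↥GU.left, Points.ofPt β (g.left s) = Points.map f (Points.ofPt α s) := by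
    intro s
    rw [← ofPt_yon_map_comp, hγ, Points.map_ofPt]
  have genU : ∀ s : ↥GU.left, s ∈ genericPoints ↥GU.left ↔ Points.ofPt α s ∈ genericPoints (Points X) :=
    mem_genericPoints_scheme_iff hXa hX α hαe
  have genV : ∀ s : ↥GV.left, s ∈ genericPoints ↥GV.left ↔ Points.ofPt β s ∈ genericPoints (Points Y) :=
    mem_genericPoints_scheme_iff hYa hY β hβe
  have hgenX : ∀ x ∈ genericPoints (Points X),
      ∃ i : ULift.{u} (Fin n), x = Points.ofPt α ((c i).left (u₁ i)) := by
    intro x hx
    rw [← he] at hx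
    obtain ⟨j, rfl⟩ := hx
    refine ⟨ULift.up j, ?_⟩
    rw [← ofPt_yon_map_comp, hcα, hu₁]
  have hcomm : ∀ i, c i ≫ g = g₁ i ≫ d i := by
    intro i
    apply (yon S).map_injective
    rw [← cancel_mono β, Functor.map_comp, Functor.map_comp, Category.assoc, Category.assoc, hγ,
      hdβ i, ← Category.assoc, hcα i, hab₁ i]
  -- hypotheses of the scheme-theoretic statement
  have hbij : Set.BijOn (fun x : GU.left => g.left.base x)
      {x : GU.left | closure {x} ∈ irreducibleComponents ↥GU.left}
      {y : GV.left | closure {y} ∈ irreducibleComponents ↥GV.left} := by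
    refine ⟨?_, ?_, ?_⟩
    · intro s hs
      have hs' : s ∈ genericPoints ↥GU.left := hs
      change g.left s ∈ genericPoints ↥GV.left
      rw [genV, hfg]
      exact hf.bijOn.mapsTo ((genU s).1 hs')
    · intro s hs s' hs' hss'
      have h1 : s ∈ genericPoints ↥GU.left := hs
      have h2 : s' ∈ genericPoints ↥GU.left := hs'
      have h3 : g.left s = g.left s' := hss'
      apply hαinj
      apply hf.bijOn.injOn ((genU s).1 h1) ((genU s').1 h2)
      rw [← hfg, ← hfg, h3]
    · intro r hr
      have hr' : r ∈ genericPoints ↥GV.left := hr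
      obtain ⟨x, hx, hxr⟩ := hf.bijOn.surjOn ((genV r).1 hr')
      obtain ⟨i, rfl⟩ := hgenX x hx
      refine ⟨(c i).left (u₁ i), (genU _).2 hx, ?_⟩
      apply hβinj
      change Points.ofPt β (g.left ((c i).left (u₁ i))) = Points.ofPt β r
      rw [hfg, hxr]
  have hiso : ∀ s : GU.left, closure {s} ∈ irreducibleComponents ↥GU.left →
      IsIso (g.left.stalkMap s) := by
    intro s hs
    have hs' : s ∈ genericPoints ↥GU.left := hs
    obtain ⟨i, hi⟩ := hgenX _ ((genU s).1 hs')
    obtain rfl : s = (c i).left (u₁ i) := hαinj hi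
    have e1 : (c i).left ≫ g.left = (g₁ i).left ≫ (d i).left := by
      rw [← Over.comp_left, ← Over.comp_left, hcomm i]
    haveI := hdo i
    haveI := hco i
    have e2 : IsIso (((c i).left ≫ g.left).stalkMap (u₁ i)) := by
      rw [e1, Scheme.Hom.stalkMap_comp]
      have h1 : IsIso ((d i).left.stalkMap ((g₁ i).left (u₁ i))) := inferInstance
      exact IsIso.comp_isIso' h1 (hiso₁ i)
    haveI : IsIso (g.left.stalkMap ((c i).left (u₁ i)) ≫ (c i).left.stalkMap (u₁ i)) := by
      rw [← Scheme.Hom.stalkMap_comp]; exact e2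
    haveI : IsIso ((c i).left.stalkMap (u₁ i)) := inferInstance
    exact IsIso.of_isIso_comp_right (g.left.stalkMap ((c i).left (u₁ i))) ((c i).left.stalkMap (u₁ i))
  have hGVfin : (irreducibleComponents ↥GV.left).Finite := by
    rw [finite_irreducibleComponents_iff]
    have hsub : genericPoints ↥GV.left ⊆ Points.ofPt β ⁻¹' genericPoints (Points Y) :=
      fun s hs => (genV s).1 hs
    exact (hYg.preimage hβinj.injOn).subset hsub
  have hf' : (LocallyOfFiniteType g.left ∧ IsReduced GV.left) ∨ LocallyOfFinitePresentation g.left := by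
    rcases h with ⟨h1, h2⟩ | h3
    · left
      refine ⟨h1 α β g hαe hβe hγ.symm, ?_⟩
      obtain ⟨W, p, hpe, hps, hW⟩ := h2
      haveI : IsReduced W.left := hW
      exact Groth.Agent.H25.GeomRedAlgSp2.isReduced_of_chart p hpe hps β hβe
    · right
      exact h3 α β g hαe hβe hγ.symm
  obtain ⟨U', hU'gen, hU'imm⟩ :=
    Groth.Agent.H49.Birational.exists_open_of_birational g.left hGVfin hbij hiso hf'
  -- the final charts
  have hιo : IsOpenImmersion (opensOverι GU U').left := inferInstanceAs (IsOpenImmersion U'.ι)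
  have hιgo : IsOpenImmersion (opensOverι GU U' ≫ g).left := hU'imm
  have ha : RepWith @IsOpenImmersion ((yon S).map (opensOverι GU U') ≫ α) :=
    repWith_yon_map_comp @IsOpenImmersion (opensOverι GU U') hιo α hα
  have hb : RepWith @IsOpenImmersion ((yon S).map (opensOverι GU U' ≫ g) ≫ β) :=
    repWith_yon_map_comp @IsOpenImmersion (opensOverι GU U' ≫ g) hιgo β hβ
  have hab : ((yon S).map (opensOverι GU U') ≫ α) ≫ f =
      (yon S).map (𝟙 (opensOver GU U')) ≫ (yon S).map (opensOverι GU U' ≫ g) ≫ β := by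
    rw [CategoryTheory.Functor.map_id, Category.id_comp, Category.assoc, ← hγ, Functor.map_comp, Category.assoc]
  have hXmem : ∀ x ∈ genericPoints (Points X),
      x ∈ Set.range (Points.ofPt ((yon S).map (opensOverι GU U') ≫ α)) := by
    intro x hx
    obtain ⟨i, rfl⟩ := hgenX x hx
    have hs : (c i).left (u₁ i) ∈ U' := hU'gen _ ((genU _).2 hx)
    refine ⟨(⟨(c i).left (u₁ i), hs⟩ : U'), ?_⟩
    rw [ofPt_yon_map_comp]
    rfl
  refine ⟨opensOver GU U', opensOver GU U', (yon S).map (opensOverι GU U') ≫ α,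
    (yon S).map (opensOverι GU U' ≫ g) ≫ β, 𝟙 _, ha, hb, ?_, ?_, hab, ?_⟩
  · apply Groth.Agent.H49.Birational.dense_of_forall_generic_mem
    intro x hx
    exact hXmem x hx
  · apply Groth.Agent.H49.Birational.dense_of_forall_generic_mem
    intro y hy
    have hy' : y ∈ genericPoints (Points Y) := hy
    obtain ⟨x, hx, rfl⟩ := hf.bijOn.surjOn hy'
    obtain ⟨s, rfl⟩ := hXmem x hx
    refine ⟨s, ?_⟩
    rw [Points.map_ofPt, hab, CategoryTheory.Functor.map_id, Category.id_comp]
  · change IsIso (𝟙 (opensOver GU U').left)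
    infer_instance

end Groth.Agent.H69.BiratDense
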