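import Mathlib

/-!
# No specializations in a fibre out of a point where the morphism is quasi-finite (helper69)

* `isLocalHom_of_quasiFinite_comp`: local rings `A → B' → B` with `A → B` local and quasi-finite: then `B' → B` is local.
* `eq_of_specializes_of_quasiFiniteAt`: `φ : T ⟶ V`, `t ⤳ t'` in `T` with `φ t' = φ t`, `φ` quasi-finite at `t`
  (in the sense of Mathlib's `Scheme.Hom.QuasiFiniteAt`: the map of local rings is quasi-finite; no finite type
  hypothesis): then `t' = t`.
-/

set_option autoImplicit false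
set_option linter.style.haveILetI false
universe u
open CategoryTheory CategoryTheory.Limits AlgebraicGeometry IsLocalRing Polynomial

namespace Groth.Agent.H69.QFSpecialize

theorem isIntegral_residueField_of_quasiFinite {A B : Type u} [CommRing A] [CommRing B]
    [IsLocalRing A] [IsLocalRing B] [Algebra A B] [IsLocalHom (algebraMap A B)]
    [Algebra.QuasiFinite A B] (x : ResidueField B) : IsIntegral A x := by
  haveI : Algebra.QuasiFinite A (ResidueField B) :=
    inferInstanceAs (Algebra.QuasiFinite A (B ⧸ maximalIdeal B))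
  haveI : Algebra.QuasiFinite (ResidueField A) (ResidueField B) :=
    Algebra.QuasiFinite.of_restrictScalars A (ResidueField A) (ResidueField B)
  haveI : Module.Finite (ResidueField A) (ResidueField B) := Module.Finite.of_quasiFinite
  haveI : Algebra.IsIntegral A (ResidueField A) :=
    Algebra.isIntegral_of_surjective (by
      rw [ResidueField.algebraMap_eq]; exact residue_surjective)
  haveI : Algebra.IsIntegral (ResidueField A) (ResidueField B) := inferInstance
  haveI : Algebra.IsIntegral A (ResidueField B) :=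
    Algebra.IsIntegral.trans (R := A) (ResidueField A) (B := ResidueField B)
  exact Algebra.IsIntegral.isIntegral x

theorem isLocalHom_of_quasiFinite_comp {A B' B : Type u} [CommRing A] [CommRing B'] [CommRing B]
    [IsLocalRing A] [IsLocalRing B'] [IsLocalRing B] (α : A →+* B') (sp : B' →+* B)
    (hloc : IsLocalHom (sp.comp α)) (hq : (sp.comp α).QuasiFinite) : IsLocalHom sp := by
  constructor
  intro s hs
  by_contra hns
  have hsm : s ∈ maximalIdeal B' := (mem_maximalIdeal s).2 hns
  letI : Algebra A B := (sp.comp α).toAlgebra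
  haveI : IsLocalHom (algebraMap A B) := hloc
  haveI : Algebra.QuasiFinite A B := hq
  obtain ⟨σ, hσ⟩ : ∃ σ : ResidueField B, σ = residue B (sp s) := ⟨_, rfl⟩
  have hσ0 : σ ≠ 0 := by rw [hσ]; exact (residue_ne_zero_iff_isUnit _).2 hs
  obtain ⟨p, hpm, hp⟩ := isIntegral_residueField_of_quasiFinite (A := A) (B := B) σ⁻¹
  letI : Invertible (σ⁻¹) := invertibleOfNonzero (inv_ne_zero hσ0)
  have hinv : ⅟(σ⁻¹) = σ := by rw [invOf_eq_inv, inv_inv]
  have hq0 : eval₂ (algebraMap A (ResidueField B)) σ p.reverse = 0 := by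
    have := (eval₂_reverse_eq_zero_iff (algebraMap A (ResidueField B)) (σ⁻¹) p).2 hp
    rwa [hinv] at this
  have hc0 : p.reverse.coeff 0 = 1 := by rw [coeff_zero_reverse]; exact hpm.leadingCoeff
  obtain ⟨q, hqdef⟩ : ∃ q : A[X], q = p.reverse := ⟨_, rfl⟩
  rw [← hqdef] at hq0 hc0
  have hβ : eval₂ α s q = eval₂ α s q.divX * s + 1 := by
    conv_lhs => rw [← divX_mul_X_add q]
    rw [eval₂_add, eval₂_mul, eval₂_X, eval₂_C, hc0, map_one]
  have hβu : IsUnit (eval₂ α s q) := by
    by_contra hnu
    have h1 : eval₂ α s q ∈ maximalIdeal B' := (mem_maximalIdeal _).2 hnu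
    have h2 : eval₂ α s q.divX * s ∈ maximalIdeal B' := Ideal.mul_mem_left _ _ hsm
    have h3 : (1 : B') ∈ maximalIdeal B' := by
      have := Ideal.sub_mem _ h1 h2
      rwa [hβ, add_sub_cancel_left] at this
    exact (maximalIdeal.isMaximal B').ne_top ((Ideal.eq_top_iff_one _).2 h3)
  have hspu : IsUnit (sp (eval₂ α s q)) := hβu.map sp
  have hres : residue B (sp (eval₂ α s q)) = 0 := by
    rw [hom_eval₂, hom_eval₂, ← hσ]
    have hmap : (residue B).comp (sp.comp α) = algebraMap A (ResidueField B) := by
      rw [IsScalarTower.algebraMap_eq A B (ResidueField B), ResidueField.algebraMap_eq,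
        RingHom.algebraMap_toAlgebra]
    rw [hmap]
    exact hq0
  exact (residue_ne_zero_iff_isUnit _).2 hspu hres

/-- If `φ` is quasi-finite at `t` (on local rings), then `t` has no proper specialization in its fibre. -/
theorem eq_of_specializes_of_quasiFiniteAt {T V : Scheme.{u}} (φ : T ⟶ V) {t t' : T} (h : t ⤳ t')
    (hφ : φ t' = φ t) (hq : φ.QuasiFiniteAt t) : t' = t := by
  have h'' : φ t' ⤳ φ t := specializes_of_eq hφ
  have e1 := Scheme.Hom.stalkSpecializes_stalkMap φ t t' h
  have hi : IsIso (V.presheaf.stalkSpecializes (φ.base.hom.map_specializes h)) := by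
    refine ⟨V.presheaf.stalkSpecializes h'', ?_, ?_⟩
    · rw [TopCat.Presheaf.stalkSpecializes_comp]
      exact TopCat.Presheaf.stalkSpecializes_refl _ _
    · rw [TopCat.Presheaf.stalkSpecializes_comp]
      exact TopCat.Presheaf.stalkSpecializes_refl _ _
  obtain ⟨sp, hsp⟩ : ∃ sp, sp = T.presheaf.stalkSpecializes h := ⟨_, rfl⟩
  obtain ⟨spV, hspV⟩ : ∃ spV, spV = V.presheaf.stalkSpecializes (φ.base.hom.map_specializes h) :=
    ⟨_, rfl⟩
  rw [← hsp, ← hspV] at e1
  rw [← hspV] at hi
  have hqf : (φ.stalkMap t' ≫ sp).hom.QuasiFinite := by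
    rw [← e1]
    exact (RingHom.QuasiFinite.respectsIso.cancel_left_isIso spV (φ.stalkMap t)).2 hq
  have hlc : IsLocalHom (φ.stalkMap t' ≫ sp).hom := by
    rw [← e1]
    infer_instance
  have hloc : IsLocalHom sp.hom :=
    isLocalHom_of_quasiFinite_comp (φ.stalkMap t').hom sp.hom hlc hqf
  have e2 : Spec.map sp ≫ T.fromSpecStalk t' = T.fromSpecStalk t := by
    rw [hsp]; exact Scheme.SpecMap_stalkSpecializes_fromSpecStalk h
  have e3 : (T.fromSpecStalk t').base ((Spec.map sp).base (closedPoint (T.presheaf.stalk t))) =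
      (T.fromSpecStalk t).base (closedPoint (T.presheaf.stalk t)) := by
    rw [← e2]; rfl
  rw [Spec_closedPoint (f := sp), Scheme.fromSpecStalk_closedPoint,
    Scheme.fromSpecStalk_closedPoint] at e3
  exact e3

end Groth.Agent.H69.QFSpecialize
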