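import Mathlib
import Groth.Agent.H69.BiratBC
import Groth.Agent.H69.QFSpecialize
import Groth.Agent.H49.Birational
import Groth.Agent.H50.MonoPts
import Groth.Agent.H50.Basic
import Groth.Agent.H52.EpiBC
import Groth.Agent.H52.Charts
import Groth.Agent.H51.EtaleChart

/-!
# A birational morphism of decent spaces is an isomorphism over the local ring of a generic point (helper69)

* `isBirational_baseChange'`: base change of a birational morphism along an étale chart (no finiteness, chart not
  necessarily affine).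
* `fibre_eq_of_isBirational_scheme`: for `f : X ⟶ h_V` birational, `X` decent, the fibre over a generic point `v` of `V`
  consists of the generic point of `X` over `v` only.
* `isIso_snd_of_isBirational_scheme`, `isIso_snd_of_isBirational`: the base change of `f` to `Spec 𝒪_{V,v}` is an
  isomorphism.
-/

set_option autoImplicit false
set_option linter.style.haveILetI false
universe u
open CategoryTheory CategoryTheory.Limits AlgebraicGeometry
open AlgSp

namespace Groth.Agent.H69.BiratStalk

open Groth.Agent.H52 Groth.Agent.H69.BiratBC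

variable {S : Scheme.{u}}

/-- Base change of a birational morphism of decent algebraic spaces along an étale morphism from a scheme. -/
theorem isBirational_baseChange' {X Y P : Sp S} (hXa : IsAlgSpace X) (hYa : IsAlgSpace Y) (f : X ⟶ Y)
    (hX : IsDecent X) (hY : IsDecent Y)
    (hf : W4stk3decentspacesp2.IsBirational f) {V : Over S}
    (b : (yon S).obj V ⟶ Y) (hb : RepWith @Etale b) (fst : P ⟶ X) (snd : P ⟶ (yon S).obj V)
    (hP : IsPullback fst snd f b) :
    IsAlgSpace P ∧ IsDecent P ∧ W4stk3decentspacesp2.IsBirational snd := by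
  have hVa : IsAlgSpace ((yon S).obj V) := IsAlgSpace.yon_obj V
  have hVd : IsDecent ((yon S).obj V) := isDecent_yon V
  have hPa : IsAlgSpace P := isAlgSpace_of_isPullback hP hYa.diag hXa hVa
  have hfst : RepWith @Etale fst := (RepWith (S := S) @Etale).of_isPullback hP.flip hb
  have hPd : IsDecent P :=
    DecentEtale.isDecent_of_isEtaleMor hPa fst (isEtaleMor_of_repWith fst hfst) hX
  have genP : ∀ p : Points P,
      Points.map fst p ∈ genericPoints (Points X) ↔ p ∈ genericPoints (Points P) :=
    mem_genericPoints_map_iff_of_repWith_etale hPa hPd hXa hX fst hfst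
  have genV : ∀ v : Points ((yon S).obj V),
      Points.map b v ∈ genericPoints (Points Y) ↔ v ∈ genericPoints (Points ((yon S).obj V)) :=
    mem_genericPoints_map_iff_of_repWith_etale hVa hVd hYa hY b hb
  have hcomm : ∀ p, Points.map b (Points.map snd p) = Points.map f (Points.map fst p) := by
    intro p
    rw [← Points.map_comp, ← Points.map_comp, hP.w]
  have hbij : Set.BijOn (Points.map snd) (genericPoints (Points P))
      (genericPoints (Points ((yon S).obj V))) := by
    refine ⟨?_, ?_, ?_⟩
    · intro p hp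
      rw [← genV, hcomm]
      exact hf.bijOn.mapsTo ((genP p).2 hp)
    · intro p hp p' hp' hpp'
      have hx : Points.map fst p ∈ genericPoints (Points X) := (genP p).2 hp
      have hx' : Points.map fst p' ∈ genericPoints (Points X) := (genP p').2 hp'
      have hxx' : Points.map fst p = Points.map fst p' := by
        apply hf.bijOn.injOn hx hx'
        rw [← hcomm, ← hcomm, hpp']
      obtain ⟨U, V₁, a, b₁, g, u, ha, hb₁, hab, hu, hiso⟩ := hf.stalkIso _ hx
      exact (core f b hb fst snd hP a b₁ g u ha hb₁ hab hiso).2 p p' hu.symm (hxx'.symm.trans hu.symm)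
        hpp'
    · intro v hv
      have hy : Points.map b v ∈ genericPoints (Points Y) := (genV v).2 hv
      obtain ⟨x, hx, hxy⟩ := hf.bijOn.surjOn hy
      obtain ⟨p, hp1, hp2⟩ := Groth.Agent.H52.exists_point_of_isPullback hP x v hxy
      exact ⟨p, (genP p).1 (hp1 ▸ hx), hp2⟩
  refine ⟨hPa, hPd, hbij, ?_⟩
  intro p hp
  have hx : Points.map fst p ∈ genericPoints (Points X) := (genP p).2 hp
  obtain ⟨U, V₁, a, b₁, g, u, ha, hb₁, hab, hu, hiso⟩ := hf.stalkIso _ hx
  obtain ⟨W, V₁', κ, ι, θ, w, h1, h2, h3, h4, h5⟩ :=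
    (core f b hb fst snd hP a b₁ g u ha hb₁ hab hiso).1 p hu.symm
  exact ⟨W, V₁', κ, ι, θ, w, h1, h2, h3, h4, h5⟩

theorem map_ofPt_yon {X : Sp S} {U V : Over S} (a : (yon S).obj U ⟶ X) (f : X ⟶ (yon S).obj V)
    (g' : U ⟶ V) (hab : a ≫ f = (yon S).map g') (u : ↥U.left) :
    Points.map f (Points.ofPt a u) = Points.ofScheme V (g'.left u) := by
  rw [Points.map_ofPt, hab, Points.ofPt_eq_map_ofScheme, map_yon_map_ofScheme]

/-- The fibre of a birational morphism to a scheme over a generic point is a single point. -/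
theorem fibre_eq_of_isBirational_scheme {X : Sp S} (hXa : IsAlgSpace X) (hX : IsDecent X)
    {V : Over S} (f : X ⟶ (yon S).obj V) (hf : W4stk3decentspacesp2.IsBirational f) (v : ↥V.left)
    (hv : Points.ofScheme V v ∈ genericPoints (Points ((yon S).obj V)))
    (x : Points X) (hx : x ∈ genericPoints (Points X)) (hxv : Points.map f x = Points.ofScheme V v)
    {U : Over S} (a : (yon S).obj U ⟶ X) (ha : RepWith @IsOpenImmersion a) (g' : U ⟶ V)
    (hab : a ≫ f = (yon S).map g') (u : ↥U.left) (hu : Points.ofPt a u = x)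
    (hiso : IsIso (g'.left.stalkMap u))
    (x'' : Points X) (hx'' : Points.map f x'' = Points.ofScheme V v) : x'' = x := by
  have hVa : IsAlgSpace ((yon S).obj V) := IsAlgSpace.yon_obj V
  have hVd : IsDecent ((yon S).obj V) := isDecent_yon V
  haveI : T0Space (Points X) := t0Space_of_isDecent hXa hX
  haveI : QuasiSober (Points X) := DecentSober.quasiSober_of_isDecent hXa hX
  haveI : T0Space (Points ((yon S).obj V)) := t0Space_of_isDecent hVa hVd
  haveI : QuasiSober (Points ((yon S).obj V)) := DecentSober.quasiSober_of_isDecent hVa hVd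
  -- (i) `x ⤳ x''`
  have hsp : x ⤳ x'' := by
    obtain ⟨η, hη⟩ := QuasiSober.sober (isIrreducible_irreducibleComponent (x := x''))
      (isClosed_irreducibleComponent (x := x''))
    have hηg : η ∈ genericPoints (Points X) := by
      change closure {η} ∈ irreducibleComponents (Points X)
      rw [hη.def]
      exact irreducibleComponent_mem_irreducibleComponents x''
    have h1 : η ⤳ x'' := hη.specializes mem_irreducibleComponent
    have h2 : Points.map f η ⤳ Points.ofScheme V v := by
      rw [← hx'']; exact h1.map (Points.continuous_map f)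
    have h3 : Points.map f η ∈ genericPoints (Points ((yon S).obj V)) := hf.bijOn.mapsTo hηg
    have h4 : Points.ofScheme V v ⤳ Points.map f η := (mem_genericPoints_iff _).1 hv _ h2
    have h5 : Points.map f η = Points.map f x := by
      rw [hxv]; exact (h2.antisymm h4).eq
    rw [← hf.bijOn.injOn hηg hx h5]
    exact h1
  -- (ii) chart at `x''`
  obtain ⟨T, c, t', -, hc, rfl⟩ := exists_affine_chart_at hXa x''
  obtain ⟨q, hq, -, hqc⟩ := hX x
  have hsp' : Points.mk q ⤳ Points.ofPt c t' := by rw [hq]; exact hsp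
  obtain ⟨t, hts, ht⟩ := exists_generization_of_specializes _ q hsp' hqc c hc t' rfl
  rw [hq] at ht
  -- (iii) the morphism of schemes `T ⟶ V`
  obtain ⟨φ, hφ⟩ := (yon S).map_surjective (c ≫ f)
  have hφt' : φ.left t' = v := by
    apply ofScheme_injective V
    rw [← map_ofPt_yon c f φ hφ.symm, hx'']
  have hφt : φ.left t = v := by
    apply ofScheme_injective V
    rw [← map_ofPt_yon c f φ hφ.symm, ht, hxv]
  -- (iv) the open subscheme `U ×_X T` of `T`
  obtain ⟨WT, ψ, e', sq⟩ := ha.1 c
  obtain ⟨e₀, rfl⟩ := (yon S).map_surjective e'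
  have hψ : IsOpenImmersion ψ.left := ha.2 _ _ _ sq
  have he₀ : Etale e₀.left := hc.2 _ _ _ sq.flip
  obtain ⟨z, hz1, hz2⟩ := exists_of_ofPt_eq_ofPt sq u t (hu.trans ht.symm)
  have hcomm : ψ ≫ φ = e₀ ≫ g' := (yon S).map_injective (by
    rw [Functor.map_comp, Functor.map_comp, hφ, ← hab, ← Category.assoc, ← Category.assoc, sq.w])
  have hcommL : ψ.left ≫ φ.left = e₀.left ≫ g'.left := by
    rw [← Over.comp_left, ← Over.comp_left, hcomm]
  -- (v) quasi-finiteness at `t`
  subst hz1
  haveI : LocallyOfFiniteType e₀.left := by have := he₀; infer_instance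
  haveI : FormallyUnramified e₀.left := by have := he₀; infer_instance
  haveI : LocallyQuasiFinite e₀.left := Groth.Agent.H51.locallyQuasiFinite_of_unramified e₀.left
  have h1 : (e₀.left ≫ g'.left).QuasiFiniteAt z := by
    change ((e₀.left ≫ g'.left).stalkMap z).hom.QuasiFinite
    rw [Scheme.Hom.stalkMap_comp]
    exact (RingHom.QuasiFinite.respectsIso.cancel_left_isIso _ _).2 (e₀.left.quasiFiniteAt z)
  have h2 : (ψ.left ≫ φ.left).QuasiFiniteAt z := by rw [hcommL]; exact h1
  have h3 : φ.left.QuasiFiniteAt (ψ.left z) :=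
    Scheme.Hom.quasiFiniteAt_comp_iff_of_isOpenImmersion.1 h2
  rw [hz2] at h3
  -- (vi) conclusion
  have h4 : t' = t := QFSpecialize.eq_of_specializes_of_quasiFiniteAt φ.left hts (hφt'.trans hφt.symm) h3
  rw [h4, ht]

/-- For a birational `f : X ⟶ h_V` from a decent algebraic space to a scheme and a generic point `v` of `V`, the base
change of `f` to `Spec 𝒪_{V,v}` is an isomorphism. -/
theorem isIso_snd_of_isBirational_scheme {X : Sp S} (hXa : IsAlgSpace X) (hX : IsDecent X)
    {V : Over S} (f : X ⟶ (yon S).obj V) (hf : W4stk3decentspacesp2.IsBirational f) (v : ↥V.left)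
    (hv : Points.ofScheme V v ∈ genericPoints (Points ((yon S).obj V)))
    {P : Sp S} (fst : P ⟶ X)
    (snd : P ⟶ (yon S).obj (Over.mk (V.left.fromSpecStalk v ≫ V.hom)))
    (hP : IsPullback fst snd f ((yon S).map (Over.homMk (V.left.fromSpecStalk v) rfl))) :
    IsIso snd := by
  have hVa : IsAlgSpace ((yon S).obj V) := IsAlgSpace.yon_obj V
  have hVd : IsDecent ((yon S).obj V) := isDecent_yon V
  have hvgen : ∀ v' : ↥V.left, v' ⤳ v → v' = v :=
    (gen_iff hVa hVd (𝟙 _) (repWith_id @Etale V) v).1 hv
  obtain ⟨x, hx, hxv⟩ := hf.bijOn.surjOn hv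
  obtain ⟨U, V₁, a, b₁, g, u, ha, hb₁, hab, hu, hiso⟩ := hf.stalkIso x hx
  obtain ⟨ι₀, rfl⟩ := (yon S).map_surjective b₁
  have hι₀ : IsOpenImmersion ι₀.left := (repWith_yon_map_iff _ _).1 hb₁
  obtain ⟨g', hg'⟩ : ∃ g' : U ⟶ V, g' = g ≫ ι₀ := ⟨_, rfl⟩
  have hab' : a ≫ f = (yon S).map g' := by rw [hg', Functor.map_comp]; exact hab
  have hiso' : IsIso (g'.left.stalkMap u) := by
    subst hg'
    change IsIso ((g.left ≫ ι₀.left).stalkMap u)
    rw [Scheme.Hom.stalkMap_comp]
    haveI := hι₀
    have h1 : IsIso (ι₀.left.stalkMap (g.left u)) := inferInstance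
    exact IsIso.comp_isIso' h1 hiso
  have hg'u : g'.left u = v := by
    apply ofScheme_injective V
    rw [← map_ofPt_yon a f g' hab', hu, hxv]
  -- Claim 2: the fibre over `v` is `{x}`
  have hfib : ∀ x'' : Points X, Points.map f x'' = Points.ofScheme V v → x'' = x :=
    fun x'' hx'' => fibre_eq_of_isBirational_scheme hXa hX f hf v hv x hx hxv a ha g' hab' u hu hiso'
      x'' hx''
  haveI hamono : Mono a :=
    H50.mono_of_repWith (fun _ _ g hg => by have := hg; infer_instance) ha
  have hainj : ∀ u₁ u₂ : ↥U.left, Points.ofPt a u₁ = Points.ofPt a u₂ → u₁ = u₂ := by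
    intro u₁ u₂ h
    rw [Points.ofPt_eq_map_ofScheme, Points.ofPt_eq_map_ofScheme] at h
    exact ofScheme_injective U (H50.injective_map_of_mono a h)
  subst hg'u
  -- the scheme `W_A = U ×_V Spec 𝒪_{V,v}`
  have hfibS : ∀ u₁ : ↥U.left, g'.left u₁ = g'.left u → u₁ = u := by
    intro u₁ hu₁
    apply hainj
    rw [hu]
    apply hfib
    rw [map_ofPt_yon a f g' hab', hu₁]
  haveI := hiso'
  have hpr2 : IsIso (pullback.snd g'.left (V.left.fromSpecStalk (g'.left u))) :=
    Groth.Agent.H49.Birational.isIso_snd_fromSpecStalk g'.left u hfibS hvgen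
  obtain ⟨j, hj⟩ : ∃ j : Over.mk (V.left.fromSpecStalk (g'.left u) ≫ V.hom) ⟶ V,
      j = Over.homMk (V.left.fromSpecStalk (g'.left u)) rfl := ⟨_, rfl⟩
  rw [← hj] at hP
  let π₁ : Over.mk (pullback.fst g'.left (V.left.fromSpecStalk (g'.left u)) ≫ U.hom) ⟶ U :=
    Over.homMk (pullback.fst g'.left (V.left.fromSpecStalk (g'.left u))) rfl
  let π₂ : Over.mk (pullback.fst g'.left (V.left.fromSpecStalk (g'.left u)) ≫ U.hom) ⟶
      Over.mk (V.left.fromSpecStalk (g'.left u) ≫ V.hom) :=
    Over.homMk (pullback.snd g'.left (V.left.fromSpecStalk (g'.left u))) (by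
      change pullback.snd g'.left (V.left.fromSpecStalk (g'.left u)) ≫
        (V.left.fromSpecStalk (g'.left u) ≫ V.hom) = pullback.fst g'.left _ ≫ U.hom
      rw [← Category.assoc, ← pullback.condition, Category.assoc, Over.w g'])
  have hcommO : π₁ ≫ g' = π₂ ≫ j := by
    rw [hj]
    ext
    exact pullback.condition
  have sqO : IsPullback π₁ π₂ g' j := by
    refine IsPullback.of_map (Over.forget S) hcommO ?_
    rw [hj]
    exact IsPullback.of_hasPullback g'.left (V.left.fromSpecStalk (g'.left u))
  have sqY := sqO.map (yon S)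
  haveI : IsIso π₂ := by
    haveI : IsIso ((Over.forget S).map π₂) := hpr2
    exact isIso_of_reflects_iso π₂ (Over.forget S)
  have hw : ((yon S).map π₁ ≫ a) ≫ f = (yon S).map π₂ ≫ (yon S).map j := by
    rw [Category.assoc, hab']; exact sqY.w
  obtain ⟨κ, hκ⟩ : ∃ κ, κ = hP.lift ((yon S).map π₁ ≫ a) ((yon S).map π₂) hw := ⟨_, rfl⟩
  have hκ1 : κ ≫ fst = (yon S).map π₁ ≫ a := by rw [hκ]; exact hP.lift_fst _ _ _
  have hκ2 : κ ≫ snd = (yon S).map π₂ := by rw [hκ]; exact hP.lift_snd _ _ _
  have sqκ : IsPullback κ ((yon S).map π₁) fst a := by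
    refine IsPullback.of_right ?_ hκ1 hP.flip
    rw [hκ2, hab']; exact sqY.flip
  have hκo : RepWith @IsOpenImmersion κ :=
    (RepWith (S := S) @IsOpenImmersion).of_isPullback sqκ.flip ha
  haveI hκmono : Mono κ :=
    H50.mono_of_repWith (fun _ _ g hg => by have := hg; infer_instance) hκo
  have hκe : RepWith @Etale κ :=
    H50.repWith_mono (fun _ _ g hg => by have := hg; infer_instance) hκo
  have hκs : Function.Surjective (Points.ofPt κ) := by
    intro p
    have h1 : Points.map f (Points.map fst p) = Points.ofScheme V (g'.left u) := by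
      rw [← Points.map_comp, hP.w, Points.map_comp, ← Points.ofScheme_toScheme _ (Points.map snd p),
        map_yon_map_ofScheme]
      congr 1
      apply hvgen
      rw [hj]
      change V.left.fromSpecStalk (g'.left u) _ ⤳ g'.left u
      have : V.left.fromSpecStalk (g'.left u) (Points.toScheme _ (Points.map snd p)) ∈
          Set.range (V.left.fromSpecStalk (g'.left u)) := ⟨_, rfl⟩
      rw [Scheme.range_fromSpecStalk] at this
      exact this
    have h2 : Points.map fst p = Points.map a (Points.ofScheme U u) := by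
      rw [← Points.ofPt_eq_map_ofScheme, hu]
      exact hfib _ h1
    obtain ⟨z, hz1, -⟩ := Groth.Agent.H52.exists_point_of_isPullback sqκ p (Points.ofScheme U u) h2
    refine ⟨Points.toScheme _ z, ?_⟩
    rw [Points.ofPt_eq_map_ofScheme, Points.ofScheme_toScheme]
    exact hz1
  have hκS : RepWith @Surjective κ := repWith_surjective_of_surjective_ofPt κ hκo.rep hκs
  haveI : Epi κ := epi_of_etale_surjective κ hκe hκS
  haveI : IsIso κ := isIso_of_mono_of_epi κ
  have hsnd : snd = inv κ ≫ (yon S).map π₂ := by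
    rw [IsIso.eq_inv_comp]; exact hκ2
  rw [hsnd]
  infer_instance

/-- For a birational `f : X ⟶ Y` of decent algebraic spaces, an open subscheme `V` of `Y` and a point `v` of `V` which
is a generic point of an irreducible component of `|Y|`, the base change of `f` to `Spec 𝒪_{V,v}` is an isomorphism. -/
theorem isIso_snd_of_isBirational {X Y : Sp S} (hXa : IsAlgSpace X) (hYa : IsAlgSpace Y) (f : X ⟶ Y)
    (hX : IsDecent X) (hY : IsDecent Y) (hf : W4stk3decentspacesp2.IsBirational f) {V : Over S}
    (b : (yon S).obj V ⟶ Y) (hb : RepWith @IsOpenImmersion b) (v : ↥V.left)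
    (hv : Points.ofPt b v ∈ genericPoints (Points Y)) {P : Sp S} (fst : P ⟶ X)
    (snd : P ⟶ (yon S).obj (Over.mk (V.left.fromSpecStalk v ≫ V.hom)))
    (hP : IsPullback fst snd f ((yon S).map (Over.homMk (V.left.fromSpecStalk v) rfl) ≫ b)) :
    IsIso snd := by
  have hbe : RepWith @Etale b :=
    H50.repWith_mono (fun _ _ g hg => by have := hg; infer_instance) hb
  have hVa : IsAlgSpace ((yon S).obj V) := IsAlgSpace.yon_obj V
  have hVd : IsDecent ((yon S).obj V) := isDecent_yon V
  have sq' := IsPullback.of_hasPullback f b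
  obtain ⟨hP'a, hP'd, hbir⟩ := isBirational_baseChange' hXa hYa f hX hY hf b hbe _ _ sq'
  have hv' : Points.ofScheme V v ∈ genericPoints (Points ((yon S).obj V)) := by
    rw [← mem_genericPoints_map_iff_of_repWith_etale hVa hVd hYa hY b hbe, ← Points.ofPt_eq_map_ofScheme]
    exact hv
  have hw : fst ≫ f = (snd ≫ (yon S).map (Over.homMk (V.left.fromSpecStalk v) rfl)) ≫ b := by
    rw [Category.assoc]; exact hP.w
  obtain ⟨l, hl⟩ : ∃ l, l = sq'.lift fst (snd ≫ (yon S).map (Over.homMk (V.left.fromSpecStalk v) rfl)) hw :=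
    ⟨_, rfl⟩
  have hl1 : l ≫ pullback.fst f b = fst := by rw [hl]; exact sq'.lift_fst _ _ _
  have hl2 : l ≫ pullback.snd f b = snd ≫ (yon S).map (Over.homMk (V.left.fromSpecStalk v) rfl) := by
    rw [hl]; exact sq'.lift_snd _ _ _
  have sqT : IsPullback l snd (pullback.snd f b)
      ((yon S).map (Over.homMk (V.left.fromSpecStalk v) rfl)) := by
    refine IsPullback.of_right ?_ hl2 sq'
    rw [hl1]; exact hP
  exact isIso_snd_of_isBirational_scheme hP'a hP'd (pullback.snd f b) hbir v hv' l snd sqT

end Groth.Agent.H69.BiratStalk
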