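import Mathlib
import Groth.Agent.H69.BiratDense
import Groth.Agent.H69.BiratStalk
import Groth.Agent.H49.BiratRestrict
import Groth.Agent.H52.QC
import Groth.Agent.H50.OpenSubChart

/-!
# A quasi-compact or separated birational morphism of decent spaces is an isomorphism over a dense open (helper69)
-/

set_option autoImplicit false
set_option linter.style.haveILetI false
universe u
open CategoryTheory CategoryTheory.Limits AlgebraicGeometry
open AlgSp

namespace Groth.Agent.H69.BiratRestrict

open Groth.Agent.H52 Groth.Agent.H50 Groth.Agent.H69.BiratBC Groth.Agent.H69.BiratDense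
  Groth.Agent.H69.BiratStalk

variable {S : Scheme.{u}}

/-- The range of a closed immersion from a scheme into an algebraic space is closed. -/
theorem isClosed_range_ofPt_of_isClosedImmersion {P : Sp S} (hPa : IsAlgSpace P) {U : Over S}
    (σ : (yon S).obj U ⟶ P) (hσ : RepWith @IsClosedImmersion σ) :
    IsClosed (Set.range (Points.ofPt σ)) := by
  obtain ⟨T₀, c₀, hce, hcs⟩ := hPa.atlas
  have hq := isQuotientMap_ofPt c₀ hce hcs
  rw [← hq.isClosed_preimage]
  obtain ⟨N, n, x', sq⟩ := hσ.1 c₀
  obtain ⟨x, rfl⟩ := (yon S).map_surjective x'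
  have hn : IsClosedImmersion n.left := hσ.2 _ _ _ sq
  have key : Points.ofPt c₀ ⁻¹' Set.range (Points.ofPt σ) = Set.range n.left := by
    ext t
    constructor
    · rintro ⟨u, hu⟩
      obtain ⟨ν, -, hν⟩ := exists_of_ofPt_eq_ofPt sq u t hu
      exact ⟨ν, hν⟩
    · rintro ⟨ν, rfl⟩
      refine ⟨x.left ν, ?_⟩
      rw [← ofPt_yon_map_comp, sq.w, ofPt_yon_map_comp]
  rw [key]
  exact n.left.isClosedEmbedding.isClosed_range

/-- If `f` restricts to an isomorphism from an open subscheme `V` of `X` onto an open subscheme of `Y` and every point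
of `f⁻¹(V)` lies in `V`, then `f⁻¹(V) ⟶ V` is an isomorphism. -/
theorem isIso_snd_of_section {X Y P : Sp S} (f : X ⟶ Y) {V : Over S} (a : (yon S).obj V ⟶ X)
    (b : (yon S).obj V ⟶ Y) (ha : RepWith @IsOpenImmersion a) (hb : RepWith @IsOpenImmersion b)
    (hab : a ≫ f = b) (fst : P ⟶ X) (snd : P ⟶ (yon S).obj V) (hP : IsPullback fst snd f b)
    (hsurj : ∀ p : Points P, ∃ v : ↥V.left, Points.map fst p = Points.ofPt a v) : IsIso snd := by
  have hw : a ≫ f = 𝟙 _ ≫ b := by rw [Category.id_comp, hab]
  obtain ⟨σ, hσ⟩ : ∃ σ, σ = hP.lift a (𝟙 _) hw := ⟨_, rfl⟩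
  have hσ1 : σ ≫ fst = a := by rw [hσ]; exact hP.lift_fst _ _ _
  have hσ2 : σ ≫ snd = 𝟙 _ := by rw [hσ]; exact hP.lift_snd _ _ _
  have hfst : RepWith @IsOpenImmersion fst :=
    (RepWith (S := S) @IsOpenImmersion).of_isPullback hP.flip hb
  haveI : Mono fst := mono_of_repWith (fun _ _ g hg => by have := hg; infer_instance) hfst
  have hσo : RepWith @IsOpenImmersion σ := repWith_of_comp_mono σ fst (by rw [hσ1]; exact ha)
  haveI : Mono σ := mono_of_repWith (fun _ _ g hg => by have := hg; infer_instance) hσo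
  have hσs : Function.Surjective (Points.ofPt σ) := by
    intro p
    obtain ⟨v, hv⟩ := hsurj p
    refine ⟨v, ?_⟩
    apply injective_map_of_mono fst
    rw [Points.map_ofPt, hσ1, hv]
  have hσS : RepWith @Surjective σ := repWith_surjective_of_surjective_ofPt σ hσo.rep hσs
  haveI : Epi σ := epi_of_etale_surjective σ (repWith_etale_of_isOpenImmersion hσo) hσS
  haveI : IsIso σ := isIso_of_mono_of_epi σ
  have h1 : snd = inv σ := (IsIso.inv_eq_of_hom_inv_id hσ2).symm
  rw [h1]
  infer_instance

/-- For a quasi-compact morphism of algebraic spaces, a generic point of the target in the closure of the image of a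
closed set lies in the image. -/
theorem exists_mem_of_mem_closure_image {X Y : Sp S} (f : X ⟶ Y) (hqc : IsQuasiCompactMor f)
    (Z : Set (Points X)) (hZ : IsClosed Z) (W : Over S) [IsAffine W.left]
    (aX : (yon S).obj W ⟶ Y) (haX : RepWith @Etale aX) (w : ↥W.left)
    (hgen : ∀ w' : ↥W.left, w' ⤳ w → w' = w)
    (hy : Points.ofPt aX w ∈ closure (Points.map f '' Z)) :
    ∃ x ∈ Z, Points.map f x = Points.ofPt aX w := by
  classical
  have sqUW := IsPullback.of_hasPullback f aX
  have hUWqc : IsQuasiCompactSp (pullback f aX) :=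
    hqc (IsAlgSpace.yon_obj W) (isQuasiCompactSp_yon W) aX _ _ sqUW
  obtain ⟨ι, hfin, T, c, hTaff, hce, hcs⟩ := exists_finite_affine_charts hUWqc
  have := hfin
  choose g hg using fun i => (yon S).map_surjective (c i ≫ pullback.snd f aX)
  have hZi : ∀ i, IsClosed (Points.ofPt (c i ≫ pullback.fst f aX) ⁻¹' Z) := fun i =>
    hZ.preimage (Points.continuous_ofPt _)
  have hgo : ∀ i (t : ↥(T i).left), Points.ofScheme W ((g i).left t) =
      Points.map (pullback.snd f aX) (Points.ofPt (c i) t) := by
    intro i t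
    rw [Points.map_ofPt, ← hg i, Points.ofPt_eq_map_ofScheme, map_yon_map_ofScheme]
  have hdense : w ∈ closure (⋃ i, (g i).left '' (Points.ofPt (c i ≫ pullback.fst f aX) ⁻¹' Z)) := by
    rw [mem_closure_iff]
    intro O hO hwO
    have hO' : IsOpen (Points.ofPt aX '' O) := isOpenMap_ofPt_of_etale aX haX O hO
    obtain ⟨y', hy'O, z, hzZ, hzy'⟩ := mem_closure_iff.1 hy _ hO' ⟨w, hwO, rfl⟩
    obtain ⟨o, hoO, ho⟩ := hy'O
    obtain ⟨p, hp1, hp2⟩ := Groth.Agent.H52.exists_point_of_isPullback sqUW z (Points.ofScheme W o)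
      (by rw [hzy', ← ho, Points.ofPt_eq_map_ofScheme])
    obtain ⟨i, t, hit⟩ := hcs p
    refine ⟨o, hoO, Set.mem_iUnion.2 ⟨i, t, ?_, ?_⟩⟩
    · change Points.ofPt (c i ≫ pullback.fst f aX) t ∈ Z
      rw [← Points.map_ofPt, hit, hp1]
      exact hzZ
    · apply ofScheme_injective W
      rw [hgo, hit, hp2]
  have hfinU : closure (⋃ i, (g i).left '' (Points.ofPt (c i ≫ pullback.fst f aX) ⁻¹' Z)) =
      ⋃ i, closure ((g i).left '' (Points.ofPt (c i ≫ pullback.fst f aX) ⁻¹' Z)) :=
    closure_iUnion_of_finite _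
  rw [hfinU, Set.mem_iUnion] at hdense
  obtain ⟨i, hi⟩ := hdense
  haveI : IsAffine (T i).left := hTaff i
  obtain ⟨t, htZ, htw⟩ := Groth.Agent.H49.Birational.exists_mem_of_mem_closure_image (g i).left _
    (hZi i) w hgen hi
  refine ⟨Points.ofPt (c i ≫ pullback.fst f aX) t, htZ, ?_⟩
  rw [Points.map_ofPt, Category.assoc, sqUW.w, ← Category.assoc, ← hg i, ofPt_yon_map_comp]
  exact congrArg _ htw

/-- The open-subscheme datum of a birational morphism to a scheme, at a generic point. -/
theorem exists_datum_scheme_target {X : Sp S} {V : Over S} (f : X ⟶ (yon S).obj V)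
    (hf : W4stk3decentspacesp2.IsBirational f) (x : Points X) (hx : x ∈ genericPoints (Points X)) :
    ∃ (U : Over S) (a : (yon S).obj U ⟶ X) (g' : U ⟶ V) (u : ↥U.left),
      RepWith @IsOpenImmersion a ∧ a ≫ f = (yon S).map g' ∧ Points.ofPt a u = x ∧
        IsIso (g'.left.stalkMap u) := by
  obtain ⟨U, V₁, a, b₁, g, u, ha, hb₁, hab, hu, hiso⟩ := hf.stalkIso x hx
  obtain ⟨ι₀, rfl⟩ := (yon S).map_surjective b₁
  have hι₀ : IsOpenImmersion ι₀.left := (repWith_yon_map_iff _ _).1 hb₁
  refine ⟨U, a, g ≫ ι₀, u, ha, by rw [Functor.map_comp]; exact hab, hu, ?_⟩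
  change IsIso ((g.left ≫ ι₀.left).stalkMap u)
  rw [Scheme.Hom.stalkMap_comp]
  haveI := hι₀
  have h1 : IsIso (ι₀.left.stalkMap (g.left u)) := inferInstance
  exact IsIso.comp_isIso' h1 hiso

/-- If `U` is an open subscheme of both `X` and `Y` compatibly with the birational `f`, the fibre of `f` over a generic
point `b u` is `{a u}`. -/
theorem fibre_eq_of_isBirational {X Y : Sp S} (hXa : IsAlgSpace X) (hYa : IsAlgSpace Y) (f : X ⟶ Y)
    (hX : IsDecent X) (hY : IsDecent Y) (hf : W4stk3decentspacesp2.IsBirational f) {U : Over S}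
    (a : (yon S).obj U ⟶ X) (b : (yon S).obj U ⟶ Y) (ha : RepWith @IsOpenImmersion a)
    (hb : RepWith @IsOpenImmersion b) (hab : a ≫ f = b) (u : ↥U.left)
    (hu : Points.ofPt b u ∈ genericPoints (Points Y)) (x : Points X)
    (hx : Points.map f x = Points.ofPt b u) : x = Points.ofPt a u := by
  have hae := repWith_etale_of_isOpenImmersion ha
  have hbe := repWith_etale_of_isOpenImmersion hb
  have hUa : IsAlgSpace ((yon S).obj U) := IsAlgSpace.yon_obj U
  have hUd : IsDecent ((yon S).obj U) := isDecent_yon U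
  have sq := IsPullback.of_hasPullback f b
  obtain ⟨hPa, hPd, hbir⟩ := isBirational_baseChange' hXa hYa f hX hY hf b hbe _ _ sq
  have hfst : RepWith @Etale (pullback.fst f b) :=
    (RepWith (S := S) @Etale).of_isPullback sq.flip hbe
  have hugen : u ∈ genericPoints ↥U.left := (mem_genericPoints_scheme_iff hYa hY b hbe u).2 hu
  have haugen : Points.ofPt a u ∈ genericPoints (Points X) :=
    (mem_genericPoints_scheme_iff hXa hX a hae u).1 hugen
  have hv : Points.ofScheme U u ∈ genericPoints (Points ((yon S).obj U)) := by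
    rw [← mem_genericPoints_map_iff_of_repWith_etale hUa hUd hYa hY b hbe, ← Points.ofPt_eq_map_ofScheme]
    exact hu
  -- the section
  have hw : a ≫ f = 𝟙 _ ≫ b := by rw [Category.id_comp, hab]
  obtain ⟨σ, hσ⟩ : ∃ σ, σ = sq.lift a (𝟙 _) hw := ⟨_, rfl⟩
  have hσ1 : σ ≫ pullback.fst f b = a := by rw [hσ]; exact sq.lift_fst _ _ _
  have hσ2 : σ ≫ pullback.snd f b = 𝟙 _ := by rw [hσ]; exact sq.lift_snd _ _ _
  have hp₀ : Points.ofPt σ u ∈ genericPoints (Points (pullback f b)) := by
    rw [← mem_genericPoints_map_iff_of_repWith_etale hPa hPd hXa hX _ hfst, Points.map_ofPt, hσ1]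
    exact haugen
  have hp₀v : Points.map (pullback.snd f b) (Points.ofPt σ u) = Points.ofScheme U u := by
    rw [Points.map_ofPt, hσ2]
  obtain ⟨U', a', g', u', ha', hab', hu', hiso'⟩ :=
    exists_datum_scheme_target (pullback.snd f b) hbir _ hp₀
  obtain ⟨p, hp1, hp2⟩ := Groth.Agent.H52.exists_point_of_isPullback sq x (Points.ofScheme U u)
    (by rw [hx, Points.ofPt_eq_map_ofScheme])
  have hpp : p = Points.ofPt σ u :=
    fibre_eq_of_isBirational_scheme hPa hPd (pullback.snd f b) hbir u hv _ hp₀ hp₀v a' ha' g' hab' u'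
      hu' hiso' p hp2
  rw [← hp1, hpp, Points.map_ofPt, hσ1]

/-- In a quasi-sober space with finitely many irreducible components, a dense open set contains all generic points. -/
theorem mem_of_dense_of_isOpen_of_mem_genericPoints {α : Type*} [TopologicalSpace α]
    (hfin : (irreducibleComponents α).Finite) {O : Set α} (hO : IsOpen O) (hd : Dense O) (x : α)
    (hx : x ∈ genericPoints α) : x ∈ O := by
  have h1 : IsOpen (Groth.Agent.H49.Birational.onlyOn x) :=
    Groth.Agent.H49.Birational.isOpen_onlyOn hfin x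
  have h2 : x ∈ Groth.Agent.H49.Birational.onlyOn x := Groth.Agent.H49.Birational.mem_onlyOn_self hx
  obtain ⟨p, hp1, hp2⟩ := hd.inter_open_nonempty _ h1 ⟨x, h2⟩
  have h3 : x ⤳ p := Groth.Agent.H49.Birational.specializes_of_mem_onlyOn hp1
  exact h3.mem_open hO hp2

/-- The section of a separated morphism is a closed immersion. -/
theorem repWith_isClosedImmersion_section {X Y P : Sp S} (f : X ⟶ Y) (hsep : IsSeparatedMor f)
    {V : Over S} (a : (yon S).obj V ⟶ X) (b : (yon S).obj V ⟶ Y) (hab : a ≫ f = b)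
    (fst : P ⟶ X) (snd : P ⟶ (yon S).obj V) (hP : IsPullback fst snd f b)
    (σ : (yon S).obj V ⟶ P) (hσ1 : σ ≫ fst = a) (hσ2 : σ ≫ snd = 𝟙 _) :
    RepWith @IsClosedImmersion σ := by
  have hθw : fst ≫ f = (snd ≫ a) ≫ f := by rw [Category.assoc, hab]; exact hP.w
  obtain ⟨θ, hθ⟩ : ∃ θ : P ⟶ pullback f f, θ = pullback.lift fst (snd ≫ a) hθw := ⟨_, rfl⟩
  have hθ1 : θ ≫ pullback.fst f f = fst := by rw [hθ]; exact pullback.lift_fst _ _ _
  have hθ2 : θ ≫ pullback.snd f f = snd ≫ a := by rw [hθ]; exact pullback.lift_snd _ _ _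
  have hcomm : σ ≫ θ = a ≫ pullback.diagonal f := by
    apply pullback.hom_ext
    · rw [Category.assoc, hθ1, hσ1, Category.assoc, pullback.diagonal_fst, Category.comp_id]
    · rw [Category.assoc, hθ2, ← Category.assoc, hσ2, Category.id_comp, Category.assoc,
        pullback.diagonal_snd, Category.comp_id]
  have sq : IsPullback σ a θ (pullback.diagonal f) := by
    refine ⟨⟨hcomm⟩, ⟨PullbackCone.IsLimit.mk _ (fun s => s.fst ≫ snd) (fun s => ?_) (fun s => ?_)
      (fun s m h1 _ => ?_)⟩⟩
    · have hc := s.condition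
      have hc1 : s.fst ≫ fst = s.snd := by
        have := congrArg (· ≫ pullback.fst f f) hc
        simpa only [Category.assoc, hθ1, pullback.diagonal_fst, Category.comp_id] using this
      have hc2 : s.fst ≫ snd ≫ a = s.snd := by
        have := congrArg (· ≫ pullback.snd f f) hc
        simpa only [Category.assoc, hθ2, pullback.diagonal_snd, Category.comp_id] using this
      apply hP.hom_ext
      · rw [Category.assoc, hσ1, Category.assoc, hc2, hc1]
      · rw [Category.assoc, hσ2, Category.comp_id]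
    · have hc := s.condition
      have hc2 : s.fst ≫ snd ≫ a = s.snd := by
        have := congrArg (· ≫ pullback.snd f f) hc
        simpa only [Category.assoc, hθ2, pullback.diagonal_snd, Category.comp_id] using this
      rw [Category.assoc]; exact hc2
    · rw [← h1, Category.assoc, hσ2, Category.comp_id]
  exact (RepWith (S := S) @IsClosedImmersion).of_isPullback sq.flip hsep

theorem exists_dense_open_isIso_pullback {X Y : Sp S} (hXa : IsAlgSpace X) (hYa : IsAlgSpace Y)
    (f : X ⟶ Y) (hX : IsDecent X) (hY : IsDecent Y)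
    (hXf : (irreducibleComponents (Points X)).Finite)
    (hYf : (irreducibleComponents (Points Y)).Finite)
    (hf : W4stk3decentspacesp2.IsBirational f)
    (h₁ : IsQuasiCompactMor f ∨ IsSeparatedMor f)
    (h₂ : (LocP @LocallyOfFiniteType f ∧ EtaleLocally (fun T => IsReduced T) Y) ∨
      LocP @LocallyOfFinitePresentation f) :
    ∃ (V : Over S) (b : (yon S).obj V ⟶ Y), RepWith @IsOpenImmersion b ∧
      Dense (Set.range (Points.ofPt b)) ∧
        ∀ ⦃P : Sp S⦄ (fst : P ⟶ X) (snd : P ⟶ (yon S).obj V),
          IsPullback fst snd f b → IsIso snd := by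
  haveI : T0Space (Points X) := t0Space_of_isDecent hXa hX
  haveI : QuasiSober (Points X) := DecentSober.quasiSober_of_isDecent hXa hX
  haveI : T0Space (Points Y) := t0Space_of_isDecent hYa hY
  haveI : QuasiSober (Points Y) := DecentSober.quasiSober_of_isDecent hYa hY
  obtain ⟨U, V₀, a, b₀, g, ha, hb₀, hda, -, hab₀, hg⟩ :=
    exists_dense_open_iso hXa hYa f hX hY hXf hYf hf h₂
  haveI := hg
  have hgo : IsOpenImmersion g.left := inferInstance
  obtain ⟨b, hbdef⟩ : ∃ b, b = (yon S).map g ≫ b₀ := ⟨_, rfl⟩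
  have hb : RepWith @IsOpenImmersion b := by
    rw [hbdef]; exact repWith_yon_map_comp @IsOpenImmersion g hgo b₀ hb₀
  have hab : a ≫ f = b := by rw [hbdef]; exact hab₀
  have hae := repWith_etale_of_isOpenImmersion ha
  have hbe := repWith_etale_of_isOpenImmersion hb
  have hainj := ofPt_injective_of_isOpenImmersion a ha
  have hbinj := ofPt_injective_of_isOpenImmersion b hb
  have haopen : IsOpen (Set.range (Points.ofPt a)) := (isOpenMap_ofPt_of_etale a hae).isOpen_range
  have hgenX : ∀ x ∈ genericPoints (Points X), x ∈ Set.range (Points.ofPt a) := fun x hx =>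
    mem_of_dense_of_isOpen_of_mem_genericPoints hXf haopen hda x hx
  have hfb : ∀ u : ↥U.left, Points.map f (Points.ofPt a u) = Points.ofPt b u := by
    intro u; rw [Points.map_ofPt, hab]
  have hgenY : ∀ y ∈ genericPoints (Points Y), ∃ u : ↥U.left, Points.ofPt b u = y := by
    intro y hy
    obtain ⟨x, hx, rfl⟩ := hf.bijOn.surjOn hy
    obtain ⟨u, rfl⟩ := hgenX x hx
    exact ⟨u, (hfb u).symm⟩
  have hfibre : ∀ (u : ↥U.left), Points.ofPt b u ∈ genericPoints (Points Y) → ∀ x : Points X,
      Points.map f x = Points.ofPt b u → x = Points.ofPt a u := fun u hu x hx =>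
    fibre_eq_of_isBirational hXa hYa f hX hY hf a b ha hb hab u hu x hx
  rcases h₁ with hqc | hsep
  · -- quasi-compact case
    obtain ⟨Tc, hTc⟩ : ∃ Tc : Set (Points Y),
        Tc = closure (Points.map f '' (Set.range (Points.ofPt a))ᶜ) := ⟨_, rfl⟩
    have hTcl : IsClosed Tc := by rw [hTc]; exact isClosed_closure
    let V' : U.left.Opens := ⟨Points.ofPt b ⁻¹' Tcᶜ, hTcl.isOpen_compl.preimage (Points.continuous_ofPt b)⟩
    have hιo : IsOpenImmersion (opensOverι U V').left := inferInstanceAs (IsOpenImmersion V'.ι)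
    have haV : RepWith @IsOpenImmersion ((yon S).map (opensOverι U V') ≫ a) :=
      repWith_yon_map_comp @IsOpenImmersion (opensOverι U V') hιo a ha
    have hbV : RepWith @IsOpenImmersion ((yon S).map (opensOverι U V') ≫ b) :=
      repWith_yon_map_comp @IsOpenImmersion (opensOverι U V') hιo b hb
    have hgenT : ∀ y ∈ genericPoints (Points Y), y ∉ Tc := by
      intro y hy hyT
      obtain ⟨u, rfl⟩ := hgenY y hy
      obtain ⟨W, aX, w, hWaff, haX, hw⟩ := exists_affine_chart_at hYa (Points.ofPt b u)
      haveI := hWaff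
      have hwgen : ∀ w' : ↥W.left, w' ⤳ w → w' = w :=
        (gen_iff hYa hY aX haX w).1 (hw ▸ hy)
      rw [hTc, ← hw] at hyT
      obtain ⟨x, hxZ, hxw⟩ := exists_mem_of_mem_closure_image f hqc _ haopen.isClosed_compl W aX haX w
        hwgen hyT
      rw [hw] at hxw
      exact hxZ ⟨u, (hfibre u hy x hxw).symm⟩
    refine ⟨opensOver U V', (yon S).map (opensOverι U V') ≫ b, hbV, ?_, ?_⟩
    · apply Groth.Agent.H49.Birational.dense_of_forall_generic_mem
      intro y hy
      have hy' : y ∈ genericPoints (Points Y) := hy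
      obtain ⟨u, rfl⟩ := hgenY y hy'
      have huV : u ∈ V' := hgenT _ hy'
      refine ⟨(⟨u, huV⟩ : V'), ?_⟩
      rw [ofPt_yon_map_comp]
      rfl
    · intro P fst snd hP
      refine isIso_snd_of_section f ((yon S).map (opensOverι U V') ≫ a) _ haV hbV
        (by rw [Category.assoc, hab]) fst snd hP ?_
      intro p
      obtain ⟨v, hv⟩ : ∃ v : ↥(opensOver U V').left, Points.ofScheme _ v = Points.map snd p :=
        ⟨Points.toScheme _ (Points.map snd p), Points.ofScheme_toScheme _ _⟩
      have h1 : Points.map f (Points.map fst p) = Points.ofPt b ((opensOverι U V').left v) := by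
        rw [← Points.map_comp, hP.w, Points.map_comp, ← hv, ← Points.ofPt_eq_map_ofScheme,
          ofPt_yon_map_comp]
      have h2 : Points.ofPt b ((opensOverι U V').left v) ∉ Tc := v.2
      have h3 : Points.map fst p ∈ Set.range (Points.ofPt a) := by
        by_contra hne
        apply h2
        rw [hTc, ← h1]
        exact subset_closure ⟨_, hne, rfl⟩
      obtain ⟨u, hu⟩ := h3
      have h4 : u = (opensOverι U V').left v := by
        apply hbinj
        rw [← hfb, hu, h1]
      refine ⟨v, ?_⟩
      rw [ofPt_yon_map_comp, ← h4, hu]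
  · -- separated case
    refine ⟨U, b, hb, ?_, ?_⟩
    · apply Groth.Agent.H49.Birational.dense_of_forall_generic_mem
      intro y hy
      obtain ⟨u, rfl⟩ := hgenY y hy
      exact ⟨u, rfl⟩
    · intro P fst snd hP
      refine isIso_snd_of_section f a b ha hb hab fst snd hP ?_
      obtain ⟨hPa, hPd, -⟩ := isBirational_baseChange' hXa hYa f hX hY hf b hbe fst snd hP
      haveI : T0Space (Points P) := t0Space_of_isDecent hPa hPd
      haveI : QuasiSober (Points P) := DecentSober.quasiSober_of_isDecent hPa hPd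
      have hfst : RepWith @IsOpenImmersion fst :=
        (RepWith (S := S) @IsOpenImmersion).of_isPullback hP.flip hb
      haveI : Mono fst := mono_of_repWith (fun _ _ g hg => by have := hg; infer_instance) hfst
      have hw : a ≫ f = 𝟙 _ ≫ b := by rw [Category.id_comp, hab]
      obtain ⟨σ, hσ⟩ : ∃ σ, σ = hP.lift a (𝟙 _) hw := ⟨_, rfl⟩
      have hσ1 : σ ≫ fst = a := by rw [hσ]; exact hP.lift_fst _ _ _
      have hσ2 : σ ≫ snd = 𝟙 _ := by rw [hσ]; exact hP.lift_snd _ _ _
      have hσc : RepWith @IsClosedImmersion σ :=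
        repWith_isClosedImmersion_section f hsep a b hab fst snd hP σ hσ1 hσ2
      have hcl : IsClosed (Set.range (Points.ofPt σ)) :=
        isClosed_range_ofPt_of_isClosedImmersion hPa σ hσc
      intro p
      obtain ⟨η, hη⟩ := QuasiSober.sober (isIrreducible_irreducibleComponent (x := p))
        (isClosed_irreducibleComponent (x := p))
      have hηg : η ∈ genericPoints (Points P) := by
        change closure {η} ∈ irreducibleComponents (Points P)
        rw [hη.def]
        exact irreducibleComponent_mem_irreducibleComponents p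
      have h1 : η ⤳ p := hη.specializes mem_irreducibleComponent
      have h2 : Points.map fst η ∈ genericPoints (Points X) :=
        (mem_genericPoints_map_iff_of_repWith_etale hPa hPd hXa hX fst
          (repWith_etale_of_isOpenImmersion hfst) η).2 hηg
      obtain ⟨u, hu⟩ := hgenX _ h2
      have h3 : η = Points.ofPt σ u := by
        apply injective_map_of_mono fst
        rw [Points.map_ofPt, hσ1, hu]
      have h4 : p ∈ Set.range (Points.ofPt σ) := by
        have : p ∈ closure {η} := h1.mem_closure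
        exact hcl.closure_subset_iff.2 (Set.singleton_subset_iff.2 ⟨u, h3.symm⟩) this
      obtain ⟨v, rfl⟩ := h4
      exact ⟨v, by rw [Points.map_ofPt, hσ1]⟩

end Groth.Agent.H69.BiratRestrict
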