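import Mathlib

/-!
# Valuation rings through a finite chain of primes (composite valuation rings)
-/

set_option autoImplicit false
set_option linter.style.haveILetI false

universe u

open IsLocalRing

namespace Groth.Agent.H69.ChainVal

section Composite

variable {K : Type u} [Field K] (A : ValuationSubring K) (V' : ValuationSubring (ResidueField A))

/-- The underlying subring of the composite valuation ring. -/
def compSubring : Subring K :=
  (Subring.comap (residue A) V'.toSubring).map A.subtype

theorem mem_compSubring {x : K} :
    x ∈ compSubring A V' ↔ ∃ a : A, residue A a ∈ V' ∧ (a : K) = x := by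
  unfold compSubring
  rw [Subring.mem_map]
  constructor
  · rintro ⟨a, ha, rfl⟩
    exact ⟨a, ha, rfl⟩
  · rintro ⟨a, ha, rfl⟩
    exact ⟨a, ha, rfl⟩

theorem mem_or_inv_mem_of_mem {x : K} (hx : x ∈ A) :
    x ∈ compSubring A V' ∨ x⁻¹ ∈ compSubring A V' := by
  let a : A := ⟨x, hx⟩
  rcases V'.mem_or_inv_mem (residue A a) with h | h
  · exact Or.inl ((mem_compSubring A V').mpr ⟨a, h, rfl⟩)
  · by_cases h0 : residue A a = 0
    · left
      refine (mem_compSubring A V').mpr ⟨a, ?_, rfl⟩
      rw [h0]
      exact V'.zero_mem
    · have hu : IsUnit a := by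
        rw [← IsLocalRing.notMem_maximalIdeal]
        intro hm
        exact h0 ((IsLocalRing.residue_eq_zero_iff a).mpr hm)
      obtain ⟨u, hu'⟩ := hu
      right
      refine (mem_compSubring A V').mpr ⟨((u⁻¹ : Aˣ) : A), ?_, ?_⟩
      · have h1 : residue A a * residue A ((u⁻¹ : Aˣ) : A) = 1 := by
          rw [← map_mul, ← hu', Units.mul_inv, map_one]
        have h2 : residue A ((u⁻¹ : Aˣ) : A) = (residue A a)⁻¹ :=
          eq_inv_of_mul_eq_one_right h1
        rw [h2]
        exact h
      · have h1 : (a : K) * ((((u⁻¹ : Aˣ) : A)) : K) = 1 := by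
          have : a * ((u⁻¹ : Aˣ) : A) = 1 := by rw [← hu', Units.mul_inv]
          have := congrArg (Subtype.val) this
          simpa using this
        have h2 : ((((u⁻¹ : Aˣ) : A)) : K) = (a : K)⁻¹ := eq_inv_of_mul_eq_one_right h1
        rw [h2]

/-- The composite of a valuation subring `A` of `K` with a valuation subring of its residue
field. -/
def comp : ValuationSubring K where
  toSubring := compSubring A V'
  mem_or_inv_mem' := by
    intro x
    rcases A.mem_or_inv_mem x with hx | hx
    · exact mem_or_inv_mem_of_mem A V' hx
    · rcases mem_or_inv_mem_of_mem A V' hx with h | h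
      · exact Or.inr h
      · left
        rw [inv_inv] at h
        exact h

theorem mem_comp {x : K} :
    x ∈ comp A V' ↔ ∃ a : A, residue A a ∈ V' ∧ (a : K) = x :=
  mem_compSubring A V'

theorem comp_le : (comp A V').toSubring ≤ A.toSubring := by
  intro x hx
  obtain ⟨a, -, rfl⟩ := (mem_comp A V').mp hx
  exact a.2

/-- The projection from the composite valuation ring to the valuation ring of the residue
field. -/
noncomputable def proj : (comp A V') →+* V' :=
  ((residue A).comp (Subring.inclusion (comp_le A V'))).codRestrict V'.toSubring (by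
    intro w
    obtain ⟨a, ha, hw⟩ := (mem_comp A V').mp w.2
    have : Subring.inclusion (comp_le A V') w = a := Subtype.ext hw.symm
    change residue A (Subring.inclusion (comp_le A V') w) ∈ V'
    rw [this]
    exact ha)

end Composite

/-- **Chains of primes lift to valuation rings.** Given a ring map `ψ : R → K` to a field whose
kernel is the first prime of an ascending chain `P 0 ≤ P 1 ≤ …`, there is, for every `n`, a
valuation subring of `K` containing the image, with an ascending chain of primes `Q i` contracting
to `P i` for `i ≤ n`, and `Q 0 = ⊥`. -/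
theorem exists_valuationSubring_chain (n : ℕ) :
    ∀ (R : Type u) [CommRing R] (K : Type u) [Field K] (ψ : R →+* K)
      (P : ℕ → PrimeSpectrum R), RingHom.ker ψ = (P 0).asIdeal → (∀ i, P i ≤ P (i + 1)) →
      ∃ (V : ValuationSubring K) (hV : ∀ r, ψ r ∈ V) (Q : ℕ → PrimeSpectrum V),
        (Q 0).asIdeal = ⊥ ∧ (∀ i, Q i ≤ Q (i + 1)) ∧
        ∀ i, i ≤ n → PrimeSpectrum.comap (ψ.codRestrict V.toSubring hV) (Q i) = P i := by
  induction n with
  | zero =>
    intro R _ K _ ψ P hker hP
    refine ⟨⊤, fun r => trivial, fun _ => ⟨⊥, Ideal.isPrime_bot⟩, rfl, fun i => le_rfl, ?_⟩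
    intro i hi
    obtain rfl : i = 0 := Nat.le_zero.mp hi
    apply PrimeSpectrum.ext
    change Ideal.comap _ ⊥ = _
    rw [← hker]
    ext r
    simp only [Ideal.mem_comap, Ideal.mem_bot, RingHom.mem_ker]
    constructor
    · intro h
      exact congrArg Subtype.val h
    · intro h
      exact Subtype.ext h
  | succ n ih =>
    intro R _ K _ ψ P hker hP
    let p1 : Ideal R := (P 1).asIdeal
    haveI : p1.IsPrime := (P 1).isPrime
    have hle01 : (P 0).asIdeal ≤ p1 := hP 0
    have hunit : ∀ y : p1.primeCompl, IsUnit (ψ y) := by
      intro y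
      rw [isUnit_iff_ne_zero]
      intro h0
      have : (y : R) ∈ RingHom.ker ψ := h0
      rw [hker] at this
      exact y.2 (hle01 this)
    let ψ' : Localization.AtPrime p1 →+* K := IsLocalization.lift hunit
    have hψ' : ∀ r, ψ' (algebraMap R (Localization.AtPrime p1) r) = ψ r :=
      fun r => IsLocalization.lift_eq hunit r
    obtain ⟨A, hA, hAloc⟩ := exists_factor_valuationRing ψ'
    have hAR : ∀ r, ψ r ∈ A := fun r => by
      rw [← hψ' r]
      exact hA _
    let ψA : R →+* A := ψ.codRestrict A.toSubring hAR
    let ψ'A : Localization.AtPrime p1 →+* A := ψ'.codRestrict A.toSubring hA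
    haveI : IsLocalHom ψ'A := hAloc
    let ψ1 : R →+* ResidueField A := (residue A).comp ψA
    have hker1 : RingHom.ker ψ1 = (P 1).asIdeal := by
      ext r
      rw [RingHom.mem_ker]
      change residue A (ψA r) = 0 ↔ r ∈ p1
      rw [IsLocalRing.residue_eq_zero_iff]
      have e : ψA r = ψ'A
          (algebraMap R (Localization.AtPrime p1) r) := Subtype.ext (hψ' r).symm
      rw [e]
      constructor
      · intro hm
        by_contra hr
        have hu : IsUnit (algebraMap R (Localization.AtPrime p1) r) :=
          IsLocalization.map_units (Localization.AtPrime p1) (⟨r, hr⟩ : p1.primeCompl)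
        have := hu.map ψ'A
        exact (IsLocalRing.notMem_maximalIdeal.mpr this) hm
      · intro hr
        rw [IsLocalRing.mem_maximalIdeal, mem_nonunits_iff]
        intro hu
        have hu' : IsUnit (algebraMap R (Localization.AtPrime p1) r) :=
          isUnit_of_map_unit ψ'A _ hu
        have hm : algebraMap R (Localization.AtPrime p1) r ∈
            maximalIdeal (Localization.AtPrime p1) :=
          (IsLocalization.AtPrime.to_map_mem_maximal_iff (Localization.AtPrime p1) p1 r).mpr hr
        exact (IsLocalRing.mem_maximalIdeal _).mp hm hu'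
    obtain ⟨V', hV', Q', hQ'0, hQ'mono, hQ'⟩ :=
      ih R (ResidueField A) ψ1 (fun i => P (i + 1)) hker1 (fun i => hP (i + 1))
    let W : ValuationSubring K := comp A V'
    have hW : ∀ r, ψ r ∈ W := by
      intro r
      exact (mem_comp A V').mpr ⟨ψA r, hV' r, rfl⟩
    let π : W →+* V' := proj A V'
    let Q : ℕ → PrimeSpectrum W := fun i =>
      match i with
      | 0 => ⟨⊥, Ideal.isPrime_bot⟩
      | (j + 1) => PrimeSpectrum.comap π (Q' j)
    have hcomp : π.comp (ψ.codRestrict W.toSubring hW) =
        ψ1.codRestrict V'.toSubring hV' := by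
      ext r
      rfl
    refine ⟨W, hW, Q, rfl, ?_, ?_⟩
    · intro i
      match i with
      | 0 =>
        change (⊥ : Ideal W) ≤ _
        exact bot_le
      | (j + 1) =>
        change Ideal.comap π (Q' j).asIdeal ≤ Ideal.comap π (Q' (j + 1)).asIdeal
        exact Ideal.comap_mono (hQ'mono j)
    · intro i hi
      match i with
      | 0 =>
        apply PrimeSpectrum.ext
        change Ideal.comap _ ⊥ = _
        rw [← hker]
        ext r
        simp only [Ideal.mem_comap, Ideal.mem_bot, RingHom.mem_ker]
        constructor
        · intro h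
          exact congrArg Subtype.val h
        · intro h
          exact Subtype.ext h
      | (j + 1) =>
        have hj : j ≤ n := Nat.le_of_succ_le_succ hi
        have := hQ' j hj
        change PrimeSpectrum.comap (ψ.codRestrict W.toSubring hW)
          (PrimeSpectrum.comap π (Q' j)) = P (j + 1)
        rw [← this, ← hcomp]
        rfl

end Groth.Agent.H69.ChainVal
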