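import Mathlib
import Groth.Prelude.Def_W4c2submetdescSubtr
import Groth.Agent.H69.ChainVal

/-!
# Lifting finite chains of specializations along universally S-subtrusive morphisms
-/

set_option autoImplicit false
set_option linter.style.haveILetI false

universe u

open CategoryTheory CategoryTheory.Limits AlgebraicGeometry IsLocalRing

namespace Groth.Agent.H69.ChainLift

theorem specializes_of_le {α : Type*} [TopologicalSpace α] (y : ℕ → α)
    (hy : ∀ i, y i ⤳ y (i + 1)) : ∀ i j, i ≤ j → y i ⤳ y j := by
  intro i j hij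
  induction j, hij using Nat.le_induction with
  | base => exact specializes_rfl
  | succ j _ ih => exact ih.trans (hy j)

/-- Going down along a finite chain, for a generalizing map. -/
theorem exists_chain_of_generalizingMap {α β : Type*} [TopologicalSpace α] [TopologicalSpace β]
    (h : α → β) (hg : GeneralizingMap h) (Q : ℕ → β) (hQ : ∀ i, Q i ⤳ Q (i + 1)) :
    ∀ (n : ℕ) (z : α), h z = Q n →
      ∃ Z : ℕ → α, (∀ i, Z i ⤳ Z (i + 1)) ∧ (∀ i, i ≤ n → h (Z i) = Q i) ∧ Z n = z := by
  intro n
  induction n with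
  | zero =>
    intro z hz
    refine ⟨fun _ => z, fun _ => specializes_rfl, fun i hi => ?_, rfl⟩
    obtain rfl : i = 0 := Nat.le_zero.mp hi
    exact hz
  | succ n ih =>
    intro z hz
    have h1 : Q n ⤳ h z := by
      rw [hz]
      exact hQ n
    obtain ⟨z', hz'z, hz'⟩ := hg h1
    obtain ⟨Z', hZ'sp, hZ'v, hZ'n⟩ := ih z' hz'
    refine ⟨fun i => if i ≤ n then Z' i else z, ?_, ?_, ?_⟩
    · intro i
      by_cases hi : i + 1 ≤ n
      · have hi' : i ≤ n := by omega
        simp only [hi', hi, if_true]
        exact hZ'sp i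
      · by_cases hi' : i ≤ n
        · have hin : i = n := by omega
          subst hin
          simp only [le_refl, if_true, hi, if_false]
          rw [hZ'n]
          exact hz'z
        · simp only [hi', hi, if_false]
          exact specializes_rfl
    · intro i hi
      by_cases hi' : i ≤ n
      · simp only [hi', if_true]
        exact hZ'v i hi'
      · have hin : i = n + 1 := by omega
        subst hin
        simp only [hi', if_false]
        exact hz
    · have : ¬ (n + 1 ≤ n) := by omega
      simp only [this, if_false]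

/-- A torsion-free domain over a valuation ring satisfies going down. -/
theorem generalizingMap_comap_of_valuationRing {V O : Type u} [CommRing V] [IsDomain V]
    [ValuationRing V] [CommRing O] [IsDomain O] (φ : V →+* O) (hφ : Function.Injective φ) :
    GeneralizingMap (PrimeSpectrum.comap φ) := by
  letI := φ.toAlgebra
  haveI : Module.Flat V O := by
    rw [Module.Flat.flat_iff_torsion_eq_bot_of_isBezout, eq_bot_iff]
    intro m hm
    rw [Submodule.mem_torsion_iff] at hm
    obtain ⟨⟨r, hr⟩, hrm⟩ := hm
    have hr0 : r ≠ 0 := nonZeroDivisors.ne_zero hr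
    have h1 : φ r * m = 0 := hrm
    rcases mul_eq_zero.mp h1 with h2 | h2
    · exact absurd (hφ (h2.trans (map_zero φ).symm)) hr0
    · rw [h2]
      exact Submodule.zero_mem _
  exact (Algebra.HasGoingDown.iff_generalizingMap_primeSpectrumComap (R := V) (S := O)).mp
    inferInstance

/-- A finite chain of specializations in a scheme is the image of a chain of primes of a
valuation ring. -/
theorem exists_valuationRing_chain {Y : Scheme.{u}} (y : ℕ → Y) (hy : ∀ i, y i ⤳ y (i + 1))
    (n : ℕ) :
    ∃ (K : Type u) (_ : Field K) (V : ValuationSubring K)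
      (g : Spec (CommRingCat.of V) ⟶ Y) (Q : ℕ → PrimeSpectrum V),
      (Q 0).asIdeal = ⊥ ∧ (∀ i, Q i ≤ Q (i + 1)) ∧ ∀ i, i ≤ n → g.base (Q i) = y i := by
  let R := Y.presheaf.stalk (y n)
  have hmem : ∀ i, ∃ p : PrimeSpectrum R, (Y.fromSpecStalk (y n)).base p = y (min i n) := by
    intro i
    have : y (min i n) ∈ Set.range (Y.fromSpecStalk (y n)).base := by
      rw [Scheme.range_fromSpecStalk]
      exact specializes_of_le y hy _ _ (min_le_right i n)
    exact this
  choose P hP using hmem
  have hPmono : ∀ i, P i ≤ P (i + 1) := by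
    intro i
    rw [PrimeSpectrum.le_iff_specializes]
    have h1 : (Y.fromSpecStalk (y n)).base (P i) ⤳ (Y.fromSpecStalk (y n)).base (P (i + 1)) := by
      rw [hP, hP]
      exact specializes_of_le y hy _ _ (min_le_min_right n (Nat.le_succ i))
    exact (Y.fromSpecStalk (y n)).isEmbedding.isInducing.specializes_iff.mp h1
  let K := (P 0).asIdeal.ResidueField
  let ψ : R →+* K := algebraMap R K
  have hker : RingHom.ker ψ = (P 0).asIdeal := Ideal.ker_algebraMap_residueField _
  obtain ⟨V, hV, Q, hQ0, hQmono, hQ⟩ :=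
    ChainVal.exists_valuationSubring_chain n R K ψ P hker hPmono
  refine ⟨K, inferInstance, V,
    Spec.map (CommRingCat.ofHom (ψ.codRestrict V.toSubring hV)) ≫ Y.fromSpecStalk (y n), Q,
    hQ0, hQmono, ?_⟩
  intro i hi
  rw [Scheme.Hom.comp_base, TopCat.comp_app]
  have h1 : (Spec.map (CommRingCat.ofHom (ψ.codRestrict V.toSubring hV))).base (Q i) = P i :=
    hQ i hi
  rw [h1, hP, min_eq_left hi]

/-- **Chain lifting.** A universally S-subtrusive morphism lifts finite chains of
specializations. -/
theorem exists_chain_lift {X Y : Scheme.{u}} (f : X ⟶ Y) (hf : Subtr.UnivSSubtrusive f)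
    (y : ℕ → Y) (hy : ∀ i, y i ⤳ y (i + 1)) (n : ℕ) :
    ∃ x : ℕ → X, (∀ i, x i ⤳ x (i + 1)) ∧ ∀ i, i ≤ n → f.base (x i) = y i := by
  obtain ⟨K, _, V, g, Q, hQ0, hQmono, hQ⟩ := exists_valuationRing_chain y hy n
  let fV := pullback.snd f g
  have hfV : Subtr.IsSSubtrusive fV := hf _ _ _ (IsPullback.of_hasPullback f g).flip
  have hQsp : ∀ i, Q i ⤳ Q (i + 1) := fun i =>
    (PrimeSpectrum.le_iff_specializes _ _).mp (hQmono i)
  have hsp : Q 0 ⤳ Q n := specializes_of_le Q hQsp 0 n (Nat.zero_le n)
  obtain ⟨x, x', hx'x, hx, hx'⟩ := hfV hsp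
  let Pb := pullback f g
  let S := Pb.presheaf.stalk x
  have hx'mem : x' ∈ Set.range (Pb.fromSpecStalk x).base := by
    rw [Scheme.range_fromSpecStalk]
    exact hx'x
  obtain ⟨p', hp'⟩ := hx'mem
  let p'' : PrimeSpectrum S := p'
  haveI : p''.asIdeal.IsPrime := p''.isPrime
  let O := S ⧸ p''.asIdeal
  let mk : S →+* O := Ideal.Quotient.mk p''.asIdeal
  let k : Spec (CommRingCat.of O) ⟶ Pb :=
    Spec.map (CommRingCat.ofHom mk) ≫ Pb.fromSpecStalk x
  let h : Spec (CommRingCat.of O) ⟶ Spec (CommRingCat.of V) := k ≫ fV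
  let φc : CommRingCat.of V ⟶ CommRingCat.of O := Spec.preimage h
  have hφc : Spec.map φc = h := Spec.map_preimage h
  let φ : V →+* O := φc.hom
  have hcomap : ∀ q : PrimeSpectrum O, PrimeSpectrum.comap φ q = h.base q := by
    intro q
    rw [← hφc]
    rfl
  -- the generic point of `O` maps to `x'`
  have hbot : k.base (⟨⊥, Ideal.isPrime_bot⟩ : PrimeSpectrum O) = x' := by
    change (Pb.fromSpecStalk x).base
      ((Spec.map (CommRingCat.ofHom mk)).base (⟨⊥, Ideal.isPrime_bot⟩ : PrimeSpectrum O)) = x'
    have : (Spec.map (CommRingCat.ofHom mk)).base (⟨⊥, Ideal.isPrime_bot⟩ : PrimeSpectrum O)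
        = p'' := by
      apply PrimeSpectrum.ext
      change Ideal.comap mk ⊥ = p''.asIdeal
      rw [← RingHom.ker_eq_comap_bot]
      exact Ideal.mk_ker
    rw [this]
    exact hp'
  have hinj : Function.Injective φ := by
    rw [injective_iff_map_eq_zero]
    intro v hv
    have h1 : v ∈ (PrimeSpectrum.comap φ (⟨⊥, Ideal.isPrime_bot⟩ : PrimeSpectrum O)).asIdeal := by
      change φ v ∈ (⊥ : Ideal O)
      rw [hv]
      exact Ideal.zero_mem _
    rw [hcomap] at h1
    have h2 : h.base (⟨⊥, Ideal.isPrime_bot⟩ : PrimeSpectrum O) = Q 0 := by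
      change fV.base (k.base _) = Q 0
      rw [hbot]
      exact hx'
    rw [h2, hQ0] at h1
    exact h1
  -- a point of `Spec O` over `x`
  obtain ⟨z, hz⟩ : ∃ z : PrimeSpectrum O, PrimeSpectrum.comap mk z = closedPoint S := by
    have : closedPoint S ∈ Set.range (PrimeSpectrum.comap mk) := by
      rw [range_comap_of_surjective _ mk Ideal.Quotient.mk_surjective]
      rw [PrimeSpectrum.mem_zeroLocus, Ideal.mk_ker]
      intro s hs
      exact IsLocalRing.le_maximalIdeal p''.isPrime.ne_top hs
    exact this
  have hkz : k.base z = x := by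
    change (Pb.fromSpecStalk x).base ((Spec.map (CommRingCat.ofHom mk)).base z) = x
    have : (Spec.map (CommRingCat.ofHom mk)).base z = closedPoint S := hz
    rw [this]
    exact Scheme.fromSpecStalk_closedPoint
  have hhz : PrimeSpectrum.comap φ z = Q n := by
    rw [hcomap]
    change fV.base (k.base z) = Q n
    rw [hkz]
    exact hx
  obtain ⟨Z, hZsp, hZv, -⟩ := exists_chain_of_generalizingMap (PrimeSpectrum.comap φ)
    (generalizingMap_comap_of_valuationRing φ hinj) Q hQsp n z hhz
  refine ⟨fun i => (pullback.fst f g).base (k.base (Z i)), fun i => ?_, fun i hi => ?_⟩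
  · exact ((hZsp i).map k.continuous).map (pullback.fst f g).continuous
  · have h1 : f.base ((pullback.fst f g).base (k.base (Z i))) =
        g.base (fV.base (k.base (Z i))) :=
      congrArg (fun q : Pb ⟶ Y => q.base (k.base (Z i))) (pullback.condition (f := f) (g := g))
    rw [h1]
    have h2 : fV.base (k.base (Z i)) = Q i := by
      have := hZv i hi
      rw [hcomap] at this
      exact this
    rw [h2]
    exact hQ i hi

end Groth.Agent.H69.ChainLift
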