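import Groth.Agent.H69.ChevGeneral

/-! Local factorization of a morphism with constant fibre dimension through a quasi-finite
morphism to `Spec` of a polynomial ring. -/

set_option autoImplicit false
set_option linter.style.haveILetI false
set_option linter.unusedSectionVars false
open AlgebraicGeometry CategoryTheory Limits

universe u

namespace Groth.Agent.H69.Chev

open Groth.Agent.H69.GeomUnibranch Groth.Agent.H9.FibDim Groth.Agent.H54
  Groth.Agent.H9.FibreFormula Groth.Agent.H9.Equidim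

theorem exists_factorization {X Y : Scheme.{u}} (f : X ⟶ Y) [LocallyOfFiniteType f] (x : X)
    (e : ℕ) (U₀ : X.Opens) (hxU₀ : x ∈ U₀)
    (hdimU₀ : ∀ x₁ : X, x₁ ∈ U₀ → FlatMor.fibreDimAt f x₁ = (e : WithBot ℕ∞))
    (hmaxU₀ : ∀ ξ : X, ξ ∈ U₀ → (∀ t : X, t ⤳ ξ → t = ξ) → IsMaxPt (f.base ξ)) :
    ∃ (V : Y.Opens) (hV : IsAffineOpen V) (A : CommRingCat.{u}) (j : Spec A ⟶ X)
      (G : Spec A ⟶ Spec (.of (MvPolynomial (ULift.{u} (Fin e)) Γ(Y, V)))),
      IsOpenImmersion j ∧ x ∈ Set.range j.base ∧ (∀ w, j.base w ∈ U₀) ∧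
      j ≫ f = G ≫ Spec.map (CommRingCat.ofHom (algebraMap Γ(Y, V)
        (MvPolynomial (ULift.{u} (Fin e)) Γ(Y, V)))) ≫ hV.fromSpec ∧
      LocallyQuasiFinite G ∧ LocallyOfFiniteType G ∧ ∀ w, IsMaxPt w → IsMaxPt (G.base w) := by
  obtain ⟨V, hV, hxV, -⟩ :=
    exists_isAffineOpen_mem_and_subset (X := Y) (x := f.base x) (U := ⊤) trivial
  obtain ⟨U, hU, hxU, hUV'⟩ :=
    exists_isAffineOpen_mem_and_subset (X := X) (x := x) (U := U₀ ⊓ f ⁻¹ᵁ V) ⟨hxU₀, hxV⟩
  have hUU₀ : U ≤ U₀ := hUV'.trans inf_le_left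
  have hUV : U ≤ f ⁻¹ᵁ V := hUV'.trans inf_le_right
  letI algRS : Algebra Γ(Y, V) Γ(X, U) := (f.appLE V U hUV).hom.toAlgebra
  haveI : Algebra.FiniteType Γ(Y, V) Γ(X, U) := f.finiteType_appLE hV hU hUV
  obtain ⟨q, rfl⟩ : x ∈ Set.range hU.fromSpec.base := by rw [hU.range_fromSpec]; exact hxU
  have hmemU : ∀ q₁ : Spec Γ(X, U), hU.fromSpec.base q₁ ∈ U := by
    intro q₁
    have := Set.mem_range_self (f := hU.fromSpec.base) q₁
    rw [hU.range_fromSpec] at this
    exact this
  have htfd : ∀ q₁ : Spec Γ(X, U),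
      tfd (PrimeSpectrum.comap (algebraMap Γ(Y, V) Γ(X, U))) q₁ = (e : WithBot ℕ∞) := by
    intro q₁
    have := fibreDimAt_fromSpec f hU hV hUV q₁
    rw [hdimU₀ _ (hUU₀ (hmemU q₁))] at this
    exact this.symm
  obtain ⟨Q, hQ⟩ := exists_fiber_prime (q.asIdeal.under Γ(Y, V)) q.asIdeal
  have hQdim : FlatMor.localDim (PrimeSpectrum ((q.asIdeal.under Γ(Y, V)).Fiber Γ(X, U))) Q =
      (e : WithBot ℕ∞) := by
    rw [localDim_fiber_eq_tfd _ q rfl Q hQ]; exact htfd q
  obtain ⟨g, hgq, φ, hφft, hφqf⟩ := Groth.Agent.S9175.result Γ(Y, V) Γ(X, U)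
    (q.asIdeal.under Γ(Y, V)) q.asIdeal Q hQ e hQdim
  -- the open piece `W = Spec S_g`
  let j : Spec (.of (Localization.Away g)) ⟶ X :=
    Spec.map (CommRingCat.ofHom (algebraMap Γ(X, U) (Localization.Away g))) ≫ hU.fromSpec
  haveI : IsOpenImmersion hU.fromSpec := hU.isOpenImmersion_fromSpec
  haveI : IsOpenImmersion hV.fromSpec := hV.isOpenImmersion_fromSpec
  haveI hjo : IsOpenImmersion j := inferInstance
  obtain ⟨q', hq'⟩ : ∃ q' : PrimeSpectrum (Localization.Away g),
      PrimeSpectrum.comap (algebraMap Γ(X, U) (Localization.Away g)) q' = q := by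
    have hrange := PrimeSpectrum.localization_away_comap_range (Localization.Away g) g
    have : q ∈ Set.range (PrimeSpectrum.comap (algebraMap Γ(X, U) (Localization.Away g))) := by
      rw [hrange]; exact hgq
    exact this
  have hjq' : j.base q' = hU.fromSpec.base q := by
    show hU.fromSpec.base ((Spec.map (CommRingCat.ofHom
      (algebraMap Γ(X, U) (Localization.Away g)))).base q') = _
    rw [← hq']
    rfl
  have hjU₀ : ∀ w : ↥(Spec (.of (Localization.Away g))), j.base w ∈ U₀ := by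
    intro w
    exact hUU₀ (hmemU ((Spec.map (CommRingCat.ofHom
      (algebraMap Γ(X, U) (Localization.Away g)))).base w))
  -- the polynomial ring in universe `u`
  let ρ : MvPolynomial (ULift.{u} (Fin e)) Γ(Y, V) ≃ₐ[Γ(Y, V)] MvPolynomial (Fin e) Γ(Y, V) :=
    MvPolynomial.renameEquiv Γ(Y, V) (Equiv.ulift : ULift.{u} (Fin e) ≃ Fin e)
  let φ' : MvPolynomial (ULift.{u} (Fin e)) Γ(Y, V) →+* Localization.Away g :=
    φ.toRingHom.comp ρ.toRingEquiv.toRingHom
  have hφ'qf : φ'.QuasiFinite := RingHom.QuasiFinite.respectsIso.2 _ ρ.toRingEquiv hφqf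
  have hφ'ft : φ'.FiniteType := RingHom.finiteType_respectsIso.2 _ ρ.toRingEquiv hφft
  have hφ'C : ∀ r : Γ(Y, V), φ' (algebraMap Γ(Y, V) _ r) =
      algebraMap Γ(Y, V) (Localization.Away g) r := by
    intro r
    show φ (ρ (algebraMap Γ(Y, V) _ r)) = _
    rw [AlgEquiv.commutes, AlgHom.commutes]
  let G : Spec (.of (Localization.Away g)) ⟶
      Spec (.of (MvPolynomial (ULift.{u} (Fin e)) Γ(Y, V))) := Spec.map (CommRingCat.ofHom φ')
  let π : Spec (.of (MvPolynomial (ULift.{u} (Fin e)) Γ(Y, V))) ⟶ Spec Γ(Y, V) :=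
    Spec.map (CommRingCat.ofHom (algebraMap Γ(Y, V) (MvPolynomial (ULift.{u} (Fin e)) Γ(Y, V))))
  have hfac : j ≫ f = G ≫ π ≫ hV.fromSpec := by
    have h1 := IsAffineOpen.SpecMap_appLE_fromSpec f hV hU hUV
    show (Spec.map _ ≫ hU.fromSpec) ≫ f = Spec.map _ ≫ Spec.map _ ≫ hV.fromSpec
    rw [Category.assoc, ← h1, ← Category.assoc, ← Category.assoc, ← Spec.map_comp, ← Spec.map_comp]
    congr 2
    ext r
    show algebraMap Γ(X, U) (Localization.Away g) ((f.appLE V U hUV).hom r) =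
      φ' (algebraMap Γ(Y, V) _ r)
    rw [hφ'C]
    exact (IsScalarTower.algebraMap_apply Γ(Y, V) Γ(X, U) (Localization.Away g) r).symm
  haveI : Algebra.FiniteType Γ(Y, V) (Localization.Away g) :=
    Algebra.FiniteType.trans (R := Γ(Y, V)) (S := Γ(X, U)) (A := Localization.Away g)
      inferInstance inferInstance
  -- maximal points map to maximal points
  have hdom : ∀ w : ↥(Spec (.of (Localization.Away g))), IsMaxPt w → IsMaxPt (G.base w) := by
    intro w hw
    set ξ' : PrimeSpectrum (Localization.Away g) := w with hξ'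
    have hξmin : ∀ q₁ : PrimeSpectrum (Localization.Away g), q₁ ≤ ξ' → q₁ = ξ' := by
      intro q₁ hle
      have h1 : q₁ ⤳ ξ' := (PrimeSpectrum.le_iff_specializes q₁ ξ').mp hle
      exact hw q₁ h1
    have hξtfd : (e : WithBot ℕ∞) ≤
        tfd (PrimeSpectrum.comap (algebraMap Γ(Y, V) (Localization.Away g))) ξ' := by
      rw [tfd_eq_of_square (PrimeSpectrum.comap (algebraMap Γ(Y, V) Γ(X, U)))
        (PrimeSpectrum.comap (algebraMap Γ(Y, V) (Localization.Away g)))
        (PrimeSpectrum.comap (algebraMap Γ(X, U) (Localization.Away g))) id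
        (PrimeSpectrum.localization_away_isOpenEmbedding (Localization.Away g) g)
        Function.injective_id (fun a' => by
          simp only [id]
          rw [IsScalarTower.algebraMap_eq Γ(Y, V) Γ(X, U) (Localization.Away g),
            PrimeSpectrum.comap_comp_apply]) ξ']
      exact (htfd _).ge
    have hM := comap_eq_map_C_of_le_tfd e φ hφqf ξ' hξmin hξtfd
    -- `j ξ'` is a maximal point of `X`
    have hjmax : ∀ t : X, t ⤳ j.base w → t = j.base w := by
      intro t ht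
      have htr : t ∈ Set.range j.base :=
        ht.mem_open j.isOpenEmbedding.isOpen_range (Set.mem_range_self w)
      obtain ⟨t', rfl⟩ := htr
      have := j.isOpenEmbedding.isInducing.specializes_iff.mp ht
      rw [hw t' this]
    have hfmax : IsMaxPt (f.base (j.base w)) := hmaxU₀ _ (hjU₀ w) hjmax
    -- the image of `ξ'` in `Spec R`
    set r₀ : PrimeSpectrum Γ(Y, V) :=
      PrimeSpectrum.comap (algebraMap Γ(Y, V) (Localization.Away g)) ξ' with hr₀
    have h4 : f.base (j.base w) = hV.fromSpec.base r₀ := by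
      rw [← Scheme.Hom.comp_apply, hfac]
      show hV.fromSpec.base (π.base (G.base ξ')) = _
      congr 1
      show PrimeSpectrum.comap (algebraMap Γ(Y, V) _) (PrimeSpectrum.comap φ' ξ') = _
      rw [← PrimeSpectrum.comap_comp_apply]
      congr 1
      ext r
      exact hφ'C r
    have hr₀max : ∀ s : PrimeSpectrum Γ(Y, V), s ≤ r₀ → s = r₀ := by
      intro s hs
      have h1 : s ⤳ r₀ := (PrimeSpectrum.le_iff_specializes s r₀).mp hs
      have h2 : hV.fromSpec.base s ⤳ hV.fromSpec.base r₀ := h1.map hV.fromSpec.continuous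
      rw [← h4] at h2
      have h3 := hfmax _ h2
      rw [h4] at h3
      exact hV.fromSpec.isOpenEmbedding.injective h3
    -- maximality of `G ξ'`
    intro P' hP'
    let P'' : PrimeSpectrum (MvPolynomial (ULift.{u} (Fin e)) Γ(Y, V)) := P'
    let ζ' : PrimeSpectrum (MvPolynomial (ULift.{u} (Fin e)) Γ(Y, V)) := PrimeSpectrum.comap φ' ξ'
    have hP'' : P'' ⤳ ζ' := hP'
    have hle : P''.asIdeal ≤ ζ'.asIdeal := (PrimeSpectrum.le_iff_specializes P'' ζ').mpr hP''
    have hP'R : PrimeSpectrum.comap (algebraMap Γ(Y, V)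
        (MvPolynomial (ULift.{u} (Fin e)) Γ(Y, V))) P'' = r₀ := by
      apply hr₀max
      intro r hr
      have h1 : algebraMap Γ(Y, V) _ r ∈ ζ'.asIdeal := hle hr
      have h2 : φ' (algebraMap Γ(Y, V) _ r) ∈ ξ'.asIdeal := h1
      rw [hφ'C] at h2
      exact h2
    have hge : ζ'.asIdeal ≤ P''.asIdeal := by
      intro b hb
      have hb' : ρ b ∈ ξ'.asIdeal.comap φ.toRingHom := hb
      rw [hM] at hb'
      let P : Ideal (MvPolynomial (Fin e) Γ(Y, V)) :=
        Ideal.comap ρ.symm.toRingEquiv.toRingHom P''.asIdeal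
      have h1 : Ideal.map (MvPolynomial.C : Γ(Y, V) →+* MvPolynomial (Fin e) Γ(Y, V))
          (ξ'.asIdeal.under Γ(Y, V)) ≤ P := by
        rw [Ideal.map_le_iff_le_comap]
        intro r hr
        have hr' : r ∈ r₀.asIdeal := hr
        rw [← hP'R] at hr'
        have h2 : algebraMap Γ(Y, V) (MvPolynomial (ULift.{u} (Fin e)) Γ(Y, V)) r ∈
            P''.asIdeal := hr'
        show ρ.symm (MvPolynomial.C r) ∈ P''.asIdeal
        have h3 : ρ.symm (MvPolynomial.C r) =
            algebraMap Γ(Y, V) (MvPolynomial (ULift.{u} (Fin e)) Γ(Y, V)) r :=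
          ρ.symm.commutes r
        rw [h3]
        exact h2
      have h2 : ρ b ∈ P := h1 hb'
      have h3 : ρ.symm (ρ b) ∈ P''.asIdeal := h2
      rwa [AlgEquiv.symm_apply_apply] at h3
    show P'' = ζ'
    exact PrimeSpectrum.ext (le_antisymm hle hge)
  exact ⟨V, hV, .of (Localization.Away g), j, G, hjo, ⟨q', hjq'⟩, hjU₀, hfac,
    (HasRingHomProperty.Spec_iff (P := @LocallyQuasiFinite)).mpr hφ'qf,
    (HasRingHomProperty.Spec_iff (P := @LocallyOfFiniteType)).mpr hφ'ft, hdom⟩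

end Groth.Agent.H69.Chev
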