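import Groth.Agent.H9.FibDimTop
import Groth.Agent.H9.LocalDimField

/-! Ring-level input for Chevalley's criterion: a quasi-finite map from a polynomial ring in `e`
variables sends a minimal prime with fibre dimension `≥ e` to the extension of its contraction. -/

set_option autoImplicit false
set_option linter.style.haveILetI false
set_option linter.unusedSectionVars false

universe u

open TensorProduct MvPolynomial

namespace Groth.Agent.H69.Chev

open Groth.Agent.H9.FibDim Groth.Agent.H9.LocalDimField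

/-- For a quasi-finite algebra map, the induced map on the spectra of the fibre rings is strictly
monotone. -/
theorem strictMono_comap_fiber {R B S' : Type u} [CommRing R] [CommRing B] [CommRing S']
    [Algebra R B] [Algebra R S'] (φ : B →ₐ[R] S') (hφ : φ.toRingHom.QuasiFinite)
    (p : Ideal R) [p.IsPrime] :
    StrictMono (PrimeSpectrum.comap
      (Algebra.TensorProduct.map (AlgHom.id p.ResidueField p.ResidueField) φ).toRingHom) := by
  set κ := p.ResidueField
  let θ : κ ⊗[R] B →ₐ[κ] κ ⊗[R] S' := Algebra.TensorProduct.map (AlgHom.id κ κ) φ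
  letI algB : Algebra B S' := φ.toRingHom.toAlgebra
  haveI hqf : Algebra.QuasiFinite B S' := hφ
  intro Q₁ Q₂ hlt
  have hle0 : PrimeSpectrum.comap θ.toRingHom Q₁ ≤ PrimeSpectrum.comap θ.toRingHom Q₂ := by
    show (PrimeSpectrum.comap θ.toRingHom Q₁).asIdeal ≤ (PrimeSpectrum.comap θ.toRingHom Q₂).asIdeal
    exact Ideal.comap_mono hlt.le
  refine lt_of_le_of_ne hle0 ?_
  intro heq
  apply hlt.ne
  let q₁ : Ideal S' := Q₁.asIdeal.comap Algebra.TensorProduct.includeRight.toRingHom
  let q₂ : Ideal S' := Q₂.asIdeal.comap Algebra.TensorProduct.includeRight.toRingHom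
  have hle : q₁ ≤ q₂ := Ideal.comap_mono hlt.le
  have hsq : ∀ (Q : PrimeSpectrum (κ ⊗[R] S')),
      (Q.asIdeal.comap Algebra.TensorProduct.includeRight.toRingHom).under B =
      ((PrimeSpectrum.comap θ.toRingHom Q).asIdeal).comap
        (Algebra.TensorProduct.includeRight : B →ₐ[R] κ ⊗[R] B).toRingHom := by
    intro Q
    ext b
    simp only [Ideal.under, Ideal.mem_comap, PrimeSpectrum.comap_asIdeal]
    have : θ.toRingHom ((Algebra.TensorProduct.includeRight : B →ₐ[R] κ ⊗[R] B).toRingHom b) =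
        (Algebra.TensorProduct.includeRight : S' →ₐ[R] κ ⊗[R] S').toRingHom (algebraMap B S' b) := by
      simp [θ]
      rfl
    rw [this]
  have hunder : q₁.under B = q₂.under B := by
    rw [hsq Q₁, hsq Q₂, heq]
  have hq : q₁ = q₂ := Algebra.QuasiFinite.eq_of_le_of_under_eq (R := B) q₁ q₂ hle hunder
  have hinj := (PrimeSpectrum.preimageEquivFiber R S' ⟨p, inferInstance⟩).symm.injective
  apply hinj
  apply Subtype.ext
  apply PrimeSpectrum.ext
  exact hq

/-- In a polynomial ring over a field in `e` variables, a prime whose quotient has dimension `≥ e`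
is zero. -/
theorem eq_bot_of_le_ringKrullDim_quotient {D : Type u} [CommRing D] [IsDomain D] (e : ℕ)
    (hD : ringKrullDim D = (e : WithBot ℕ∞)) (P : Ideal D) [P.IsPrime]
    (h : (e : WithBot ℕ∞) ≤ ringKrullDim (D ⧸ P)) : P = ⊥ := by
  by_contra hne
  obtain ⟨r, hrP, hr0⟩ := Submodule.exists_mem_ne_zero_of_ne_bot hne
  have hr : r ∈ nonZeroDivisors D := mem_nonZeroDivisors_of_ne_zero hr0
  have h1 := ringKrullDim_quotient_succ_le_of_nonZeroDivisor hr
  have h2 : ringKrullDim (D ⧸ P) ≤ ringKrullDim (D ⧸ Ideal.span {r}) :=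
    ringKrullDim_le_of_surjective (Ideal.Quotient.factor
      ((Ideal.span_singleton_le_iff_mem (I := P)).mpr hrP))
      (Ideal.Quotient.factor_surjective _)
  rw [hD] at h1
  have h3 : ((e : ℕ) : WithBot ℕ∞) + 1 ≤ (e : WithBot ℕ∞) :=
    (add_le_add_left (h.trans h2) 1).trans h1
  have h4 : ((e + 1 : ℕ) : WithBot ℕ∞) ≤ ((e : ℕ) : WithBot ℕ∞) := by
    push_cast
    exact h3
  have h5 : e + 1 ≤ e := by exact_mod_cast h4
  omega

theorem comap_eq_map_C_of_le_tfd {R S' : Type u} [CommRing R] [CommRing S'] [Algebra R S']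
    [Algebra.FiniteType R S'] (e : ℕ) (φ : MvPolynomial (Fin e) R →ₐ[R] S')
    (hφ : φ.toRingHom.QuasiFinite) (q' : PrimeSpectrum S')
    (hmin : ∀ q₁ : PrimeSpectrum S', q₁ ≤ q' → q₁ = q')
    (hdim : (e : WithBot ℕ∞) ≤ tfd (PrimeSpectrum.comap (algebraMap R S')) q') :
    q'.asIdeal.comap φ.toRingHom =
      Ideal.map (C : R →+* MvPolynomial (Fin e) R) (q'.asIdeal.under R) := by
  set p := q'.asIdeal.under R with hp
  set κ := p.ResidueField
  set B := MvPolynomial (Fin e) R
  obtain ⟨Q, hQ⟩ := exists_fiber_prime p q'.asIdeal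
  have h1 : (e : WithBot ℕ∞) ≤ FlatMor.localDim (PrimeSpectrum (p.Fiber S')) Q := by
    rw [localDim_fiber_eq_tfd p q' rfl Q hQ]; exact hdim
  have hinj := (PrimeSpectrum.preimageEquivFiber R S' ⟨p, inferInstance⟩).symm.injective
  have hQmin : ∀ Q₀ : PrimeSpectrum (p.Fiber S'), Q₀ ≤ Q → Q₀ = Q := by
    intro Q₀ hle
    have hle' : Q₀.asIdeal.comap Algebra.TensorProduct.includeRight.toRingHom ≤ q'.asIdeal :=
      (Ideal.comap_mono hle).trans hQ.le
    have heq := hmin ⟨Q₀.asIdeal.comap Algebra.TensorProduct.includeRight.toRingHom,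
      inferInstance⟩ hle'
    apply hinj
    apply Subtype.ext
    apply PrimeSpectrum.ext
    show Q₀.asIdeal.comap Algebra.TensorProduct.includeRight.toRingHom =
      Q.asIdeal.comap Algebra.TensorProduct.includeRight.toRingHom
    rw [hQ]
    exact congrArg PrimeSpectrum.asIdeal heq
  rw [localDim_eq_iSup κ (p.Fiber S') Q] at h1
  have h2 : (e : WithBot ℕ∞) ≤ ringKrullDim (p.Fiber S' ⧸ Q.asIdeal) := by
    refine h1.trans (iSup_le ?_)
    rintro ⟨Q₀, -, hle⟩
    show ringKrullDim (_ ⧸ Q₀.asIdeal) ≤ _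
    rw [hQmin Q₀ hle]
  rw [ringKrullDim_quotient_eq_coheight] at h2
  let θ : κ ⊗[R] B →ₐ[κ] κ ⊗[R] S' := Algebra.TensorProduct.map (AlgHom.id κ κ) φ
  have hmono := strictMono_comap_fiber φ hφ p
  have h3 := Order.coheight_le_coheight_apply_of_strictMono _ hmono Q
  set P₀ := PrimeSpectrum.comap θ.toRingHom Q with hP₀def
  have h4 : (e : WithBot ℕ∞) ≤ ringKrullDim ((κ ⊗[R] B) ⧸ P₀.asIdeal) := by
    rw [ringKrullDim_quotient_eq_coheight]
    refine h2.trans ?_
    exact_mod_cast h3
  have hBκ : ringKrullDim (κ ⊗[R] B) = (e : WithBot ℕ∞) := by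
    rw [ringKrullDim_eq_of_ringEquiv (MvPolynomial.algebraTensorAlgEquiv R κ).toRingEquiv,
      Groth.Agent.H54.ringKrullDim_mvPolynomial_field]
  haveI : IsDomain (κ ⊗[R] B) :=
    MulEquiv.isDomain (MvPolynomial (Fin e) κ)
      (MvPolynomial.algebraTensorAlgEquiv (σ := Fin e) R κ).toRingEquiv.toMulEquiv
  have hP₀ : P₀.asIdeal = ⊥ := eq_bot_of_le_ringKrullDim_quotient e hBκ P₀.asIdeal h4
  -- compute
  have hcomm : ∀ b : B, (Algebra.TensorProduct.includeRight : S' →ₐ[R] κ ⊗[R] S') (φ b) =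
      θ ((Algebra.TensorProduct.includeRight : B →ₐ[R] κ ⊗[R] B) b) := by
    intro b
    simp [θ]
  ext b
  rw [Ideal.mem_comap, ← hQ, Ideal.mem_comap]
  have hb1 : (Algebra.TensorProduct.includeRight.toRingHom (φ.toRingHom b) ∈ Q.asIdeal) ↔
      (Algebra.TensorProduct.includeRight : B →ₐ[R] κ ⊗[R] B) b ∈ P₀.asIdeal := by
    rw [hP₀def, PrimeSpectrum.comap_asIdeal, Ideal.mem_comap]
    have := hcomm b
    constructor
    · intro h; rw [show θ.toRingHom _ = θ _ from rfl, ← this]; exact h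
    · intro h; rw [show θ.toRingHom _ = θ _ from rfl, ← this] at h; exact h
  rw [hb1, hP₀, Ideal.mem_bot]
  have hiso : (Algebra.TensorProduct.includeRight : B →ₐ[R] κ ⊗[R] B) b = 0 ↔
      MvPolynomial.map (algebraMap R κ) b = 0 := by
    rw [Algebra.TensorProduct.includeRight_apply,
      ← EmbeddingLike.map_eq_zero_iff (f := MvPolynomial.algebraTensorAlgEquiv (σ := Fin e) R κ),
      MvPolynomial.algebraTensorAlgEquiv_tmul, one_smul]
  rw [hiso, ← RingHom.mem_ker, MvPolynomial.ker_map, Ideal.ker_algebraMap_residueField]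

end Groth.Agent.H69.Chev
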