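import Mathlib
import Groth.Agent.H69.DegStrat

/-!
# Degree stratification II: lifts characterise the strata; quasi-compactness over Noetherian bases (helper69)
-/

set_option autoImplicit false
set_option linter.style.haveILetI false
universe u
open CategoryTheory AlgebraicGeometry Limits

namespace Groth.Agent.H69.DegStrat

/-- Field extensions are epimorphic on spectra, for maps into schemes. -/
theorem Spec_map_field_cancel {L L' : Type u} [Field L] [Field L']
    (α : Spec (CommRingCat.of L') ⟶ Spec (CommRingCat.of L)) {Y : Scheme.{u}}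
    (σ₁ σ₂ : Spec (CommRingCat.of L) ⟶ Y) (h : α ≫ σ₁ = α ≫ σ₂) : σ₁ = σ₂ := by
  obtain ⟨ι, rfl⟩ : ∃ ι, Spec.map ι = α := ⟨Spec.preimage α, Spec.map_preimage α⟩
  have hmono : Mono ι := by
    have hinj : Function.Injective ι.hom := (ι.hom : L →+* L').injective
    exact ConcreteCategory.mono_of_injective ι hinj
  have e1 : σ₁ = (Scheme.SpecToEquivOfField L Y).symm (Scheme.SpecToEquivOfField L Y σ₁) :=
    ((Scheme.SpecToEquivOfField L Y).symm_apply_apply σ₁).symm
  have e2 : σ₂ = (Scheme.SpecToEquivOfField L Y).symm (Scheme.SpecToEquivOfField L Y σ₂) :=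
    ((Scheme.SpecToEquivOfField L Y).symm_apply_apply σ₂).symm
  set p₁ := Scheme.SpecToEquivOfField L Y σ₁ with hp₁
  set p₂ := Scheme.SpecToEquivOfField L Y σ₂ with hp₂
  have h1 : (Scheme.SpecToEquivOfField L' Y).symm ⟨p₁.1, p₁.2 ≫ ι⟩ =
      (Scheme.SpecToEquivOfField L' Y).symm ⟨p₂.1, p₂.2 ≫ ι⟩ := by
    simp only [Scheme.SpecToEquivOfField_symm_apply, Spec.map_comp, Category.assoc]
    have a1 : Spec.map p₁.2 ≫ Y.fromSpecResidueField p₁.1 = σ₁ := by
      rw [e1]; rfl
    have a2 : Spec.map p₂.2 ≫ Y.fromSpecResidueField p₂.1 = σ₂ := by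
      rw [e2]; rfl
    rw [a1, a2]; exact h
  have h2 := (Scheme.SpecToEquivOfField L' Y).symm.injective h1
  rw [Scheme.SpecToEquivOfField_eq_iff] at h2
  obtain ⟨e, he⟩ := h2
  have h3 : p₁ = p₂ := by
    rw [Scheme.SpecToEquivOfField_eq_iff]
    refine ⟨e, ?_⟩
    simp only at he
    rw [← Category.assoc] at he
    exact (cancel_mono ι).1 he
  rw [e1, e2, h3]

variable {Y U : Scheme.{u}}

/-- Distinct lifts over a field witness membership in the degree strata. -/
theorem mem_degGE_of_lifts (n : ℕ) : ∀ {Y U : Scheme.{u}} (g : Y ⟶ U) [Etale g] [IsSeparated g]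
    {L : Type u} [Field L] (ρ : Spec (CommRingCat.of L) ⟶ U)
    (σ : Fin n → (Spec (CommRingCat.of L) ⟶ Y)), (∀ i, σ i ≫ g = ρ) → Function.Injective σ →
    ∀ s₀ : ↥(Spec (CommRingCat.of L)), ρ s₀ ∈ degGE n g := by
  induction n with
  | zero => intro Y U g _ _ L _ ρ σ _ _ s₀; exact Set.mem_univ _
  | succ n ih =>
    intro Y U g _ _ L _ ρ σ hσ hinj s₀
    haveI : Subsingleton ↥(Spec (CommRingCat.of L)) :=
      inferInstanceAs (Subsingleton (PrimeSpectrum L))
    let τ : Fin n → (Spec (CommRingCat.of L) ⟶ pullback g g) := fun i =>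
      pullback.lift (σ 0) (σ i.succ) (by rw [hσ, hσ])
    have hτoff : ∀ i, Set.range (τ i) ⊆ Set.range (offDiag g).ι := by
      intro i
      rintro _ ⟨s, rfl⟩
      rw [Scheme.Opens.range_ι]
      change τ i s ∈ offDiag g
      rw [mem_offDiag_iff]
      intro hmem
      have hsub : Set.range (τ i) ⊆ Set.range (pullback.diagonal g) := by
        rintro _ ⟨s', rfl⟩
        rw [Subsingleton.elim s' s]; exact hmem
      have hfac : IsOpenImmersion.lift (pullback.diagonal g) (τ i) hsub ≫ pullback.diagonal g =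
          τ i := IsOpenImmersion.lift_fac _ _ _
      have h1 : σ 0 = IsOpenImmersion.lift (pullback.diagonal g) (τ i) hsub := by
        have := congrArg (fun k => k ≫ pullback.fst g g) hfac
        simp only [Category.assoc, pullback.diagonal_fst, Category.comp_id] at this
        rw [this]; exact (pullback.lift_fst _ _ _).symm
      have h2 : σ i.succ = IsOpenImmersion.lift (pullback.diagonal g) (τ i) hsub := by
        have := congrArg (fun k => k ≫ pullback.snd g g) hfac
        simp only [Category.assoc, pullback.diagonal_snd, Category.comp_id] at this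
        rw [this]; exact (pullback.lift_snd _ _ _).symm
      exact (Fin.succ_ne_zero i) (hinj (h2.trans h1.symm))
    let σ' : Fin n → (Spec (CommRingCat.of L) ⟶ (offDiag g).toScheme) := fun i =>
      IsOpenImmersion.lift (offDiag g).ι (τ i) (hτoff i)
    have hσ'fac : ∀ i, σ' i ≫ (offDiag g).ι = τ i := fun i => IsOpenImmersion.lift_fac _ _ _
    have h1 : ∀ i, σ' i ≫ offDiagFst g = σ 0 := by
      intro i
      change σ' i ≫ (offDiag g).ι ≫ pullback.fst g g = σ 0
      rw [← Category.assoc, hσ'fac]
      exact pullback.lift_fst _ _ _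
    have h2 : Function.Injective σ' := by
      intro i j hij
      have e : τ i = τ j := by rw [← hσ'fac i, ← hσ'fac j, hij]
      have e' := congrArg (fun k => k ≫ pullback.snd g g) e
      simp only [τ, pullback.lift_snd] at e'
      exact Fin.succ_injective _ (hinj e')
    have := ih (offDiagFst g) (σ 0) σ' h1 h2 s₀
    rw [degGE_succ]
    refine ⟨σ 0 s₀, this, ?_⟩
    rw [← hσ 0]; rfl

/-- Fibres outside a degree stratum are finite. -/
theorem finite_fibre_of_notMem_degGE (g : Y ⟶ U) [IsSeparated g] (u : ↥U) (n : ℕ)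
    (h : u ∉ degGE (n + 1) g) : (g ⁻¹' {u}).Finite := by
  by_contra hinf
  obtain ⟨F, hF, hFc⟩ := (Set.not_finite.1 hinf).exists_subset_card_eq (n + 1)
  exact h (mem_degGE_of_card (n + 1) g u F (fun y hy => hF hy) hFc.ge)

end Groth.Agent.H69.DegStrat
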