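import Mathlib
import Groth.Agent.H69.DegStrat2

/-!
# Degree stratification III: étale separated with finite degrees over a Noetherian base is quasi-compact (helper69)
-/

set_option autoImplicit false
set_option linter.style.haveILetI false
universe u
open CategoryTheory AlgebraicGeometry Limits TopologicalSpace

namespace Groth.Agent.H69.DegStrat

variable {W U : Scheme.{u}}

/-- Key step: over an irreducible closed `Z` with generic point `ζ`, outside a proper closed subset the fibres of
`g` are contained in a fixed quasi-compact open neighbourhood of the generic fibre. -/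
theorem exists_open_fibres_subset (g : W ⟶ U) [Etale g] [IsSeparated g]
    (ζ : ↥U) (e : ℕ) (h1 : ζ ∈ degGE e g) (h2 : ζ ∉ degGE (e + 1) g)
    (N : W.Opens) (hN : g ⁻¹' {ζ} ⊆ (N : Set ↥W)) :
    ∃ O : Set ↥U, IsOpen O ∧ ζ ∈ O ∧ ∀ z ∈ O, ζ ⤳ z → g ⁻¹' {z} ⊆ (N : Set ↥W) := by
  let gN : N.toScheme ⟶ U := N.ι ≫ g
  haveI : Etale gN := by unfold gN; infer_instance
  haveI : IsSeparated gN := by unfold gN; infer_instance
  -- the generic point has degree `e` already on `N`
  have hζN : ζ ∈ degGE e gN := by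
    obtain ⟨L, _, ρ, σ, hρ, hσ, hinj⟩ := exists_lifts_of_mem_degGE e g ζ h1
    have hr : ∀ i, Set.range (σ i) ⊆ Set.range N.ι := by
      intro i
      rintro _ ⟨s, rfl⟩
      rw [Scheme.Opens.range_ι]
      apply hN
      change g (σ i s) = ζ
      rw [← Scheme.Hom.comp_apply, hσ i, hρ s]
    let σ' : Fin e → (Spec (CommRingCat.of L) ⟶ N.toScheme) := fun i =>
      IsOpenImmersion.lift N.ι (σ i) (hr i)
    have hfac : ∀ i, σ' i ≫ N.ι = σ i := fun i => IsOpenImmersion.lift_fac _ _ _
    let s₀ : ↥(Spec (CommRingCat.of L)) := (IsLocalRing.closedPoint L : PrimeSpectrum L)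
    have := mem_degGE_of_lifts e gN ρ σ' (fun i => by
      change σ' i ≫ N.ι ≫ g = ρ
      rw [← Category.assoc, hfac, hσ i]) (fun i j hij => hinj (by rw [← hfac i, ← hfac j, hij])) s₀
    rwa [hρ s₀] at this
  refine ⟨degGE e gN, isOpen_degGE e gN, hζN, ?_⟩
  intro z hz hζz w hw
  by_contra hwN
  apply h2
  -- it suffices to show `z ∈ degGE (e+1) g`
  suffices hz' : z ∈ degGE (e + 1) g from hζz.mem_open (isOpen_degGE (e + 1) g) hz'
  obtain ⟨L, _, ρ, σ, hρ, hσ, hinj⟩ := exists_lifts_of_mem_degGE e gN z hz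
  let s₀ : ↥(Spec (CommRingCat.of L)) := (IsLocalRing.closedPoint L : PrimeSpectrum L)
  let wpt : Spec (W.residueField w) ⟶ W := W.fromSpecResidueField w
  let w₀ : ↥(Spec (W.residueField w)) := (IsLocalRing.closedPoint (W.residueField w) :
    PrimeSpectrum (W.residueField w))
  have hwpt : wpt w₀ = w := Scheme.fromSpecResidueField_apply _ _
  have hgw : g w = z := hw
  obtain ⟨t, -, -⟩ := Scheme.Pullback.exists_preimage_pullback (f := ρ) (g := wpt ≫ g) s₀ w₀ (by
    rw [hρ s₀, Scheme.Hom.comp_apply, hwpt, hgw])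
  let P := pullback ρ (wpt ≫ g)
  let L' := P.residueField t
  let β : Spec L' ⟶ P := P.fromSpecResidueField t
  let β₁ : Spec L' ⟶ Spec (CommRingCat.of L) := β ≫ pullback.fst ρ (wpt ≫ g)
  let β₂ : Spec L' ⟶ Spec (W.residueField w) := β ≫ pullback.snd ρ (wpt ≫ g)
  have hβ : β₁ ≫ ρ = β₂ ≫ wpt ≫ g := by
    simp only [β₁, β₂, Category.assoc, pullback.condition]
  let σ'' : Fin (e + 1) → (Spec (CommRingCat.of (↑L' : Type u)) ⟶ W) :=
    Fin.cons (β₂ ≫ wpt) (fun i => β₁ ≫ σ i ≫ N.ι)
  let t₀ : ↥(Spec (CommRingCat.of (↑L' : Type u))) :=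
    (IsLocalRing.closedPoint (↑L' : Type u) : PrimeSpectrum (↑L' : Type u))
  have key := mem_degGE_of_lifts (e + 1) g (L := (↑L' : Type u)) (β₁ ≫ ρ) σ'' ?_ ?_ t₀
  · rwa [Scheme.Hom.comp_apply, hρ] at key
  · intro i
    refine Fin.cases ?_ (fun j => ?_) i
    · simp only [σ'', Fin.cons_zero, Category.assoc]
      exact hβ.symm
    · simp only [σ'', Fin.cons_succ, Category.assoc]
      have : σ j ≫ N.ι ≫ g = ρ := hσ j
      rw [this]
  · intro i j hij
    induction i using Fin.cases with
    | zero =>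
      induction j using Fin.cases with
      | zero => rfl
      | succ j =>
        exfalso
        simp only [σ'', Fin.cons_zero, Fin.cons_succ] at hij
        have h3 := congrArg (fun k : Spec (CommRingCat.of (↑L' : Type u)) ⟶ W => k t₀) hij
        simp only [Scheme.Hom.comp_apply] at h3
        have h4 : wpt (β₂ t₀) = w := by
          have : β₂ t₀ = w₀ := Subsingleton.elim (α := PrimeSpectrum (W.residueField w)) _ _
          rw [this, hwpt]
        rw [h4] at h3
        apply hwN
        rw [h3]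
        exact ((σ j) (β₁ t₀)).2
    | succ i =>
      induction j using Fin.cases with
      | zero =>
        exfalso
        simp only [σ'', Fin.cons_zero, Fin.cons_succ] at hij
        have h3 := congrArg (fun k : Spec (CommRingCat.of (↑L' : Type u)) ⟶ W => k t₀) hij
        simp only [Scheme.Hom.comp_apply] at h3
        have h4 : wpt (β₂ t₀) = w := by
          have : β₂ t₀ = w₀ := Subsingleton.elim (α := PrimeSpectrum (W.residueField w)) _ _
          rw [this, hwpt]
        rw [h4] at h3
        apply hwN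
        rw [← h3]
        exact ((σ i) (β₁ t₀)).2
      | succ j =>
        simp only [σ'', Fin.cons_succ] at hij
        have h5 : σ i ≫ N.ι = σ j ≫ N.ι := Spec_map_field_cancel β₁ _ _ hij
        have h6 : σ i = σ j := (cancel_mono N.ι).1 h5
        rw [hinj h6]

/-- An étale separated morphism with pointwise finite degrees over a Noetherian base has quasi-compact preimages
of closed sets. -/
theorem isCompact_preimage_closeds (g : W ⟶ U) [Etale g] [IsSeparated g] [NoetherianSpace ↥U]
    (hfin : ∀ u : ↥U, ∃ n, u ∉ degGE n g) (Z : Closeds ↥U) :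
    IsCompact (g ⁻¹' (Z : Set ↥U)) := by
  induction Z using WellFoundedLT.induction with
  | ind Z ih =>
  by_cases hne : (Z : Set ↥U).Nonempty
  swap
  · rw [Set.not_nonempty_iff_eq_empty.1 hne, Set.preimage_empty]
    exact isCompact_empty
  by_cases hirr : IsPreirreducible (Z : Set ↥U)
  · -- irreducible case
    have hZirr : IsIrreducible (Z : Set ↥U) := ⟨hne, hirr⟩
    obtain ⟨ζ, hζ⟩ := QuasiSober.sober hZirr Z.isClosed
    classical
    have hn₀ := Nat.find_spec (hfin ζ)
    set n₀ := Nat.find (hfin ζ) with hn₀def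
    have hn₀pos : n₀ ≠ 0 := by
      intro h0
      rw [h0] at hn₀
      exact hn₀ (Set.mem_univ _)
    obtain ⟨e, he⟩ : ∃ e, n₀ = e + 1 := Nat.exists_eq_succ_of_ne_zero hn₀pos
    have h1 : ζ ∈ degGE e g := by
      by_contra hcon
      have := Nat.find_min' (hfin ζ) hcon
      omega
    have h2 : ζ ∉ degGE (e + 1) g := by rw [← he]; exact hn₀
    have hFfin : (g ⁻¹' {ζ}).Finite := finite_fibre_of_notMem_degGE g ζ e h2
    -- quasi-compact open neighbourhood of the generic fibre
    have haff : ∀ w : ↥W, ∃ V : W.Opens, IsAffineOpen V ∧ w ∈ V := by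
      intro w
      obtain ⟨_, ⟨V, hV, rfl⟩, hwV, -⟩ :=
        W.isBasis_affineOpens.exists_subset_of_mem_open (Set.mem_univ w) isOpen_univ
      exact ⟨V, hV, hwV⟩
    choose V hV hwV using haff
    let N : W.Opens := ⨆ w ∈ hFfin.toFinset, V w
    have hNc : IsCompact (N : Set ↥W) := by
      have : (N : Set ↥W) = ⋃ w ∈ hFfin.toFinset, (V w : Set ↥W) := by
        simp only [N, Opens.coe_iSup]
      rw [this]
      exact hFfin.toFinset.isCompact_biUnion fun w _ => (hV w).isCompact
    have hN : g ⁻¹' {ζ} ⊆ (N : Set ↥W) := by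
      intro w hw
      have : w ∈ hFfin.toFinset := hFfin.mem_toFinset.2 hw
      simp only [N, Opens.coe_iSup, Set.mem_iUnion]
      exact ⟨w, this, hwV w⟩
    obtain ⟨O, hO, hζO, hOfib⟩ := exists_open_fibres_subset g ζ e h1 h2 N hN
    let Z' : Closeds ↥U := ⟨(Z : Set ↥U) ∩ Oᶜ, Z.isClosed.inter hO.isClosed_compl⟩
    have hζZ : ζ ∈ (Z : Set ↥U) := hζ.mem
    have hZ'lt : Z' < Z := by
      refine lt_of_le_of_ne (fun x hx => hx.1) ?_
      intro heq
      have : ζ ∈ (Z' : Set ↥U) := by rw [heq]; exact hζZ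
      exact this.2 hζO
    have hc' := ih Z' hZ'lt
    have hsub : g ⁻¹' (Z : Set ↥U) =
        ((N : Set ↥W) ∩ g ⁻¹' (Z : Set ↥U)) ∪ g ⁻¹' (Z' : Set ↥U) := by
      ext w
      constructor
      · intro hw
        by_cases hwO : g w ∈ O
        · left
          refine ⟨?_, hw⟩
          have hsp : ζ ⤳ g w := hζ.specializes hw
          exact hOfib (g w) hwO hsp rfl
        · right
          exact ⟨hw, hwO⟩
      · rintro (⟨-, hw⟩ | hw)
        · exact hw
        · exact hw.1
    rw [hsub]
    exact (hNc.inter_right (Z.isClosed.preimage g.continuous)).union hc'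
  · -- reducible case
    rw [isPreirreducible_iff_isClosed_union_isClosed] at hirr
    push Not at hirr
    obtain ⟨Z₁, Z₂, hZ₁, hZ₂, hcov, hn1, hn2⟩ := hirr
    let Y₁ : Closeds ↥U := ⟨(Z : Set ↥U) ∩ Z₁, Z.isClosed.inter hZ₁⟩
    let Y₂ : Closeds ↥U := ⟨(Z : Set ↥U) ∩ Z₂, Z.isClosed.inter hZ₂⟩
    have hY₁ : Y₁ < Z := by
      refine lt_of_le_of_ne (fun x hx => hx.1) ?_
      intro heq
      apply hn1
      intro x hx
      have : x ∈ (Y₁ : Set ↥U) := by rw [heq]; exact hx
      exact this.2
    have hY₂ : Y₂ < Z := by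
      refine lt_of_le_of_ne (fun x hx => hx.1) ?_
      intro heq
      apply hn2
      intro x hx
      have : x ∈ (Y₂ : Set ↥U) := by rw [heq]; exact hx
      exact this.2
    have hsub : g ⁻¹' (Z : Set ↥U) = g ⁻¹' (Y₁ : Set ↥U) ∪ g ⁻¹' (Y₂ : Set ↥U) := by
      ext w
      constructor
      · intro hw
        rcases hcov hw with h | h
        · exact Or.inl ⟨hw, h⟩
        · exact Or.inr ⟨hw, h⟩
      · rintro (hw | hw)
        · exact hw.1
        · exact hw.1
    rw [hsub]
    exact (ih Y₁ hY₁).union (ih Y₂ hY₂)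

/-- An étale separated morphism with pointwise finite degrees over a Noetherian base has quasi-compact source. -/
theorem compactSpace_of_pointwise_finite (g : W ⟶ U) [Etale g] [IsSeparated g] [NoetherianSpace ↥U]
    (hfin : ∀ u : ↥U, ∃ n, u ∉ degGE n g) : CompactSpace ↥W := by
  have := isCompact_preimage_closeds g hfin ⊤
  rw [Closeds.coe_top, Set.preimage_univ] at this
  exact isCompact_univ_iff.1 this

end Groth.Agent.H69.DegStrat
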