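import Mathlib
import Groth.Agent.H69.DecentEtale
import Groth.Agent.H69.DegStrat3
import Groth.Agent.H52.ProdAtlas
import Groth.Agent.H52.DescCI
import Groth.Agent.H52.NoethSpec

/-!
# Locally Noetherian decent algebraic spaces are quasi-separated (helper69)
-/

set_option autoImplicit false
set_option linter.style.haveILetI false
universe u
open CategoryTheory AlgebraicGeometry Limits Opposite TopologicalSpace
open AlgSp

namespace Groth.Agent.H69.DecentNoethQS

open Groth.Agent.H69.DegStrat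

variable {S : Scheme.{u}}

/-- The class of the field point defined by a morphism from the spectrum of a field is the image of the point. -/
theorem mk_fieldPtOfHom_eq_ofPt {X : Sp S} {L : Type u} [Field L] (w : Spec (CommRingCat.of L) ⟶ S)
    (ξ : (yon S).obj (Over.mk w) ⟶ X) (s₀ : ↥(Spec (CommRingCat.of L))) :
    Points.mk (H50.fieldPtOfHom w ξ) = Points.ofPt ξ s₀ := by
  have hξ : (H50.fieldPtOfHom w ξ).toHom = ξ := H50.toHom_fieldPtOfHom _ _
  exact ((congrArg (fun z : (yon S).obj (Over.mk w) ⟶ X => Points.ofPt z s₀) hξ).symm.trans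
    (Points.ofPt_toHom (H50.fieldPtOfHom w ξ) s₀)).symm

/-- The number of lifts of a field-valued point through an étale chart from a quasi-compact scheme is bounded, over a
point represented by a quasi-compact monomorphism. -/
theorem exists_bound_chart_lifts {X : Sp S} {V : Over S} [CompactSpace ↥V.left]
    (b : (yon S).obj V ⟶ X) (hb : RepWith @Etale b) (q : FieldPt X) (hm : Mono q.toHom)
    (hqc : RepWith @QuasiCompact q.toHom) :
    ∃ d : ℕ, ∀ (L : Type u) [Field L] (w : Spec (CommRingCat.of L) ⟶ S)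
      (ξ : (yon S).obj (Over.mk w) ⟶ X), Points.mk (H50.fieldPtOfHom w ξ) = Points.mk q →
      ∀ (n : ℕ) (lam : Fin n → (Over.mk w ⟶ V)), (∀ k, (yon S).map (lam k) ≫ b = ξ) →
      Function.Injective lam → n ≤ d := by
  obtain ⟨F, ψ, fst, sqF⟩ := hqc.1 b
  have hψ : QuasiCompact ψ.left := hqc.2 _ _ _ sqF
  obtain ⟨φ, rfl⟩ := (yon S).map_surjective fst
  have hφ : Etale φ.left := hb.2 _ _ _ sqF.flip
  haveI : CompactSpace ↥F.left := QuasiCompact.compactSpace_of_compactSpace ψ.left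
  let φl : F.left ⟶ Spec (CommRingCat.of q.K) := φ.left
  haveI : Etale φl := hφ
  haveI : LocallyQuasiFinite φl := H50.locallyQuasiFinite_of_unramified φl
  haveI : QuasiCompact φl := inferInstance
  haveI : IsLocallyArtinian (Spec (CommRingCat.of q.K)) :=
    Scheme.isLocallyArtinianScheme_Spec.2 inferInstance
  haveI : IsFinite φl := IsFinite.of_locallyQuasiFinite φl
  obtain ⟨d, hd⟩ := LiftsBound.exists_bound_lifts φl
  refine ⟨d, ?_⟩
  intro L _ w ξ hξq n lam hlam hinj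
  have hξ : (H50.fieldPtOfHom w ξ).toHom = ξ := H50.toHom_fieldPtOfHom _ _
  obtain ⟨c, hc⟩ := H52.exists_factor_of_mk_eq q (H50.fieldPtOfHom w ξ) hm hqc hξq
  change Over.mk w ⟶ q.pt at c
  have hc' : (yon S).map c ≫ q.toHom = ξ := hc.trans hξ
  have hτ : ∀ k, ∃ τ : Over.mk w ⟶ F, τ ≫ φ = c ∧ τ ≫ ψ = lam k := by
    intro k
    obtain ⟨τ, hτ⟩ := (yon S).map_surjective (sqF.lift _ _ (hc'.trans (hlam k).symm))
    refine ⟨τ, ?_, ?_⟩
    · apply (yon S).map_injective
      rw [Functor.map_comp, hτ, sqF.lift_fst]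
    · apply (yon S).map_injective
      rw [Functor.map_comp, hτ, sqF.lift_snd]
  choose τ hτ1 hτ2 using hτ
  refine hd L c.left n (fun k => (τ k).left) ?_ ?_
  · intro k
    change (τ k).left ≫ φ.left = c.left
    rw [← Over.comp_left, hτ1 k]
  · intro k l hkl
    have h1 : τ k = τ l := Over.OverMorphism.ext hkl
    apply hinj
    rw [← hτ2 k, ← hτ2 l, h1]

/-- Quasi-compactness of the piece of `R = U ×_X U` over a pair of affine opens of a locally Noetherian atlas of a
decent space. -/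
theorem isCompact_piece {X : Sp S} (hX : IsDecent X) {R U : Over S} [IsLocallyNoetherian U.left]
    (p : (yon S).obj U ⟶ X) (hp : RepWith @Etale p) (s t : R ⟶ U)
    (hR : IsPullback ((yon S).map t) ((yon S).map s) p p)
    (Ui Uj : U.left.Opens) (hUi : IsAffineOpen Ui) (hUj : IsAffineOpen Uj) :
    CompactSpace ↥((t.left ⁻¹ᵁ Ui) ⊓ (s.left ⁻¹ᵁ Uj) : R.left.Opens).toScheme := by
  have ht : Etale t.left := hp.2 _ _ _ hR.flip
  set Rij : R.left.Opens := (t.left ⁻¹ᵁ Ui) ⊓ (s.left ⁻¹ᵁ Uj) with hRij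
  have hrt : Set.range (Rij.ι ≫ t.left) ⊆ Set.range Ui.ι := by
    rintro _ ⟨r, rfl⟩
    rw [Scheme.Opens.range_ι]
    exact r.2.1
  have hrs : Set.range (Rij.ι ≫ s.left) ⊆ Set.range Uj.ι := by
    rintro _ ⟨r, rfl⟩
    rw [Scheme.Opens.range_ι]
    exact r.2.2
  let g : Rij.toScheme ⟶ Ui.toScheme := IsOpenImmersion.lift Ui.ι (Rij.ι ≫ t.left) hrt
  let h : Rij.toScheme ⟶ Uj.toScheme := IsOpenImmersion.lift Uj.ι (Rij.ι ≫ s.left) hrs
  have hg : g ≫ Ui.ι = Rij.ι ≫ t.left := IsOpenImmersion.lift_fac _ _ _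
  have hh : h ≫ Uj.ι = Rij.ι ≫ s.left := IsOpenImmersion.lift_fac _ _ _
  haveI : Etale (g ≫ Ui.ι) := by rw [hg]; infer_instance
  haveI : Etale g := Etale.of_comp g Ui.ι
  haveI : IsAffine Uj.toScheme := hUj
  have hts : t.left ≫ U.hom = s.left ≫ U.hom := by rw [Over.w t, Over.w s]
  have hw : g ≫ (Ui.ι ≫ U.hom) = h ≫ (Uj.ι ≫ U.hom) := by
    rw [← Category.assoc, hg, ← Category.assoc, hh, Category.assoc, Category.assoc, hts]
  let l : Rij.toScheme ⟶ pullback (Ui.ι ≫ U.hom) (Uj.ι ≫ U.hom) := pullback.lift g h hw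
  haveI : Mono l := by
    refine ⟨fun f₁ f₂ e => ?_⟩
    have e1 : f₁ ≫ g = f₂ ≫ g := by
      have := congrArg (fun k => k ≫ pullback.fst _ _) e
      simp only [Category.assoc] at this
      rwa [pullback.lift_fst] at this
    have e2 : f₁ ≫ h = f₂ ≫ h := by
      have := congrArg (fun k => k ≫ pullback.snd _ _) e
      simp only [Category.assoc] at this
      rwa [pullback.lift_snd] at this
    have e3 : f₁ ≫ Rij.ι = f₂ ≫ Rij.ι := by
      apply DecentEtale.left_ext_of_isPullback p p t s hR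
      · rw [Category.assoc, Category.assoc, ← hg, ← Category.assoc, e1, Category.assoc]
      · rw [Category.assoc, Category.assoc, ← hh, ← Category.assoc, e2, Category.assoc]
    exact (cancel_mono Rij.ι).1 e3
  haveI : IsSeparated g := by
    have e : g = l ≫ pullback.fst _ _ := (pullback.lift_fst _ _ _).symm
    rw [e]; infer_instance
  haveI : IsNoetherianRing Γ(U.left, Ui) :=
    IsLocallyNoetherian.component_noetherian ⟨Ui, hUi⟩
  haveI : NoetherianSpace ↥Ui.toScheme := noetherianSpace_of_isAffineOpen Ui hUi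
  refine compactSpace_of_pointwise_finite g ?_
  intro u
  obtain ⟨q, hq, hm, hqc⟩ := hX (Points.ofPt p (Ui.ι u))
  let Vj : Over S := H52.overOpen U Uj
  let bj : (yon S).obj Vj ⟶ X := (yon S).map (H52.overOpenHom U Uj) ≫ p
  have hbj : RepWith @Etale bj :=
    H52.repWith_yon_map_comp @Etale _ (show Etale (Scheme.Opens.ι Uj) from inferInstance) p hp
  haveI : CompactSpace ↥Vj.left := by
    change CompactSpace ↥Uj.toScheme
    infer_instance
  obtain ⟨d, hd⟩ := exists_bound_chart_lifts bj hbj q hm hqc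
  refine ⟨d + 1, fun hu => ?_⟩
  obtain ⟨L, _, ρ, σ, hρ, hσ, hinj⟩ := exists_lifts_of_mem_degGE (d + 1) g u hu
  let w : Spec (CommRingCat.of L) ⟶ S := (ρ ≫ Ui.ι) ≫ U.hom
  let ρ'' : Over.mk w ⟶ U := Over.homMk (ρ ≫ Ui.ι) rfl
  let ξ : (yon S).obj (Over.mk w) ⟶ X := (yon S).map ρ'' ≫ p
  let s₀ : ↥(Spec (CommRingCat.of L)) := (IsLocalRing.closedPoint L : PrimeSpectrum L)
  have hξq : Points.mk (H50.fieldPtOfHom w ξ) = Points.mk q := by
    rw [mk_fieldPtOfHom_eq_ofPt w ξ s₀, hq, H52.ofPt_yon_map_comp]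
    congr 1
    change (ρ ≫ Ui.ι) s₀ = Ui.ι u
    rw [Scheme.Hom.comp_apply, hρ s₀]
  have hσt : ∀ k, (σ k ≫ Rij.ι) ≫ t.left = ρ ≫ Ui.ι := by
    intro k
    rw [Category.assoc, ← hg, ← Category.assoc, hσ k]
  have hRhom : R.hom = t.left ≫ U.hom := (Over.w t).symm
  let σ' : ∀ k, Over.mk w ⟶ R := fun k => Over.homMk (σ k ≫ Rij.ι) (by
    change (σ k ≫ Rij.ι) ≫ R.hom = (ρ ≫ Ui.ι) ≫ U.hom
    rw [hRhom, ← Category.assoc, hσt k])
  have hσ't : ∀ k, σ' k ≫ t = ρ'' := fun k => Over.OverMorphism.ext (hσt k)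
  let lam : Fin (d + 1) → (Over.mk w ⟶ Vj) := fun k => Over.homMk (σ k ≫ h) (by
    change (σ k ≫ h) ≫ (Uj.ι ≫ U.hom) = (ρ ≫ Ui.ι) ≫ U.hom
    rw [Category.assoc, ← Category.assoc h, hh, Category.assoc, ← hts, ← Category.assoc,
      ← Category.assoc, hσt k])
  have hlam1 : ∀ k, lam k ≫ H52.overOpenHom U Uj = σ' k ≫ s := by
    intro k
    apply Over.OverMorphism.ext
    change (σ k ≫ h) ≫ Uj.ι = (σ k ≫ Rij.ι) ≫ s.left
    rw [Category.assoc, hh, Category.assoc]
  have hlam : ∀ k, (yon S).map (lam k) ≫ bj = ξ := by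
    intro k
    change (yon S).map (lam k) ≫ (yon S).map (H52.overOpenHom U Uj) ≫ p = (yon S).map ρ'' ≫ p
    rw [← Category.assoc, ← Functor.map_comp, hlam1 k, Functor.map_comp, Category.assoc, ← hR.w,
      ← Category.assoc, ← Functor.map_comp, hσ't k]
  have hlaminj : Function.Injective lam := by
    intro k k' hkk
    have e2 : σ k ≫ h = σ k' ≫ h := congrArg (fun m => m.left) hkk
    have e1 : σ k ≫ g = σ k' ≫ g := by rw [hσ k, hσ k']
    have e3 : σ k ≫ l = σ k' ≫ l := by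
      apply pullback.hom_ext
      · simp only [Category.assoc, l, pullback.lift_fst]; exact e1
      · simp only [Category.assoc, l, pullback.lift_snd]; exact e2
    exact hinj ((cancel_mono l).1 e3)
  have := hd L w ξ hξq (d + 1) lam hlam hlaminj
  omega

/-- A locally Noetherian decent algebraic space is quasi-separated. -/
theorem isQuasiSeparatedSp_of_isLocNoethSp_of_isDecent {X : Sp S} (hXa : IsAlgSpace X)
    (hN : IsLocNoethSp X) (hX : IsDecent X) : IsQuasiSeparatedSp X := by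
  obtain ⟨U, p, hp, hs, hU⟩ := hN
  haveI : IsLocallyNoetherian U.left := hU
  obtain ⟨R, s, fst, hR⟩ := hp.1 p
  obtain ⟨t, rfl⟩ := (yon S).map_surjective fst
  refine H52.repWith_diag_of_atlas H52.quasiCompact_descendsAlong_fppf hXa.diag p hp hs s t hR ?_
  have ht : Etale t.left := hp.2 _ _ _ hR.flip
  haveI : IsLocallyNoetherian R.left := LocallyOfFiniteType.isLocallyNoetherian t.left
  set f := (prod.lift t s).left with hf
  let π₁ := (prod.fst : U ⨯ U ⟶ U).left
  let π₂ := (prod.snd : U ⨯ U ⟶ U).left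
  have hf1 : f ≫ π₁ = t.left := by
    change (prod.lift t s).left ≫ (prod.fst : U ⨯ U ⟶ U).left = t.left
    rw [← Over.comp_left, prod.lift_fst]
  have hf2 : f ≫ π₂ = s.left := by
    change (prod.lift t s).left ≫ (prod.snd : U ⨯ U ⟶ U).left = s.left
    rw [← Over.comp_left, prod.lift_snd]
  constructor
  intro A hA hAc
  have hcov : ∀ B : Set ↥U.left, B ⊆ ⋃ V : U.left.affineOpens, (V.1 : Set ↥U.left) := by
    intro B x _
    obtain ⟨_, ⟨V, hV, rfl⟩, hxV, -⟩ :=
      U.left.isBasis_affineOpens.exists_subset_of_mem_open (Set.mem_univ x) isOpen_univ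
    exact Set.mem_iUnion.2 ⟨⟨V, hV⟩, hxV⟩
  obtain ⟨I, hI⟩ := (hAc.image π₁.continuous).elim_finite_subcover
    (fun V : U.left.affineOpens => (V.1 : Set ↥U.left)) (fun V => V.1.2) (hcov _)
  obtain ⟨J, hJ⟩ := (hAc.image π₂.continuous).elim_finite_subcover
    (fun V : U.left.affineOpens => (V.1 : Set ↥U.left)) (fun V => V.1.2) (hcov _)
  have hpiece : ∀ (Ui Uj : U.left.affineOpens),
      IsCompact (f ⁻¹' A ∩ (((t.left ⁻¹ᵁ Ui.1) ⊓ (s.left ⁻¹ᵁ Uj.1) : R.left.Opens) : Set ↥R.left)) := by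
    intro Ui Uj
    haveI := isCompact_piece hX p hp s t hR Ui.1 Uj.1 Ui.2 Uj.2
    set Rij : R.left.Opens := (t.left ⁻¹ᵁ Ui.1) ⊓ (s.left ⁻¹ᵁ Uj.1) with hRij
    haveI : IsNoetherian Rij.toScheme := { }
    haveI : NoetherianSpace ↥Rij.toScheme := inferInstance
    have h1 : IsCompact {r : ↥Rij.toScheme | f (Rij.ι r) ∈ A} := NoetherianSpace.isCompact _
    have h2 := h1.image Rij.ι.continuous
    convert h2 using 1
    ext r
    constructor
    · rintro ⟨hrA, hrR⟩
      exact ⟨⟨r, hrR⟩, hrA, rfl⟩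
    · rintro ⟨r', hr', rfl⟩
      exact ⟨hr', r'.2⟩
  have hunion : f ⁻¹' A = ⋃ i ∈ I, ⋃ j ∈ J,
      (f ⁻¹' A ∩ (((t.left ⁻¹ᵁ i.1) ⊓ (s.left ⁻¹ᵁ j.1) : R.left.Opens) : Set ↥R.left)) := by
    ext r
    simp only [Set.mem_iUnion, Set.mem_inter_iff, Set.mem_preimage, exists_prop]
    constructor
    · intro hr
      have h1 : π₁ (f r) ∈ π₁ '' A := ⟨_, hr, rfl⟩
      have h2 : π₂ (f r) ∈ π₂ '' A := ⟨_, hr, rfl⟩
      have h1' := hI h1
      have h2' := hJ h2
      simp only [Set.mem_iUnion, exists_prop] at h1' h2'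
      obtain ⟨i, hiI, hi⟩ := h1'
      obtain ⟨j, hjJ, hj⟩ := h2'
      refine ⟨i, hiI, j, hjJ, hr, ?_, ?_⟩
      · change t.left r ∈ i.1
        rw [← hf1, Scheme.Hom.comp_apply]; exact hi
      · change s.left r ∈ j.1
        rw [← hf2, Scheme.Hom.comp_apply]; exact hj
    · rintro ⟨i, -, j, -, hr, -⟩
      exact hr
  rw [hunion]
  exact I.isCompact_biUnion fun i _ => J.isCompact_biUnion fun j _ => hpiece i j

end Groth.Agent.H69.DecentNoethQS
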