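import Mathlib
import Groth.Agent.H69.DimAffSpaceC

/-!
# Dimension of a scheme of finite type over a field via maps to affine space: main theorem
-/

set_option autoImplicit false
set_option linter.style.haveILetI false

universe u

open CategoryTheory AlgebraicGeometry Limits AffineSpace

namespace Groth.Agent.H69.DimAffSpace

variable (k : Type u) [Field k]

section Construct

variable {k} {X : Scheme.{u}} (f : X ⟶ Spec (CommRingCat.of k)) {W : X.Opens}
  (hW : IsAffineOpen W)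

/-- The structure map `k → Γ(X, W)`. -/
noncomputable def strMap : CommRingCat.of k ⟶ Γ(X, W) := Spec.preimage (hW.fromSpec ≫ f)

theorem Spec_map_strMap : Spec.map (strMap f hW) = hW.fromSpec ≫ f := Spec.map_preimage _

/-- The morphism to affine space attached to a ring map from the polynomial ring. -/
noncomputable def mkHom (n : ℕ) (φ : MvPolynomial (ULift.{u} (Fin n)) k →+* Γ(X, W)) :
    W.toScheme ⟶ 𝔸(ULift.{u} (Fin n); Spec (CommRingCat.of k)) :=
  hW.isoSpec.hom ≫ Spec.map (CommRingCat.ofHom φ) ≫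
    (SpecIso (ULift.{u} (Fin n)) (CommRingCat.of k)).inv

theorem mkHom_over (n : ℕ) (φ : MvPolynomial (ULift.{u} (Fin n)) k →+* Γ(X, W))
    (hφ : φ.comp MvPolynomial.C = (strMap f hW).hom) :
    mkHom hW n φ ≫ (𝔸(ULift.{u} (Fin n); Spec (CommRingCat.of k)) ↘ Spec (CommRingCat.of k)) =
      W.ι ≫ f := by
  have h1 : CommRingCat.ofHom MvPolynomial.C ≫ CommRingCat.ofHom φ = strMap f hW := by
    ext c
    exact congrArg (fun m => m c) hφ
  rw [mkHom, Category.assoc, Category.assoc, SpecIso_inv_over, ← Spec.map_comp, h1,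
    Spec_map_strMap, ← Category.assoc, hW.isoSpec_hom_fromSpec]

theorem mkHom_isFinite (n : ℕ) (φ : MvPolynomial (ULift.{u} (Fin n)) k →+* Γ(X, W))
    (hφ : φ.Finite) : IsFinite (mkHom hW n φ) := by
  haveI : IsFinite (Spec.map (CommRingCat.ofHom φ)) := (IsFinite.SpecMap_iff _).mpr hφ
  rw [mkHom]
  infer_instance

theorem mkHom_surjective (n : ℕ) (φ : MvPolynomial (ULift.{u} (Fin n)) k →+* Γ(X, W))
    (hφ : Function.Surjective (PrimeSpectrum.comap φ)) :
    Function.Surjective (mkHom hW n φ).base := by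
  intro a
  obtain ⟨b, hb⟩ := (SpecIso (ULift.{u} (Fin n)) (CommRingCat.of k)).inv.homeomorph.surjective a
  obtain ⟨c, hc⟩ := hφ b
  obtain ⟨d, hd⟩ := hW.isoSpec.hom.homeomorph.surjective c
  refine ⟨d, ?_⟩
  rw [mkHom, Scheme.Hom.comp_apply, Scheme.Hom.comp_apply]
  have hd' : hW.isoSpec.hom d = c := hd
  have hc' : (Spec.map (CommRingCat.ofHom φ)) c = b := hc
  rw [hd', hc']
  exact hb

end Construct

theorem ringKrullDim_le_of_ringHom_isIntegral {R S : Type*} [CommRing R] [CommRing S]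
    (f : R →+* S) (hf : f.IsIntegral) : ringKrullDim S ≤ ringKrullDim R := by
  algebraize [f]
  exact Groth.Agent.H54.ringKrullDim_le_of_isIntegral

section Main

variable {X : Scheme.{u}} (f : X ⟶ Spec (CommRingCat.of k)) [LocallyOfFiniteType f]

/-- A dense affine open computing the dimension. -/
theorem exists_dense_affine [QuasiCompact f] :
    ∃ (W : X.Opens) (hW : IsAffineOpen W), Dense (W : Set X) ∧ (strMap f hW).hom.FiniteType ∧
      topologicalKrullDim X = ringKrullDim Γ(X, W) := by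
  haveI : CompactSpace X := QuasiCompact.compactSpace_of_compactSpace f
  haveI : IsLocallyNoetherian X := LocallyOfFiniteType.isLocallyNoetherian f
  haveI : IsNoetherian X := {}
  obtain ⟨W, hW, hd⟩ := exists_dense_isAffineOpen X
  refine ⟨W, hW, hd, ?_, ?_⟩
  · have h : LocallyOfFiniteType (Spec.map (strMap f hW)) := by
      rw [Spec_map_strMap]; infer_instance
    exact (HasRingHomProperty.Spec_iff (P := @LocallyOfFiniteType)).mp h
  · rw [← topologicalKrullDim_eq_of_dense k f W hd,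
      ← PrimeSpectrum.topologicalKrullDim_eq_ringKrullDim]
    exact IsHomeomorph.topologicalKrullDim_eq _ hW.isoSpec.hom.homeomorph.isHomeomorph

theorem le_dim_of_surjective (n : ℕ) (U : X.Opens)
    (g : (U : Scheme.{u}) ⟶ 𝔸(ULift.{u} (Fin n); Spec (CommRingCat.of k)))
    (hov : g ≫ (𝔸(ULift.{u} (Fin n); Spec (CommRingCat.of k)) ↘ Spec (CommRingCat.of k)) =
      U.ι ≫ f) (hs : Function.Surjective g.base) :
    (n : WithBot ℕ∞) ≤ topologicalKrullDim (X : Type u) := by
  have h1 := topologicalKrullDim_le_of_surjective k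
    (𝔸(ULift.{u} (Fin n); Spec (CommRingCat.of k)) ↘ Spec (CommRingCat.of k)) (U.ι ≫ f) g hov hs
  rw [topologicalKrullDim_affineSpace] at h1
  exact h1.trans (topologicalKrullDim_subspace_le X (U : Set X))

include f in
theorem dim_le_of_finite (n : ℕ) (U : X.Opens)
    (g : (U : Scheme.{u}) ⟶ 𝔸(ULift.{u} (Fin n); Spec (CommRingCat.of k)))
    (hd : Dense (U : Set X)) (hfin : IsFinite g) :
    topologicalKrullDim (X : Type u) ≤ n := by
  rw [← topologicalKrullDim_eq_of_dense k f U hd]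
  let g' : (U : Scheme.{u}) ⟶ Spec (CommRingCat.of (MvPolynomial (ULift.{u} (Fin n)) k)) :=
    g ≫ (SpecIso (ULift.{u} (Fin n)) (CommRingCat.of k)).hom
  have hg' : IsFinite g' := inferInstance
  obtain ⟨haff, hfin'⟩ := (HasAffineProperty.iff_of_isAffine (P := @IsFinite)).mp hg'
  have h1 : ringKrullDim Γ((U : Scheme.{u}), ⊤) ≤
      ringKrullDim Γ(Spec (CommRingCat.of (MvPolynomial (ULift.{u} (Fin n)) k)), ⊤) :=
    ringKrullDim_le_of_ringHom_isIntegral _ (RingHom.IsIntegral.of_finite hfin')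
  have h2 : ringKrullDim Γ(Spec (CommRingCat.of (MvPolynomial (ULift.{u} (Fin n)) k)), ⊤) = n := by
    rw [ringKrullDim_eq_of_ringEquiv (Scheme.ΓSpecIso
      (CommRingCat.of (MvPolynomial (ULift.{u} (Fin n)) k))).commRingCatIsoToRingEquiv]
    exact Groth.Agent.H69.FibreNoether.ringKrullDim_mvPolynomial_ulift k n
  have h3 := Groth.Agent.H69.FibreNoether.ringKrullDim_appTop_eq (U : Scheme.{u})
  rw [h2, h3] at h1
  exact h1

theorem main [QuasiCompact f] (n : ℕ) :
    ((n : WithBot ℕ∞) ≤ topologicalKrullDim (X : Type u) ↔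
      ∃ (U : X.Opens) (g : (U : Scheme.{u}) ⟶ 𝔸(ULift.{u} (Fin n); Spec (CommRingCat.of k))),
        Dense (U : Set X) ∧ g ≫ (𝔸(ULift.{u} (Fin n); Spec (CommRingCat.of k)) ↘
          Spec (CommRingCat.of k)) = U.ι ≫ f ∧ Function.Surjective g.base) ∧
    (topologicalKrullDim (X : Type u) ≤ n ↔
      ∃ (U : X.Opens) (g : (U : Scheme.{u}) ⟶ 𝔸(ULift.{u} (Fin n); Spec (CommRingCat.of k))),
        Dense (U : Set X) ∧ g ≫ (𝔸(ULift.{u} (Fin n); Spec (CommRingCat.of k)) ↘
          Spec (CommRingCat.of k)) = U.ι ≫ f ∧ IsFinite g) ∧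
    (topologicalKrullDim (X : Type u) = n ↔
      ∃ (U : X.Opens) (g : (U : Scheme.{u}) ⟶ 𝔸(ULift.{u} (Fin n); Spec (CommRingCat.of k))),
        Dense (U : Set X) ∧ g ≫ (𝔸(ULift.{u} (Fin n); Spec (CommRingCat.of k)) ↘
          Spec (CommRingCat.of k)) = U.ι ≫ f ∧ IsFinite g ∧ Function.Surjective g.base) := by
  obtain ⟨W, hW, hWd, hft, hdim⟩ := exists_dense_affine k f
  letI : Algebra k Γ(X, W) := (strMap f hW).hom.toAlgebra
  haveI : Algebra.FiniteType k Γ(X, W) := hft
  have hC : ∀ φ : MvPolynomial (ULift.{u} (Fin n)) k →ₐ[k] Γ(X, W),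
      φ.toRingHom.comp MvPolynomial.C = (strMap f hW).hom := by
    intro φ
    ext c
    change φ (MvPolynomial.C c) = algebraMap k Γ(X, W) c
    rw [← MvPolynomial.algebraMap_eq, AlgHom.commutes]
  refine ⟨⟨fun h => ?_, ?_⟩, ⟨fun h => ?_, ?_⟩, ⟨fun h => ?_, ?_⟩⟩
  · rw [hdim] at h
    obtain ⟨φ, hφ⟩ := exists_algHom_comap_surjective k Γ(X, W) n h
    exact ⟨W, mkHom hW n φ.toRingHom, hWd, mkHom_over f hW n _ (hC φ),
      mkHom_surjective hW n _ hφ⟩
  · rintro ⟨U, g, -, hov, hs⟩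
    exact le_dim_of_surjective k f n U g hov hs
  · rw [hdim] at h
    obtain ⟨φ, hφ⟩ := exists_algHom_finite k Γ(X, W) n h
    exact ⟨W, mkHom hW n φ.toRingHom, hWd, mkHom_over f hW n _ (hC φ),
      mkHom_isFinite hW n _ hφ⟩
  · rintro ⟨U, g, hd, -, hfin⟩
    exact dim_le_of_finite k f n U g hd hfin
  · rw [hdim] at h
    obtain ⟨φ, hφ1, hφ2⟩ := exists_algHom_finite_comap_surjective k Γ(X, W) n h
    exact ⟨W, mkHom hW n φ.toRingHom, hWd, mkHom_over f hW n _ (hC φ),
      mkHom_isFinite hW n _ hφ1, mkHom_surjective hW n _ hφ2⟩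
  · rintro ⟨U, g, hd, hov, hfin, hs⟩
    exact le_antisymm (dim_le_of_finite k f n U g hd hfin)
      (le_dim_of_surjective k f n U g hov hs)

end Main

end Groth.Agent.H69.DimAffSpace
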