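import Groth.Prelude.Def_W4c1chowmix47Eta
import Mathlib.Algebra.CharP.Reduced
import Mathlib.RingTheory.Valuation.LocalSubring
import Mathlib.RingTheory.IntegralClosure.IntegrallyClosed
import Mathlib.Tactic

set_option autoImplicit false
universe u

namespace Groth.Agent.H69

open EtaPt EtaPt.FieldEndo

variable (η : EtaPt.FieldEndo.{u})

theorem Nmap_apply {A B : Type u} [CommRing A] [CommRing B] (f : A →+* B) (x : η.N A)
    (q : PrimeSpectrum B) :
    η.Nmap f x q =
      η.map (Ideal.ResidueField.map (PrimeSpectrum.comap f q).asIdeal q.asIdeal f rfl)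
        (x (PrimeSpectrum.comap f q)) := rfl

/-- transport: the component at `q` can be computed from any prime `p` equal to the preimage -/
theorem Nmap_apply_of_eq {A B : Type u} [CommRing A] [CommRing B] (f : A →+* B) (x : η.N A)
    (q : PrimeSpectrum B) (p : PrimeSpectrum A) (hp : p.asIdeal = q.asIdeal.comap f) :
    η.Nmap f x q = η.map (Ideal.ResidueField.map p.asIdeal q.asIdeal f hp) (x p) := by
  obtain rfl : p = PrimeSpectrum.comap f q := PrimeSpectrum.ext hp
  rfl

theorem t_apply (A : Type u) [CommRing A] (a : A) (p : PrimeSpectrum A) :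
    η.t A a p = η.eta p.asIdeal.ResidueField (algebraMap A p.asIdeal.ResidueField a) := rfl

theorem eta_injective (K : Type u) [Field K] : Function.Injective (η.eta K) :=
  (η.eta K).injective

theorem map_eta_apply {K L : Type u} [Field K] [Field L] (f : K →+* L) (x : K) :
    η.map f (η.eta K x) = η.eta L (f x) := by
  have := η.eta_natural f
  exact congrArg (fun h => h x) (congrArg DFunLike.coe this)

theorem map_bijective_of_ringEquiv {K L : Type u} [Field K] [Field L] (e : K ≃+* L) :
    Function.Bijective (η.map (e : K →+* L)) := by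
  have h1 : (η.map (e.symm : L →+* K)).comp (η.map (e : K →+* L)) = RingHom.id _ := by
    rw [← η.map_comp, ← η.map_id]
    congr 1
    ext x
    simp
  have h2 : (η.map (e : K →+* L)).comp (η.map (e.symm : L →+* K)) = RingHom.id _ := by
    rw [← η.map_comp, ← η.map_id]
    congr 1
    ext x
    simp
  refine Function.bijective_iff_has_inverse.mpr ⟨η.map (e.symm : L →+* K), ?_, ?_⟩
  · intro x; exact congrArg (fun h => h x) (congrArg DFunLike.coe h1)
  · intro x; exact congrArg (fun h => h x) (congrArg DFunLike.coe h2)

theorem eta_bijective_of_ringEquiv {K L : Type u} [Field K] [Field L] (e : K ≃+* L)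
    (h : Function.Bijective (η.eta K)) : Function.Bijective (η.eta L) := by
  have hnat : (η.map (e : K →+* L)).comp (η.eta K) = (η.eta L).comp (e : K →+* L) :=
    η.eta_natural _
  have h1 : Function.Bijective ((η.eta L) ∘ (e : K → L)) := by
    have : ((η.eta L) ∘ (e : K → L)) = (η.map (e : K →+* L)) ∘ (η.eta K) := by
      funext x
      exact (congrArg (fun h => h x) (congrArg DFunLike.coe hnat)).symm
    rw [this]
    exact (map_bijective_of_ringEquiv η e).comp h
  exact (Function.Bijective.of_comp_iff _ e.bijective).mp h1

theorem expChar_obj (K : Type u) [Field K] (e : ℕ) [ExpChar K e] : ExpChar (η.obj K) e :=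
  expChar_of_injective_ringHom (η.eta K).injective e

theorem pow_expChar_pow_inj (K : Type u) [Field K] (e : ℕ) [ExpChar K e] (n : ℕ)
    {x y : η.obj K} (h : x ^ e ^ n = y ^ e ^ n) : x = y := by
  have := expChar_obj η K e
  have := iterateFrobenius_inj (η.obj K) e n
  apply this
  simpa [iterateFrobenius_def] using h

/-- `η` is bijective at the residue field of the zero ideal of a domain in `V_η`. -/
theorem eta_bijective_bot {R : Type u} [CommRing R] [IsDomain R] (hR : η.InV R) :
    Function.Bijective (η.eta (⊥ : Ideal R).ResidueField) :=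
  eta_bijective_of_ringEquiv η
    (FractionRing.algEquiv R (⊥ : Ideal R).ResidueField).toRingEquiv hR

theorem mem_M_iff {A : Type u} [CommRing A] (x : η.N A) :
    x ∈ η.M A ↔ ∀ (R : Type u) [CommRing R] [IsDomain R] [ValuationRing R], η.InV R →
      ∀ g : A →+* R, η.Nmap g x ∈ (η.t R).range := Iff.rfl

end Groth.Agent.H69
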