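import Groth.Agent.H69.EtaPtLoc
import Mathlib.RingTheory.Localization.Integral
import Mathlib.RingTheory.Localization.LocalizationLocalization
import Mathlib.RingTheory.Ideal.MinimalPrime.Localization

set_option autoImplicit false
universe u

namespace Groth.Agent.H69

open EtaPt EtaPt.FieldEndo

variable (η : EtaPt.FieldEndo.{u})

theorem minimalPrimes_away_finite {A : Type u} [CommRing A] (hA : (minimalPrimes A).Finite)
    (f : A) : (minimalPrimes (Localization.Away f)).Finite := by
  have h := IsLocalization.minimalPrimes_map (Submonoid.powers f) (Localization.Away f)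
    (⊥ : Ideal A)
  rw [Ideal.map_bot] at h
  show (⊥ : Ideal (Localization.Away f)).minimalPrimes.Finite
  rw [h]
  apply Set.Finite.preimage _ hA
  exact (IsLocalization.orderEmbedding (Submonoid.powers f)
    (Localization.Away f)).injective.injOn

section away

variable (R : Type u) [CommRing R] [IsDomain R] (s : R) (hs : s ≠ 0)

/-- The canonical map `R_s → Frac R`. -/
noncomputable def awayToFrac : Localization.Away s →+* FractionRing R :=
  IsLocalization.Away.lift s (g := algebraMap R (FractionRing R))
    (isUnit_iff_ne_zero.mpr ((map_ne_zero_iff _ (IsFractionRing.injective R _)).mpr hs))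

theorem awayToFrac_algebraMap (r : R) :
    awayToFrac R s hs (algebraMap R _ r) = algebraMap R (FractionRing R) r :=
  IsLocalization.Away.lift_eq s _ r

theorem isFractionRing_away :
    letI := (awayToFrac R s hs).toAlgebra
    IsFractionRing (Localization.Away s) (FractionRing R) := by
  letI := (awayToFrac R s hs).toAlgebra
  haveI : IsScalarTower R (Localization.Away s) (FractionRing R) :=
    IsScalarTower.of_algebraMap_eq (fun r => (awayToFrac_algebraMap R s hs r).symm)
  exact IsFractionRing.isFractionRing_of_isDomain_of_isLocalization (Submonoid.powers s) _ _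

theorem awayToFrac_injective : Function.Injective (awayToFrac R s hs) := by
  letI := (awayToFrac R s hs).toAlgebra
  haveI := isFractionRing_away R s hs
  exact IsFractionRing.injective (Localization.Away s) (FractionRing R)

include hs in
theorem InV_away (hR : η.InV R) [IsDomain (Localization.Away s)] :
    η.InV (Localization.Away s) := by
  letI := (awayToFrac R s hs).toAlgebra
  haveI := isFractionRing_away R s hs
  exact eta_bijective_of_ringEquiv η
    (FractionRing.algEquiv (Localization.Away s) (FractionRing R)).symm.toRingEquiv hR

include hs in
theorem valuationRing_away [ValuationRing R] [IsDomain (Localization.Away s)] :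
    ValuationRing (Localization.Away s) := by
  letI := (awayToFrac R s hs).toAlgebra
  haveI := isFractionRing_away R s hs
  rw [ValuationRing.iff_isInteger_or_isInteger (Localization.Away s) (FractionRing R)]
  intro x
  rcases ValuationRing.isInteger_or_isInteger R x with ⟨r, hr⟩ | ⟨r, hr⟩
  · left
    exact ⟨algebraMap R _ r, (awayToFrac_algebraMap R s hs r).trans hr⟩
  · right
    exact ⟨algebraMap R _ r, (awayToFrac_algebraMap R s hs r).trans hr⟩

include hs in
theorem exists_algebraMap_away_eq_of_isIntegralElem [IsIntegrallyClosed R]
    (z : Localization.Away s)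
    (hz : (algebraMap R (Localization.Away s)).IsIntegralElem z) :
    ∃ r : R, algebraMap R (Localization.Away s) r = z := by
  obtain ⟨P, hPm, hP0⟩ := hz
  have h1 := Polynomial.hom_eval₂ P (algebraMap R (Localization.Away s)) (awayToFrac R s hs) z
  rw [hP0, map_zero] at h1
  have hc : (awayToFrac R s hs).comp (algebraMap R (Localization.Away s)) =
      algebraMap R (FractionRing R) := RingHom.ext (awayToFrac_algebraMap R s hs)
  rw [hc] at h1
  have hint : IsIntegral R (awayToFrac R s hs z) := ⟨P, hPm, h1.symm⟩
  obtain ⟨r, hr⟩ := IsIntegrallyClosed.isIntegral_iff.mp hint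
  refine ⟨r, awayToFrac_injective R s hs ?_⟩
  rw [awayToFrac_algebraMap, hr]

end away

/-- Elements of `M(A_f)` extend to `M(A)` after multiplication by a power of `f`. -/
theorem exists_mem_M_away {A : Type u} [CommRing A] (hA : (minimalPrimes A).Finite) (f : A)
    (y : η.N (Localization.Away f)) (hy : y ∈ η.M (Localization.Away f)) :
    ∃ x ∈ η.M A, ∃ n : ℕ,
      y * η.t (Localization.Away f) (algebraMap A (Localization.Away f) f) ^ n =
        η.Nmap (algebraMap A (Localization.Away f)) x := by
  classical
  have hAf := minimalPrimes_away_finite hA f
  obtain ⟨P, hPm, hP0⟩ := q_isIntegral η (Localization.Away f) hAf ⟨y, hy⟩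
  have hP1 : Polynomial.eval₂ (η.t (Localization.Away f)) y P = 0 := by
    have := Polynomial.hom_eval₂ P (η.q (Localization.Away f))
      (η.M (Localization.Away f)).subtype ⟨y, hy⟩
    rw [hP0, map_zero] at this
    exact this.symm
  -- clear denominators
  have hden : ∃ (k : ℕ) (P' : Polynomial A), P'.Monic ∧
      Polynomial.eval₂ ((η.t (Localization.Away f)).comp (algebraMap A (Localization.Away f)))
        (η.t (Localization.Away f) (algebraMap A (Localization.Away f) f) ^ k * y) P' = 0 := by
    letI : Algebra (Localization.Away f) (η.N (Localization.Away f)) :=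
      (η.t (Localization.Away f)).toAlgebra
    letI : Algebra A (η.N (Localization.Away f)) :=
      ((η.t (Localization.Away f)).comp (algebraMap A (Localization.Away f))).toAlgebra
    haveI : IsScalarTower A (Localization.Away f) (η.N (Localization.Away f)) :=
      IsScalarTower.of_algebraMap_eq (fun a => rfl)
    have hyint : IsIntegral (Localization.Away f) y := ⟨P, hPm, hP1⟩
    obtain ⟨⟨m, k, hk⟩, hm⟩ :=
      IsIntegral.exists_multiple_integral_of_isLocalization (Submonoid.powers f) y hyint
    obtain ⟨P', hP'm, hP'0⟩ := hm
    refine ⟨k, P', hP'm, ?_⟩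
    have hsmul : ((⟨m, k, hk⟩ : Submonoid.powers f) • y : η.N (Localization.Away f)) =
        η.t (Localization.Away f) (algebraMap A (Localization.Away f) f) ^ k * y := by
      rw [Submonoid.smul_def, Algebra.smul_def]
      show η.t (Localization.Away f) (algebraMap A (Localization.Away f) m) * y = _
      rw [← hk, map_pow, map_pow]
    rw [hsmul] at hP'0
    exact hP'0
  obtain ⟨k, P', hP'm, hP'0⟩ := hden
  obtain ⟨x₀, hx₀, -⟩ := exists_Nmap_away_eq η f y
  refine ⟨η.t A f ^ (k + 1) * x₀, ?_, k + 1, ?_⟩
  · intro R _ _ _ hR g
    by_cases hgf : g f = 0
    · refine ⟨0, ?_⟩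
      rw [map_zero, map_mul, map_pow, η.Nmap_t_apply, hgf, map_zero,
        zero_pow (Nat.succ_ne_zero k), zero_mul]
    · haveI : IsDomain (Localization.Away (g f)) :=
        IsLocalization.isDomain_localization (powers_le_nonZeroDivisors_of_noZeroDivisors hgf)
      haveI : ValuationRing (Localization.Away (g f)) := valuationRing_away R (g f) hgf
      have hR' : η.InV (Localization.Away (g f)) := InV_away η R (g f) hgf hR
      have hcomm : ∀ a : A, Localization.awayMap g f (algebraMap A (Localization.Away f) a) =
          algebraMap R (Localization.Away (g f)) (g a) := fun a => IsLocalization.map_eq _ a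
      obtain ⟨r', hr'⟩ := hy (Localization.Away (g f)) hR' (Localization.awayMap g f)
      have h1 : η.t (Localization.Away (g f))
          (algebraMap R (Localization.Away (g f)) (g f) ^ k * r') =
          η.Nmap (Localization.awayMap g f)
            (η.t (Localization.Away f) (algebraMap A (Localization.Away f) f) ^ k * y) := by
        rw [map_mul, map_pow, map_mul, map_pow, hr', η.Nmap_t_apply, hcomm]
      have hc : (η.Nmap (Localization.awayMap g f)).comp
          ((η.t (Localization.Away f)).comp (algebraMap A (Localization.Away f))) =
          (η.t (Localization.Away (g f))).comp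
            ((algebraMap R (Localization.Away (g f))).comp g) := by
        apply RingHom.ext
        intro a
        show η.Nmap (Localization.awayMap g f)
          (η.t (Localization.Away f) (algebraMap A (Localization.Away f) a)) =
          η.t (Localization.Away (g f)) (algebraMap R (Localization.Away (g f)) (g a))
        rw [η.Nmap_t_apply, hcomm]
      have h2 : Polynomial.eval₂ ((algebraMap R (Localization.Away (g f))).comp g)
          (algebraMap R (Localization.Away (g f)) (g f) ^ k * r') P' = 0 := by
        apply t_injective_of_isReduced η (Localization.Away (g f))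
        rw [map_zero, Polynomial.hom_eval₂, h1]
        have := Polynomial.hom_eval₂ P'
          ((η.t (Localization.Away f)).comp (algebraMap A (Localization.Away f)))
          (η.Nmap (Localization.awayMap g f))
          (η.t (Localization.Away f) (algebraMap A (Localization.Away f) f) ^ k * y)
        rw [hP'0, map_zero, hc] at this
        exact this.symm
      have h3 : (algebraMap R (Localization.Away (g f))).IsIntegralElem
          (algebraMap R (Localization.Away (g f)) (g f) ^ k * r') := by
        refine ⟨P'.map g, hP'm.map g, ?_⟩
        rw [Polynomial.eval₂_map]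
        exact h2
      obtain ⟨r₁, hr₁⟩ := exists_algebraMap_away_eq_of_isIntegralElem R (g f) hgf _ h3
      refine ⟨g f * r₁, ?_⟩
      -- `u := t_R(s)^k * N(g) x₀`
      have hu : η.Nmap (algebraMap R (Localization.Away (g f)))
          (η.t R (g f) ^ k * η.Nmap g x₀ - η.t R r₁) = 0 := by
        rw [map_sub, map_mul, map_pow, η.Nmap_t_apply, η.Nmap_t_apply, ← Nmap_comp, hr₁]
        have hcc : (algebraMap R (Localization.Away (g f))).comp g =
            (Localization.awayMap g f).comp (algebraMap A (Localization.Away f)) :=
          RingHom.ext fun a => (hcomm a).symm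
        rw [hcc, Nmap_comp, hx₀, ← hr', map_mul, map_pow, sub_self]
      have hu' := t_mul_eq_zero_of_Nmap_away_eq_zero η (g f) _ hu
      rw [mul_sub, sub_eq_zero] at hu'
      rw [map_mul, map_mul, map_pow, η.Nmap_t_apply, pow_succ', mul_assoc, hu']
  · rw [map_mul, map_pow, η.Nmap_t_apply, hx₀, mul_comm]

end Groth.Agent.H69
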