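import Groth.Agent.H69.EtaPt

set_option autoImplicit false
universe u

namespace Groth.Agent.H69

open EtaPt EtaPt.FieldEndo

variable (η : EtaPt.FieldEndo.{u})

theorem residueField_map_comp {A B C : Type u} [CommRing A] [CommRing B] [CommRing C]
    (f : A →+* B) (g : B →+* C) (p : Ideal A) [p.IsPrime] (q : Ideal B) [q.IsPrime]
    (r : Ideal C) [r.IsPrime] (hpq : p = q.comap f) (hqr : q = r.comap g)
    (hpr : p = r.comap (g.comp f)) :
    Ideal.ResidueField.map p r (g.comp f) hpr =
      (Ideal.ResidueField.map q r g hqr).comp (Ideal.ResidueField.map p q f hpq) := by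
  apply Ideal.ResidueField.ringHom_ext
  ext a
  simp only [RingHom.comp_apply, Ideal.ResidueField.map_algebraMap]

theorem Nmap_comp {A B C : Type u} [CommRing A] [CommRing B] [CommRing C]
    (f : A →+* B) (g : B →+* C) (x : η.N A) :
    η.Nmap (g.comp f) x = η.Nmap g (η.Nmap f x) := by
  funext r
  rw [Nmap_apply η g, Nmap_apply η f,
    Nmap_apply_of_eq η (g.comp f) x r (PrimeSpectrum.comap f (PrimeSpectrum.comap g r)) rfl]
  have key := residueField_map_comp f g (PrimeSpectrum.comap f (PrimeSpectrum.comap g r)).asIdeal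
    (PrimeSpectrum.comap g r).asIdeal r.asIdeal rfl rfl rfl
  rw [key, η.map_comp]
  rfl

theorem Nmap_mem_M {A B : Type u} [CommRing A] [CommRing B] (f : A →+* B) {x : η.N A}
    (hx : x ∈ η.M A) : η.Nmap f x ∈ η.M B := by
  intro R _ _ _ hR g
  rw [← Nmap_comp]
  exact hx R hR (g.comp f)

theorem residueField_map_id {A : Type u} [CommRing A] (p : Ideal A) [p.IsPrime]
    (h : p = p.comap (RingHom.id A)) :
    Ideal.ResidueField.map p p (RingHom.id A) h = RingHom.id _ := by
  apply Ideal.ResidueField.ringHom_ext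
  ext a
  simp only [RingHom.comp_apply, Ideal.ResidueField.map_algebraMap, RingHom.id_apply]

theorem Nmap_id {A : Type u} [CommRing A] (x : η.N A) : η.Nmap (RingHom.id A) x = x := by
  funext p
  rw [Nmap_apply_of_eq η (RingHom.id A) x p p rfl, residueField_map_id, η.map_id]
  rfl

end Groth.Agent.H69
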