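import Groth.Agent.H69.EtaPtN
import Groth.Agent.H69.EtaPtFun
import Mathlib.RingTheory.Ideal.MinimalPrime.Basic

set_option autoImplicit false
universe u

namespace Groth.Agent.H69

open EtaPt EtaPt.FieldEndo

variable (η : EtaPt.FieldEndo.{u})

/-- `F(η_K) = η_{F K}`. -/
theorem map_eta_eq_eta_obj (K : Type u) [Field K] (x : η.obj K) :
    η.map (η.eta K) x = η.eta (η.obj K) x := by
  obtain ⟨n, a, ha⟩ := η.exists_pow_mem_range_eta K x
  have hE : ExpChar K (ringExpChar K) := ringExpChar.expChar K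
  have hE' : ExpChar (η.obj K) (ringExpChar K) := expChar_obj η K (ringExpChar K)
  apply pow_expChar_pow_inj η (η.obj K) (ringExpChar K) n
  rw [← map_pow, ← map_pow, ← ha, map_eta_apply]

/-- `η` is bijective at `F K`. -/
theorem eta_bijective_obj (K : Type u) [Field K] : Function.Bijective (η.eta (η.obj K)) := by
  have h := η.bijective_map_eta K
  have : (η.eta (η.obj K) : η.obj K → η.obj (η.obj K)) = η.map (η.eta K) := by
    funext x; exact (map_eta_eq_eta_obj η K x).symm
  rw [this]
  exact h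

/-- Generic component formula for the valuation-ring test. -/
theorem generic_component {A : Type u} [CommRing A] {L : Type u} [Field L] (φ : A →+* L)
    (V : ValuationSubring L) (hV : ∀ a, φ a ∈ V.toSubring) (x : η.N A) (r : V)
    (hr : η.t V r = η.Nmap (φ.codRestrict V.toSubring hV) x)
    (p₀ : PrimeSpectrum A) (hp₀ : p₀.asIdeal = RingHom.ker φ)
    (φb : p₀.asIdeal.ResidueField →+* L) (hφb : ∀ a, φb (algebraMap A _ a) = φ a) :
    η.eta L (r : L) = η.map φb (x p₀) := by
  set g : A →+* V := φ.codRestrict V.toSubring hV with hgdef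
  let q₀ : PrimeSpectrum V := ⟨⊥, Ideal.isPrime_bot⟩
  have hq₀ : p₀.asIdeal = q₀.asIdeal.comap g := by
    rw [hp₀]
    show RingHom.ker φ = Ideal.comap g ⊥
    ext a
    rw [RingHom.mem_ker, Ideal.mem_comap, Ideal.mem_bot]
    constructor
    · intro h; exact Subtype.ext h
    · intro h; exact congrArg Subtype.val h
  have e1 := congrFun hr q₀
  rw [Nmap_apply_of_eq η g x q₀ p₀ hq₀, t_apply] at e1
  let ψ : (⊥ : Ideal V).ResidueField →+* L :=
    IsFractionRing.lift (A := V) (K := (⊥ : Ideal V).ResidueField)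
      (g := V.subtype) Subtype.val_injective
  have hψ : ∀ v : V, ψ (algebraMap V (⊥ : Ideal V).ResidueField v) = (v : L) :=
    fun v => IsFractionRing.lift_algebraMap _ v
  have hcomp : ψ.comp (Ideal.ResidueField.map p₀.asIdeal (⊥ : Ideal V) g hq₀) = φb := by
    apply Ideal.ResidueField.ringHom_ext
    ext a
    simp only [RingHom.comp_apply, Ideal.ResidueField.map_algebraMap, hψ, hφb]
    rfl
  have e2 := congrArg (η.map ψ) e1
  rw [map_eta_apply, hψ] at e2
  rw [e2, ← hcomp, η.map_comp]
  rfl

/-- An element of `M(A)` is determined by its components at the minimal primes. -/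
theorem eq_of_minimalPrimes_components {A : Type u} [CommRing A] {x x' : η.N A}
    (hx : x ∈ η.M A) (hx' : x' ∈ η.M A)
    (h : ∀ p : PrimeSpectrum A, p.asIdeal ∈ minimalPrimes A → x p = x' p) : x = x' := by
  classical
  funext P
  obtain ⟨p₀i, hmin, hle⟩ := Ideal.exists_minimalPrimes_le (bot_le : (⊥ : Ideal A) ≤ P.asIdeal)
  have hp₀prime : p₀i.IsPrime := hmin.1.1
  let p₀ : PrimeSpectrum A := ⟨p₀i, hp₀prime⟩
  let φ : A →+* η.obj p₀.asIdeal.ResidueField :=
    (η.eta p₀.asIdeal.ResidueField).comp (algebraMap A p₀.asIdeal.ResidueField)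
  have hkerφ : RingHom.ker φ = p₀.asIdeal := by
    ext a
    rw [RingHom.mem_ker, RingHom.comp_apply, map_eq_zero_iff _ (eta_injective η _),
      ← RingHom.mem_ker, Ideal.ker_algebraMap_residueField]
  obtain ⟨V, hV, hcomap⟩ := exists_valuationSubring_comap_eq φ P.asIdeal (by rw [hkerφ]; exact hle)
  have hInV : η.InV V := InV_valuationSubring η (eta_bijective_obj η _) V
  obtain ⟨r, hr⟩ := hx V hInV (φ.codRestrict V.toSubring hV)
  obtain ⟨r', hr'⟩ := hx' V hInV (φ.codRestrict V.toSubring hV)
  have g1 := generic_component η φ V hV x r hr p₀ hkerφ.symm (η.eta _) (fun a => rfl)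
  have g2 := generic_component η φ V hV x' r' hr' p₀ hkerφ.symm (η.eta _) (fun a => rfl)
  have hrr' : r = r' := by
    apply Subtype.ext
    apply eta_injective η
    rw [g1, g2, h p₀ hmin]
  let q₁ : PrimeSpectrum V := ⟨IsLocalRing.maximalIdeal V, inferInstance⟩
  have hq₁ : P.asIdeal = q₁.asIdeal.comap (φ.codRestrict V.toSubring hV) := hcomap.symm
  have e2 := congrFun hr q₁
  have e2' := congrFun hr' q₁
  rw [Nmap_apply_of_eq η _ x q₁ P hq₁] at e2
  rw [Nmap_apply_of_eq η _ x' q₁ P hq₁] at e2'
  rw [hrr'] at e2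
  exact (η.map _).injective (e2.symm.trans e2')

/-- An element of a field lying in every valuation subring containing the image of `A` is
integral over `A`. -/
theorem isIntegralElem_of_forall_valuationSubring {A : Type u} [CommRing A] {L : Type u} [Field L]
    (φ : A →+* L) (c : L)
    (h : ∀ V : ValuationSubring L, (∀ a, φ a ∈ V.toSubring) → c ∈ V) : φ.IsIntegralElem c := by
  classical
  have hmem : c ∈ (⨅ V : {V : ValuationSubring L // Set.range φ ⊆ V.toSubring},
      V.1.toSubring) := by
    rw [Subring.mem_iInf]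
    rintro ⟨V, hV⟩
    exact h V (fun a => hV ⟨a, rfl⟩)
  rw [iInf_valuationSubring_superset] at hmem
  have hint : IsIntegral (Subring.closure (Set.range φ)) c := hmem
  obtain ⟨P, hP, hPc⟩ := hint
  let φS : A →+* Subring.closure (Set.range φ) :=
    φ.codRestrict _ (fun a => Subring.subset_closure ⟨a, rfl⟩)
  have hsurj : Function.Surjective φS := by
    rintro ⟨s, hs⟩
    have : Subring.closure (Set.range φ) = φ.range := by
      rw [← RingHom.coe_range, Subring.closure_eq]
    rw [this] at hs
    obtain ⟨a, ha⟩ := hs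
    exact ⟨a, Subtype.ext ha⟩
  obtain ⟨Q₀, hQ₀⟩ := Polynomial.map_surjective _ hsurj P
  obtain ⟨Q, hQ, _, hQm⟩ := Polynomial.lifts_and_degree_eq_and_monic
    ((Polynomial.mem_lifts _).mpr ⟨Q₀, hQ₀⟩) hP
  refine ⟨Q, hQm, ?_⟩
  rw [← hPc, ← hQ, Polynomial.eval₂_map]
  rfl

end Groth.Agent.H69
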