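import Groth.Agent.H69.EtaPtVal
import Mathlib.Algebra.Polynomial.Lifts

set_option autoImplicit false
universe u

namespace Groth.Agent.H69

open EtaPt EtaPt.FieldEndo

/-- An element of the fraction field of an integrally closed domain lying in every valuation
subring that contains the domain comes from the domain. -/
theorem exists_algebraMap_eq_of_forall_valuationSubring {A : Type u} [CommRing A] [IsDomain A]
    [IsIntegrallyClosed A] {K : Type u} [Field K] [Algebra A K] [IsFractionRing A K] (c : K)
    (h : ∀ V : ValuationSubring K, (∀ a, algebraMap A K a ∈ V) → c ∈ V) :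
    ∃ a, algebraMap A K a = c := by
  classical
  by_contra hc
  let R : Subring K := (algebraMap A K).range
  have hcR : c ∉ R := fun ⟨a, ha⟩ => hc ⟨a, ha⟩
  have hic : IsIntegrallyClosedIn R K := by
    rw [Subring.isIntegrallyClosedIn_iff]
    intro x hx
    have hxA : IsIntegral A x := by
      obtain ⟨P, hP, hPx⟩ := hx
      have hsurj : Function.Surjective (algebraMap A K).rangeRestrict :=
        (algebraMap A K).rangeRestrict_surjective
      obtain ⟨Q₀, hQ₀⟩ := Polynomial.map_surjective _ hsurj P
      obtain ⟨Q, hQ, _, hQm⟩ := Polynomial.lifts_and_degree_eq_and_monic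
        ((Polynomial.mem_lifts _).mpr ⟨Q₀, hQ₀⟩) hP
      refine ⟨Q, hQm, ?_⟩
      rw [← hPx, ← hQ, Polynomial.eval₂_map]
      rfl
    obtain ⟨a, ha⟩ := IsIntegrallyClosed.isIntegral_iff.mp hxA
    exact ⟨a, ha⟩
  obtain ⟨V, hRV, hcV⟩ := Subring.exists_le_valuationSubring_of_isIntegrallyClosedIn hcR
  exact hcV (h V fun a => hRV ⟨a, rfl⟩)

end Groth.Agent.H69
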