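import Groth.Agent.H69.EtaPtRel2
import Mathlib.RingTheory.SurjectiveOnStalks
import Mathlib.RingTheory.Spectrum.Prime.Topology

set_option autoImplicit false
universe u

namespace Groth.Agent.H69

open EtaPt EtaPt.FieldEndo

variable (η : EtaPt.FieldEndo.{u})

theorem map_bijective_of_bijective {K L : Type u} [Field K] [Field L] (f : K →+* L)
    (hf : Function.Bijective f) : Function.Bijective (η.map f) := by
  have := map_bijective_of_ringEquiv η (RingEquiv.ofBijective f hf)
  have h2 : ((RingEquiv.ofBijective f hf : K ≃+* L) : K →+* L) = f := RingHom.ext fun _ => rfl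
  rwa [h2] at this

/-- For `f` surjective on stalks with `Spec f` injective, every element of `N(B)` is the image of
an element of `N(A)` vanishing outside the image of `Spec f`. -/
theorem exists_Nmap_eq_of_surjectiveOnStalks {A B : Type u} [CommRing A] [CommRing B]
    (f : A →+* B) (hf : f.SurjectiveOnStalks) (hinj : Function.Injective (PrimeSpectrum.comap f))
    (y : η.N B) :
    ∃ x : η.N A, η.Nmap f x = y ∧
      ∀ p : PrimeSpectrum A, p ∉ Set.range (PrimeSpectrum.comap f) → x p = 0 := by
  classical
  have hz : ∀ p : PrimeSpectrum A, ∃ z : η.obj p.asIdeal.ResidueField,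
      (∀ (q : PrimeSpectrum B) (h : p.asIdeal = q.asIdeal.comap f),
        η.map (Ideal.ResidueField.map p.asIdeal q.asIdeal f h) z = y q) ∧
      (p ∉ Set.range (PrimeSpectrum.comap f) → z = 0) := by
    intro p
    by_cases hp : p ∈ Set.range (PrimeSpectrum.comap f)
    · obtain ⟨q, rfl⟩ := hp
      have hb := map_bijective_of_bijective η _
        (hf.residueFieldMap_bijective (PrimeSpectrum.comap f q).asIdeal q.asIdeal rfl)
      obtain ⟨z, hz⟩ := hb.2 (y q)
      refine ⟨z, ?_, fun h => absurd ⟨q, rfl⟩ h⟩
      intro q' h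
      have : q = q' := hinj (PrimeSpectrum.ext h)
      subst this
      exact hz
    · refine ⟨0, ?_, fun _ => rfl⟩
      intro q h
      exact absurd ⟨q, (PrimeSpectrum.ext h).symm⟩ hp
  choose z hz using hz
  refine ⟨fun p => z p, ?_, fun p hp => (hz p).2 hp⟩
  funext q
  rw [Nmap_apply]
  exact (hz _).1 q rfl

theorem t_apply_eq_zero_of_mem {A : Type u} [CommRing A] (a : A) (p : PrimeSpectrum A)
    (h : a ∈ p.asIdeal) : η.t A a p = 0 := by
  rw [t_apply, Ideal.algebraMap_residueField_eq_zero.mpr h, map_zero]

/-- Components of an element killed by `N(f)` vanish on the image of `Spec f`. -/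
theorem apply_comap_eq_zero_of_Nmap_eq_zero {A B : Type u} [CommRing A] [CommRing B]
    (f : A →+* B) (x : η.N A) (h : η.Nmap f x = 0) (q : PrimeSpectrum B) :
    x (PrimeSpectrum.comap f q) = 0 := by
  have := congrFun h q
  rw [Nmap_apply] at this
  exact (map_eq_zero_iff _ (η.map _).injective).mp this

theorem exists_Nmap_away_eq {A : Type u} [CommRing A] (f : A) (y : η.N (Localization.Away f)) :
    ∃ x : η.N A, η.Nmap (algebraMap A (Localization.Away f)) x = y ∧
      ∀ p : PrimeSpectrum A, f ∈ p.asIdeal → x p = 0 := by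
  obtain ⟨x, hx, hx0⟩ := exists_Nmap_eq_of_surjectiveOnStalks η
    (algebraMap A (Localization.Away f))
    (RingHom.surjectiveOnStalks_of_isLocalization (Submonoid.powers f) (Localization.Away f))
    (PrimeSpectrum.localization_comap_injective (Localization.Away f) (Submonoid.powers f)) y
  refine ⟨x, hx, fun p hp => hx0 p ?_⟩
  rw [PrimeSpectrum.localization_away_comap_range (Localization.Away f) f]
  intro h
  exact h hp

theorem t_mul_eq_zero_of_Nmap_away_eq_zero {A : Type u} [CommRing A] (f : A) (x : η.N A)
    (h : η.Nmap (algebraMap A (Localization.Away f)) x = 0) : η.t A f * x = 0 := by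
  funext p
  show η.t A f p * x p = 0
  by_cases hf : f ∈ p.asIdeal
  · rw [t_apply_eq_zero_of_mem η f p hf, zero_mul]
  · have hp : p ∈ Set.range (PrimeSpectrum.comap (algebraMap A (Localization.Away f))) := by
      rw [PrimeSpectrum.localization_away_comap_range (Localization.Away f) f]
      exact hf
    obtain ⟨q, rfl⟩ := hp
    rw [apply_comap_eq_zero_of_Nmap_eq_zero η _ x h q, mul_zero]

end Groth.Agent.H69
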