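import Groth.Agent.H69.EtaPtInt

set_option autoImplicit false
universe u

namespace Groth.Agent.H69

open EtaPt EtaPt.FieldEndo

variable (η : EtaPt.FieldEndo.{u})

/-- If `N(f)` is injective then `Spec f` is surjective. -/
theorem comap_surjective_of_Nmap_injective {A B : Type u} [CommRing A] [CommRing B] (f : A →+* B)
    (h : Function.Injective (η.Nmap f)) : Function.Surjective (PrimeSpectrum.comap f) := by
  classical
  intro p
  by_contra hp
  push_neg at hp
  let x : η.N A := Pi.single p 1
  have hx : η.Nmap f x = η.Nmap f 0 := by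
    funext q
    rw [Nmap_apply, Nmap_apply]
    have : x (PrimeSpectrum.comap f q) = 0 := Pi.single_eq_of_ne (hp q) _
    rw [this]
    rfl
  have h0 := congrFun (h hx) p
  have h1 : x p = 1 := Pi.single_eq_same p 1
  rw [h1] at h0
  exact one_ne_zero h0

/-- If `N(f)` is surjective then every `F(k(f⁻¹ q)) → F(k(q))` is surjective. -/
theorem map_residue_surjective_of_Nmap_surjective {A B : Type u} [CommRing A] [CommRing B]
    (f : A →+* B) (h : Function.Surjective (η.Nmap f)) (q : PrimeSpectrum B) :
    Function.Surjective
      (η.map (Ideal.ResidueField.map (PrimeSpectrum.comap f q).asIdeal q.asIdeal f rfl)) := by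
  classical
  intro y
  obtain ⟨X, hX⟩ := h (Pi.single q y)
  refine ⟨X (PrimeSpectrum.comap f q), ?_⟩
  have := congrFun hX q
  rw [Nmap_apply, Pi.single_eq_same] at this
  exact this

/-- If `N(f)` is surjective then `Spec f` is injective. -/
theorem comap_injective_of_Nmap_surjective {A B : Type u} [CommRing A] [CommRing B] (f : A →+* B)
    (h : Function.Surjective (η.Nmap f)) : Function.Injective (PrimeSpectrum.comap f) := by
  classical
  intro q q' hqq'
  by_contra hne
  obtain ⟨X, hX⟩ := h (Pi.single q 1)
  have e1 := congrFun hX q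
  have e2 := congrFun hX q'
  rw [Pi.single_eq_same] at e1
  rw [Pi.single_eq_of_ne (Ne.symm hne)] at e2
  rw [Nmap_apply_of_eq η f X q' (PrimeSpectrum.comap f q)
    (by rw [hqq']; rfl)] at e2
  rw [Nmap_apply] at e1
  have h0 : X (PrimeSpectrum.comap f q) = 0 := (map_eq_zero_iff _ (RingHom.injective _)).mp e2
  rw [h0, map_zero] at e1
  exact zero_ne_one e1

/-- Factor a ring map through an injective one when the range condition holds. -/
theorem exists_factor_of_injective {B R L : Type u} [CommRing B] [CommRing R] [CommRing L]
    (ι : R →+* L) (hι : Function.Injective ι) (h : B →+* L) (hmem : ∀ b, h b ∈ ι.range) :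
    ∃ g' : B →+* R, ι.comp g' = h := by
  let e : R ≃+* ι.range :=
    RingEquiv.ofBijective ι.rangeRestrict
      ⟨fun a b hab => hι (congrArg Subtype.val hab), ι.rangeRestrict_surjective⟩
  refine ⟨(e.symm : ι.range →+* R).comp (h.codRestrict ι.range hmem), ?_⟩
  ext b
  have : e ((e.symm : ι.range →+* R) (h.codRestrict ι.range hmem b)) =
      h.codRestrict ι.range hmem b := e.apply_symm_apply _
  exact congrArg Subtype.val this

end Groth.Agent.H69
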