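import Groth.Agent.H69.EtaPtAway
import Groth.Prelude.Def_EGA4b
import Mathlib.RingTheory.LocalProperties.Reduced

set_option autoImplicit false
universe u

namespace Groth.Agent.H69

open EtaPt EtaPt.FieldEndo

variable (η : EtaPt.FieldEndo.{u})

/-- Components of elements of `M(A)` at a prime `P` are determined by those at any `p ≤ P`. -/
theorem apply_eq_of_le {A : Type u} [CommRing A] {x x' : η.N A}
    (hx : x ∈ η.M A) (hx' : x' ∈ η.M A) (p₀ P : PrimeSpectrum A)
    (hle : p₀.asIdeal ≤ P.asIdeal) (h : x p₀ = x' p₀) : x P = x' P := by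
  classical
  have hkerφ : RingHom.ker (evA η p₀) = p₀.asIdeal := ker_evA η p₀
  obtain ⟨V, hV, hcomap⟩ := exists_valuationSubring_comap_eq (evA η p₀) P.asIdeal
    (by rw [hkerφ]; exact hle)
  have hInV : η.InV V := InV_valuationSubring η (eta_bijective_obj η _) V
  obtain ⟨r, hr⟩ := hx V hInV ((evA η p₀).codRestrict V.toSubring hV)
  obtain ⟨r', hr'⟩ := hx' V hInV ((evA η p₀).codRestrict V.toSubring hV)
  have g1 := component_eq_of_valuationSubring η x p₀ V hV r hr
  have g2 := component_eq_of_valuationSubring η x' p₀ V hV r' hr'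
  have hrr' : r = r' := Subtype.ext (by rw [g1, g2, h])
  let q₁ : PrimeSpectrum V := ⟨IsLocalRing.maximalIdeal V, inferInstance⟩
  have hq₁ : P.asIdeal = q₁.asIdeal.comap ((evA η p₀).codRestrict V.toSubring hV) := hcomap.symm
  have e2 := congrFun hr q₁
  have e2' := congrFun hr' q₁
  rw [Nmap_apply_of_eq η _ x q₁ P hq₁] at e2
  rw [Nmap_apply_of_eq η _ x' q₁ P hq₁] at e2'
  rw [hrr'] at e2
  exact (η.map _).injective (e2.symm.trans e2')

theorem isReduced_of_isNormalRing (A : Type u) [CommRing A] (hn : EGA4.IsNormalRing A) :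
    IsReduced A := by
  apply isReduced_ofLocalizationMaximal
  intro J hJ
  haveI := hJ.isPrime
  haveI := (hn J).1
  infer_instance

theorem q_bijective_of_isNormalRing (A : Type u) [CommRing A] (hn : EGA4.IsNormalRing A)
    (hA : (minimalPrimes A).Finite)
    (hη : ∀ p : PrimeSpectrum A, p.asIdeal ∈ minimalPrimes A →
      Function.Bijective (η.eta p.asIdeal.ResidueField)) :
    Function.Bijective (η.q A) := by
  classical
  haveI := isReduced_of_isNormalRing A hn
  constructor
  · intro a b hab
    exact t_injective_of_isReduced η A (congrArg Subtype.val hab)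
  · rintro ⟨x, hx⟩
    let I : Ideal A :=
      { carrier := {a | ∃ b, η.t A a * x = η.t A b}
        zero_mem' := ⟨0, by rw [map_zero, zero_mul]⟩
        add_mem' := by
          rintro a a' ⟨b, hb⟩ ⟨b', hb'⟩
          exact ⟨b + b', by rw [map_add, add_mul, hb, hb', map_add]⟩
        smul_mem' := by
          rintro c a ⟨b, hb⟩
          exact ⟨c * b, by rw [smul_eq_mul, map_mul, mul_assoc, hb, map_mul]⟩ }
    suffices hI : I = ⊤ by
      have h1 : (1 : A) ∈ I := by rw [hI]; trivial
      obtain ⟨b, hb⟩ := h1
      rw [map_one, one_mul] at hb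
      exact ⟨b, Subtype.ext hb.symm⟩
    by_contra hI
    obtain ⟨Pm, hPm, hIP⟩ := Ideal.exists_le_maximal I hI
    haveI hPprime : Pm.IsPrime := hPm.isPrime
    haveI hdom : IsDomain (Localization.AtPrime Pm) := (hn Pm).1
    haveI hic : IsIntegrallyClosed (Localization.AtPrime Pm) := (hn Pm).2
    -- the minimal prime below `Pm`
    obtain ⟨p, hp⟩ : ∃ p : PrimeSpectrum A,
        p.asIdeal = RingHom.ker (algebraMap A (Localization.AtPrime Pm)) :=
      ⟨⟨RingHom.ker (algebraMap A (Localization.AtPrime Pm)), RingHom.ker_isPrime _⟩, rfl⟩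
    have hpP : p.asIdeal ≤ Pm := by
      rw [hp, RingHom.ker_eq_comap_bot]
      have h2 : Ideal.comap (algebraMap A (Localization.AtPrime Pm))
          (IsLocalRing.maximalIdeal (Localization.AtPrime Pm)) = Pm :=
        Localization.AtPrime.under_maximalIdeal
      calc Ideal.comap (algebraMap A (Localization.AtPrime Pm)) ⊥
          ≤ Ideal.comap (algebraMap A (Localization.AtPrime Pm))
            (IsLocalRing.maximalIdeal (Localization.AtPrime Pm)) := Ideal.comap_mono bot_le
        _ = Pm := h2
    have hminmap := IsLocalization.minimalPrimes_map Pm.primeCompl (Localization.AtPrime Pm)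
      (⊥ : Ideal A)
    rw [Ideal.map_bot] at hminmap
    have hbotmin : (⊥ : Ideal (Localization.AtPrime Pm)) ∈
        (⊥ : Ideal (Localization.AtPrime Pm)).minimalPrimes := by
      have := IsDomain.minimalPrimes_eq_singleton_bot (R := Localization.AtPrime Pm)
      show (⊥ : Ideal (Localization.AtPrime Pm)) ∈ minimalPrimes (Localization.AtPrime Pm)
      rw [this]; rfl
    have hpmin : p.asIdeal ∈ minimalPrimes A := by
      rw [hminmap] at hbotmin
      rw [hp, RingHom.ker_eq_comap_bot]
      exact hbotmin
    have huniq : ∀ p' : Ideal A, p' ∈ minimalPrimes A → p' ≤ Pm → p' = p.asIdeal := by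
      intro p' hp' hle
      have hp'prime : p'.IsPrime := hp'.1.1
      have hdisj : Disjoint (Pm.primeCompl : Set A) p' := by
        rw [Set.disjoint_left]
        intro a ha ha'
        exact ha (hle ha')
      have hq'prime := IsLocalization.isPrime_of_isPrime_disjoint Pm.primeCompl
        (Localization.AtPrime Pm) p' hp'prime hdisj
      have hunder := IsLocalization.under_map_of_isPrime_disjoint Pm.primeCompl
        (Localization.AtPrime Pm) hp'prime hdisj
      have hq'min : Ideal.map (algebraMap A (Localization.AtPrime Pm)) p' ∈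
          (⊥ : Ideal (Localization.AtPrime Pm)).minimalPrimes := by
        rw [hminmap]
        show (Ideal.map (algebraMap A (Localization.AtPrime Pm)) p').under A ∈
          (⊥ : Ideal A).minimalPrimes
        rw [hunder]
        exact hp'
      have hq'bot : Ideal.map (algebraMap A (Localization.AtPrime Pm)) p' = ⊥ := by
        have := IsDomain.minimalPrimes_eq_singleton_bot (R := Localization.AtPrime Pm)
        have h3 : Ideal.map (algebraMap A (Localization.AtPrime Pm)) p' ∈
            minimalPrimes (Localization.AtPrime Pm) := hq'min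
        rw [this] at h3
        exact h3
      rw [← hunder, hq'bot, hp, RingHom.ker_eq_comap_bot]
    -- the generic component comes from `k(p)`
    obtain ⟨c, hc⟩ := (hη p hpmin).2 (x p)
    have hcint : (algebraMap A p.asIdeal.ResidueField).IsIntegralElem c := by
      obtain ⟨P', hP'm, hP'0⟩ := component_isIntegralElem η hx p
      refine ⟨P', hP'm, ?_⟩
      rw [← hc] at hP'0
      change Polynomial.eval₂ ((η.eta _).comp (algebraMap A p.asIdeal.ResidueField))
        (η.eta _ c) P' = 0 at hP'0
      rw [← Polynomial.hom_eval₂] at hP'0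
      exact (map_eq_zero_iff _ (eta_injective η _)).mp hP'0
    -- the map `k(p) → Frac (A_P)`
    have hf₁ : p.asIdeal ≤ RingHom.ker ((algebraMap (Localization.AtPrime Pm)
        (FractionRing (Localization.AtPrime Pm))).comp
        (algebraMap A (Localization.AtPrime Pm))) := by
      intro a ha
      rw [hp] at ha
      rw [RingHom.mem_ker, RingHom.comp_apply, RingHom.mem_ker.mp ha, map_zero]
    have hf₂ : p.asIdeal.primeCompl ≤ (IsUnit.submonoid _).comap
        ((algebraMap (Localization.AtPrime Pm)
        (FractionRing (Localization.AtPrime Pm))).comp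
        (algebraMap A (Localization.AtPrime Pm))) := by
      intro a ha
      show IsUnit (algebraMap (Localization.AtPrime Pm) (FractionRing (Localization.AtPrime Pm))
        (algebraMap A (Localization.AtPrime Pm) a))
      rw [isUnit_iff_ne_zero]
      intro h0
      apply ha
      show a ∈ p.asIdeal
      rw [hp, RingHom.mem_ker]
      exact (map_eq_zero_iff _ (IsFractionRing.injective _ _)).mp h0
    obtain ⟨lam, hlam⟩ : ∃ lam : p.asIdeal.ResidueField →+*
        FractionRing (Localization.AtPrime Pm), ∀ a, lam (algebraMap A _ a) =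
          algebraMap (Localization.AtPrime Pm) (FractionRing (Localization.AtPrime Pm))
            (algebraMap A (Localization.AtPrime Pm) a) :=
      ⟨Ideal.ResidueField.lift p.asIdeal _ hf₁ hf₂,
        fun a => Ideal.ResidueField.lift_algebraMap _ _ _ hf₂ a⟩
    have hlamint : IsIntegral (Localization.AtPrime Pm) (lam c) := by
      obtain ⟨P', hP'm, hP'0⟩ := hcint
      refine ⟨P'.map (algebraMap A (Localization.AtPrime Pm)), hP'm.map _, ?_⟩
      rw [Polynomial.eval₂_map]
      have h4 := Polynomial.hom_eval₂ P' (algebraMap A p.asIdeal.ResidueField) lam c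
      rw [hP'0, map_zero] at h4
      have hcomp : lam.comp (algebraMap A p.asIdeal.ResidueField) =
          (algebraMap (Localization.AtPrime Pm) (FractionRing (Localization.AtPrime Pm))).comp
            (algebraMap A (Localization.AtPrime Pm)) := RingHom.ext hlam
      rw [hcomp] at h4
      exact h4.symm
    obtain ⟨z, hz⟩ := IsIntegrallyClosed.isIntegral_iff.mp hlamint
    obtain ⟨⟨a, s⟩, has⟩ := IsLocalization.surj Pm.primeCompl z
    have hcs : c * algebraMap A p.asIdeal.ResidueField (s : A) =
        algebraMap A p.asIdeal.ResidueField a := by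
      apply lam.injective
      rw [map_mul, hlam, hlam, ← hz, ← map_mul]
      exact congrArg _ has
    -- `y = t(s) x - t(a)` vanishes at `p`
    have hy : η.t A (s : A) * x - η.t A a ∈ η.M A :=
      Subring.sub_mem _ (Subring.mul_mem _ (η.t_mem_M A _) hx) (η.t_mem_M A _)
    have hyp : (η.t A (s : A) * x - η.t A a) p = 0 := by
      show η.t A (s : A) p * x p - η.t A a p = 0
      rw [t_apply, t_apply, ← hc, ← map_mul, ← map_sub, mul_comm, hcs, sub_self, map_zero]
    -- prime avoidance
    have havoid : ∃ s' : A, (∀ p' ∈ minimalPrimes A, p' ≠ p.asIdeal → s' ∈ p') ∧ s' ∉ Pm := by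
      have hnot : ¬ ((hA.toFinset.erase p.asIdeal).inf id ≤ Pm) := by
        intro hle
        obtain ⟨p', hp'mem, hp'le⟩ := (Ideal.IsPrime.inf_le' hPprime).mp hle
        rw [Finset.mem_erase, Set.Finite.mem_toFinset] at hp'mem
        exact hp'mem.1 (huniq p' hp'mem.2 hp'le)
      obtain ⟨s', hs'mem, hs'not⟩ := SetLike.not_le_iff_exists.mp hnot
      refine ⟨s', ?_, hs'not⟩
      intro p' hp' hne
      have := (Submodule.mem_finsetInf.mp hs'mem) p'
        (Finset.mem_erase.mpr ⟨hne, hA.mem_toFinset.mpr hp'⟩)
      exact this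
    obtain ⟨s', hs', hs'P⟩ := havoid
    have hkill : η.t A s' * (η.t A (s : A) * x - η.t A a) = 0 := by
      funext P'
      show η.t A s' P' * (η.t A (s : A) * x - η.t A a) P' = 0
      by_cases hle : p.asIdeal ≤ P'.asIdeal
      · have h0 := apply_eq_of_le η hy (η.M A).zero_mem p P' hle hyp
        rw [h0]
        exact mul_zero _
      · obtain ⟨p', hp'min, hp'le⟩ :=
          Ideal.exists_minimalPrimes_le (bot_le : (⊥ : Ideal A) ≤ P'.asIdeal)
        have hne : p' ≠ p.asIdeal := by
          rintro rfl
          exact hle hp'le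
        rw [t_apply_eq_zero_of_mem η s' P' (hp'le (hs' p' hp'min hne)), zero_mul]
    have hmemI : s' * (s : A) ∈ I := by
      refine ⟨s' * a, ?_⟩
      rw [mul_sub, sub_eq_zero] at hkill
      rw [map_mul, map_mul, mul_assoc, hkill]
    have : s' * (s : A) ∈ Pm := hIP hmemI
    rcases hPprime.mem_or_mem this with h | h
    · exact hs'P h
    · exact s.2 h

end Groth.Agent.H69
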