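import Groth.Agent.H69.EtaPtGen

set_option autoImplicit false
universe u

namespace Groth.Agent.H69

open EtaPt EtaPt.FieldEndo

variable (η : EtaPt.FieldEndo.{u})

/-- evaluation `A → F(k(p))`. -/
noncomputable def evA {A : Type u} [CommRing A] (p : PrimeSpectrum A) :
    A →+* η.obj p.asIdeal.ResidueField :=
  (η.eta p.asIdeal.ResidueField).comp (algebraMap A p.asIdeal.ResidueField)

theorem evA_apply {A : Type u} [CommRing A] (p : PrimeSpectrum A) (a : A) :
    evA η p a = η.eta _ (algebraMap A p.asIdeal.ResidueField a) := rfl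

theorem ker_evA {A : Type u} [CommRing A] (p : PrimeSpectrum A) :
    RingHom.ker (evA η p) = p.asIdeal := by
  ext a
  rw [RingHom.mem_ker, evA_apply, map_eq_zero_iff _ (eta_injective η _),
    ← RingHom.mem_ker, Ideal.ker_algebraMap_residueField]

/-- evaluation `M(A) → F(k(p))`. -/
noncomputable def evM {A : Type u} [CommRing A] (p : PrimeSpectrum A) :
    η.M A →+* η.obj p.asIdeal.ResidueField :=
  (Pi.evalRingHom (fun p : PrimeSpectrum A => η.obj p.asIdeal.ResidueField) p).comp
    (η.M A).subtype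

theorem evM_apply {A : Type u} [CommRing A] (p : PrimeSpectrum A) (x : η.M A) :
    evM η p x = (x : η.N A) p := rfl

theorem evM_q {A : Type u} [CommRing A] (p : PrimeSpectrum A) (a : A) :
    evM η p (η.q A a) = evA η p a := rfl

theorem evM_comp_q {A : Type u} [CommRing A] (p : PrimeSpectrum A) :
    (evM η p).comp (η.q A) = evA η p := rfl

theorem component_eq_of_valuationSubring {A : Type u} [CommRing A] (x : η.N A)
    (p : PrimeSpectrum A) (V : ValuationSubring (η.obj p.asIdeal.ResidueField))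
    (hV : ∀ a, evA η p a ∈ V.toSubring) (r : V)
    (hr : η.t V r = η.Nmap ((evA η p).codRestrict V.toSubring hV) x) :
    (r : η.obj p.asIdeal.ResidueField) = x p := by
  have g1 := generic_component η (evA η p) V hV x r hr p (ker_evA η p).symm (η.eta _)
    (fun a => rfl)
  rw [map_eta_eq_eta_obj] at g1
  exact eta_injective η _ g1

theorem component_mem_valuationSubring {A : Type u} [CommRing A] {x : η.N A} (hx : x ∈ η.M A)
    (p : PrimeSpectrum A) (V : ValuationSubring (η.obj p.asIdeal.ResidueField))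
    (hV : ∀ a, evA η p a ∈ V.toSubring) : x p ∈ V := by
  have hInV : η.InV V := InV_valuationSubring η (eta_bijective_obj η _) V
  obtain ⟨r, hr⟩ := hx V hInV ((evA η p).codRestrict V.toSubring hV)
  rw [← component_eq_of_valuationSubring η x p V hV r hr]
  exact r.2

theorem component_isIntegralElem {A : Type u} [CommRing A] {x : η.N A} (hx : x ∈ η.M A)
    (p : PrimeSpectrum A) : (evA η p).IsIntegralElem (x p) :=
  isIntegralElem_of_forall_valuationSubring (evA η p) (x p)
    (fun V hV => component_mem_valuationSubring η hx p V hV)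

/-- `q_A` is integral when `A` has finitely many minimal primes. -/
theorem q_isIntegral (A : Type u) [CommRing A] (hA : (minimalPrimes A).Finite) :
    (η.q A).IsIntegral := by
  classical
  rintro ⟨x, hx⟩
  have hP : ∀ I : Ideal A, ∃ P : Polynomial A, P.Monic ∧ ∀ (hI : I.IsPrime),
      Polynomial.eval₂ (evA η ⟨I, hI⟩) (x ⟨I, hI⟩) P = 0 := by
    intro I
    by_cases hI : I.IsPrime
    · obtain ⟨P, hPm, hP0⟩ := component_isIntegralElem η hx ⟨I, hI⟩
      exact ⟨P, hPm, fun _ => hP0⟩
    · exact ⟨1, Polynomial.monic_one, fun h => absurd h hI⟩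
  choose Pf hPm hP0 using hP
  refine ⟨∏ I ∈ hA.toFinset, Pf I, Polynomial.monic_prod_of_monic _ _ (fun I _ => hPm I), ?_⟩
  apply Subtype.ext
  have h1 : ((Polynomial.eval₂ (η.q A) ⟨x, hx⟩ (∏ I ∈ hA.toFinset, Pf I) : η.M A) : η.N A) =
      Polynomial.eval₂ (η.t A) x (∏ I ∈ hA.toFinset, Pf I) :=
    Polynomial.hom_eval₂ (∏ I ∈ hA.toFinset, Pf I) (η.q A) (η.M A).subtype ⟨x, hx⟩
  rw [h1]
  apply eq_of_minimalPrimes_components η ?_ (η.M A).zero_mem
  · intro p hp
    show Pi.evalRingHom (fun p : PrimeSpectrum A => η.obj p.asIdeal.ResidueField) p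
      (Polynomial.eval₂ (η.t A) x _) = 0
    rw [Polynomial.hom_eval₂, Polynomial.eval₂_finsetProd]
    apply Finset.prod_eq_zero (i := p.asIdeal) (hA.mem_toFinset.mpr hp)
    exact hP0 p.asIdeal p.2
  · rw [← h1]; exact Subtype.property _

/-- The prime of `M(A)` over `P`. -/
noncomputable def primeOver {A : Type u} [CommRing A] (P : PrimeSpectrum A) :
    PrimeSpectrum (η.M A) :=
  ⟨RingHom.ker (evM η P), RingHom.ker_isPrime _⟩

theorem comap_primeOver {A : Type u} [CommRing A] (P : PrimeSpectrum A) :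
    PrimeSpectrum.comap (η.q A) (primeOver η P) = P := by
  apply PrimeSpectrum.ext
  show Ideal.comap (η.q A) (RingHom.ker (evM η P)) = P.asIdeal
  rw [RingHom.comap_ker, evM_comp_q, ker_evA]

/-- Every prime of `M(A)` is the kernel of the evaluation at its contraction. -/
theorem asIdeal_eq_ker_evM {A : Type u} [CommRing A] (hA : (minimalPrimes A).Finite)
    (Q : PrimeSpectrum (η.M A)) :
    Q.asIdeal = RingHom.ker (evM η (PrimeSpectrum.comap (η.q A) Q)) := by
  classical
  obtain ⟨P, hP⟩ : ∃ P, P = PrimeSpectrum.comap (η.q A) Q := ⟨_, rfl⟩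
  rw [← hP]
  -- Step 1: a minimal prime `p` with `ker (evM p) ≤ Q`
  have h1 : ∃ p : PrimeSpectrum A, RingHom.ker (evM η p) ≤ Q.asIdeal := by
    have hinf : (hA.toFinset.inf (fun I : Ideal A =>
        if hI : I.IsPrime then RingHom.ker (evM η ⟨I, hI⟩) else ⊤)) ≤ Q.asIdeal := by
      intro x hx
      have hx0 : x = 0 := by
        apply Subtype.ext
        apply eq_of_minimalPrimes_components η x.2 (η.M A).zero_mem
        intro p hp
        have h2 := (Submodule.mem_finsetInf.mp hx) p.asIdeal (hA.mem_toFinset.mpr hp)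
        rw [dif_pos p.2] at h2
        exact RingHom.mem_ker.mp h2
      rw [hx0]; exact Q.asIdeal.zero_mem
    obtain ⟨I, hI, hle⟩ := (Ideal.IsPrime.inf_le' Q.2).mp hinf
    have hIp : I.IsPrime := (hA.mem_toFinset.mp hI).1.1
    rw [dif_pos hIp] at hle
    exact ⟨⟨I, hIp⟩, hle⟩
  obtain ⟨p, hp⟩ := h1
  have := Q.2
  obtain ⟨V, hV, hcomap⟩ := exists_valuationSubring_comap_eq (evM η p) Q.asIdeal hp
  have hInV : η.InV V := InV_valuationSubring η (eta_bijective_obj η _) V
  have hV' : ∀ a, evA η p a ∈ V.toSubring := fun a => hV (η.q A a)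
  obtain ⟨g, hg⟩ : ∃ g : A →+* V, g = (evA η p).codRestrict V.toSubring hV' := ⟨_, rfl⟩
  let q₁ : PrimeSpectrum V := ⟨IsLocalRing.maximalIdeal V, inferInstance⟩
  have hq₁ : P.asIdeal = q₁.asIdeal.comap g := by
    rw [hP, hg]
    show Ideal.comap (η.q A) Q.asIdeal = _
    rw [← hcomap]
    rfl
  ext x
  obtain ⟨r, hr⟩ := x.2 V hInV ((evA η p).codRestrict V.toSubring hV')
  have hrx : (r : η.obj p.asIdeal.ResidueField) = (x : η.N A) p :=
    component_eq_of_valuationSubring η x p V hV' r hr
  have hrx' : r = (evM η p).codRestrict V.toSubring hV x := Subtype.ext hrx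
  rw [← hg] at hr
  have e1 := congrFun hr q₁
  rw [Nmap_apply_of_eq η g x q₁ P hq₁, t_apply] at e1
  rw [RingHom.mem_ker, evM_apply]
  constructor
  · intro hxQ
    rw [← hcomap, Ideal.mem_comap, ← hrx'] at hxQ
    have h0 : algebraMap V q₁.asIdeal.ResidueField r = 0 :=
      Ideal.algebraMap_residueField_eq_zero.mpr hxQ
    rw [h0, map_zero] at e1
    exact (map_eq_zero_iff _ (η.map _).injective).mp e1.symm
  · intro hx0
    rw [hx0, map_zero] at e1
    have h0 : algebraMap V q₁.asIdeal.ResidueField r = 0 :=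
      (map_eq_zero_iff _ (eta_injective η _)).mp e1
    rw [← hcomap, Ideal.mem_comap, ← hrx']
    exact Ideal.algebraMap_residueField_eq_zero.mp h0

theorem eq_primeOver {A : Type u} [CommRing A] (hA : (minimalPrimes A).Finite)
    (Q : PrimeSpectrum (η.M A)) : Q = primeOver η (PrimeSpectrum.comap (η.q A) Q) :=
  PrimeSpectrum.ext (asIdeal_eq_ker_evM η hA Q)

theorem comap_q_bijective {A : Type u} [CommRing A] (hA : (minimalPrimes A).Finite) :
    Function.Bijective (PrimeSpectrum.comap (η.q A)) :=
  ⟨fun Q Q' h => by rw [eq_primeOver η hA Q, eq_primeOver η hA Q', h],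
    fun P => ⟨primeOver η P, comap_primeOver η P⟩⟩

/-- The residue field factorization `k(P) → k(Q) → F(k(P))` of `η`. -/
theorem exists_residue_factor {A : Type u} [CommRing A] (hA : (minimalPrimes A).Finite)
    (Q : PrimeSpectrum (η.M A)) :
    ∃ φ : Q.asIdeal.ResidueField →+*
        η.obj (PrimeSpectrum.comap (η.q A) Q).asIdeal.ResidueField,
      (∀ x : η.M A, φ (algebraMap (η.M A) Q.asIdeal.ResidueField x) =
        (x : η.N A) (PrimeSpectrum.comap (η.q A) Q)) ∧
      φ.comp (Ideal.ResidueField.map (PrimeSpectrum.comap (η.q A) Q).asIdeal Q.asIdeal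
        (η.q A) rfl) = η.eta (PrimeSpectrum.comap (η.q A) Q).asIdeal.ResidueField := by
  have hQ := asIdeal_eq_ker_evM η hA Q
  have hf₂ : Q.asIdeal.primeCompl ≤ (IsUnit.submonoid _).comap
      (evM η (PrimeSpectrum.comap (η.q A) Q)) := by
    intro x hx
    show IsUnit (evM η (PrimeSpectrum.comap (η.q A) Q) x)
    rw [isUnit_iff_ne_zero]
    intro h0
    apply hx
    show x ∈ Q.asIdeal
    rw [hQ]
    exact RingHom.mem_ker.mpr h0
  refine ⟨Ideal.ResidueField.lift Q.asIdeal (evM η (PrimeSpectrum.comap (η.q A) Q)) hQ.le hf₂,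
    ?_, ?_⟩
  · intro x
    rw [Ideal.ResidueField.lift_algebraMap]
    rfl
  · apply Ideal.ResidueField.ringHom_ext
    ext a
    simp only [RingHom.comp_apply, Ideal.ResidueField.map_algebraMap,
      Ideal.ResidueField.lift_algebraMap]
    rfl

theorem map_residue_bijective {A : Type u} [CommRing A] (hA : (minimalPrimes A).Finite)
    (Q : PrimeSpectrum (η.M A)) :
    Function.Bijective (η.map (Ideal.ResidueField.map
      (PrimeSpectrum.comap (η.q A) Q).asIdeal Q.asIdeal (η.q A) rfl)) := by
  obtain ⟨φ, _, hφ⟩ := exists_residue_factor η hA Q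
  have h := η.bijective_map_eta (PrimeSpectrum.comap (η.q A) Q).asIdeal.ResidueField
  rw [← hφ, η.map_comp, RingHom.coe_comp] at h
  have hφsurj : Function.Surjective (η.map φ) := Function.Surjective.of_comp h.2
  exact (Function.Bijective.of_comp_iff' ⟨(η.map φ).injective, hφsurj⟩ _).mp h

/-- `Nmap f` is bijective as soon as `Spec f` is and `F` of all residue maps are. -/
theorem Nmap_bijective_of_comap_bijective {A B : Type u} [CommRing A] [CommRing B] (f : A →+* B)
    (hf : Function.Bijective (PrimeSpectrum.comap f))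
    (hres : ∀ q : PrimeSpectrum B, Function.Bijective (η.map (Ideal.ResidueField.map
      (PrimeSpectrum.comap f q).asIdeal q.asIdeal f rfl))) :
    Function.Bijective (η.Nmap f) := by
  constructor
  · intro x x' h
    funext p
    obtain ⟨q, rfl⟩ := hf.2 p
    have := congrFun h q
    rw [Nmap_apply, Nmap_apply] at this
    exact (hres q).1 this
  · intro y
    have hz : ∀ p : PrimeSpectrum A, ∃ z : η.obj p.asIdeal.ResidueField,
        ∀ (q : PrimeSpectrum B) (h : p.asIdeal = q.asIdeal.comap f),
          η.map (Ideal.ResidueField.map p.asIdeal q.asIdeal f h) z = y q := by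
      intro p
      obtain ⟨q, rfl⟩ := hf.2 p
      obtain ⟨z, hz⟩ := (hres q).2 (y q)
      refine ⟨z, ?_⟩
      intro q' h
      have : q = q' := hf.1 (PrimeSpectrum.ext h)
      subst this
      exact hz
    choose z hz using hz
    refine ⟨fun p => z p, ?_⟩
    funext q
    rw [Nmap_apply]
    exact hz _ q rfl

/-- `N(q_A)` is bijective. -/
theorem Nmap_q_bijective {A : Type u} [CommRing A] (hA : (minimalPrimes A).Finite) :
    Function.Bijective (η.Nmap (η.q A)) :=
  Nmap_bijective_of_comap_bijective η (η.q A) (comap_q_bijective η hA)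
    (map_residue_bijective η hA)

/-- `N(q_A)` restricted to `M(A)` is `t_{M(A)}`. -/
theorem Nmap_q_eq_t {A : Type u} [CommRing A] (hA : (minimalPrimes A).Finite) (x : η.M A) :
    η.Nmap (η.q A) (x : η.N A) = η.t (η.M A) x := by
  funext Q
  obtain ⟨φ, hφ1, hφ2⟩ := exists_residue_factor η hA Q
  apply (η.map φ).injective
  rw [Nmap_apply, t_apply, map_eta_apply, hφ1]
  have : η.map φ (η.map (Ideal.ResidueField.map (PrimeSpectrum.comap (η.q A) Q).asIdeal
      Q.asIdeal (η.q A) rfl) ((x : η.N A) (PrimeSpectrum.comap (η.q A) Q))) =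
      η.map (φ.comp (Ideal.ResidueField.map (PrimeSpectrum.comap (η.q A) Q).asIdeal
      Q.asIdeal (η.q A) rfl)) ((x : η.N A) (PrimeSpectrum.comap (η.q A) Q)) := by
    rw [η.map_comp]; rfl
  rw [this, hφ2, map_eta_eq_eta_obj]

/-- `t_B` is injective for reduced `B`. -/
theorem t_injective_of_isReduced (B : Type u) [CommRing B] [IsReduced B] :
    Function.Injective (η.t B) := by
  rw [injective_iff_map_eq_zero]
  intro b hb
  have hmem : b ∈ nilradical B := by
    rw [nilradical_eq_sInf, Ideal.mem_sInf]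
    intro I hI
    have hI' : I.IsPrime := hI
    have h0 := congrFun hb ⟨I, hI'⟩
    rw [t_apply] at h0
    have h1 : algebraMap B I.ResidueField b = 0 :=
      (map_eq_zero_iff _ (eta_injective η _)).mp h0
    exact Ideal.algebraMap_residueField_eq_zero.mp h1
  exact (mem_nilradical.mp hmem).eq_zero

end Groth.Agent.H69
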