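import Groth.Agent.H69.EtaPtQ
import Groth.Agent.S13812

set_option autoImplicit false
universe u

namespace Groth.Agent.H69

open EtaPt EtaPt.FieldEndo

variable (η : EtaPt.FieldEndo.{u})

theorem Nmap_injective_of_comap_surjective {A B : Type u} [CommRing A] [CommRing B] (f : A →+* B)
    (hf : Function.Surjective (PrimeSpectrum.comap f)) : Function.Injective (η.Nmap f) := by
  intro x x' h
  funext p
  obtain ⟨q, rfl⟩ := hf p
  have := congrFun h q
  rw [Nmap_apply, Nmap_apply] at this
  exact (η.map _).injective this

theorem mem_rel_iff {A B : Type u} [CommRing A] [CommRing B] (f : A →+* B) (b : B) :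
    b ∈ η.rel f ↔ ∃ x ∈ η.M A, η.Nmap f x = η.t B b := Iff.rfl

theorem qRel_apply {A B : Type u} [CommRing A] [CommRing B] (f : A →+* B) (a : A) :
    ((η.qRel f a : η.rel f) : B) = f a := rfl

end Groth.Agent.H69
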