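import Groth.Agent.H69.EtaPtRel
import Mathlib.RingTheory.Ideal.GoingUp

set_option autoImplicit false
universe u

namespace Groth.Agent.H69

open EtaPt EtaPt.FieldEndo

variable (η : EtaPt.FieldEndo.{u})

theorem isNilpotent_of_t_eq_zero (B : Type u) [CommRing B] (b : B) (hb : η.t B b = 0) :
    IsNilpotent b := by
  have hmem : b ∈ nilradical B := by
    rw [nilradical_eq_sInf, Ideal.mem_sInf]
    intro I hI
    have hI' : I.IsPrime := hI
    have h0 := congrFun hb ⟨I, hI'⟩
    rw [t_apply] at h0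
    have h1 : algebraMap B I.ResidueField b = 0 :=
      (map_eq_zero_iff _ (eta_injective η _)).mp h0
    exact Ideal.algebraMap_residueField_eq_zero.mp h1
  exact mem_nilradical.mp hmem

theorem exists_prime_comap_eq_of_isIntegral {R S : Type*} [CommRing R] [CommRing S] (θ : R →+* S)
    (hθ : θ.IsIntegral) (P : Ideal R) [P.IsPrime] (hker : RingHom.ker θ ≤ P) :
    ∃ Q : Ideal S, Q.IsPrime ∧ Q.comap θ = P := by
  letI := θ.toAlgebra
  haveI : Algebra.IsIntegral R S := ⟨hθ⟩
  have hker' : (⊥ : Ideal S).comap (algebraMap R S) ≤ P := by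
    rw [← RingHom.ker_eq_comap_bot]; exact hker
  obtain ⟨Q, -, hQ, hQP⟩ := Ideal.exists_ideal_over_prime_of_isIntegral P (⊥ : Ideal S) hker'
  exact ⟨Q, hQ, hQP⟩

section rel

variable {A B : Type u} [CommRing A] [CommRing B] (f : A →+* B)
  (hs : Function.Surjective (PrimeSpectrum.comap f))

/-- The canonical map `(B/A)_η → M(A)` when `Spec f` is surjective. -/
noncomputable def relLift : η.rel f →+* η.M A :=
  ((η.M A).equivMapOfInjective (η.Nmap f)
      (Nmap_injective_of_comap_surjective η f hs)).symm.toRingHom.comp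
    ((η.t B).restrict (η.rel f) ((η.M A).map (η.Nmap f)) (fun _ hb => hb))

theorem Nmap_relLift (b : η.rel f) :
    η.Nmap f (relLift η f hs b : η.N A) = η.t B b := by
  have h := (η.M A).coe_equivMapOfInjective_apply (η.Nmap f)
    (Nmap_injective_of_comap_surjective η f hs) (relLift η f hs b)
  rw [← h]
  unfold relLift
  simp only [RingEquiv.toRingHom_eq_coe, RingHom.coe_comp, RingHom.coe_coe, Function.comp_apply,
    RingEquiv.apply_symm_apply]
  rfl

theorem relLift_eq_iff (b : η.rel f) (x : η.M A) :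
    relLift η f hs b = x ↔ η.Nmap f (x : η.N A) = η.t B b := by
  constructor
  · rintro rfl; exact Nmap_relLift η f hs b
  · intro h
    apply Subtype.ext
    apply Nmap_injective_of_comap_surjective η f hs
    rw [Nmap_relLift, h]

theorem relLift_qRel (a : A) : relLift η f hs (η.qRel f a) = η.q A a := by
  rw [relLift_eq_iff]
  exact η.Nmap_t_apply f a

theorem relLift_comp_qRel : (relLift η f hs).comp (η.qRel f) = η.q A :=
  RingHom.ext (relLift_qRel η f hs)

theorem isNilpotent_of_relLift_eq_zero (b : η.rel f) (h : relLift η f hs b = 0) :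
    IsNilpotent b := by
  have h1 : η.t B b = 0 := by
    rw [← Nmap_relLift η f hs b, h]
    exact map_zero _
  obtain ⟨m, hm⟩ := isNilpotent_of_t_eq_zero η B b h1
  exact ⟨m, Subtype.ext hm⟩

include hs in
theorem qRel_isIntegral (hA : (minimalPrimes A).Finite) : (η.qRel f).IsIntegral := by
  intro b
  obtain ⟨P, hPm, hP0⟩ := q_isIntegral η A hA (relLift η f hs b)
  -- apply the subtype map and then `N(f)`
  have h1 : Polynomial.eval₂ (η.t A) (relLift η f hs b : η.N A) P = 0 := by
    have := Polynomial.hom_eval₂ P (η.q A) (η.M A).subtype (relLift η f hs b)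
    rw [hP0, map_zero] at this
    exact this.symm
  have h2 : Polynomial.eval₂ ((η.Nmap f).comp (η.t A)) (η.t B b) P = 0 := by
    have := Polynomial.hom_eval₂ P (η.t A) (η.Nmap f) (relLift η f hs b : η.N A)
    rw [h1, map_zero, Nmap_relLift] at this
    exact this.symm
  have hcomp : (η.Nmap f).comp (η.t A) = (η.t B).comp f :=
    RingHom.ext (fun a => η.Nmap_t_apply f a)
  rw [hcomp, ← Polynomial.hom_eval₂] at h2
  obtain ⟨m, hm⟩ := isNilpotent_of_t_eq_zero η B _ h2
  refine ⟨P ^ m, hPm.pow m, ?_⟩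
  apply Subtype.ext
  refine (Polynomial.hom_eval₂ (P ^ m) (η.qRel f) (η.rel f).subtype b).trans ?_
  show Polynomial.eval₂ f (b : B) (P ^ m) = 0
  rw [Polynomial.eval₂_pow, hm]

theorem relLift_isIntegral (hA : (minimalPrimes A).Finite) : (relLift η f hs).IsIntegral := by
  apply RingHom.IsIntegral.tower_top (η.qRel f)
  rw [relLift_comp_qRel]
  exact q_isIntegral η A hA

theorem exists_prime_over_rel (hA : (minimalPrimes A).Finite) (Q : PrimeSpectrum (η.rel f)) :
    ∃ Q' : PrimeSpectrum (η.M A), PrimeSpectrum.comap (relLift η f hs) Q' = Q := by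
  have hQ := Q.2
  have hker : RingHom.ker (relLift η f hs) ≤ Q.asIdeal := by
    intro b hb
    obtain ⟨m, hm⟩ := isNilpotent_of_relLift_eq_zero η f hs b (RingHom.mem_ker.mp hb)
    exact hQ.mem_of_pow_mem m (hm ▸ Q.asIdeal.zero_mem)
  obtain ⟨Q', hQ', hcomap⟩ := exists_prime_comap_eq_of_isIntegral (relLift η f hs)
    (relLift_isIntegral η f hs hA) Q.asIdeal hker
  exact ⟨⟨Q', hQ'⟩, PrimeSpectrum.ext hcomap⟩

theorem mem_prime_rel_iff (hA : (minimalPrimes A).Finite) (Q : PrimeSpectrum (η.rel f))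
    (b : η.rel f) :
    b ∈ Q.asIdeal ↔
      (relLift η f hs b : η.N A) (PrimeSpectrum.comap (η.qRel f) Q) = 0 := by
  obtain ⟨Q', rfl⟩ := exists_prime_over_rel η f hs hA Q
  have h1 : PrimeSpectrum.comap (η.qRel f) (PrimeSpectrum.comap (relLift η f hs) Q') =
      PrimeSpectrum.comap (η.q A) Q' := by
    apply PrimeSpectrum.ext
    show Ideal.comap (η.qRel f) (Ideal.comap (relLift η f hs) Q'.asIdeal) = _
    rw [Ideal.comap_comap, relLift_comp_qRel]
    rfl
  rw [h1]
  show relLift η f hs b ∈ Q'.asIdeal ↔ _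
  rw [asIdeal_eq_ker_evM η hA Q', RingHom.mem_ker]
  rfl

include hs in
theorem comap_qRel_bijective (hA : (minimalPrimes A).Finite) :
    Function.Bijective (PrimeSpectrum.comap (η.qRel f)) := by
  constructor
  · intro Q₁ Q₂ h
    apply PrimeSpectrum.ext
    ext b
    rw [mem_prime_rel_iff η f hs hA Q₁, mem_prime_rel_iff η f hs hA Q₂, h]
  · intro P
    obtain ⟨Q, rfl⟩ := hs P
    exact ⟨PrimeSpectrum.comap (η.rel f).subtype Q, rfl⟩

include hs in
/-- The residue field factorization for `(B/A)_η`. -/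
theorem exists_residue_factor_rel (hA : (minimalPrimes A).Finite) (Q : PrimeSpectrum (η.rel f)) :
    ∃ φ : Q.asIdeal.ResidueField →+*
        η.obj (PrimeSpectrum.comap (η.qRel f) Q).asIdeal.ResidueField,
      φ.comp (Ideal.ResidueField.map (PrimeSpectrum.comap (η.qRel f) Q).asIdeal Q.asIdeal
        (η.qRel f) rfl) = η.eta (PrimeSpectrum.comap (η.qRel f) Q).asIdeal.ResidueField := by
  obtain ⟨ev, hev⟩ : ∃ ev : η.rel f →+* η.obj (PrimeSpectrum.comap (η.qRel f) Q).asIdeal.ResidueField,
      ev = (evM η (PrimeSpectrum.comap (η.qRel f) Q)).comp (relLift η f hs) := ⟨_, rfl⟩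
  have hmem : ∀ b : η.rel f, b ∈ Q.asIdeal ↔ ev b = 0 := by
    intro b
    rw [mem_prime_rel_iff η f hs hA Q b, hev]
    rfl
  have hf₁ : Q.asIdeal ≤ RingHom.ker ev := fun b hb => RingHom.mem_ker.mpr ((hmem b).mp hb)
  have hf₂ : Q.asIdeal.primeCompl ≤ (IsUnit.submonoid _).comap ev := by
    intro x hx
    show IsUnit (ev x)
    rw [isUnit_iff_ne_zero]
    intro h0
    exact hx ((hmem x).mpr h0)
  refine ⟨Ideal.ResidueField.lift Q.asIdeal ev hf₁ hf₂, ?_⟩
  apply Ideal.ResidueField.ringHom_ext
  ext a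
  simp only [RingHom.comp_apply, Ideal.ResidueField.map_algebraMap,
    Ideal.ResidueField.lift_algebraMap]
  rw [hev, RingHom.comp_apply, relLift_qRel]
  rfl

include hs in
theorem map_residue_bijective_rel (hA : (minimalPrimes A).Finite) (Q : PrimeSpectrum (η.rel f)) :
    Function.Bijective (η.map (Ideal.ResidueField.map
      (PrimeSpectrum.comap (η.qRel f) Q).asIdeal Q.asIdeal (η.qRel f) rfl)) := by
  obtain ⟨φ, hφ⟩ := exists_residue_factor_rel η f hs hA Q
  have h := η.bijective_map_eta (PrimeSpectrum.comap (η.qRel f) Q).asIdeal.ResidueField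
  rw [← hφ, η.map_comp, RingHom.coe_comp] at h
  have hφsurj : Function.Surjective (η.map φ) := Function.Surjective.of_comp h.2
  exact (Function.Bijective.of_comp_iff' ⟨(η.map φ).injective, hφsurj⟩ _).mp h

include hs in
theorem Nmap_qRel_bijective (hA : (minimalPrimes A).Finite) :
    Function.Bijective (η.Nmap (η.qRel f)) :=
  Nmap_bijective_of_comap_bijective η (η.qRel f) (comap_qRel_bijective η f hs hA)
    (map_residue_bijective_rel η f hs hA)

include hs in
theorem comap_subtype_rel_surjective (hA : (minimalPrimes A).Finite) :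
    Function.Surjective (PrimeSpectrum.comap (η.rel f).subtype) := by
  intro Q
  obtain ⟨QB, hQB⟩ := hs (PrimeSpectrum.comap (η.qRel f) Q)
  refine ⟨QB, (comap_qRel_bijective η f hs hA).1 ?_⟩
  rw [← hQB]
  rfl

/-- `N(q_{B/A})` composed with the lift is `t`. -/
theorem Nmap_qRel_relLift (hA : (minimalPrimes A).Finite) (b : η.rel f) :
    η.Nmap (η.qRel f) (relLift η f hs b : η.N A) = η.t (η.rel f) b := by
  apply Nmap_injective_of_comap_surjective η (η.rel f).subtype
    (comap_subtype_rel_surjective η f hs hA)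
  rw [← Nmap_comp, η.Nmap_t_apply]
  exact Nmap_relLift η f hs b

end rel

end Groth.Agent.H69
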