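import Groth.Agent.H69.EtaPtRel2
import Mathlib.RingTheory.Valuation.ValuationSubring

set_option autoImplicit false
universe u

namespace Groth.Agent.H69

open EtaPt EtaPt.FieldEndo

variable (η : EtaPt.FieldEndo.{u})

/-- Membership in `M(A)` can be tested on valuation subrings of the fields `F(k(p))`. -/
theorem mem_M_of_residue_tests {A : Type u} [CommRing A] (x : η.N A)
    (h : ∀ (p : PrimeSpectrum A) (V : ValuationSubring (η.obj p.asIdeal.ResidueField))
      (hV : ∀ a, evA η p a ∈ V.toSubring),
      η.Nmap ((evA η p).codRestrict V.toSubring hV) x ∈ (η.t V).range) : x ∈ η.M A := by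
  intro R _ _ _ hR g
  obtain ⟨p, hp⟩ : ∃ p : PrimeSpectrum A, p.asIdeal = RingHom.ker g :=
    ⟨⟨RingHom.ker g, RingHom.ker_isPrime g⟩, rfl⟩
  have hf₁ : p.asIdeal ≤ RingHom.ker ((algebraMap R (FractionRing R)).comp g) := by
    intro a ha
    rw [hp] at ha
    have : g a = 0 := ha
    rw [RingHom.mem_ker, RingHom.comp_apply, this, map_zero]
  have hf₂ : p.asIdeal.primeCompl ≤
      (IsUnit.submonoid (FractionRing R)).comap ((algebraMap R (FractionRing R)).comp g) := by
    intro a ha
    show IsUnit (algebraMap R (FractionRing R) (g a))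
    rw [isUnit_iff_ne_zero]
    intro h0
    apply ha
    show a ∈ p.asIdeal
    rw [hp]
    show g a = 0
    exact (map_eq_zero_iff _ (IsFractionRing.injective R (FractionRing R))).mp h0
  let gb : p.asIdeal.ResidueField →+* FractionRing R :=
    Ideal.ResidueField.lift p.asIdeal ((algebraMap R (FractionRing R)).comp g) hf₁ hf₂
  have hgb : ∀ a, gb (algebraMap A p.asIdeal.ResidueField a) =
      algebraMap R (FractionRing R) (g a) := fun a =>
    Ideal.ResidueField.lift_algebraMap _ _ _ hf₂ a
  let ηK : FractionRing R ≃+* η.obj (FractionRing R) := RingEquiv.ofBijective (η.eta _) hR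
  let σ : η.obj p.asIdeal.ResidueField →+* FractionRing R :=
    (ηK.symm : η.obj (FractionRing R) →+* FractionRing R).comp (η.map gb)
  have hσ : ∀ z, σ (η.eta _ z) = gb z := by
    intro z
    show ηK.symm (η.map gb (η.eta _ z)) = gb z
    rw [RingEquiv.symm_apply_eq, map_eta_apply]
    rfl
  let V₀ : ValuationSubring (FractionRing R) :=
    (ValuationRing.valuation R (FractionRing R)).valuationSubring
  let V : ValuationSubring (η.obj p.asIdeal.ResidueField) := V₀.comap σ
  have hV : ∀ a, evA η p a ∈ V.toSubring := by
    intro a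
    show σ (evA η p a) ∈ (ValuationRing.valuation R (FractionRing R)).integer
    rw [evA_apply, hσ, hgb]
    exact (ValuationRing.mem_integer_iff R (FractionRing R) _).mpr ⟨g a, rfl⟩
  obtain ⟨r, hr⟩ := h p V hV
  let τ : V →+* R :=
    (ValuationRing.equivInteger R (FractionRing R)).symm.toRingHom.comp
      (σ.restrict V.toSubring (ValuationRing.valuation R (FractionRing R)).integer
        (fun v hv => hv))
  have hτ : τ.comp ((evA η p).codRestrict V.toSubring hV) = g := by
    apply RingHom.ext
    intro a
    show (ValuationRing.equivInteger R (FractionRing R)).symm _ = g a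
    rw [RingEquiv.symm_apply_eq]
    apply Subtype.ext
    show σ (evA η p a) = algebraMap R (FractionRing R) (g a)
    rw [evA_apply, hσ, hgb]
  refine ⟨τ r, ?_⟩
  rw [← hτ, Nmap_comp, ← hr]
  exact (η.Nmap_t_apply τ r).symm

/-- Extension of a valuation subring along a field extension, with prescribed centre on `V`
and containing all elements integral over `V`. -/
theorem exists_valuationSubring_extension {L L' : Type u} [Field L] [Field L'] (ι : L →+* L')
    (V : ValuationSubring L) (𝔮 : Ideal V) [𝔮.IsPrime] :
    ∃ W : ValuationSubring L', (∀ s : L', (ι.comp V.subtype).IsIntegralElem s → s ∈ W) ∧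
      ∃ hVW : ∀ v : V, (ι.comp V.subtype) v ∈ W.toSubring,
        Ideal.comap ((ι.comp V.subtype).codRestrict W.toSubring hVW)
          (IsLocalRing.maximalIdeal W) = 𝔮 := by
  letI : Algebra V L' := (ι.comp V.subtype).toAlgebra
  have hinj : Function.Injective (algebraMap V (integralClosure V L')) := by
    intro a b hab
    have h1 : algebraMap V L' a = algebraMap V L' b := congrArg Subtype.val hab
    exact Subtype.ext (ι.injective h1)
  have hker : (⊥ : Ideal (integralClosure V L')).comap (algebraMap V (integralClosure V L')) ≤ 𝔮 := by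
    rw [← RingHom.ker_eq_comap_bot, (RingHom.injective_iff_ker_eq_bot _).mp hinj]
    exact bot_le
  obtain ⟨𝔔, -, h𝔔p, h𝔔⟩ := Ideal.exists_ideal_over_prime_of_isIntegral 𝔮
    (⊥ : Ideal (integralClosure V L')) hker
  have hkerφ : RingHom.ker ((integralClosure V L').val.toRingHom) ≤ 𝔔 := by
    rw [(RingHom.injective_iff_ker_eq_bot _).mp Subtype.val_injective]
    exact bot_le
  obtain ⟨W, hW, hcomap⟩ := exists_valuationSubring_comap_eq
    (integralClosure V L').val.toRingHom 𝔔 hkerφ
  refine ⟨W, ?_, ?_, ?_⟩
  · intro s hs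
    exact hW ⟨s, hs⟩
  · intro v
    exact hW (algebraMap V (integralClosure V L') v)
  · rw [← h𝔔, ← hcomap]
    rfl

end Groth.Agent.H69
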