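import Groth.Agent.H69.EtaPtQ
import Mathlib.FieldTheory.Perfect

set_option autoImplicit false
universe u

namespace Groth.Agent.H69

open EtaPt EtaPt.FieldEndo

variable (η : EtaPt.FieldEndo.{u})

/-- The generic component is injective on `M(A)` for any domain `A`. -/
theorem injOn_generic (A : Type u) [CommRing A] [IsDomain A] :
    Set.InjOn (fun x : η.N A => x ⟨⊥, Ideal.isPrime_bot⟩) (η.M A) := by
  intro x hx x' hx' h0
  apply eq_of_minimalPrimes_components η hx hx'
  intro p hp
  rw [IsDomain.minimalPrimes_eq_singleton_bot, Set.mem_singleton_iff] at hp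
  obtain rfl : p = ⟨⊥, Ideal.isPrime_bot⟩ := PrimeSpectrum.ext hp
  exact h0

theorem exists_algebraMap_eq_of_isIntegralElem_eta (R : Type u) [CommRing R] [IsDomain R]
    [IsIntegrallyClosed R] (c : (⊥ : Ideal R).ResidueField)
    (h : ((η.eta (⊥ : Ideal R).ResidueField).comp
      (algebraMap R (⊥ : Ideal R).ResidueField)).IsIntegralElem (η.eta _ c)) :
    ∃ r : R, algebraMap R (⊥ : Ideal R).ResidueField r = c := by
  obtain ⟨P, hPm, hP0⟩ := h
  rw [← Polynomial.hom_eval₂] at hP0
  have h1 : Polynomial.eval₂ (algebraMap R _) c P = 0 :=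
    (map_eq_zero_iff _ (eta_injective η _)).mp hP0
  have hint : IsIntegral R c := ⟨P, hPm, h1⟩
  exact IsIntegrallyClosed.isIntegral_iff.mp hint

theorem charP_of_ringHom {R k : Type*} [CommRing R] [Field k] (φ : R →+* k) (p : ℕ)
    (hp : p.Prime) [CharP R p] : CharP k p := by
  have h0 : ((p : ℕ) : k) = 0 := by
    have : ((p : ℕ) : R) = 0 := CharP.cast_eq_zero R p
    rw [← map_natCast φ, this, map_zero]
  have hdvd := ringChar.dvd h0
  have h1 : ringChar k = p := by
    rcases (Nat.dvd_prime hp).mp hdvd with h | h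
    · exact absurd h CharP.ringChar_ne_one
    · exact h
  exact ringChar.of_eq h1

theorem exists_mem_M_generic_of_InV (R : Type u) [CommRing R] [IsDomain R] [IsIntegrallyClosed R]
    (h : η.InV R) (y : η.obj (⊥ : Ideal R).ResidueField)
    (hy : ((η.eta (⊥ : Ideal R).ResidueField).comp
      (algebraMap R (⊥ : Ideal R).ResidueField)).IsIntegralElem y) :
    ∃ x ∈ η.M R, x ⟨⊥, Ideal.isPrime_bot⟩ = y := by
  obtain ⟨c, rfl⟩ := (eta_bijective_bot η h).2 y
  obtain ⟨r, rfl⟩ := exists_algebraMap_eq_of_isIntegralElem_eta η R c hy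
  exact ⟨η.t R r, η.t_mem_M R r, rfl⟩

theorem eta_bijective_of_charZero (K : Type u) [Field K] [CharZero K] :
    Function.Bijective (η.eta K) := by
  refine ⟨eta_injective η K, fun x => ?_⟩
  obtain ⟨n, a, ha⟩ := η.exists_pow_mem_range_eta K x
  rw [ringExpChar.eq_one, one_pow, pow_one] at ha
  exact ⟨a, ha⟩

theorem isIntegralElem_pow {R S : Type*} [CommRing R] [CommRing S] (f : R →+* S) {y : S}
    (hy : f.IsIntegralElem y) (m : ℕ) : f.IsIntegralElem (y ^ m) := by
  letI := f.toAlgebra
  have h : IsIntegral R y := hy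
  exact h.pow m

theorem exists_mem_M_generic_of_perfect (R : Type u) [CommRing R] [IsDomain R]
    [IsIntegrallyClosed R] (p : ℕ) (hp : p.Prime) [CharP R p]
    (hperf : ∀ (k : Type u) [Field k], CharP k p → Function.Bijective (η.eta k) → PerfectField k)
    (y : η.obj (⊥ : Ideal R).ResidueField)
    (hy : ((η.eta (⊥ : Ideal R).ResidueField).comp
      (algebraMap R (⊥ : Ideal R).ResidueField)).IsIntegralElem y) :
    ∃ x ∈ η.M R, x ⟨⊥, Ideal.isPrime_bot⟩ = y := by
  classical
  haveI : CharP (⊥ : Ideal R).ResidueField p :=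
    charP_of_ringHom (algebraMap R (⊥ : Ideal R).ResidueField) p hp
  haveI : ExpChar (⊥ : Ideal R).ResidueField p := ExpChar.prime hp
  obtain ⟨n, c, hc⟩ := η.exists_pow_mem_range_eta (⊥ : Ideal R).ResidueField y
  rw [ringExpChar.eq (⊥ : Ideal R).ResidueField p] at hc
  have hint := isIntegralElem_pow _ hy (p ^ n)
  rw [← hc] at hint
  obtain ⟨r, hr⟩ := exists_algebraMap_eq_of_isIntegralElem_eta η R c hint
  have hroot : ∀ 𝔭 : PrimeSpectrum R, ∃ w : η.obj 𝔭.asIdeal.ResidueField,
      w ^ p ^ n = η.t R r 𝔭 := by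
    intro 𝔭
    haveI : CharP 𝔭.asIdeal.ResidueField p :=
      charP_of_ringHom (algebraMap R 𝔭.asIdeal.ResidueField) p hp
    haveI hcF : CharP (η.obj 𝔭.asIdeal.ResidueField) p :=
      charP_of_injective_ringHom (η.eta 𝔭.asIdeal.ResidueField).injective p
    haveI : PerfectField (η.obj 𝔭.asIdeal.ResidueField) :=
      hperf _ hcF (eta_bijective_obj η _)
    haveI : ExpChar (η.obj 𝔭.asIdeal.ResidueField) p := ExpChar.prime hp
    obtain ⟨w, hw⟩ := (bijective_iterateFrobenius (η.obj 𝔭.asIdeal.ResidueField) p n).2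
      (η.t R r 𝔭)
    exact ⟨w, by rw [← iterateFrobenius_def]; exact hw⟩
  choose x hx using hroot
  have hxpow : x ^ p ^ n = η.t R r := funext hx
  refine ⟨x, ?_, ?_⟩
  · intro R' _ _ _ hR' g
    haveI hcK' : CharP (FractionRing R') p :=
      charP_of_ringHom ((algebraMap R' (FractionRing R')).comp g) p hp
    haveI : PerfectField (FractionRing R') := hperf (FractionRing R') hcK' hR'
    haveI : ExpChar (FractionRing R') p := ExpChar.prime hp
    obtain ⟨s, hs⟩ := (bijective_iterateFrobenius (FractionRing R') p n).2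
      (algebraMap R' (FractionRing R') (g r))
    rw [iterateFrobenius_def] at hs
    have hsint : IsIntegral R' s := by
      apply IsIntegral.of_pow (pow_pos hp.pos n)
      rw [hs]; exact isIntegral_algebraMap
    obtain ⟨r', hr'⟩ := IsIntegrallyClosed.isIntegral_iff.mp hsint
    have hr'pow : r' ^ p ^ n = g r := by
      apply IsFractionRing.injective R' (FractionRing R')
      rw [map_pow, hr', hs]
    refine ⟨r', ?_⟩
    funext 𝔮
    haveI : CharP 𝔮.asIdeal.ResidueField p :=
      charP_of_ringHom ((algebraMap R' 𝔮.asIdeal.ResidueField).comp g) p hp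
    haveI : ExpChar 𝔮.asIdeal.ResidueField p := ExpChar.prime hp
    apply pow_expChar_pow_inj η 𝔮.asIdeal.ResidueField p n
    have h1 : (η.t R' r' 𝔮) ^ p ^ n = η.t R' (g r) 𝔮 := by
      rw [← hr'pow, map_pow]; rfl
    have h2 : (η.Nmap g x 𝔮) ^ p ^ n = η.t R' (g r) 𝔮 := by
      rw [← η.Nmap_t_apply g r, ← hxpow, map_pow]; rfl
    rw [h1, h2]
  · apply pow_expChar_pow_inj η (⊥ : Ideal R).ResidueField p n
    rw [hx, t_apply, hr, hc]

/-- The hypothesis on `η` used for valuation rings. -/
theorem exists_mem_M_generic (R : Type u) [CommRing R] [IsDomain R] [IsIntegrallyClosed R]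
    (hη : η.InV R ∨ ∀ (k : Type u) [Field k], ringChar k = ringChar R →
      Function.Bijective (η.eta k) → PerfectField k)
    (y : η.obj (⊥ : Ideal R).ResidueField)
    (hy : ((η.eta (⊥ : Ideal R).ResidueField).comp
      (algebraMap R (⊥ : Ideal R).ResidueField)).IsIntegralElem y) :
    ∃ x ∈ η.M R, x ⟨⊥, Ideal.isPrime_bot⟩ = y := by
  rcases hη with h | h
  · exact exists_mem_M_generic_of_InV η R h y hy
  · by_cases h0 : ringChar R = 0
    · haveI : CharP R 0 := ringChar.of_eq h0
      haveI : CharZero R := (CharP.charP_zero_iff_charZero R).mp inferInstance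
      haveI : CharZero (FractionRing R) :=
        charZero_of_injective_algebraMap (IsFractionRing.injective R (FractionRing R))
      exact exists_mem_M_generic_of_InV η R (eta_bijective_of_charZero η _) y hy
    · haveI : CharP R (ringChar R) := ringChar.charP R
      have hp : (ringChar R).Prime := (CharP.char_is_prime_or_zero R (ringChar R)).resolve_right h0
      apply exists_mem_M_generic_of_perfect η R (ringChar R) hp ?_ y hy
      intro k _ hk hb
      exact h k (ringChar.eq k (ringChar R)) hb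

theorem image_generic_M_eq (R : Type u) [CommRing R] [IsDomain R] [IsIntegrallyClosed R]
    (hη : η.InV R ∨ ∀ (k : Type u) [Field k], ringChar k = ringChar R →
      Function.Bijective (η.eta k) → PerfectField k) :
    (fun x : η.N R => x ⟨⊥, Ideal.isPrime_bot⟩) '' (η.M R : Set (η.N R)) =
      {y | ((η.eta (⊥ : Ideal R).ResidueField).comp
        (algebraMap R (⊥ : Ideal R).ResidueField)).IsIntegralElem y} := by
  ext y
  constructor
  · rintro ⟨x, hx, rfl⟩
    exact component_isIntegralElem η hx ⟨⊥, Ideal.isPrime_bot⟩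
  · intro hy
    obtain ⟨x, hx, hxy⟩ := exists_mem_M_generic η R hη y hy
    exact ⟨x, hx, hxy⟩

end Groth.Agent.H69
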