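import Groth.Agent.H69.EtaPt

set_option autoImplicit false
universe u

namespace Groth.Agent.H69

open EtaPt EtaPt.FieldEndo

/-- A ring map to a field and a prime containing its kernel: there is a valuation subring of the
field containing the image whose maximal ideal pulls back to the prime. -/
theorem exists_valuationSubring_comap_eq {A : Type u} [CommRing A] {L : Type u} [Field L]
    (φ : A →+* L) (p : Ideal A) [hpp : p.IsPrime] (hp : RingHom.ker φ ≤ p) :
    ∃ (V : ValuationSubring L) (h : ∀ a, φ a ∈ V.toSubring),
      Ideal.comap (φ.codRestrict V.toSubring h) (IsLocalRing.maximalIdeal V) = p := by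
  classical
  let B := A ⧸ RingHom.ker φ
  let mk : A →+* B := Ideal.Quotient.mk (RingHom.ker φ)
  have hmk : Function.Surjective mk := Ideal.Quotient.mk_surjective
  let φb : B →+* L := RingHom.kerLift φ
  have hφb : Function.Injective φb := RingHom.kerLift_injective φ
  let pb : Ideal B := p.map mk
  have hker : RingHom.ker mk ≤ p := by
    rw [Ideal.mk_ker]; exact hp
  have hpb : pb.IsPrime := Ideal.map_isPrime_of_surjective hmk hker
  have hcomap : pb.comap mk = p := Ideal.comap_map_of_surjective' mk hmk p ▸ by
    rw [sup_eq_left]; exact hker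
  let S := Localization.AtPrime pb
  have hunits : ∀ y : pb.primeCompl, IsUnit (φb y) := by
    intro y
    rw [isUnit_iff_ne_zero]
    intro h0
    have : (y : B) = 0 := hφb (by rw [h0, map_zero])
    exact y.2 (this ▸ pb.zero_mem)
  let f : S →+* L := IsLocalization.lift (M := pb.primeCompl) (g := φb) hunits
  have hf : ∀ b : B, f (algebraMap B S b) = φb b := fun b => IsLocalization.lift_eq _ _
  obtain ⟨V, h, hloc⟩ := IsLocalRing.exists_factor_valuationRing f
  have hmem : ∀ a, φ a ∈ V.toSubring := by
    intro a
    have : φ a = f (algebraMap B S (mk a)) := by rw [hf]; rfl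
    rw [this]
    exact h _
  refine ⟨V, hmem, ?_⟩
  ext a
  rw [Ideal.mem_comap, IsLocalRing.mem_maximalIdeal]
  have h1 : (φ.codRestrict V.toSubring hmem) a =
      (f.codRestrict V.toSubring h) (algebraMap B S (mk a)) := by
    apply Subtype.ext
    show φ a = f (algebraMap B S (mk a))
    rw [hf]; rfl
  rw [h1]
  change (f.codRestrict V.toSubring h) (algebraMap B S (mk a)) ∈ nonunits V.toSubring ↔ _
  rw [map_mem_nonunits_iff, ← IsLocalRing.mem_maximalIdeal,
    IsLocalization.AtPrime.to_map_mem_maximal_iff S pb, ← hcomap, Ideal.mem_comap]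

theorem InV_valuationSubring (η : EtaPt.FieldEndo.{u}) {L : Type u} [Field L]
    (hL : Function.Bijective (η.eta L)) (V : ValuationSubring L) : η.InV V :=
  eta_bijective_of_ringEquiv η (FractionRing.algEquiv V L).symm.toRingEquiv hL

end Groth.Agent.H69
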