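import Mathlib
import Groth.Prelude.Def_FEt
import Groth.Agent.H68.TopInv

set_option autoImplicit false
set_option linter.style.haveILetI false
set_option linter.unusedSectionVars false
set_option backward.isDefEq.respectTransparency false
universe u
open AlgebraicGeometry CategoryTheory CategoryTheory.Limits

namespace Groth.Agent.H69.FEtGlue

/-- A morphism of étale `X`-schemes which becomes an isomorphism after a universally
homeomorphic cover is an isomorphism. -/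
theorem isIso_of_univHomeo_cover {X A B A' B' : Scheme.{u}} (a : A ⟶ X) (b : B ⟶ X) [Etale a]
    [Etale b] (g : A ⟶ B) (hg : g ≫ b = a) (qA : A' ⟶ A) [Surjective qA]
    (qB : B' ⟶ B) [IsIntegralHom qB] [UniversallyInjective qB] [Surjective qB]
    (g' : A' ⟶ B') [IsIso g'] (hsq : g' ≫ qB = qA ≫ g) : IsIso g := by
  obtain ⟨h, hh1, hh2⟩ := H68.TopInv.surj a b qB (inv g' ≫ qA) (by
    rw [Category.assoc, ← hg, ← Category.assoc qA, ← hsq]; simp)
  have h1 : g ≫ h = 𝟙 A := H68.TopInv.inj a qA (g ≫ h) (𝟙 A)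
    (by rw [Category.assoc, hh1, hg, Category.id_comp]) (by
      rw [← Category.assoc, ← hsq, Category.assoc, hh2, IsIso.hom_inv_id_assoc, Category.comp_id])
  have h2 : h ≫ g = 𝟙 B := H68.TopInv.inj b qB (h ≫ g) (𝟙 B)
    (by rw [Category.assoc, hg, hh1, Category.id_comp]) (by
      rw [← Category.assoc, hh2, Category.assoc, ← hsq, IsIso.inv_hom_id_assoc, Category.comp_id])
  exact ⟨h, h1, h2⟩

section Glue

variable {X' X : Scheme.{u}} (π : X' ⟶ X) (𝒰 : Scheme.OpenCover.{u} X) [Category 𝒰.I₀]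
  [𝒰.LocallyDirected] {Z : Scheme.{u}} (ζ : Z ⟶ X')

/-- The charts `Z_i = Z ×_X U_i`. -/
noncomputable abbrev Zi (i : 𝒰.I₀) : Scheme.{u} := pullback (ζ ≫ π) (𝒰.f i)

/-- `Z_i ⟶ Z`. -/
noncomputable abbrev ιZ (i : 𝒰.I₀) : Zi π 𝒰 ζ i ⟶ Z := pullback.fst (ζ ≫ π) (𝒰.f i)

/-- `Z_i ⟶ U_i`. -/
noncomputable abbrev sZ (i : 𝒰.I₀) : Zi π 𝒰 ζ i ⟶ 𝒰.X i := pullback.snd (ζ ≫ π) (𝒰.f i)

/-- The transition maps `Z_i ⟶ Z_j`. -/
noncomputable def trZ {i j : 𝒰.I₀} (hij : i ⟶ j) : Zi π 𝒰 ζ i ⟶ Zi π 𝒰 ζ j :=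
  pullback.map (ζ ≫ π) (𝒰.f i) (ζ ≫ π) (𝒰.f j) (𝟙 _) (𝒰.trans hij) (𝟙 _)
    (by simp) (by simp)

@[reassoc (attr := simp)]
theorem trZ_fst {i j : 𝒰.I₀} (hij : i ⟶ j) : trZ π 𝒰 ζ hij ≫ ιZ π 𝒰 ζ j = ιZ π 𝒰 ζ i := by
  simp [trZ, ιZ, pullback.map]

@[reassoc (attr := simp)]
theorem trZ_snd {i j : 𝒰.I₀} (hij : i ⟶ j) :
    trZ π 𝒰 ζ hij ≫ sZ π 𝒰 ζ j = sZ π 𝒰 ζ i ≫ 𝒰.trans hij := by
  simp [trZ, sZ, pullback.map]

theorem trZ_id (i : 𝒰.I₀) : trZ π 𝒰 ζ (𝟙 i) = 𝟙 _ := by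
  apply pullback.hom_ext
  · simp
  · simp [𝒰.trans_id]

theorem trZ_comp {i j k : 𝒰.I₀} (f : i ⟶ j) (g : j ⟶ k) :
    trZ π 𝒰 ζ (f ≫ g) = trZ π 𝒰 ζ f ≫ trZ π 𝒰 ζ g := by
  apply pullback.hom_ext
  · have h1 := trZ_fst π 𝒰 ζ (f ≫ g)
    have h2 := trZ_fst π 𝒰 ζ f
    have h3 := trZ_fst π 𝒰 ζ g
    simp only [ιZ] at h1 h2 h3
    rw [h1, Category.assoc, h3, h2]
  · have h1 := trZ_snd π 𝒰 ζ (f ≫ g)
    have h2 := trZ_snd π 𝒰 ζ f
    have h3 := trZ_snd π 𝒰 ζ g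
    simp only [sZ] at h1 h2 h3
    rw [h1, Category.assoc, h3, reassoc_of% h2, 𝒰.trans_comp]

/-- The local structure maps `Z_i ⟶ X'_i`. -/
noncomputable def zloc (i : 𝒰.I₀) : Zi π 𝒰 ζ i ⟶ pullback π (𝒰.f i) :=
  pullback.map (ζ ≫ π) (𝒰.f i) π (𝒰.f i) ζ (𝟙 _) (𝟙 _) (by simp) (by simp)

@[reassoc (attr := simp)]
theorem zloc_fst (i : 𝒰.I₀) : zloc π 𝒰 ζ i ≫ pullback.fst π (𝒰.f i) = ιZ π 𝒰 ζ i ≫ ζ := by
  simp [zloc, ιZ, pullback.map]

@[reassoc (attr := simp)]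
theorem zloc_snd (i : 𝒰.I₀) : zloc π 𝒰 ζ i ≫ pullback.snd π (𝒰.f i) = sZ π 𝒰 ζ i := by
  simp [zloc, sZ, pullback.map]

theorem isPullback_zloc (i : 𝒰.I₀) :
    IsPullback (ιZ π 𝒰 ζ i) (zloc π 𝒰 ζ i) ζ (pullback.fst π (𝒰.f i)) := by
  have hbig : IsPullback (ιZ π 𝒰 ζ i) (zloc π 𝒰 ζ i ≫ pullback.snd π (𝒰.f i)) (ζ ≫ π)
      (𝒰.f i) := by
    rw [zloc_snd]
    exact IsPullback.of_hasPullback _ _
  exact IsPullback.of_bot hbig (zloc_fst π 𝒰 ζ i).symm (IsPullback.of_hasPullback _ _)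

theorem isPullback_trZ {i j : 𝒰.I₀} (hij : i ⟶ j) :
    IsPullback (sZ π 𝒰 ζ i) (trZ π 𝒰 ζ hij) (𝒰.trans hij) (sZ π 𝒰 ζ j) := by
  have hbig : IsPullback (sZ π 𝒰 ζ i) (trZ π 𝒰 ζ hij ≫ ιZ π 𝒰 ζ j) (𝒰.trans hij ≫ 𝒰.f j)
      (ζ ≫ π) := by
    rw [trZ_fst, 𝒰.trans_map hij]
    exact (IsPullback.of_hasPullback (ζ ≫ π) (𝒰.f i)).flip
  exact IsPullback.of_bot hbig (trZ_snd π 𝒰 ζ hij).symm
    (IsPullback.of_hasPullback (ζ ≫ π) (𝒰.f j)).flip

theorem prop_toBase [Quiver.IsThin 𝒰.I₀] [Small.{u} 𝒰.I₀] (d : 𝒰.RelativeGluingData)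
    (P : MorphismProperty Scheme.{u}) [IsZariskiLocalAtTarget P]
    (hw : ∀ i, P (d.natTrans.app i)) : P d.toBase := by
  rw [IsZariskiLocalAtTarget.iff_of_openCover (P := P) 𝒰]
  intro i
  rw [Scheme.Cover.pullbackHom, ← (d.isPullback_natTrans_ι_toBase i).flip.isoPullback_inv_snd,
    P.cancel_left_of_respectsIso]
  exact hw i

theorem isPullback_glued [Quiver.IsThin 𝒰.I₀] [Small.{u} 𝒰.I₀] (d : 𝒰.RelativeGluingData)
    (q : ∀ i, Zi π 𝒰 ζ i ⟶ d.functor.obj i)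
    (hqw : ∀ i, q i ≫ d.natTrans.app i = sZ π 𝒰 ζ i)
    (ht2 : ∀ (i j : 𝒰.I₀) (hij : i ⟶ j), q i ≫ d.functor.map hij = trZ π 𝒰 ζ hij ≫ q j)
    (hP : ∀ i, IsPullback (q i) (ιZ π 𝒰 ζ i ≫ ζ) (d.natTrans.app i ≫ 𝒰.f i) π) :
    ∃ qg : Z ⟶ d.glued, IsPullback qg ζ d.toBase π := by
  have hι : ∀ i, IsPullback (d.natTrans.app i) (colimit.ι d.functor i) (𝒰.f i) d.toBase :=
    fun i => d.isPullback_natTrans_ι_toBase i
  let 𝒱 : Z.OpenCover := 𝒰.pullback₁ (ζ ≫ π)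
  have hcompat : ∀ {i j : 𝒰.I₀} (hij : i ⟶ j),
      trZ π 𝒰 ζ hij ≫ q j ≫ colimit.ι d.functor j = q i ≫ colimit.ι d.functor i := by
    intro i j hij
    rw [← Category.assoc, ← ht2, Category.assoc]
    congr 1
    exact colimit.w d.functor hij
  let qg : Z ⟶ d.glued := 𝒱.glueMorphismsOfLocallyDirected
    (fun i => q i ≫ colimit.ι d.functor i) (fun {i j} hij => hcompat hij)
  have hqg : ∀ i, ιZ π 𝒰 ζ i ≫ qg = q i ≫ colimit.ι d.functor i := fun i =>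
    𝒱.map_glueMorphismsOfLocallyDirected (fun i => q i ≫ colimit.ι d.functor i)
      (fun {i j} hij => hcompat hij) i
  have hqgw : qg ≫ d.toBase = ζ ≫ π := by
    refine 𝒱.hom_ext _ _ fun i => ?_
    show ιZ π 𝒰 ζ i ≫ qg ≫ d.toBase = ιZ π 𝒰 ζ i ≫ ζ ≫ π
    rw [reassoc_of% (hqg i), (hι i).w.symm, reassoc_of% (hqw i)]
    exact pullback.condition.symm
  refine ⟨qg, ?_⟩
  refine Scheme.isPullback_of_openCover qg ζ d.toBase π d.cover ?_
  intro i
  have hA : IsPullback (ιZ π 𝒰 ζ i) (q i) qg (colimit.ι d.functor i) := by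
    have hbig : IsPullback (q i ≫ d.natTrans.app i) (ιZ π 𝒰 ζ i) (𝒰.f i) (qg ≫ d.toBase) := by
      rw [hqw, hqgw]
      exact (IsPullback.of_hasPullback (ζ ≫ π) (𝒰.f i)).flip
    exact (IsPullback.of_right hbig (hqg i).symm (hι i)).flip
  let e : Zi π 𝒰 ζ i ≅ pullback qg (colimit.ι d.functor i) := hA.isoPullback
  have e1 : e.hom ≫ pullback.fst qg (colimit.ι d.functor i) = ιZ π 𝒰 ζ i :=
    hA.isoPullback_hom_fst
  have e2 : e.hom ≫ pullback.snd qg (colimit.ι d.functor i) = q i := hA.isoPullback_hom_snd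
  refine (hP i).of_iso e (Iso.refl _) (Iso.refl _) (Iso.refl _) ?_ ?_ ?_ ?_
  · exact (Category.comp_id _).trans e2.symm
  · refine (Category.comp_id _).trans ?_
    rw [← e1, Category.assoc]
    rfl
  · refine (Category.comp_id _).trans (((hι i).w).trans (Category.id_comp _).symm)
  · exact (Category.comp_id _).trans (Category.id_comp _).symm

/-- **Gluing local descents.**  If finite étale covers descend along `π` over every member
of a locally directed open cover of `X`, they descend over `X`. -/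
theorem exists_descent_of_cover [IsIntegralHom π] [UniversallyInjective π] [Surjective π]
    [Quiver.IsThin 𝒰.I₀] [Small.{u} 𝒰.I₀]
    (H : ∀ (i : 𝒰.I₀) (Z : Scheme.{u}) (z : Z ⟶ pullback π (𝒰.f i)) [IsFinite z] [Etale z],
      ∃ (W : Scheme.{u}) (w : W ⟶ 𝒰.X i) (q : Z ⟶ W),
        IsPullback q z w (pullback.snd π (𝒰.f i)) ∧ IsFinite w ∧ Etale w)
    [IsFinite ζ] [Etale ζ] :
    ∃ (W : Scheme.{u}) (w : W ⟶ X) (q : Z ⟶ W), IsPullback q ζ w π ∧ IsFinite w ∧ Etale w := by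
  haveI hzf : ∀ i, IsFinite (zloc π 𝒰 ζ i) := fun i =>
    MorphismProperty.of_isPullback (P := @IsFinite) (isPullback_zloc π 𝒰 ζ i) inferInstance
  haveI hze : ∀ i, Etale (zloc π 𝒰 ζ i) := fun i =>
    MorphismProperty.of_isPullback (P := @Etale) (isPullback_zloc π 𝒰 ζ i) inferInstance
  choose W w q hpb hfin het using fun i => H i (Zi π 𝒰 ζ i) (zloc π 𝒰 ζ i)
  haveI := hfin
  haveI := het
  -- the key pullback squares over `π`
  have hP : ∀ i, IsPullback (q i) (ιZ π 𝒰 ζ i ≫ ζ) (w i ≫ 𝒰.f i) π := by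
    intro i
    have := (hpb i).paste_vert (IsPullback.of_hasPullback π (𝒰.f i)).flip
    rwa [zloc_fst] at this
  have hqw : ∀ i, q i ≫ w i = sZ π 𝒰 ζ i := fun i => by
    rw [(hpb i).w, zloc_snd]
  haveI hq1 : ∀ i, IsIntegralHom (q i) := fun i =>
    MorphismProperty.of_isPullback (P := @IsIntegralHom) (hP i).flip inferInstance
  haveI hq2 : ∀ i, UniversallyInjective (q i) := fun i =>
    MorphismProperty.of_isPullback (P := @UniversallyInjective) (hP i).flip inferInstance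
  haveI hq3 : ∀ i, Surjective (q i) := fun i =>
    MorphismProperty.of_isPullback (P := @Surjective) (hP i).flip inferInstance
  -- transition maps
  have ht : ∀ (i j : 𝒰.I₀) (hij : i ⟶ j), ∃ t : W i ⟶ W j,
      t ≫ (w j ≫ 𝒰.f j) = w i ≫ 𝒰.f i ∧ q i ≫ t = trZ π 𝒰 ζ hij ≫ q j := by
    intro i j hij
    refine H68.TopInv.surj (w j ≫ 𝒰.f j) (w i ≫ 𝒰.f i) (q i) (trZ π 𝒰 ζ hij ≫ q j) ?_
    rw [Category.assoc, (hP j).w, (hP i).w]
    simp only [Category.assoc, trZ_fst_assoc]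
  choose t ht1 ht2 using ht
  have huniq : ∀ (i j : 𝒰.I₀) (φ ψ : W i ⟶ W j), φ ≫ (w j ≫ 𝒰.f j) = ψ ≫ (w j ≫ 𝒰.f j) →
      q i ≫ φ = q i ≫ ψ → φ = ψ := fun i j φ ψ h1 h2 =>
    H68.TopInv.inj (w j ≫ 𝒰.f j) (q i) φ ψ h1 h2
  have hwnat : ∀ (i j : 𝒰.I₀) (hij : i ⟶ j), t i j hij ≫ w j = w i ≫ 𝒰.trans hij := by
    intro i j hij
    rw [← cancel_mono (𝒰.f j), Category.assoc, ht1, Category.assoc, 𝒰.trans_map]
  let F : 𝒰.I₀ ⥤ Scheme.{u} :=
    { obj := W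
      map := fun {i j} hij => t i j hij
      map_id := fun i => huniq i i _ _ (by rw [ht1, Category.id_comp])
        (by rw [ht2, trZ_id, Category.id_comp, Category.comp_id])
      map_comp := fun {i j k} f g => huniq i k _ _
        (by rw [ht1, Category.assoc, ht1, ht1])
        (by rw [ht2, trZ_comp, ← Category.assoc (q i), ht2, Category.assoc, Category.assoc, ht2]) }
  let α : F ⟶ 𝒰.functorOfLocallyDirected :=
    { app := fun i => w i
      naturality := fun i j hij => hwnat i j hij }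
  -- the transition squares are cartesian
  have heq : NatTrans.Equifibered α := by
    intro i j hij
    show IsPullback (t i j hij) (w i) (w j) (𝒰.trans hij)
    let g : W i ⟶ pullback (w j) (𝒰.trans hij) := pullback.lift (t i j hij) (w i) (hwnat i j hij)
    let qB : Zi π 𝒰 ζ i ⟶ pullback (w j) (𝒰.trans hij) :=
      pullback.lift (trZ π 𝒰 ζ hij ≫ q j) (sZ π 𝒰 ζ i)
        (by rw [Category.assoc, hqw, trZ_snd])
    have hqB : IsPullback (trZ π 𝒰 ζ hij) qB (q j) (pullback.fst (w j) (𝒰.trans hij)) := by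
      have hbig : IsPullback (qB ≫ pullback.snd (w j) (𝒰.trans hij)) (trZ π 𝒰 ζ hij)
          (𝒰.trans hij) (q j ≫ w j) := by
        rw [hqw, pullback.lift_snd]
        exact isPullback_trZ π 𝒰 ζ hij
      exact (IsPullback.of_right hbig (pullback.lift_fst _ _ _)
        (IsPullback.of_hasPullback (w j) (𝒰.trans hij)).flip).flip
    haveI : IsIntegralHom qB :=
      MorphismProperty.of_isPullback (P := @IsIntegralHom) hqB inferInstance
    haveI : UniversallyInjective qB :=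
      MorphismProperty.of_isPullback (P := @UniversallyInjective) hqB inferInstance
    haveI : Surjective qB :=
      MorphismProperty.of_isPullback (P := @Surjective) hqB inferInstance
    haveI : IsIso g := by
      refine isIso_of_univHomeo_cover (w i ≫ 𝒰.f i)
        (pullback.snd (w j) (𝒰.trans hij) ≫ 𝒰.f i) g ?_ (q i) qB (𝟙 _) ?_
      · rw [pullback.lift_snd_assoc]
      · rw [Category.id_comp]
        apply pullback.hom_ext
        · rw [pullback.lift_fst, Category.assoc, pullback.lift_fst, ht2]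
        · rw [pullback.lift_snd, Category.assoc, pullback.lift_snd, hqw]
    exact IsPullback.of_iso_pullback ⟨hwnat i j hij⟩ (asIso g) (pullback.lift_fst _ _ _)
      (pullback.lift_snd _ _ _)
  let d : 𝒰.RelativeGluingData := ⟨F, α, heq⟩
  obtain ⟨qg, hqg⟩ := isPullback_glued π 𝒰 ζ d q hqw (fun i j hij => ht2 i j hij) hP
  exact ⟨d.glued, d.toBase, qg, hqg, prop_toBase 𝒰 d @IsFinite hfin, prop_toBase 𝒰 d @Etale het⟩

end Glue

/-- Essential surjectivity of `FEt.restrict π` from descent of every finite étale cover. -/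
theorem essSurj_restrict_of_exists {X' X : Scheme.{u}} (π : X' ⟶ X)
    (H : ∀ (Z : Scheme.{u}) (ζ : Z ⟶ X') [IsFinite ζ] [Etale ζ],
      ∃ (W : Scheme.{u}) (w : W ⟶ X) (q : Z ⟶ W), IsPullback q ζ w π ∧ IsFinite w ∧ Etale w) :
    (FEt.restrict π).EssSurj := by
  refine ⟨fun Z => ?_⟩
  haveI : IsFinite Z.hom := Z.prop.1
  haveI : Etale Z.hom := Z.prop.2
  obtain ⟨W, w, q, hpb, hfin, het⟩ := H Z.left Z.hom
  let Wobj : FEt.Cat X := MorphismProperty.Over.mk ⊤ w ⟨hfin, het⟩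
  refine ⟨Wobj, ⟨?_⟩⟩
  refine MorphismProperty.Over.isoMk hpb.isoPullback.symm ?_
  show hpb.isoPullback.inv ≫ Z.hom = pullback.snd w π
  rw [Iso.inv_comp_eq]
  exact hpb.isoPullback_hom_snd.symm

end Groth.Agent.H69.FEtGlue
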