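import Groth.Agent.H69.DirColim
import Mathlib

set_option autoImplicit false
universe u
open CategoryTheory MvPolynomial

namespace Groth.Agent.H69
namespace FPC

variable {A B : Type u} [CommRing A] [CommRing B] [Algebra A B]

/-- Evaluation of polynomials in the variables `X_b` at `b`. -/
noncomputable def piB : MvPolynomial B A →ₐ[A] B := MvPolynomial.aeval id

theorem piB_X (b : B) : piB (A := A) (X b) = b := by simp [piB]

/-- Polynomials in the variables from `S`. -/
noncomputable abbrev PS (A : Type u) [CommRing A] {B : Type u} (S : Finset B) :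
    Subalgebra A (MvPolynomial B A) :=
  MvPolynomial.supported A (S : Set B)

theorem X_mem_PS {S : Finset B} {b : B} (hb : b ∈ S) : (X b : MvPolynomial B A) ∈ PS A S := by
  show X b ∈ MvPolynomial.supported A (S : Set B)
  rw [MvPolynomial.supported_eq_adjoin_X]
  exact Algebra.subset_adjoin ⟨b, hb, rfl⟩

theorem PS_mono {S S' : Finset B} (h : S ⊆ S') : PS A S ≤ PS A S' :=
  MvPolynomial.supported_mono (Finset.coe_subset.mpr h)

/-- The ideal generated by the relations from `T` which lie in `PS A S`. -/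
noncomputable def IT (S : Finset B) (T : Finset (MvPolynomial B A)) : Ideal (PS A S) :=
  Ideal.span {x | (x : MvPolynomial B A) ∈ T}

/-- The finitely presented algebra attached to `(S, T)`. -/
def Cq (S : Finset B) (T : Finset (MvPolynomial B A)) : Type u := PS A S ⧸ IT S T

noncomputable instance instCommRingCq (S : Finset B) (T : Finset (MvPolynomial B A)) :
    CommRing (Cq S T) :=
  inferInstanceAs (CommRing (PS A S ⧸ IT S T))

noncomputable instance instAlgebraCq (S : Finset B) (T : Finset (MvPolynomial B A)) :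
    Algebra A (Cq S T) :=
  inferInstanceAs (Algebra A (PS A S ⧸ IT S T))

/-- The quotient map. -/
noncomputable def mkq (S : Finset B) (T : Finset (MvPolynomial B A)) : PS A S →ₐ[A] Cq S T :=
  Ideal.Quotient.mkₐ A (IT S T)

theorem mkq_surjective (S : Finset B) (T : Finset (MvPolynomial B A)) :
    Function.Surjective (mkq S T) := Ideal.Quotient.mk_surjective

theorem mkq_eq_zero {S : Finset B} {T : Finset (MvPolynomial B A)} (x : PS A S)
    (hx : (x : MvPolynomial B A) ∈ T) : mkq S T x = 0 :=
  Ideal.Quotient.eq_zero_iff_mem.mpr (Ideal.subset_span hx)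

theorem mkq_eq {S : Finset B} {T : Finset (MvPolynomial B A)} (x y : PS A S)
    (h : (x : MvPolynomial B A) - (y : MvPolynomial B A) ∈ T) : mkq S T x = mkq S T y := by
  rw [← sub_eq_zero, ← map_sub]
  exact mkq_eq_zero (x - y) h

theorem fp (S : Finset B) (T : Finset (MvPolynomial B A)) :
    Algebra.FinitePresentation A (Cq S T) := by
  haveI : Finite (↑(S : Set B)) := Set.finite_coe_iff.mpr S.finite_toSet
  haveI : Algebra.FinitePresentation A (PS A S) :=
    Algebra.FinitePresentation.equiv (MvPolynomial.supportedEquivMvPolynomial (S : Set B)).symm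
  have hfin : Set.Finite {x : PS A S | (x : MvPolynomial B A) ∈ T} :=
    Set.Finite.preimage (Subtype.val_injective.injOn) T.finite_toSet
  have hfg : (IT S T).FG := Submodule.fg_span hfin
  exact Algebra.FinitePresentation.quotient hfg

/-- Transition maps. -/
noncomputable def tr {S S' : Finset B} {T T' : Finset (MvPolynomial B A)} (hS : S ⊆ S')
    (hT : T ⊆ T') : Cq S T →ₐ[A] Cq S' T' :=
  Ideal.Quotient.liftₐ (IT S T)
    ((mkq S' T').comp (Subalgebra.inclusion (PS_mono hS)))
    (by
      intro x hx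
      have hle : IT S T ≤ RingHom.ker (((mkq S' T').comp
          (Subalgebra.inclusion (PS_mono (A := A) hS))) : PS A S →+* Cq S' T') := by
        apply Ideal.span_le.mpr
        intro y hy
        rw [SetLike.mem_coe, RingHom.mem_ker]
        exact mkq_eq_zero (Subalgebra.inclusion (PS_mono (A := A) hS) y) (hT hy)
      exact hle hx)

theorem tr_mkq {S S' : Finset B} {T T' : Finset (MvPolynomial B A)} (hS : S ⊆ S')
    (hT : T ⊆ T') (q : MvPolynomial B A) (hq : q ∈ PS A S) :
    tr hS hT (mkq S T ⟨q, hq⟩) = mkq S' T' ⟨q, PS_mono hS hq⟩ := rfl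

/-- The map to `B`. -/
noncomputable def toB {S : Finset B} {T : Finset (MvPolynomial B A)}
    (hT : ∀ t ∈ T, piB t = 0) : Cq S T →ₐ[A] B :=
  Ideal.Quotient.liftₐ (IT S T) (piB.comp (PS A S).val)
    (by
      intro x hx
      have hle : IT S T ≤ RingHom.ker ((piB.comp (PS A S).val : PS A S →ₐ[A] B) : PS A S →+* B) := by
        apply Ideal.span_le.mpr
        intro y hy
        rw [SetLike.mem_coe, RingHom.mem_ker]
        exact hT _ hy
      exact hle hx)

theorem toB_mkq {S : Finset B} {T : Finset (MvPolynomial B A)}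
    (hT : ∀ t ∈ T, piB t = 0) (q : MvPolynomial B A) (hq : q ∈ PS A S) :
    toB hT (mkq S T ⟨q, hq⟩) = piB q := rfl

theorem gen_top {S : Finset B} {T : Finset (MvPolynomial B A)} (G : Subalgebra A (Cq S T))
    (h : ∀ b (hb : b ∈ S), mkq S T ⟨X b, X_mem_PS hb⟩ ∈ G) : G = ⊤ := by
  have key : ∀ (q : MvPolynomial B A)
      (hq : q ∈ Algebra.adjoin A (MvPolynomial.X '' (S : Set B))),
      ∀ hq' : q ∈ PS A S, mkq S T ⟨q, hq'⟩ ∈ G := by
    intro q hq
    induction hq using Algebra.adjoin_induction with
    | mem x hx =>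
      intro hq'
      obtain ⟨b, hb, rfl⟩ := hx
      exact h b hb
    | algebraMap r =>
      intro hq'
      have e : (⟨algebraMap A (MvPolynomial B A) r, hq'⟩ : PS A S) = algebraMap A (PS A S) r := rfl
      rw [e, AlgHom.commutes]
      exact G.algebraMap_mem r
    | add x y hx hy ihx ihy =>
      intro hq'
      have hx' : x ∈ PS A S := by
        show x ∈ MvPolynomial.supported A (S : Set B)
        rw [MvPolynomial.supported_eq_adjoin_X]; exact hx
      have hy' : y ∈ PS A S := by
        show y ∈ MvPolynomial.supported A (S : Set B)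
        rw [MvPolynomial.supported_eq_adjoin_X]; exact hy
      have e : (⟨x + y, hq'⟩ : PS A S) = ⟨x, hx'⟩ + ⟨y, hy'⟩ := rfl
      rw [e, map_add]
      exact G.add_mem (ihx hx') (ihy hy')
    | mul x y hx hy ihx ihy =>
      intro hq'
      have hx' : x ∈ PS A S := by
        show x ∈ MvPolynomial.supported A (S : Set B)
        rw [MvPolynomial.supported_eq_adjoin_X]; exact hx
      have hy' : y ∈ PS A S := by
        show y ∈ MvPolynomial.supported A (S : Set B)
        rw [MvPolynomial.supported_eq_adjoin_X]; exact hy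
      have e : (⟨x * y, hq'⟩ : PS A S) = ⟨x, hx'⟩ * ⟨y, hy'⟩ := rfl
      rw [e, map_mul]
      exact G.mul_mem (ihx hx') (ihy hy')
  rw [eq_top_iff]
  intro x _
  obtain ⟨⟨q, hq⟩, rfl⟩ := mkq_surjective S T x
  have hq' : q ∈ Algebra.adjoin A (MvPolynomial.X '' (S : Set B)) := by
    rw [← MvPolynomial.supported_eq_adjoin_X]; exact hq
  exact key q hq' hq


section good
open scoped Classical
variable (good : ∀ (C : Type u) [CommRing C] [Algebra A C], Subalgebra A C)

/-- The pair `(S, T)` consists of relations valid in `B` and gives a good algebra. -/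
def IsGood (j : Finset B × Finset (MvPolynomial B A)) : Prop :=
  (∀ t ∈ j.2, piB t = 0) ∧ good (Cq j.1 j.2) = ⊤

theorem isGood_of_gens {S : Finset B} {T : Finset (MvPolynomial B A)}
    (hT : ∀ t ∈ T, piB t = 0)
    (h : ∀ b (hb : b ∈ S), mkq S T ⟨X b, X_mem_PS hb⟩ ∈ good (Cq S T)) :
    IsGood good (S, T) := ⟨hT, gen_top _ h⟩

theorem isGood_empty : IsGood good ((∅ : Finset B), (∅ : Finset (MvPolynomial B A))) := by
  apply isGood_of_gens
  · intro t ht; exact absurd ht (Finset.notMem_empty t)
  · intro b hb; exact absurd hb (Finset.notMem_empty b)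

variable (hfun : ∀ (C C' : Type u) [CommRing C] [CommRing C'] [Algebra A C] [Algebra A C']
    (h : C →ₐ[A] C'), good C ≤ (good C').comap h)

include hfun in
theorem mk_mem_good_of_le {S S' : Finset B} {T T' : Finset (MvPolynomial B A)}
    (hg : IsGood good (S, T)) (hS : S ⊆ S') (hT : T ⊆ T') (q : MvPolynomial B A)
    (hq : q ∈ PS A S) :
    mkq S' T' ⟨q, PS_mono hS hq⟩ ∈ good (Cq S' T') := by
  have htop : good (Cq S T) = ⊤ := hg.2
  have h1 : mkq S T ⟨q, hq⟩ ∈ good (Cq S T) := by
    rw [htop]; exact Algebra.mem_top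
  have h2 : tr hS hT (mkq S T ⟨q, hq⟩) ∈ good (Cq S' T') :=
    (Subalgebra.mem_comap _ _ _).mp (hfun (Cq S T) (Cq S' T') (tr hS hT) h1)
  rw [tr_mkq] at h2
  exact h2

include hfun in
theorem isGood_union {j j' : Finset B × Finset (MvPolynomial B A)} (hj : IsGood good j)
    (hj' : IsGood good j') : IsGood good (j.1 ∪ j'.1, j.2 ∪ j'.2) := by
  apply isGood_of_gens
  · intro t ht
    rcases Finset.mem_union.mp ht with h | h
    · exact hj.1 t h
    · exact hj'.1 t h
  · intro b hb
    rcases Finset.mem_union.mp hb with h | h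
    · exact mk_mem_good_of_le good hfun (S := j.1) (T := j.2) hj Finset.subset_union_left
        Finset.subset_union_left (X b) (X_mem_PS h)
    · exact mk_mem_good_of_le good hfun (S := j'.1) (T := j'.2) hj' Finset.subset_union_right
        Finset.subset_union_right (X b) (X_mem_PS h)

include hfun in
theorem isGood_insert_rel {S : Finset B} {T : Finset (MvPolynomial B A)}
    (hg : IsGood good (S, T)) (q : MvPolynomial B A) (hq : piB q = 0) :
    IsGood good (S, insert q T) := by
  apply isGood_of_gens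
  · intro t ht
    rcases Finset.mem_insert.mp ht with h | h
    · rw [h]; exact hq
    · exact hg.1 t h
  · intro b hb
    exact mk_mem_good_of_le good hfun hg (Finset.Subset.refl S) (Finset.subset_insert q T) (X b)
      (X_mem_PS hb)

include hfun in
theorem isGood_image {S : Finset B} {T : Finset (MvPolynomial B A)}
    (hg : IsGood good (S, T)) (r : MvPolynomial B A) (hr : r ∈ PS A S) :
    IsGood good (insert (piB r) S, insert (X (piB r) - r) T) := by
  have hSS : S ⊆ insert (piB r) S := Finset.subset_insert (piB r) S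
  have hTT : T ⊆ insert (X (piB r) - r) T := Finset.subset_insert (X (piB r) - r) T
  apply isGood_of_gens
  · intro t ht
    rcases Finset.mem_insert.mp ht with h | h
    · rw [h, map_sub, piB_X, sub_self]
    · exact hg.1 t h
  · intro b hb
    have hrmem := mk_mem_good_of_le good hfun hg hSS hTT r hr
    rcases Finset.mem_insert.mp hb with h | h
    · subst h
      have e : mkq (insert (piB r) S) (insert (X (piB r) - r) T) ⟨X (piB r), X_mem_PS hb⟩ =
          mkq (insert (piB r) S) (insert (X (piB r) - r) T) ⟨r, PS_mono hSS hr⟩ :=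
        mkq_eq _ _ (Finset.mem_insert_self _ _)
      rw [e]
      exact hrmem
    · exact mk_mem_good_of_le good hfun hg hSS hTT (X b) (X_mem_PS h)

variable (hsq : ∀ (C : Type u) [CommRing C] [Algebra A C] (x : C),
    x ^ 2 ∈ good C → x ^ 3 ∈ good C → x ∈ good C)

include hfun hsq in
theorem isGood_sqcube {S : Finset B} {T : Finset (MvPolynomial B A)}
    (hg : IsGood good (S, T)) (b : B) (h2 : b ^ 2 ∈ S) (h3 : b ^ 3 ∈ S) :
    IsGood good (insert b S,
      insert (X b ^ 2 - X (b ^ 2)) (insert (X b ^ 3 - X (b ^ 3)) T)) := by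
  have hSS : S ⊆ insert b S := Finset.subset_insert b S
  have hTT : T ⊆ insert (X b ^ 2 - X (b ^ 2) : MvPolynomial B A)
      (insert (X b ^ 3 - X (b ^ 3)) T) :=
    (Finset.subset_insert _ _).trans (Finset.subset_insert _ _)
  apply isGood_of_gens
  · intro t ht
    rcases Finset.mem_insert.mp ht with h | h
    · rw [h, map_sub, map_pow, piB_X, piB_X, sub_self]
    · rcases Finset.mem_insert.mp h with h | h
      · rw [h, map_sub, map_pow, piB_X, piB_X, sub_self]
      · exact hg.1 t h
  · intro c hc
    rcases Finset.mem_insert.mp hc with h | h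
    · subst h
      apply hsq
      · have e : (mkq (insert c S)
            (insert (X c ^ 2 - X (c ^ 2)) (insert (X c ^ 3 - X (c ^ 3)) T))
            ⟨X c, X_mem_PS hc⟩) ^ 2 =
            mkq (insert c S)
            (insert (X c ^ 2 - X (c ^ 2)) (insert (X c ^ 3 - X (c ^ 3)) T))
            ⟨X (c ^ 2), PS_mono hSS (X_mem_PS h2)⟩ := by
          rw [← map_pow]
          apply mkq_eq
          rw [Subalgebra.coe_pow]
          exact Finset.mem_insert_self _ _
        rw [e]
        exact mk_mem_good_of_le good hfun hg hSS hTT (X (c ^ 2)) (X_mem_PS h2)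
      · have e : (mkq (insert c S)
            (insert (X c ^ 2 - X (c ^ 2)) (insert (X c ^ 3 - X (c ^ 3)) T))
            ⟨X c, X_mem_PS hc⟩) ^ 3 =
            mkq (insert c S)
            (insert (X c ^ 2 - X (c ^ 2)) (insert (X c ^ 3 - X (c ^ 3)) T))
            ⟨X (c ^ 3), PS_mono hSS (X_mem_PS h3)⟩ := by
          rw [← map_pow]
          apply mkq_eq
          rw [Subalgebra.coe_pow]
          exact Finset.mem_insert_of_mem (Finset.mem_insert_self _ _)
        rw [e]
        exact mk_mem_good_of_le good hfun hg hSS hTT (X (c ^ 3)) (X_mem_PS h3)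
    · exact mk_mem_good_of_le good hfun hg hSS hTT (X c) (X_mem_PS h)

include hfun in
theorem isGood_ppow
    (hp : ∀ (C : Type u) [CommRing C] [Algebra A C] (x : C) (p : ℕ), p.Prime →
      (p : C) * x ∈ good C → x ^ p ∈ good C → x ∈ good C)
    {S : Finset B} {T : Finset (MvPolynomial B A)}
    (hg : IsGood good (S, T)) (b : B) (p : ℕ) (hpp : p.Prime) (h2 : (p : B) * b ∈ S)
    (h3 : b ^ p ∈ S) :
    IsGood good (insert b S,
      insert ((p : MvPolynomial B A) * X b - X ((p : B) * b)) (insert (X b ^ p - X (b ^ p)) T)) := by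
  have hSS : S ⊆ insert b S := Finset.subset_insert b S
  have hTT : T ⊆ insert ((p : MvPolynomial B A) * X b - X ((p : B) * b))
      (insert (X b ^ p - X (b ^ p)) T) :=
    (Finset.subset_insert _ _).trans (Finset.subset_insert _ _)
  apply isGood_of_gens
  · intro t ht
    rcases Finset.mem_insert.mp ht with h | h
    · rw [h, map_sub, map_mul, map_natCast, piB_X, piB_X, sub_self]
    · rcases Finset.mem_insert.mp h with h | h
      · rw [h, map_sub, map_pow, piB_X, piB_X, sub_self]
      · exact hg.1 t h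
  · intro c hc
    rcases Finset.mem_insert.mp hc with h | h
    · subst h
      apply hp _ _ p hpp
      · have e : (p : Cq (insert c S) (insert ((p : MvPolynomial B A) * X c - X ((p : B) * c))
            (insert (X c ^ p - X (c ^ p)) T))) *
            (mkq (insert c S)
            (insert ((p : MvPolynomial B A) * X c - X ((p : B) * c))
              (insert (X c ^ p - X (c ^ p)) T))
            ⟨X c, X_mem_PS hc⟩) =
            mkq (insert c S)
            (insert ((p : MvPolynomial B A) * X c - X ((p : B) * c))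
              (insert (X c ^ p - X (c ^ p)) T))
            ⟨X ((p : B) * c), PS_mono hSS (X_mem_PS h2)⟩ := by
          rw [← map_natCast (mkq (insert c S)
            (insert ((p : MvPolynomial B A) * X c - X ((p : B) * c))
              (insert (X c ^ p - X (c ^ p)) T))) p, ← map_mul]
          apply mkq_eq
          rw [Subalgebra.coe_mul, SubringClass.coe_natCast]
          exact Finset.mem_insert_self _ _
        rw [e]
        exact mk_mem_good_of_le good hfun hg hSS hTT (X ((p : B) * c)) (X_mem_PS h2)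
      · have e : (mkq (insert c S)
            (insert ((p : MvPolynomial B A) * X c - X ((p : B) * c))
              (insert (X c ^ p - X (c ^ p)) T))
            ⟨X c, X_mem_PS hc⟩) ^ p =
            mkq (insert c S)
            (insert ((p : MvPolynomial B A) * X c - X ((p : B) * c))
              (insert (X c ^ p - X (c ^ p)) T))
            ⟨X (c ^ p), PS_mono hSS (X_mem_PS h3)⟩ := by
          rw [← map_pow]
          apply mkq_eq
          rw [Subalgebra.coe_pow]
          exact Finset.mem_insert_of_mem (Finset.mem_insert_self _ _)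
        rw [e]
        exact mk_mem_good_of_le good hfun hg hSS hTT (X (c ^ p)) (X_mem_PS h3)
    · exact mk_mem_good_of_le good hfun hg hSS hTT (X c) (X_mem_PS h)

end good

section main
open scoped Classical
variable (good : ∀ (C : Type u) [CommRing C] [Algebra A C], Subalgebra A C)
variable (hfun : ∀ (C C' : Type u) [CommRing C] [CommRing C'] [Algebra A C] [Algebra A C']
    (h : C →ₐ[A] C'), good C ≤ (good C').comap h)
variable (hsq : ∀ (C : Type u) [CommRing C] [Algebra A C] (x : C),
    x ^ 2 ∈ good C → x ^ 3 ∈ good C → x ∈ good C)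
variable (awn : Prop)
  (hp : awn → ∀ (C : Type u) [CommRing C] [Algebra A C] (x : C) (p : ℕ), p.Prime →
    (p : C) * x ∈ good C → x ^ p ∈ good C → x ∈ good C)
  (hB : ∀ S : Subalgebra A B, S ≠ ⊤ → ∃ b, b ∉ S ∧ ((b ^ 2 ∈ S ∧ b ^ 3 ∈ S) ∨
    (awn ∧ ∃ p : ℕ, p.Prime ∧ (p : B) * b ∈ S ∧ b ^ p ∈ S)))

include hfun in
theorem exists_mem_of_image {j : Finset B × Finset (MvPolynomial B A)} (hj : IsGood good j)
    (r : MvPolynomial B A) (hr : r ∈ PS A j.1) : ∃ j', IsGood good j' ∧ piB r ∈ j'.1 :=
  ⟨_, isGood_image good hfun (S := j.1) (T := j.2) hj r hr, Finset.mem_insert_self _ _⟩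

include hfun in
theorem exists_Gsub :
    ∃ G : Subalgebra A B, ∀ b, b ∈ G ↔ ∃ j, IsGood good j ∧ b ∈ j.1 := by
  have hdir : ∀ b b' : B, (∃ j, IsGood good j ∧ b ∈ j.1) → (∃ j, IsGood good j ∧ b' ∈ j.1) →
      ∃ j, IsGood good j ∧ b ∈ j.1 ∧ b' ∈ j.1 := by
    rintro b b' ⟨j, hj, hb⟩ ⟨j', hj', hb'⟩
    exact ⟨_, isGood_union good hfun hj hj', Finset.mem_union_left _ hb,
      Finset.mem_union_right _ hb'⟩
  have halg : ∀ a : A, ∃ j, IsGood good j ∧ algebraMap A B a ∈ j.1 := by
    intro a
    have h1 := exists_mem_of_image good hfun (isGood_empty (A := A) (B := B) good)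
      (algebraMap A (MvPolynomial B A) a) (Subalgebra.algebraMap_mem _ a)
    rwa [AlgHom.commutes] at h1
  refine ⟨
    { carrier := {b | ∃ j, IsGood good j ∧ b ∈ j.1}
      mul_mem' := ?_
      one_mem' := ?_
      add_mem' := ?_
      zero_mem' := ?_
      algebraMap_mem' := ?_ }, fun b => Iff.rfl⟩
  · intro b b' hb hb'
    obtain ⟨j, hj, h1, h2⟩ := hdir b b' hb hb'
    have h3 := exists_mem_of_image good hfun hj (X b * X b')
      (Subalgebra.mul_mem _ (X_mem_PS h1) (X_mem_PS h2))
    rwa [map_mul, piB_X, piB_X] at h3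
  · have h3 := halg 1
    rwa [map_one] at h3
  · intro b b' hb hb'
    obtain ⟨j, hj, h1, h2⟩ := hdir b b' hb hb'
    have h3 := exists_mem_of_image good hfun hj (X b + X b')
      (Subalgebra.add_mem _ (X_mem_PS h1) (X_mem_PS h2))
    rwa [map_add, piB_X, piB_X] at h3
  · have h3 := halg 0
    rwa [map_zero] at h3
  · exact halg

include hfun hsq hp hB in
theorem exists_good_mem (b : B) : ∃ j, IsGood good j ∧ b ∈ j.1 := by
  obtain ⟨G, hG⟩ := exists_Gsub (A := A) (B := B) good hfun
  have htop : G = ⊤ := by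
    by_contra hne
    obtain ⟨b, hbG, hstep⟩ := hB G hne
    apply hbG
    rw [hG]
    rcases hstep with ⟨h2, h3⟩ | ⟨hawn, p, hpp, h1, h2⟩
    · obtain ⟨j, hj, hb2⟩ := (hG _).mp h2
      obtain ⟨j', hj', hb3⟩ := (hG _).mp h3
      have hu := isGood_union good hfun hj hj'
      exact ⟨_, isGood_sqcube good hfun hsq hu b (Finset.mem_union_left _ hb2)
        (Finset.mem_union_right _ hb3), Finset.mem_insert_self _ _⟩
    · obtain ⟨j, hj, hb2⟩ := (hG _).mp h1
      obtain ⟨j', hj', hb3⟩ := (hG _).mp h2
      have hu := isGood_union good hfun hj hj'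
      exact ⟨_, isGood_ppow good hfun (hp hawn) hu b p hpp (Finset.mem_union_left _ hb2)
        (Finset.mem_union_right _ hb3), Finset.mem_insert_self _ _⟩
  have hb : b ∈ G := by rw [htop]; exact Algebra.mem_top
  exact (hG b).mp hb

/-- The index type. -/
abbrev JJ : Type u := {j : Finset B × Finset (MvPolynomial B A) // IsGood good j}

theorem le1 {i j : JJ (A := A) (B := B) good} (h : i ≤ j) : i.1.1 ⊆ j.1.1 :=
  (Prod.le_def.mp h).1

theorem le2 {i j : JJ (A := A) (B := B) good} (h : i ≤ j) : i.1.2 ⊆ j.1.2 :=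
  (Prod.le_def.mp h).2

include hfun hsq hp hB in
theorem exists_colim :
    ∃ (J : Type u) (_ : SmallCategory J) (_ : IsFiltered J) (F : J ⥤ Under (CommRingCat.of A))
      (c : Limits.Cocone F) (_ : Limits.IsColimit c),
      (∀ j, ∃ (C : Type u) (_ : CommRing C) (_ : Algebra A C),
        F.obj j = Under.mk (CommRingCat.ofHom (algebraMap A C)) ∧
        Algebra.FinitePresentation A C ∧ good C = ⊤ ∧ Nonempty (C →ₐ[A] B)) ∧
      c.pt = Under.mk (CommRingCat.ofHom (algebraMap A B)) := by
  haveI : Nonempty (JJ (A := A) (B := B) good) := ⟨⟨_, isGood_empty good⟩⟩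
  haveI : IsDirected (JJ (A := A) (B := B) good) (· ≤ ·) :=
    ⟨fun i j => ⟨⟨_, isGood_union good hfun i.2 j.2⟩,
      ⟨Finset.subset_union_left, Finset.subset_union_left⟩,
      ⟨Finset.subset_union_right, Finset.subset_union_right⟩⟩⟩
  obtain ⟨hfil, F, c, hc, hobj, hpt⟩ := exists_dir_colimit (A := A) (B := B)
    (J := JJ (A := A) (B := B) good)
    (fun j => Cq j.1.1 j.1.2)
    (fun {i j} h => tr (le1 good h) (le2 good h))
    (by
      intro i x
      obtain ⟨⟨q, hq⟩, rfl⟩ := mkq_surjective _ _ x
      exact tr_mkq _ _ q hq)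
    (by
      intro i j k h1 h2 x
      obtain ⟨⟨q, hq⟩, rfl⟩ := mkq_surjective _ _ x
      rw [tr_mkq, tr_mkq, tr_mkq])
    (fun j => toB j.2.1)
    (by
      intro i j h x
      obtain ⟨⟨q, hq⟩, rfl⟩ := mkq_surjective _ _ x
      rw [tr_mkq, toB_mkq, toB_mkq])
    (by
      intro b
      obtain ⟨j, hj, hb⟩ := exists_good_mem good hfun hsq awn hp hB b
      exact ⟨⟨j, hj⟩, mkq j.1 j.2 ⟨X b, X_mem_PS hb⟩, by rw [toB_mkq, piB_X]⟩)
    (by
      intro j x hx
      obtain ⟨⟨q, hq⟩, rfl⟩ := mkq_surjective _ _ x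
      rw [toB_mkq] at hx
      refine ⟨⟨(j.1.1, insert q j.1.2), isGood_insert_rel good hfun j.2 q hx⟩,
        ⟨Finset.Subset.refl _, Finset.subset_insert _ _⟩, ?_⟩
      rw [tr_mkq]
      exact mkq_eq_zero _ (Finset.mem_insert_self _ _))
  exact ⟨JJ (A := A) (B := B) good, inferInstance, hfil, F, c, hc,
    fun j => ⟨Cq j.1.1 j.1.2, inferInstance, inferInstance, hobj j, fp _ _, j.2.2,
      ⟨toB j.2.1⟩⟩, hpt⟩

end main

end FPC
end Groth.Agent.H69
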