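import Groth.Agent.H69.FPColim
import Groth.Agent.H69.RelNormSN
import Mathlib

set_option autoImplicit false
universe u
open CategoryTheory AlgebraicGeometry

namespace Groth.Agent.H69
namespace FPC

section
variable {A : Type u} [CommRing A]

theorem relClosure_awn_functorial (C C' : Type u) [CommRing C] [CommRing C'] [Algebra A C]
    [Algebra A C'] (h : C →ₐ[A] C') :
    relClosure (StepAWN (A := A) (B := C)) ≤
      (relClosure (StepAWN (A := A) (B := C'))).comap h := by
  apply relClosure_le
  intro x hs
  rw [Subalgebra.mem_comap]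
  apply relClosure_closed _ stepAWN_mono
  rcases hs with ⟨h2, h3⟩ | ⟨p, hp, h1, h2⟩
  · left
    refine ⟨?_, ?_⟩
    · rw [← map_pow]; exact h2
    · rw [← map_pow]; exact h3
  · right
    refine ⟨p, hp, ?_, ?_⟩
    · rw [Subalgebra.mem_comap, map_mul, map_natCast] at h1
      exact h1
    · rw [← map_pow]; exact h2

theorem relClosure_sn_functorial (C C' : Type u) [CommRing C] [CommRing C'] [Algebra A C]
    [Algebra A C'] (h : C →ₐ[A] C') :
    relClosure (StepSN (A := A) (B := C)) ≤
      (relClosure (StepSN (A := A) (B := C'))).comap h := by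
  apply relClosure_le
  intro x hs
  rw [Subalgebra.mem_comap]
  apply relClosure_closed _ stepSN_mono
  refine ⟨?_, ?_⟩
  · rw [← map_pow]; exact hs.1
  · rw [← map_pow]; exact hs.2

variable {C : Type u} [CommRing C] [Algebra A C]

theorem isUnivHomeo_of_relClosure_awn_eq_top
    (htop : relClosure (StepAWN (A := A) (B := C)) = ⊤)
    (hker : ∀ a ∈ RingHom.ker (algebraMap A C), IsNilpotent a) :
    FlatMor.IsUnivHomeo (Spec.map (CommRingCat.ofHom (algebraMap A C))) := by
  have hmem : ∀ x : C, x ∈ relClosure (StepAWN (A := A) (B := C)) := by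
    intro x; rw [htop]; exact Algebra.mem_top
  apply isUnivHomeo_of_integral_of_ext_of_ker_nil _ _ _ hker
  · intro x
    have h1 : IsIntegral A (⟨x, hmem x⟩ : relClosure (StepAWN (A := A) (B := C))) :=
      isIntegral_relClosure_awn _
    exact h1.map (relClosure (StepAWN (A := A) (B := C))).val
  · intro L _ f g hfg
    have h1 := ext_relClosure_awn (A := A) (B := C) L
      (f.comp (relClosure (StepAWN (A := A) (B := C))).val.toRingHom)
      (g.comp (relClosure (StepAWN (A := A) (B := C))).val.toRingHom)
      (by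
        apply RingHom.ext
        intro a
        exact congrArg (fun k => k a) hfg)
    apply RingHom.ext
    intro x
    exact congrArg (fun k => k ⟨x, hmem x⟩) h1

theorem resTriv_of_relClosure_sn_eq_top
    (htop : relClosure (StepSN (A := A) (B := C)) = ⊤) :
    ResTriv (algebraMap A C) := by
  have hmem : ∀ x : C, x ∈ relClosure (StepSN (A := A) (B := C)) := by
    intro x; rw [htop]; exact Algebra.mem_top
  have h := (resTriv_iff_forall (algebraMap A (relClosure (StepSN (A := A) (B := C))))).mp
    resTriv_relClosure_sn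
  rw [resTriv_iff_forall]
  intro q b
  obtain ⟨a, s, hs, hm⟩ := h (PrimeSpectrum.comap
    (relClosure (StepSN (A := A) (B := C))).val.toRingHom q) ⟨b, hmem b⟩
  exact ⟨a, s, hs, hm⟩

theorem isUnivHomeo_of_relClosure_sn_eq_top
    (htop : relClosure (StepSN (A := A) (B := C)) = ⊤)
    (hker : ∀ a ∈ RingHom.ker (algebraMap A C), IsNilpotent a) :
    FlatMor.IsUnivHomeo (Spec.map (CommRingCat.ofHom (algebraMap A C))) := by
  apply isUnivHomeo_of_relClosure_awn_eq_top _ hker
  rw [eq_top_iff, ← htop]
  exact relClosure_sn_le_awn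

theorem ker_nil_of_algHom {B : Type u} [CommRing B] [Algebra A B] (g : C →ₐ[A] B)
    (hB : ∀ a ∈ RingHom.ker (algebraMap A B), IsNilpotent a) :
    ∀ a ∈ RingHom.ker (algebraMap A C), IsNilpotent a := by
  intro a ha
  apply hB
  rw [RingHom.mem_ker] at ha ⊢
  rw [← g.commutes, ha, map_zero]

end

end FPC
end Groth.Agent.H69
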