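import Mathlib

/-!
Ring-level bound: if `B` is a finite algebra over a field `K` and `C` is a `B`-algebra all of whose
fibres over maximal ideals of `B` have dimension `≤ n`, then `dim_K C ≤ n * dim_K B`.
-/

set_option autoImplicit false
universe u

open TensorProduct

namespace Groth.Agent.H69.FibDeg

section Len

variable {K : Type*} [Field K] {N M P : Type*} [AddCommGroup N] [AddCommGroup M] [AddCommGroup P]
  [Module K N] [Module K M] [Module K P]

lemma length_le_add_of_exact (f : N →ₗ[K] M) (g : M →ₗ[K] P) (hg : Function.Surjective g)
    (H : Function.Exact f g) : Module.length K M ≤ Module.length K N + Module.length K P := by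
  rw [Module.length_eq_add_of_exact (LinearMap.ker g).subtype g (Submodule.subtype_injective _) hg
    (LinearMap.exact_subtype_ker_map g)]
  gcongr
  have hker : LinearMap.ker g = LinearMap.range f := (LinearMap.exact_iff.mp H)
  rw [hker]
  exact Module.length_le_of_surjective f.rangeRestrict f.surjective_rangeRestrict

end Len

variable {K B C : Type u} [Field K] [CommRing B] [CommRing C] [Algebra K B] [Algebra B C]

theorem length_tensor_le [Module.Finite K B] (n : ℕ)
    (h : ∀ (m : Ideal B) [m.IsMaximal], Module.Finite (B ⧸ m) ((B ⧸ m) ⊗[B] C) ∧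
      Module.finrank (B ⧸ m) ((B ⧸ m) ⊗[B] C) ≤ n) :
    ∀ (d : ℕ) (M : Type u) [AddCommGroup M] [Module B M] [Module K M] [IsScalarTower K B M]
      [Module.Finite K M], Module.finrank K M = d → Module.length K (M ⊗[B] C) ≤ n * d := by
  intro d
  induction d using Nat.strong_induction_on with
  | _ d ih =>
    intro M _ _ _ _ _ hd
    by_cases hM : Subsingleton M
    · haveI := hM
      haveI : Subsingleton (M ⊗[B] C) := inferInstance
      rw [Module.length_eq_zero]
      exact bot_le
    · rw [not_subsingleton_iff_nontrivial] at hM
      haveI := hM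
      haveI : Module.Finite B M := Module.Finite.of_restrictScalars_finite K B M
      -- a maximal proper submodule
      obtain ⟨M', hM'⟩ : ∃ M' : Submodule B M, IsCoatom M' := by
        obtain h | ⟨a, ha, -⟩ := eq_top_or_exists_le_coatom (⊥ : Submodule B M)
        · exact absurd h bot_ne_top
        · exact ⟨a, ha⟩
      haveI : IsSimpleModule B (M ⧸ M') := isSimpleModule_iff_isCoatom.mpr hM'
      obtain ⟨m, hm, ⟨e⟩⟩ := isSimpleModule_iff_quot_maximal.mp ‹IsSimpleModule B (M ⧸ M')›
      haveI := hm
      -- the exact sequence
      let f : M' ⊗[B] C →ₗ[K] M ⊗[B] C := (M'.subtype.rTensor C).restrictScalars K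
      let g : M ⊗[B] C →ₗ[K] (M ⧸ M') ⊗[B] C := (M'.mkQ.rTensor C).restrictScalars K
      have hg : Function.Surjective g :=
        LinearMap.rTensor_surjective C (Submodule.mkQ_surjective M')
      have hfg : Function.Exact f g :=
        rTensor_exact C (LinearMap.exact_subtype_mkQ M') (Submodule.mkQ_surjective M')
      have h1 := length_le_add_of_exact f g hg hfg
      -- the sub
      haveI : Module.Finite K M' :=
        Module.Finite.of_injective ((M'.subtype).restrictScalars K) Subtype.val_injective
      have hlt : Module.finrank K M' < d := by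
        rw [← hd]
        have := Submodule.finrank_lt (s := M'.restrictScalars K) (by
          intro htop
          apply hM'.1
          ext x
          have : x ∈ M'.restrictScalars K := by rw [htop]; trivial
          simpa using this)
        exact this
      have h2 : Module.length K (M' ⊗[B] C) ≤ n * Module.finrank K M' :=
        ih _ hlt M' rfl
      -- the simple quotient
      have h3 : Module.length K ((M ⧸ M') ⊗[B] C) ≤ n * Module.finrank K (M ⧸ M') := by
        let e' : (M ⧸ M') ⊗[B] C ≃ₗ[K] (B ⧸ m) ⊗[B] C :=
          (TensorProduct.congr e (LinearEquiv.refl B C)).restrictScalars K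
        rw [e'.length_eq]
        obtain ⟨hfin, hrk⟩ := h m
        letI : Field (B ⧸ m) := Ideal.Quotient.field m
        haveI := hfin
        haveI : Module.Finite K (B ⧸ m) := inferInstance
        haveI : Module.Finite K ((B ⧸ m) ⊗[B] C) := Module.Finite.trans (B ⧸ m) _
        rw [Module.length_eq_finrank]
        have htower := Module.finrank_mul_finrank K (B ⧸ m) ((B ⧸ m) ⊗[B] C)
        have he : Module.finrank K (M ⧸ M') = Module.finrank K (B ⧸ m) :=
          LinearEquiv.finrank_eq (e.restrictScalars K)
        rw [he, ← htower]
        norm_cast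
        rw [mul_comm]
        exact Nat.mul_le_mul_right _ hrk
      have hadd : Module.finrank K (M ⧸ M') + Module.finrank K M' = d := by
        rw [← hd]
        exact Submodule.finrank_quotient_add_finrank (M'.restrictScalars K)
      calc Module.length K (M ⊗[B] C)
          ≤ Module.length K (M' ⊗[B] C) + Module.length K ((M ⧸ M') ⊗[B] C) := h1
        _ ≤ n * Module.finrank K M' + n * Module.finrank K (M ⧸ M') := add_le_add h2 h3
        _ = n * d := by
            rw [← hadd]
            push_cast
            ring

theorem finrank_le_of_fibres [Algebra K C] [IsScalarTower K B C] [Module.Finite K B] (n : ℕ)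
    (h : ∀ (m : Ideal B) [m.IsMaximal], Module.Finite (B ⧸ m) ((B ⧸ m) ⊗[B] C) ∧
      Module.finrank (B ⧸ m) ((B ⧸ m) ⊗[B] C) ≤ n) :
    Module.Finite K C ∧ Module.finrank K C ≤ n * Module.finrank K B := by
  have h1 := length_tensor_le (K := K) n h _ B rfl
  let e : B ⊗[B] C ≃ₗ[K] C := (TensorProduct.lid B C).restrictScalars K
  rw [e.length_eq] at h1
  have hne : Module.length K C ≠ ⊤ := by
    intro htop
    rw [htop, top_le_iff] at h1
    exact absurd h1 (by exact_mod_cast ENat.coe_ne_top _)
  have hfin : Module.Finite K C := by
    have := (isFiniteLength_iff_isNoetherian_isArtinian.mp (Module.length_ne_top_iff.mp hne)).1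
    infer_instance
  refine ⟨hfin, ?_⟩
  rw [Module.length_eq_finrank] at h1
  exact_mod_cast h1

end Groth.Agent.H69.FibDeg
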