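import Groth.Agent.H69.FibDegSch

/-!
Fibre degree bounds from a finite open cover of the source.
-/

set_option autoImplicit false
universe u

open CategoryTheory CategoryTheory.Limits AlgebraicGeometry BddFib TensorProduct
open Groth.Agent.H37.BddFibLib

namespace Groth.Agent.H69.FibDegCover

/-- (A): a scheme over a field covered by finitely many opens, each finite of bounded degree. -/
theorem finiteOfDegLE_of_openCover {K : CommRingCat.{u}} (hK : IsField K) {T : Scheme.{u}}
    (p : T ⟶ Spec K) {ι : Type*} [Fintype ι] (W : ι → T.Opens) (hW : ⨆ i, W i = ⊤) (n : ι → ℕ)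
    (h : ∀ i, FiniteOfDegLE K ((W i).ι ≫ p) (n i)) : FiniteOfDegLE K p (∑ i, n i) := by
  have hfd : ∀ i, Finite ↥(W i).toScheme ∧ DiscreteTopology ↥(W i).toScheme := fun i =>
    finite_discrete_of_finiteOfDegLE hK _ (n i) (h i)
  have hcov : ∀ x : T, ∃ i, x ∈ W i := by
    intro x
    have : x ∈ (⨆ i, W i) := by rw [hW]; trivial
    simpa [TopologicalSpace.Opens.mem_iSup] using this
  -- finite
  haveI hfin : Finite ↥T := by
    haveI : ∀ i, Finite ↥(W i) := fun i => (hfd i).1
    let φ : (Σ i, ↥(W i)) → ↥T := fun z => z.2.1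
    have hφ : Function.Surjective φ := fun x => by
      obtain ⟨i, hi⟩ := hcov x
      exact ⟨⟨i, ⟨x, hi⟩⟩, rfl⟩
    exact Finite.of_surjective φ hφ
  haveI hdisc : DiscreteTopology ↥T := by
    rw [discreteTopology_iff_isOpen_singleton]
    intro x
    obtain ⟨i, hi⟩ := hcov x
    haveI : DiscreteTopology ↥(W i) := (hfd i).2
    have h1 : IsOpen ({⟨x, hi⟩} : Set ↥(W i)) := isOpen_discrete _
    have h2 := (W i).isOpen.isOpenMap_subtype_val _ h1
    simpa using h2
  haveI : IsAffine T := inferInstance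
  letI : Field K := hK.toField
  letI aT : Algebra K Γ(T, ⊤) := secAlgebra K p
  letI aW : ∀ i, Algebra K Γ((W i).toScheme, ⊤) := fun i => secAlgebra K ((W i).ι ≫ p)
  haveI : ∀ i, Module.Finite K Γ((W i).toScheme, ⊤) := fun i => (h i).2.1
  -- the restriction map
  let ψ : Γ(T, ⊤) →ₗ[K] (∀ i, Γ((W i).toScheme, ⊤)) :=
    LinearMap.pi fun i =>
      { toFun := fun s => (W i).ι.appTop.hom s
        map_add' := fun a b => map_add _ a b
        map_smul' := fun c s => by
          simp only [Algebra.smul_def, RingHom.id_apply, map_mul]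
          congr 1 }
  have hψ : Function.Injective ψ := by
    rw [injective_iff_map_eq_zero]
    intro s hs
    apply TopCat.Sheaf.eq_of_locally_eq' T.sheaf W ⊤ (fun i => homOfLE le_top) hW.ge
    intro i
    have hi : (W i).ι.appTop.hom s = 0 := congrFun hs i
    rw [Scheme.Opens.ι_appTop] at hi
    have hle : W i ≤ (W i).ι ''ᵁ ⊤ := (W i).ι_image_top.symm.le
    have hdec : T.presheaf.map (homOfLE (le_top : W i ≤ ⊤)).op =
        T.presheaf.map (homOfLE (x := (W i).ι ''ᵁ ⊤) le_top).op ≫ T.presheaf.map (homOfLE hle).op := by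
      rw [← Functor.map_comp]
      rfl
    change (T.presheaf.map (homOfLE (le_top : W i ≤ ⊤)).op).hom s =
      (T.presheaf.map (homOfLE (le_top : W i ≤ ⊤)).op).hom 0
    rw [map_zero, hdec, CommRingCat.hom_comp, RingHom.comp_apply]
    exact (congrArg _ hi).trans (map_zero _)
  haveI : IsNoetherianRing K := inferInstance
  refine ⟨inferInstance, Module.Finite.of_injective ψ hψ, ?_⟩
  calc Module.finrank K Γ(T, ⊤) ≤ Module.finrank K (∀ i, Γ((W i).toScheme, ⊤)) :=
        LinearMap.finrank_le_finrank_of_injective hψ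
    _ = ∑ i, Module.finrank K Γ((W i).toScheme, ⊤) := Module.finrank_pi_fintype K
    _ ≤ ∑ i, n i := Finset.sum_le_sum fun i _ => (h i).2.2

/-- `FiniteOfDegLE` transfers between two pullbacks of the same cospan. -/
theorem finiteOfDegLE_of_isPullback_same {K : CommRingCat.{u}} (hK : IsField K)
    {A B T T' : Scheme.{u}} {a : A ⟶ B} {b : Spec K ⟶ B} {f₁ : T ⟶ A} {p₁ : T ⟶ Spec K}
    {f₂ : T' ⟶ A} {p₂ : T' ⟶ Spec K} (h₁ : IsPullback f₁ p₁ a b) (h₂ : IsPullback f₂ p₂ a b)
    (n : ℕ) (hp : FiniteOfDegLE K p₁ n) : FiniteOfDegLE K p₂ n := by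
  haveI : Nontrivial K := hK.nontrivial
  let e : T' ≅ T := h₂.isoIsPullback _ _ h₁
  have he : e.hom ≫ p₁ = p₂ := h₂.isoIsPullback_hom_snd _ _ h₁
  have hsq : IsPullback e.hom p₂ p₁ (Spec.map (𝟙 K)) := by
    refine IsPullback.of_horiz_isIso ⟨?_⟩
    rw [he, Spec.map_id, Category.comp_id]
  exact finiteOfDegLE_of_isPullback hK (𝟙 K) hsq n hp

/-- (B): fibre degrees from a finite open cover of the source. -/
theorem fibreDegLE_of_openCover {X Y : Scheme.{u}} (f : X ⟶ Y) {ι : Type*} [Fintype ι]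
    (U : ι → X.Opens) (hU : ⨆ i, U i = ⊤) (n : ι → ℕ)
    (h : ∀ i, FibreDegLE ((U i).ι ≫ f) (n i)) : FibreDegLE f (∑ i, n i) := by
  intro y
  let φ := f.fiberι y
  refine finiteOfDegLE_of_openCover (Field.toIsField _) (f.fiberToSpecResidueField y)
    (fun i => φ ⁻¹ᵁ (U i)) ?_ n ?_
  · ext x
    have : φ x ∈ (⨆ i, U i) := by rw [hU]; trivial
    simpa [TopologicalSpace.Opens.mem_iSup] using this
  · intro i
    have h1 : IsPullback (φ ∣_ (U i)) ((φ ⁻¹ᵁ (U i)).ι ≫ f.fiberToSpecResidueField y)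
        ((U i).ι ≫ f) (Y.fromSpecResidueField y) :=
      (isPullback_morphismRestrict φ (U i)).paste_vert
        (IsPullback.of_hasPullback f (Y.fromSpecResidueField y))
    have h2 : IsPullback (((U i).ι ≫ f).fiberι y) (((U i).ι ≫ f).fiberToSpecResidueField y)
        ((U i).ι ≫ f) (Y.fromSpecResidueField y) :=
      IsPullback.of_hasPullback _ _
    exact finiteOfDegLE_of_isPullback_same (Field.toIsField _) h2 h1 (n i) (h i y)

end Groth.Agent.H69.FibDegCover
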