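import Groth.Agent.H69.FibDegCover
import Groth.Agent.S7433
import Groth.Agent.S7439

/-!
Fibre degree bounds for finite morphisms of affine schemes, and locally quasi-finite morphisms.
-/

set_option autoImplicit false
universe u

open CategoryTheory CategoryTheory.Limits AlgebraicGeometry BddFib TensorProduct
open Groth.Agent.H37.BddFibLib

namespace Groth.Agent.H69.FibDegFinite

/-- base change of a spanning set to a field -/
lemma alg_span {R S T P : CommRingCat.{u}} {f : R ⟶ S} {g : R ⟶ T} {inl : S ⟶ P} {inr : T ⟶ P}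
    (h : IsPushout f g inl inr) (hT : IsField T) (s : Finset S)
    (hs : @Submodule.span R S _ _ f.hom.toAlgebra.toModule (s : Set S) = ⊤) :
    @Module.Finite T P _ _ inr.hom.toAlgebra.toModule ∧
      @Module.finrank T P _ _ inr.hom.toAlgebra.toModule ≤ s.card := by
  classical
  algebraize [f.hom, g.hom, inl.hom, inr.hom, inl.hom.comp f.hom]
  have : IsScalarTower R T P := .of_algebraMap_eq' <| congr($(h.1.1).hom)
  have hpo : Algebra.IsPushout R S T P := CommRingCat.isPushout_iff_isPushout.mp h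
  have hpo' : Algebra.IsPushout R T S P := Algebra.IsPushout.symm hpo
  let e : T ⊗[R] S ≃ₐ[T] P := Algebra.IsPushout.equiv R T S P
  letI := hT.toField
  have hspan : Submodule.span T ((TensorProduct.mk R T S 1) '' (s : Set S)) = ⊤ := by
    rw [← Submodule.baseChange_span, hs, Submodule.baseChange_top]
  let s' : Finset (T ⊗[R] S) := s.image (TensorProduct.mk R T S 1)
  have hspan' : Submodule.span T (s' : Set (T ⊗[R] S)) = ⊤ := by
    rw [Finset.coe_image]
    exact hspan
  haveI : Module.Finite T (T ⊗[R] S) := ⟨⟨s', hspan'⟩⟩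
  refine ⟨Module.Finite.equiv e.toLinearEquiv, ?_⟩
  rw [← LinearEquiv.finrank_eq e.toLinearEquiv, ← finrank_top T (T ⊗[R] S), ← hspan']
  exact (finrank_span_finset_le_card s').trans Finset.card_image_le

theorem fibreDegLE_SpecMap_of_span {R S : Type u} [CommRing R] [CommRing S] [Algebra R S]
    (s : Finset S) (hs : Submodule.span R (s : Set S) = ⊤) :
    FibreDegLE (Spec.map (CommRingCat.ofHom (algebraMap R S))) s.card := by
  rw [Groth.Agent.S7433.result]
  intro k _ g
  obtain ⟨γ, rfl⟩ := Spec.map_surjective g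
  let φ : CommRingCat.of R ⟶ CommRingCat.of S := CommRingCat.ofHom (algebraMap R S)
  have hpo := isPushout_appTop_of_isPullback (IsPullback.of_hasPullback (Spec.map φ) (Spec.map γ))
  have hpo' : IsPushout φ γ
      ((Scheme.ΓSpecIso (CommRingCat.of S)).inv ≫ (pullback.fst (Spec.map φ) (Spec.map γ)).appTop)
      ((Scheme.ΓSpecIso (CommRingCat.of k)).inv ≫
        (pullback.snd (Spec.map φ) (Spec.map γ)).appTop) := by
    refine hpo.of_iso (Scheme.ΓSpecIso _) (Scheme.ΓSpecIso _) (Scheme.ΓSpecIso _) (Iso.refl _)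
      ?_ ?_ ?_ ?_
    · exact Scheme.ΓSpecIso_naturality φ
    · exact Scheme.ΓSpecIso_naturality γ
    · simp
    · simp
  have hinst : (φ.hom.toAlgebra : Algebra R S) = ‹Algebra R S› :=
    Algebra.algebra_ext _ _ (fun r => rfl)
  have hs' : @Submodule.span R S _ _ φ.hom.toAlgebra.toModule (s : Set S) = ⊤ := by
    rw [hinst]
    exact hs
  obtain ⟨h1, h2⟩ := alg_span hpo' (Field.toIsField k) s hs'
  exact ⟨inferInstance, h1, h2⟩

/-- (ZL) a localization of `S` away from `r` is a localization of the subalgebra `S'` away from `r`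
when `S'[1/r] → S[1/r]` is bijective. -/
theorem isLocalization_away_of_awayMap_bijective {R S : Type u} [CommRing R] [CommRing S]
    [Algebra R S] (S' : Subalgebra R S) (r : S')
    (hbij : Function.Bijective (Localization.awayMap S'.val.toRingHom r))
    (Sr : Type u) [CommRing Sr] [Algebra S Sr] [IsLocalization.Away (r : S) Sr] :
    letI : Algebra S' Sr := ((algebraMap S Sr).comp S'.val.toRingHom).toAlgebra
    IsLocalization.Away r Sr := by
  letI : Algebra S' Sr := ((algebraMap S Sr).comp S'.val.toRingHom).toAlgebra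
  haveI : IsLocalization.Away (S'.val.toRingHom r) Sr := ‹IsLocalization.Away (r : S) Sr›
  let e1 : Localization.Away r ≃+* Localization.Away (S'.val.toRingHom r) :=
    RingEquiv.ofBijective _ hbij
  let e2 : Localization.Away (S'.val.toRingHom r) ≃ₐ[S] Sr :=
    IsLocalization.algEquiv (Submonoid.powers (S'.val.toRingHom r)) _ _
  let θ : Localization.Away r ≃ₐ[S'] Sr :=
    AlgEquiv.ofRingEquiv (f := e1.trans e2.toRingEquiv) (by
      intro a
      change e2 (Localization.awayMap S'.val.toRingHom r (algebraMap S' (Localization.Away r) a)) =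
        algebraMap S Sr (S'.val.toRingHom a)
      have h1 : Localization.awayMap S'.val.toRingHom r (algebraMap S' (Localization.Away r) a) =
          algebraMap S (Localization.Away (S'.val.toRingHom r)) (S'.val.toRingHom a) := by
        have := IsLocalization.map_comp (M := Submonoid.powers r) (S := Localization.Away r)
          (g := S'.val.toRingHom) (T := Submonoid.powers (S'.val.toRingHom r))
          (Q := Localization.Away (S'.val.toRingHom r))
          (by
            rintro _ ⟨n, rfl⟩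
            exact ⟨n, by simp⟩)
        exact congrFun (congrArg DFunLike.coe this) a
      rw [h1]
      exact e2.commutes _)
  exact IsLocalization.isLocalization_of_algEquiv (Submonoid.powers r) θ

/-- (C) local bound on fibre degrees of a locally quasi-finite morphism. -/
theorem exists_open_fibreDegLE {X Y : Scheme.{u}} (f : X ⟶ Y) [LocallyQuasiFinite f]
    [LocallyOfFiniteType f] (x : X) :
    ∃ (W : X.Opens) (N : ℕ), x ∈ W ∧ FibreDegLE (W.ι ≫ f) N := by
  obtain ⟨_, ⟨V, hV, rfl⟩, hxV, -⟩ := Y.isBasis_affineOpens.exists_subset_of_mem_open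
    (Set.mem_univ (f x)) isOpen_univ
  obtain ⟨_, ⟨U, hU, rfl⟩, hxU, hUV⟩ := X.isBasis_affineOpens.exists_subset_of_mem_open
    (show x ∈ ((f ⁻¹ᵁ V : X.Opens) : Set X) from hxV) (f ⁻¹ᵁ V).isOpen
  have e : U ≤ f ⁻¹ᵁ V := hUV
  letI aRS : Algebra Γ(Y, V) Γ(X, U) := (f.appLE V U e).hom.toAlgebra
  haveI : Algebra.FiniteType Γ(Y, V) Γ(X, U) := f.finiteType_appLE hV hU e
  haveI : Algebra.QuasiFinite Γ(Y, V) Γ(X, U) :=
    HasRingHomProperty.appLE @LocallyQuasiFinite f ‹_› ⟨V, hV⟩ ⟨U, hU⟩ e
  obtain ⟨S', hfg, r, hrp, hbij⟩ :=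
    Algebra.QuasiFiniteAt.exists_fg_and_exists_notMem_and_awayMap_bijective (R := Γ(Y, V))
      (hU.primeIdealOf ⟨x, hxU⟩).asIdeal
  haveI : Module.Finite Γ(Y, V) S' := Module.Finite.of_fg hfg
  obtain ⟨s', hs'⟩ := Module.Finite.fg_top (R := Γ(Y, V)) (M := S')
  have hW : IsAffineOpen (X.basicOpen (r : Γ(X, U))) := hU.basicOpen _
  have hxW : x ∈ X.basicOpen (r : Γ(X, U)) := by
    have h1 : hU.fromSpec (hU.primeIdealOf ⟨x, hxU⟩) = x := hU.fromSpec_primeIdealOf ⟨x, hxU⟩
    rw [← h1]
    change hU.primeIdealOf ⟨x, hxU⟩ ∈ hU.fromSpec ⁻¹ᵁ X.basicOpen (r : Γ(X, U))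
    rw [hU.fromSpec_preimage_basicOpen]
    exact hrp
  refine ⟨X.basicOpen (r : Γ(X, U)), 1 * (s'.card * 1), hxW, ?_⟩
  -- the localization structure
  letI aS'W : Algebra S' Γ(X, X.basicOpen (r : Γ(X, U))) :=
    ((algebraMap Γ(X, U) Γ(X, X.basicOpen (r : Γ(X, U)))).comp S'.val.toRingHom).toAlgebra
  haveI : IsLocalization.Away (r : Γ(X, U)) Γ(X, X.basicOpen (r : Γ(X, U))) :=
    hU.isLocalization_basicOpen _
  haveI : IsLocalization.Away r Γ(X, X.basicOpen (r : Γ(X, U))) :=
    isLocalization_away_of_awayMap_bijective S' r hbij _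
  haveI : IsOpenImmersion (Spec.map (CommRingCat.ofHom
      (algebraMap S' Γ(X, X.basicOpen (r : Γ(X, U)))))) :=
    IsOpenImmersion.of_isLocalization r
  -- the factorization
  have e' : X.basicOpen (r : Γ(X, U)) ≤ f ⁻¹ᵁ V := (X.basicOpen_le _).trans e
  have hfac : (X.basicOpen (r : Γ(X, U))).ι ≫ f =
      (hW.isoSpec.hom ≫ Spec.map (CommRingCat.ofHom
        (algebraMap S' Γ(X, X.basicOpen (r : Γ(X, U)))))) ≫
      Spec.map (CommRingCat.ofHom (algebraMap Γ(Y, V) S')) ≫ hV.fromSpec := by
    rw [← hW.isoSpec_hom_fromSpec, Category.assoc, Category.assoc,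
      ← IsAffineOpen.SpecMap_appLE_fromSpec f hV hW e', ← Spec.map_comp_assoc]
    congr 3
    rw [← Scheme.Hom.appLE_map f e (homOfLE (X.basicOpen_le (r : Γ(X, U)))).op]
    rfl
  rw [hfac]
  refine FibDegSch.fibreDegLE_comp _ _ 1 _ (Groth.Agent.S7439.result _) ?_
  exact FibDegSch.fibreDegLE_comp _ _ _ 1 (fibreDegLE_SpecMap_of_span s' hs')
    (Groth.Agent.S7439.result _)

/-- (D) locally quasi-finite with quasi-compact source: universally bounded fibres. -/
theorem univBounded_of_locallyQuasiFinite {X Y : Scheme.{u}} (f : X ⟶ Y) [LocallyQuasiFinite f]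
    [LocallyOfFiniteType f] [CompactSpace X] : UnivBounded f := by
  choose W N hxW hWN using exists_open_fibreDegLE f
  obtain ⟨t, ht⟩ := isCompact_univ.elim_finite_subcover (fun x : X => ((W x : X.Opens) : Set X))
    (fun x => (W x).isOpen) (fun x _ => Set.mem_iUnion.mpr ⟨x, hxW x⟩)
  refine ⟨∑ i : ↥t, N i.1, ?_⟩
  refine FibDegCover.fibreDegLE_of_openCover f (fun i : ↥t => W i.1) ?_ (fun i => N i.1)
    (fun i => hWN i.1)
  ext x
  have hx := ht (Set.mem_univ x)
  simp only [Set.mem_iUnion] at hx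
  obtain ⟨y, hy, hxy⟩ := hx
  simp only [TopologicalSpace.Opens.coe_iSup, Set.mem_iUnion, TopologicalSpace.Opens.coe_top,
    Set.mem_univ, iff_true]
  exact ⟨⟨y, hy⟩, hxy⟩

end Groth.Agent.H69.FibDegFinite
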