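import Groth.Agent.H69.FibDeg
import Groth.Agent.H37.BddFibLib2

/-!
Composition of morphisms with bounded fibre degrees.
-/

set_option autoImplicit false
universe u

open CategoryTheory CategoryTheory.Limits AlgebraicGeometry BddFib TensorProduct
open Groth.Agent.H37.BddFibLib

namespace Groth.Agent.H69.FibDegSch

/-- the source of a morphism with finite fibres over a finite discrete scheme is finite discrete -/
theorem finite_discrete_of_fibreDegLE {X' Y' : Scheme.{u}} (f' : X' ⟶ Y') (n : ℕ)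
    (hf' : FibreDegLE f' n) [Finite Y'] [DiscreteTopology Y'] :
    Finite ↥X' ∧ DiscreteTopology ↥X' := by
  have hfib : ∀ y : Y', Finite ↥(f'.fiber y) ∧ DiscreteTopology ↥(f'.fiber y) := fun y =>
    finite_discrete_of_finiteOfDegLE (Field.toIsField _) (f'.fiberToSpecResidueField y) n (hf' y)
  have hfin : ∀ y : Y', Finite (f' ⁻¹' {y}) := fun y =>
    haveI := (hfib y).1
    Finite.of_equiv _ (f'.fiberHomeo y).toEquiv
  have hdisc : ∀ y : Y', DiscreteTopology (f' ⁻¹' {y}) := fun y =>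
    haveI := (hfib y).2
    (f'.fiberHomeo y).discreteTopology
  constructor
  · haveI := hfin
    let φ : ↥X' → Σ y : Y', (f' ⁻¹' {y} : Set X') := fun x => ⟨f' x, ⟨x, rfl⟩⟩
    have hφ : Function.Injective φ := by
      intro x x' h
      exact congrArg (fun z : Σ y : Y', (f' ⁻¹' {y} : Set X') => (z.2.1 : X')) h
    exact Finite.of_injective φ hφ
  · rw [discreteTopology_iff_isOpen_singleton]
    intro x
    have hopen : IsOpen (f' ⁻¹' {f' x}) := (isOpen_discrete {f' x}).preimage f'.continuous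
    haveI := hdisc (f' x)
    have h1 : IsOpen ({⟨x, rfl⟩} : Set (f' ⁻¹' {f' x})) := isOpen_discrete _
    have h2 := hopen.isOpenMap_subtype_val _ h1
    simpa using h2

lemma isoSpec_inv_appTop' (Y : Scheme.{u}) [IsAffine Y] :
    Y.isoSpec.inv.appTop ≫ (Scheme.ΓSpecIso Γ(Y, ⊤)).hom = 𝟙 _ := by
  have h : Y.isoSpec.inv ≫ Y.toSpecΓ = 𝟙 _ := Y.isoSpec_inv_toSpecΓ
  have h2 := congrArg (fun m => Scheme.Hom.appTop m) h
  simp only [Scheme.Hom.comp_appTop, Scheme.toSpecΓ_appTop] at h2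
  rw [← cancel_epi (Scheme.ΓSpecIso Γ(Y, ⊤)).hom, ← Category.assoc, h2]
  simp

/-- fibre of `f'` over a maximal ideal of `Γ(Y')`, ring-theoretically -/
theorem fibre_tensor {X' Y' : Scheme.{u}} [IsAffine X'] [IsAffine Y'] (f' : X' ⟶ Y') (n : ℕ)
    (hf' : FibreDegLE f' n) (m : Ideal Γ(Y', ⊤)) [m.IsMaximal] :
    letI : Algebra Γ(Y', ⊤) Γ(X', ⊤) := f'.appTop.hom.toAlgebra
    Module.Finite (Γ(Y', ⊤) ⧸ m) ((Γ(Y', ⊤) ⧸ m) ⊗[Γ(Y', ⊤)] Γ(X', ⊤)) ∧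
      Module.finrank (Γ(Y', ⊤) ⧸ m) ((Γ(Y', ⊤) ⧸ m) ⊗[Γ(Y', ⊤)] Γ(X', ⊤)) ≤ n := by
  letI aBC : Algebra Γ(Y', ⊤) Γ(X', ⊤) := f'.appTop.hom.toAlgebra
  letI : Field (Γ(Y', ⊤) ⧸ m) := Ideal.Quotient.field m
  let π : Γ(Y', ⊤) ⟶ CommRingCat.of (Γ(Y', ⊤) ⧸ m) := CommRingCat.ofHom (Ideal.Quotient.mk m)
  let g : Spec (CommRingCat.of (Γ(Y', ⊤) ⧸ m)) ⟶ Y' := Spec.map π ≫ Y'.isoSpec.inv
  obtain ⟨hT, hfinP, hrankP⟩ := finiteOfDegLE_pullback_snd f' n hf' (Γ(Y', ⊤) ⧸ m) g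
  have hpo := isPushout_appTop_of_isPullback (IsPullback.of_hasPullback f' g)
  have hg : g.appTop ≫ (Scheme.ΓSpecIso (CommRingCat.of (Γ(Y', ⊤) ⧸ m))).hom = π := by
    rw [Scheme.Hom.comp_appTop, Category.assoc, Scheme.ΓSpecIso_naturality, ← Category.assoc,
      isoSpec_inv_appTop', Category.id_comp]
  have hpo' : IsPushout f'.appTop π (pullback.fst f' g).appTop
      ((Scheme.ΓSpecIso (CommRingCat.of (Γ(Y', ⊤) ⧸ m))).inv ≫ (pullback.snd f' g).appTop) := by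
    refine hpo.of_iso (Iso.refl _) (Iso.refl _) (Scheme.ΓSpecIso _) (Iso.refl _) ?_ ?_ ?_ ?_
    · simp
    · simp [hg]
    · simp
    · simp
  letI aCP : Algebra Γ(X', ⊤) Γ(pullback f' g, ⊤) := (pullback.fst f' g).appTop.hom.toAlgebra
  letI akP : Algebra (Γ(Y', ⊤) ⧸ m) Γ(pullback f' g, ⊤) :=
    secAlgebra (CommRingCat.of (Γ(Y', ⊤) ⧸ m)) (pullback.snd f' g)
  letI aBP : Algebra Γ(Y', ⊤) Γ(pullback f' g, ⊤) :=
    ((pullback.fst f' g).appTop.hom.comp f'.appTop.hom).toAlgebra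
  haveI : IsScalarTower Γ(Y', ⊤) Γ(X', ⊤) Γ(pullback f' g, ⊤) := .of_algebraMap_eq' rfl
  haveI : IsScalarTower Γ(Y', ⊤) (Γ(Y', ⊤) ⧸ m) Γ(pullback f' g, ⊤) :=
    .of_algebraMap_eq' congr($(hpo'.w).hom)
  have hAP : Algebra.IsPushout Γ(Y', ⊤) Γ(X', ⊤) (Γ(Y', ⊤) ⧸ m) Γ(pullback f' g, ⊤) :=
    CommRingCat.isPushout_iff_isPushout.mp hpo'
  have hAP' : Algebra.IsPushout Γ(Y', ⊤) (Γ(Y', ⊤) ⧸ m) Γ(X', ⊤) Γ(pullback f' g, ⊤) := hAP.symm
  let e : (Γ(Y', ⊤) ⧸ m) ⊗[Γ(Y', ⊤)] Γ(X', ⊤) ≃ₐ[Γ(Y', ⊤) ⧸ m] Γ(pullback f' g, ⊤) :=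
    Algebra.IsPushout.equiv Γ(Y', ⊤) (Γ(Y', ⊤) ⧸ m) Γ(X', ⊤) Γ(pullback f' g, ⊤)
  haveI : Module.Finite (Γ(Y', ⊤) ⧸ m) Γ(pullback f' g, ⊤) := hfinP
  refine ⟨Module.Finite.equiv e.symm.toLinearEquiv, ?_⟩
  rw [LinearEquiv.finrank_eq e.toLinearEquiv]
  exact hrankP

/-- composition over a field -/
theorem finiteOfDegLE_comp {K : CommRingCat.{u}} (hK : IsField K) {X' Y' : Scheme.{u}}
    (f' : X' ⟶ Y') (q : Y' ⟶ Spec K) (n m : ℕ) (hq : FiniteOfDegLE K q m)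
    (hf' : FibreDegLE f' n) : FiniteOfDegLE K (f' ≫ q) (n * m) := by
  obtain ⟨hfY, hdY⟩ := finite_discrete_of_finiteOfDegLE hK q m hq
  haveI := hfY
  haveI := hdY
  obtain ⟨hfX, hdX⟩ := finite_discrete_of_fibreDegLE f' n hf'
  haveI := hfX
  haveI := hdX
  haveI : IsAffine X' := inferInstance
  obtain ⟨hY, hfin, hrank⟩ := hq
  haveI := hY
  letI : Field K := hK.toField
  letI aKB : Algebra K Γ(Y', ⊤) := secAlgebra K q
  letI aBC : Algebra Γ(Y', ⊤) Γ(X', ⊤) := f'.appTop.hom.toAlgebra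
  letI aKC : Algebra K Γ(X', ⊤) := secAlgebra K (f' ≫ q)
  haveI : IsScalarTower K Γ(Y', ⊤) Γ(X', ⊤) := .of_algebraMap_eq' (by
    change ((Scheme.ΓSpecIso K).inv ≫ (f' ≫ q).appTop).hom =
      f'.appTop.hom.comp ((Scheme.ΓSpecIso K).inv ≫ q.appTop).hom
    rw [Scheme.Hom.comp_appTop]
    rfl)
  haveI : Module.Finite K Γ(Y', ⊤) := hfin
  obtain ⟨h1, h2⟩ := FibDeg.finrank_le_of_fibres (K := K) (B := Γ(Y', ⊤)) (C := Γ(X', ⊤)) n
    (fun m _ => fibre_tensor f' n hf' m)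
  exact ⟨inferInstance, h1, h2.trans (Nat.mul_le_mul_left n hrank)⟩

/-- fibre degrees multiply under composition -/
theorem fibreDegLE_comp {X Y Z : Scheme.{u}} (f : X ⟶ Y) (g : Y ⟶ Z) (n m : ℕ)
    (hf : FibreDegLE f n) (hg : FibreDegLE g m) : FibreDegLE (f ≫ g) (n * m) := by
  intro z
  let q : (f ≫ g).fiber z ⟶ g.fiber z :=
    pullback.lift ((f ≫ g).fiberι z ≫ f) ((f ≫ g).fiberToSpecResidueField z)
      (by rw [Category.assoc]; exact (f ≫ g).fiber_fac z)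
  have hq1 : q ≫ g.fiberι z = (f ≫ g).fiberι z ≫ f := pullback.lift_fst _ _ _
  have hq2 : q ≫ g.fiberToSpecResidueField z = (f ≫ g).fiberToSpecResidueField z :=
    pullback.lift_snd _ _ _
  have hsq : IsPullback ((f ≫ g).fiberι z) q f (g.fiberι z) := by
    refine IsPullback.of_bot (v₂₁ := g.fiberToSpecResidueField z) (v₂₂ := g)
      (h₃₁ := Z.fromSpecResidueField z) ?_ hq1.symm
      (IsPullback.of_hasPullback g (Z.fromSpecResidueField z))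
    rw [hq2]
    exact IsPullback.of_hasPullback (f ≫ g) (Z.fromSpecResidueField z)
  have hq : FibreDegLE q n := fibreDegLE_of_isPullback f (g.fiberι z) q ((f ≫ g).fiberι z) hsq n hf
  have := finiteOfDegLE_comp (Field.toIsField _) q (g.fiberToSpecResidueField z) n m (hg z) hq
  rw [hq2] at this
  exact this

end Groth.Agent.H69.FibDegSch
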