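import Groth.Agent.H69.LocLimit
import Mathlib.AlgebraicGeometry.IdealSheaf.Subscheme
import Mathlib.AlgebraicGeometry.Morphisms.QuasiSeparated
import Mathlib.Order.Zorn

/-!
Existence of a field-valued point with property `P` (Stacks-style limit argument).
-/

set_option autoImplicit false
universe u

open CategoryTheory AlgebraicGeometry Limits

namespace Groth.Agent.H69.FieldPt

variable {T : Scheme.{u}}

instance compactSpace_subscheme [CompactSpace T] (I : T.IdealSheafData) : CompactSpace I.subscheme :=
  QuasiCompact.compactSpace_of_compactSpace I.subschemeι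

instance quasiSeparatedSpace_subscheme [QuasiSeparatedSpace T] (I : T.IdealSheafData) :
    QuasiSeparatedSpace I.subscheme :=
  quasiSeparatedSpace_of_quasiSeparated I.subschemeι

section Chain

variable (c : Set T.IdealSheafData)

/-- the diagram of closed subschemes attached to a set of ideal sheaves -/
noncomputable def chainDiagram : (↥c)ᵒᵈ ⥤ Over T where
  obj i := Over.mk (OrderDual.ofDual i).1.subschemeι
  map {i j} h := Over.homMk
    (Scheme.IdealSheafData.inclusion (I := (OrderDual.ofDual j).1) (J := (OrderDual.ofDual i).1)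
      (leOfHom h))
    (Scheme.IdealSheafData.inclusion_subschemeι _)
  map_id i := by
    apply Over.OverMorphism.ext
    exact Scheme.IdealSheafData.inclusion_id _
  map_comp {i j k} a b := by
    apply Over.OverMorphism.ext
    exact (Scheme.IdealSheafData.inclusion_comp _ _).symm

/-- the cone with vertex `V(sSup c)` -/
noncomputable def chainCone : Cone (chainDiagram c) where
  pt := Over.mk (sSup c).subschemeι
  π :=
    { app := fun i => Over.homMk
        (Scheme.IdealSheafData.inclusion (I := (OrderDual.ofDual i).1) (J := sSup c)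
          (le_sSup (OrderDual.ofDual i).2))
        (Scheme.IdealSheafData.inclusion_subschemeι _)
      naturality := fun i j h => by
        apply Over.OverMorphism.ext
        change 𝟙 _ ≫ Scheme.IdealSheafData.inclusion _ =
          Scheme.IdealSheafData.inclusion _ ≫ Scheme.IdealSheafData.inclusion _
        rw [Category.id_comp, Scheme.IdealSheafData.inclusion_comp] }

/-- structure morphism of the vertex of a cone, typed as a morphism to `T` -/
def coneHom (s : Cone (chainDiagram c)) : s.pt.left ⟶ T := s.pt.hom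

lemma le_ker_of_cone (s : Cone (chainDiagram c)) : (sSup c).subschemeι.ker ≤ (coneHom c s).ker := by
  unfold coneHom
  rw [Scheme.IdealSheafData.ker_subschemeι]
  refine sSup_le fun i hi => ?_
  have h1 : (s.π.app (OrderDual.toDual ⟨i, hi⟩)).left ≫ i.subschemeι = s.pt.hom :=
    Over.w (s.π.app (OrderDual.toDual ⟨i, hi⟩))
  rw [← h1]
  conv_lhs => rw [← Scheme.IdealSheafData.ker_subschemeι i]
  exact Scheme.Hom.le_ker_comp _ _

/-- the lift -/
noncomputable def chainLift (s : Cone (chainDiagram c)) : s.pt.left ⟶ (sSup c).subscheme :=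
  IsClosedImmersion.lift (sSup c).subschemeι (coneHom c s) (le_ker_of_cone c s)

lemma chainLift_fac (s : Cone (chainDiagram c)) :
    chainLift c s ≫ (sSup c).subschemeι = coneHom c s :=
  IsClosedImmersion.lift_fac _ _ _

/-- `V(sSup c)` is the limit of the `V(i)`, `i ∈ c`. -/
noncomputable def isLimitChainCone : IsLimit (chainCone c) where
  lift s := Over.homMk (chainLift c s) (chainLift_fac c s)
  fac s i := by
    apply Over.OverMorphism.ext
    change chainLift c s ≫ Scheme.IdealSheafData.inclusion (I := (OrderDual.ofDual i).1) (J := sSup c)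
      (le_sSup (OrderDual.ofDual i).2) = (s.π.app i).left
    apply (cancel_mono (OrderDual.ofDual i).1.subschemeι).mp
    rw [Category.assoc, Scheme.IdealSheafData.inclusion_subschemeι, chainLift_fac]
    exact (Over.w (s.π.app i)).symm
  uniq s m hm := by
    apply Over.OverMorphism.ext
    change (m.left : s.pt.left ⟶ (sSup c).subscheme) = chainLift c s
    apply (cancel_mono (sSup c).subschemeι).mp
    rw [chainLift_fac]
    exact Over.w m

end Chain

section Main

variable (T) (P : ∀ ⦃T' : Scheme.{u}⦄, (T' ⟶ T) → Prop)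

/-- hypothesis (1): insensitivity to thickenings -/
def H1 : Prop := ∀ ⦃T' T'' : Scheme.{u}⦄ (a : T' ⟶ T) (t : T'' ⟶ T') [IsClosedImmersion t] [Surjective t]
  [CompactSpace T'] [QuasiSeparatedSpace T'] [CompactSpace T''] [QuasiSeparatedSpace T''], P (t ≫ a) ↔ P a

/-- hypothesis (2): limits -/
def H2 : Prop := ∀ ⦃I : Type u⦄ [SmallCategory I] [IsCofiltered I] (D : I ⥤ Over T) (c : Limits.Cone D)
  (_ : Limits.IsLimit c),
  (∀ (i j : I) (m : i ⟶ j), IsAffineHom (D.map m).left) →
  (∀ i, CompactSpace (D.obj i).left ∧ QuasiSeparatedSpace (D.obj i).left) →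
  (∀ i, P (D.obj i).hom) → P c.pt.hom

/-- hypothesis (3): open or closed -/
def H3 : Prop := ∀ ⦃T' Z V : Scheme.{u}⦄ (a : T' ⟶ T) [CompactSpace T'] [QuasiSeparatedSpace T'] (i : Z ⟶ T')
  [IsClosedImmersion i] (j : V ⟶ T') [IsOpenImmersion j] [CompactSpace V],
  Set.range j = (Set.range i)ᶜ → P a → P (j ≫ a) ∨ P (i ≫ a)

variable {T P}

lemma iso_inv (h1 : H1 T P) {T' T'' : Scheme.{u}} (a : T' ⟶ T) (t : T'' ⟶ T') [IsIso t]
    [CompactSpace T'] [QuasiSeparatedSpace T'] : P (t ≫ a) ↔ P a := by
  have : CompactSpace T'' := QuasiCompact.compactSpace_of_compactSpace t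
  haveI : QuasiSeparatedSpace T'' := quasiSeparatedSpace_of_quasiSeparated t
  exact h1 a t

variable (T P) in
/-- the nonempty closed subschemes with `P` -/
def goodSet : Set T.IdealSheafData := {I | (I.support : Set T).Nonempty ∧ P I.subschemeι}

variable [CompactSpace T] [QuasiSeparatedSpace T]

lemma bot_mem [Nonempty T] (h1 : H1 T P) (hT : P (𝟙 T)) : ⊥ ∈ goodSet T P := by
  refine ⟨?_, ?_⟩
  · rw [Scheme.IdealSheafData.support_bot]
    exact Set.univ_nonempty
  · have := (iso_inv h1 (𝟙 T) (⊥ : T.IdealSheafData).subschemeι).mpr hT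
    rwa [Category.comp_id] at this

lemma chain_ub (h2 : H2 T P) (c : Set T.IdealSheafData) (hc : c ⊆ goodSet T P)
    (hchain : IsChain (· ≤ ·) c) (hne : c.Nonempty) : sSup c ∈ goodSet T P := by
  haveI : Nonempty ↥c := hne.to_subtype
  refine ⟨?_, ?_⟩
  · have hs : ((sSup c).support : Set T) = ⋂ i : c, (i.1.support : Set T) := by
      rw [Scheme.IdealSheafData.support_sSup]
      ext x
      simp only [TopologicalSpace.Closeds.coe_iInf, Set.mem_iInter, Subtype.forall]
    rw [hs]
    apply IsCompact.nonempty_iInter_of_directed_nonempty_isCompact_isClosed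
    · intro i j
      rcases hchain.total i.2 j.2 with h | h
      · exact ⟨j, Scheme.IdealSheafData.support_antitone h, le_refl _⟩
      · exact ⟨i, le_refl _, Scheme.IdealSheafData.support_antitone h⟩
    · exact fun i => (hc i.2).1
    · exact fun i => i.1.support.isClosed.isCompact
    · exact fun i => i.1.support.isClosed
  · haveI : IsCodirectedOrder (↥c)ᵒᵈ := ⟨fun i j => by
      rcases hchain.total (OrderDual.ofDual i).2 (OrderDual.ofDual j).2 with h | h
      · exact ⟨j, h, le_refl _⟩
      · exact ⟨i, le_refl _, h⟩⟩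
    haveI : IsCofiltered (↥c)ᵒᵈ := isCofiltered_of_directed_ge_nonempty _
    have := h2 (chainDiagram c) (chainCone c) (isLimitChainCone c) ?_ ?_ ?_
    · exact this
    · intro i j m
      change IsAffineHom (Scheme.IdealSheafData.inclusion _)
      infer_instance
    · intro i
      change CompactSpace (OrderDual.ofDual i).1.subscheme ∧
        QuasiSeparatedSpace (OrderDual.ofDual i).1.subscheme
      exact ⟨inferInstance, inferInstance⟩
    · intro i
      exact (hc (OrderDual.ofDual i).2).2

lemma exists_maximal [Nonempty T] (h1 : H1 T P) (h2 : H2 T P) (hT : P (𝟙 T)) :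
    ∃ I₀, Maximal (· ∈ goodSet T P) I₀ := by
  apply zorn_le₀
  intro c hc hchain
  by_cases hne : c.Nonempty
  · exact ⟨sSup c, chain_ub h2 c hc hchain hne, fun z hz => le_sSup hz⟩
  · rw [Set.not_nonempty_iff_eq_empty] at hne
    subst hne
    exact ⟨⊥, bot_mem h1 hT, fun z hz => absurd hz (Set.notMem_empty z)⟩

lemma P_open (h1 : H1 T P) (h3 : H3 T P) {I₀ : T.IdealSheafData}
    (hmax : Maximal (· ∈ goodSet T P) I₀) {V : Scheme.{u}} (j : V ⟶ I₀.subscheme)
    [IsOpenImmersion j] [CompactSpace V] [Nonempty V] : P (j ≫ I₀.subschemeι) := by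
  have hPa : P I₀.subschemeι := hmax.prop.2
  let Zc : TopologicalSpace.Closeds I₀.subscheme :=
    ⟨(Set.range j)ᶜ, j.isOpenEmbedding.isOpen_range.isClosed_compl⟩
  let J := Scheme.IdealSheafData.vanishingIdeal Zc
  have hrange : Set.range J.subschemeι = (Set.range j)ᶜ := by
    rw [Scheme.IdealSheafData.range_subschemeι, Scheme.IdealSheafData.coe_support_vanishingIdeal]
    rfl
  rcases h3 I₀.subschemeι J.subschemeι j (by rw [hrange, compl_compl]) hPa with h | h
  · exact h
  · by_cases hZ : (Set.range j)ᶜ = ∅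
    · -- then `j` is an isomorphism
      have hiso : IsIso j := by
        apply isIso_of_isOpenImmersion_of_opensRange_eq_top
        apply TopologicalSpace.Opens.ext
        rw [Scheme.Hom.coe_opensRange, TopologicalSpace.Opens.coe_top]
        exact Set.compl_empty_iff.mp hZ
      exact (iso_inv h1 I₀.subschemeι j).mpr hPa
    · exfalso
      obtain ⟨v⟩ := ‹Nonempty V›
      set g := J.subschemeι ≫ I₀.subschemeι with hg
      have hsupp : (g.ker.support : Set T) = Set.range g := by
        rw [Scheme.Hom.support_ker, g.isClosedEmbedding.isClosed_range.closure_eq]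
      have hK : g.ker ∈ goodSet T P := by
        refine ⟨?_, ?_⟩
        · rw [hsupp]
          obtain ⟨y, hy⟩ := Set.nonempty_iff_ne_empty.mpr hZ
          rw [← hrange] at hy
          obtain ⟨z, rfl⟩ := hy
          exact ⟨g z, z, rfl⟩
        · have h' : P (g.toImage ≫ g.imageι) := by
            rw [g.toImage_imageι]
            exact h
          exact (iso_inv h1 g.imageι g.toImage).mp h'
      have hle : I₀ ≤ g.ker := by
        conv_lhs => rw [← Scheme.IdealSheafData.ker_subschemeι I₀]
        exact Scheme.Hom.le_ker_comp _ _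
      have heq : g.ker = I₀ := le_antisymm (hmax.le_of_ge hK hle) hle
      have hmem : I₀.subschemeι (j v) ∈ Set.range g := by
        rw [← hsupp, heq, ← Scheme.IdealSheafData.range_subschemeι]
        exact ⟨_, rfl⟩
      obtain ⟨z, hz⟩ := hmem
      have hz' : J.subschemeι z = j v := I₀.subschemeι.isClosedEmbedding.injective hz
      have : j v ∈ (Set.range j)ᶜ := by
        rw [← hrange, ← hz']
        exact ⟨z, rfl⟩
      exact this ⟨v, rfl⟩

open LocLimit in
lemma main_aux (h1 : H1 T P) (h2 : H2 T P) (h3 : H3 T P) {I₀ : T.IdealSheafData}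
    (hmax : Maximal (· ∈ goodSet T P) I₀) (A : Type u) [CommRing A] [Nontrivial A]
    (j₀ : Spec (CommRingCat.of A) ⟶ I₀.subscheme) [IsOpenImmersion j₀] :
    ∃ (K : Type u) (_ : Field K) (t : Spec (CommRingCat.of K) ⟶ T), P t := by
  obtain ⟨q, hq⟩ := Ideal.exists_maximal A
  obtain ⟨p, hp, -⟩ := Ideal.exists_minimalPrimes_le (I := ⊥) (J := q) bot_le
  haveI : p.IsPrime := hp.1.1
  set g₀ : Spec (CommRingCat.of A) ⟶ T := j₀ ≫ I₀.subschemeι with hg₀
  -- `P` for each `Spec A_f`
  have hPf : ∀ f : Idx p, P ((diagram p g₀).obj f).hom := by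
    intro f
    haveI : Nontrivial (Localization.Away f.val) := (toLoc f).domain_nontrivial
    haveI : Nonempty ↥(Spec (CommRingCat.of (Localization.Away f.val))) :=
      inferInstanceAs (Nonempty (PrimeSpectrum (Localization.Away f.val)))
    have := P_open h1 h3 hmax
      (Spec.map (CommRingCat.ofHom (algebraMap A (Localization.Away f.val))) ≫ j₀)
    rw [Category.assoc] at this
    exact this
  have hPp : P (cone p g₀).pt.hom := by
    refine h2 (diagram p g₀) (cone p g₀) (isLimitCone p g₀) ?_ ?_ hPf
    · intro i j m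
      change IsAffineHom (Spec.map _)
      infer_instance
    · intro i
      change CompactSpace ↥(Spec _) ∧ QuasiSeparatedSpace ↥(Spec _)
      exact ⟨inferInstance, inferInstance⟩
  -- pass to the residue field
  let Ap := Localization.AtPrime p
  let a : Spec (CommRingCat.of Ap) ⟶ T := Spec.map (CommRingCat.ofHom (algebraMap A Ap)) ≫ g₀
  let t : Spec (CommRingCat.of (IsLocalRing.ResidueField Ap)) ⟶ Spec (CommRingCat.of Ap) :=
    Spec.map (CommRingCat.ofHom (IsLocalRing.residue Ap))
  haveI : IsClosedImmersion t :=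
    IsClosedImmersion.spec_of_surjective (CommRingCat.ofHom (IsLocalRing.residue Ap))
      IsLocalRing.residue_surjective
  haveI : Subsingleton (PrimeSpectrum Ap) :=
    IsLocalization.subsingleton_primeSpectrum_of_mem_minimalPrimes p hp Ap
  haveI : Surjective t := ⟨fun x => by
    obtain ⟨x0⟩ : Nonempty ↥(Spec (CommRingCat.of (IsLocalRing.ResidueField Ap))) :=
      inferInstanceAs (Nonempty (PrimeSpectrum (IsLocalRing.ResidueField Ap)))
    exact ⟨x0, Subsingleton.elim (α := PrimeSpectrum Ap) _ _⟩⟩
  exact ⟨IsLocalRing.ResidueField Ap, inferInstance, t ≫ a, (h1 a t).mpr hPp⟩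

theorem main [Nonempty T] (h1 : H1 T P) (h2 : H2 T P) (h3 : H3 T P) (hT : P (𝟙 T)) :
    ∃ (K : Type u) (_ : Field K) (t : Spec (CommRingCat.of K) ⟶ T), P t := by
  obtain ⟨I₀, hmax⟩ := exists_maximal h1 h2 hT
  obtain ⟨x, hx⟩ := hmax.prop.1
  rw [← Scheme.IdealSheafData.range_subschemeι] at hx
  obtain ⟨y, -⟩ := hx
  let 𝒰 := I₀.subscheme.affineOpenCover
  obtain ⟨z, hz⟩ := 𝒰.covers y
  haveI : Nonempty (PrimeSpectrum ↑(𝒰.X (𝒰.idx y))) := ⟨z⟩
  haveI : Nontrivial ↑(𝒰.X (𝒰.idx y)) := (PrimeSpectrum.nonempty_iff_nontrivial).mp inferInstance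
  let j₀ : Spec (CommRingCat.of ↑(𝒰.X (𝒰.idx y))) ⟶ I₀.subscheme := 𝒰.f (𝒰.idx y)
  haveI : IsOpenImmersion j₀ := 𝒰.map_prop _
  exact main_aux h1 h2 h3 hmax ↑(𝒰.X (𝒰.idx y)) j₀

end Main

end Groth.Agent.H69.FieldPt
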