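import Groth.Agent.H69.RelNormSN
import Mathlib

set_option autoImplicit false
universe u
open AlgebraicGeometry CategoryTheory

namespace Groth.Agent.H69

section
variable {A B : Type u} [CommRing A] [CommRing B] (φ : A →+* B) {ι : Type*} (R : ι → Type u)
  [∀ j, CommRing (R j)] (φj : ∀ j, A →+* R j) (c : ∀ j, R j →+* B)
  (hcomp : ∀ j, (c j).comp (φj j) = φ) (hsurj : ∀ b : B, ∃ j, ∃ y : R j, c j y = b)

include hcomp hsurj in
theorem colim_isIntegral (h : ∀ j, (φj j).IsIntegral) : φ.IsIntegral := by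
  intro b
  obtain ⟨j, y, rfl⟩ := hsurj b
  obtain ⟨P, hP, hPy⟩ := h j y
  refine ⟨P, hP, ?_⟩
  rw [← hcomp j, ← Polynomial.hom_eval₂, hPy, map_zero]

include hcomp hsurj in
theorem colim_ext (h : ∀ j, ∀ (L : Type u) [Field L] (f g : R j →+* L),
      f.comp (φj j) = g.comp (φj j) → f = g)
    (L : Type u) [Field L] (f g : B →+* L) (hfg : f.comp φ = g.comp φ) : f = g := by
  ext b
  obtain ⟨j, y, rfl⟩ := hsurj b
  have h1 : (f.comp (c j)) = (g.comp (c j)) := by
    apply h j L
    rw [RingHom.comp_assoc, RingHom.comp_assoc, hcomp j, hfg]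
  exact congrArg (fun k => k y) h1

include hcomp in
theorem colim_ker_nil (hker : ∀ a, φ a = 0 → ∃ k, φj k a = 0)
    (h : ∀ j, ∀ a ∈ RingHom.ker (φj j), IsNilpotent a) :
    ∀ a ∈ RingHom.ker φ, IsNilpotent a := by
  intro a ha
  obtain ⟨k, hk⟩ := hker a (RingHom.mem_ker.mp ha)
  exact h k a (RingHom.mem_ker.mpr hk)

include hcomp hsurj in
theorem colim_resTriv (h : ∀ j, ResTriv (φj j)) : ResTriv φ := by
  rw [resTriv_iff_forall]
  intro q b
  obtain ⟨j, y, rfl⟩ := hsurj b
  obtain ⟨a, s, hs, hmem⟩ := (resTriv_iff_forall _).mp (h j) (PrimeSpectrum.comap (c j) q) y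
  have e : ∀ a : A, c j (φj j a) = φ a := fun a => congrArg (fun k => k a) (hcomp j)
  refine ⟨a, s, ?_, ?_⟩
  · intro hmem'
    apply hs
    show c j (φj j s) ∈ q.asIdeal
    rw [e]; exact hmem'
  · have h' : c j (φj j s * y - φj j a) ∈ q.asIdeal := hmem
    rw [map_sub, map_mul, e, e] at h'
    exact h'

end

theorem integral_of_universallyClosed' {A B : Type u} [CommRing A] [CommRing B] (φ : A →+* B)
    (h : UniversallyClosed (Spec.map (CommRingCat.ofHom φ))) : φ.IsIntegral := by
  have hint : IsIntegralHom (Spec.map (CommRingCat.ofHom φ)) :=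
    IsIntegralHom.iff_universallyClosed_and_isAffineHom.mpr ⟨h, inferInstance⟩
  exact IsIntegralHom.SpecMap_iff.mp hint

theorem universallyClosed_of_integral' {A B : Type u} [CommRing A] [CommRing B] (φ : A →+* B)
    (h : φ.IsIntegral) : UniversallyClosed (Spec.map (CommRingCat.ofHom φ)) := by
  have hint : IsIntegralHom (Spec.map (CommRingCat.ofHom φ)) := IsIntegralHom.SpecMap_iff.mpr h
  exact (IsIntegralHom.iff_universallyClosed_and_isAffineHom.mp hint).1

end Groth.Agent.H69
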