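import Mathlib
import Groth.Prelude.Def_SGA1
import Groth.Agent.H69.QuotFlat
import Groth.Agent.S2919

/-!
# Assembly for S2920: flatness of a free finite quotient gives the torsor isomorphism
-/

set_option autoImplicit false
set_option linter.style.haveILetI false
universe u
open CategoryTheory CategoryTheory.Limits AlgebraicGeometry

namespace Groth.Agent.H69.FreeFlat_ASM

theorem isIso_of_flat {X Y : Scheme.{u}} {G : Type u} [Group G] [Finite G] (ρ : G →* Aut X)
    (p : X ⟶ Y) (hp : SGA1.IsQuot ρ p) [IsLocallyNoetherian Y] [IsFinite p]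
    (hfree : (∀ (K : Type u) [Field K] [IsAlgClosed K] (ξ : Spec (CommRingCat.of K) ⟶ X) (g : G),
      ξ ≫ (ρ g).hom = ξ → g = 1))
    (hflat : Flat p)
    (ρ' : G →* Aut (pullback p p))
    (h1 : ∀ g : G, (ρ' g).hom ≫ pullback.snd p p = pullback.snd p p ≫ (ρ g).hom)
    (h2 : ∀ g : G, (ρ' g).hom ≫ pullback.fst p p = pullback.fst p p) :
    IsIso (Sigma.desc (fun g : G => pullback.lift (𝟙 X) (ρ g).hom
      ((Category.id_comp p).trans (hp.inv g).symm)) : (∐ fun _ : G => X) ⟶ pullback p p) := by
  haveI := hflat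
  have hq : SGA1.IsQuot ρ' (pullback.fst p p) :=
    Groth.Agent.H69.QuotFlat.isQuot_baseChange_of_flat ρ p hp p (pullback.snd p p)
      (pullback.fst p p) (IsPullback.of_hasPullback p p).flip ρ' h1 h2
  haveI : IsLocallyNoetherian X := LocallyOfFiniteType.isLocallyNoetherian p
  haveI : IsFinite (pullback.fst p p) := inferInstance
  have hfree' : ∀ (K : Type u) [Field K] [IsAlgClosed K]
      (ξ : Spec (CommRingCat.of K) ⟶ pullback p p) (g : G), ξ ≫ (ρ' g).hom = ξ → g = 1 := by
    intro K _ _ ξ g hξ
    refine hfree K (ξ ≫ pullback.snd p p) g ?_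
    rw [Category.assoc, ← h1 g, ← Category.assoc, hξ]
  have hs : pullback.diagonal p ≫ pullback.fst p p = 𝟙 X := pullback.diagonal_fst p
  have key := Groth.Agent.S2919.result ρ' (pullback.fst p p) hq hfree' (pullback.diagonal p) hs
  have hfun : (fun g : G => pullback.diagonal p ≫ (ρ' g).hom) =
      (fun g : G => pullback.lift (𝟙 X) (ρ g).hom
        ((Category.id_comp p).trans (hp.inv g).symm)) := by
    funext g
    apply pullback.hom_ext
    · rw [Category.assoc, h2 g, pullback.diagonal_fst, pullback.lift_fst]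
    · rw [Category.assoc, h1 g, ← Category.assoc, pullback.diagonal_snd, Category.id_comp,
        pullback.lift_snd]
  rw [← hfun]
  exact key

end Groth.Agent.H69.FreeFlat_ASM
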