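import Mathlib
import Groth.Prelude.Def_SGA1
import Groth.Agent.H69.QuotBasis
import Groth.Agent.H48.FreeFlat_ALG1
import Groth.Agent.H48.FreeFlat_ALG2
import Groth.Agent.H35.FreeFlat_GEO1
import Groth.Agent.H81.FreeFlat_FLAT

/-!
# Assembly for S2920: a free finite quotient is flat
-/

set_option autoImplicit false
set_option linter.style.haveILetI false
universe u
open CategoryTheory CategoryTheory.Limits AlgebraicGeometry

namespace Groth.Agent.H69.FreeFlat_FLATP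

open Groth.Agent.H69.QuotBasis

theorem flat_of_free {X Y : Scheme.{u}} {G : Type u} [Group G] [Finite G] (ρ : G →* Aut X)
    (p : X ⟶ Y) (hp : SGA1.IsQuot ρ p)
    (hfree : (∀ (K : Type u) [Field K] [IsAlgClosed K] (ξ : Spec (CommRingCat.of K) ⟶ X) (g : G),
      ξ ≫ (ρ g).hom = ξ → g = 1)) : Flat p := by
  haveI := hp.affine
  refine Groth.Agent.H81.FreeFlat_FLAT.flat_of_forall_app p (fun V hV => ?_)
  let σ : G → (Γ(X, p ⁻¹ᵁ V) →+* Γ(X, p ⁻¹ᵁ V)) := fun g =>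
    ((ρ g).hom.appLE (p ⁻¹ᵁ V) (p ⁻¹ᵁ V) (SGA1.preimage_le_of_inv ρ p hp.inv g V)).hom
  have hσ1 : σ 1 = RingHom.id _ := by
    have h1 : (ρ 1).hom = 𝟙 X := by rw [map_one]; rfl
    have h2 := appLE_congr (ρ 1).hom (𝟙 X) h1 (p ⁻¹ᵁ V) (p ⁻¹ᵁ V)
      (SGA1.preimage_le_of_inv ρ p hp.inv 1 V) le_rfl
    show ((ρ 1).hom.appLE (p ⁻¹ᵁ V) (p ⁻¹ᵁ V) _).hom = _
    rw [h2]
    ext b
    simp only [Scheme.Hom.appLE]
    show (X.presheaf.map (𝟙 (Opposite.op (p ⁻¹ᵁ V)))).hom b = b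
    rw [X.presheaf.map_id]
    rfl
  have hσmul : ∀ g h : G, (σ g).comp (σ h) = σ (h * g) := by
    intro g h
    have e1 := Scheme.Hom.appLE_comp_appLE (ρ g).hom (ρ h).hom (p ⁻¹ᵁ V) (p ⁻¹ᵁ V) (p ⁻¹ᵁ V)
      (SGA1.preimage_le_of_inv ρ p hp.inv h V) (SGA1.preimage_le_of_inv ρ p hp.inv g V)
    have h3 : (ρ (h * g)).hom = (ρ g).hom ≫ (ρ h).hom := by rw [map_mul]; rfl
    have e2 := appLE_congr (ρ (h * g)).hom ((ρ g).hom ≫ (ρ h).hom) h3 (p ⁻¹ᵁ V) (p ⁻¹ᵁ V)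
      (SGA1.preimage_le_of_inv ρ p hp.inv (h * g) V)
      ((SGA1.preimage_le_of_inv ρ p hp.inv g V).trans
        ((TopologicalSpace.Opens.map (ρ g).hom.base).map
          (homOfLE (SGA1.preimage_le_of_inv ρ p hp.inv h V))).le)
    show ((ρ g).hom.appLE _ _ _).hom.comp ((ρ h).hom.appLE _ _ _).hom =
      ((ρ (h * g)).hom.appLE _ _ _).hom
    rw [e2, ← e1]
    rfl
  letI : Algebra Γ(Y, V) Γ(X, p ⁻¹ᵁ V) := (p.app V).hom.toAlgebra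
  have hA : ∀ (g : G) (a : Γ(Y, V)), σ g (algebraMap Γ(Y, V) Γ(X, p ⁻¹ᵁ V) a) =
      algebraMap Γ(Y, V) Γ(X, p ⁻¹ᵁ V) a := fun g a => act_app ρ p hp.inv g V a
  have hinj : Function.Injective (algebraMap Γ(Y, V) Γ(X, p ⁻¹ᵁ V)) := hp.injective V
  have hrange : ∀ b : Γ(X, p ⁻¹ᵁ V), (∀ g : G, σ g b = b) →
      b ∈ Set.range (algebraMap Γ(Y, V) Γ(X, p ⁻¹ᵁ V)) := fun b hb =>
    (hp.range_iff V b).2 hb
  obtain ⟨n, x, y, h1, h2⟩ := Groth.Agent.H48.FreeFlat_ALG1.exists_dual_system σ hσ1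
    (fun g hg => Groth.Agent.H35.FreeFlat_GEO1.span_eq_top_of_free ρ p hp hfree V hV g hg)
  exact Groth.Agent.H48.FreeFlat_ALG2.flat_of_dual_system σ hσ1 hσmul hA hinj hrange n x y h1 h2

end Groth.Agent.H69.FreeFlat_FLATP
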