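import Groth.Agent.H69.GUPointwise

/-! The pointwise criterion `H_p` ascends to polynomial rings. -/

set_option autoImplicit false
set_option linter.style.haveILetI false
set_option linter.unusedSectionVars false
open AlgebraicGeometry CategoryTheory

universe u

namespace Groth.Agent.H69.GeomUnibranch

open MvPolynomial

attribute [local instance] MvPolynomial.algebraMvPolynomial

section Poly

variable {A : Type u} [CommRing A] [IsDomain A] (K : Type u) [Field K] [Algebra A K]
  [IsFractionRing A K] (σ : Type u) (F : Type u) [Field F] [Algebra (MvPolynomial σ A) F]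
  [IsFractionRing (MvPolynomial σ A) F]

/-- Structure of the normalization of `A[T]`: every element of the fraction field `F` of `A[T]`
integral over `A[T]` is a polynomial with coefficients integral over `A`. -/
theorem exists_of_isIntegral_mvPolynomial [Algebra A F] [IsScalarTower A (MvPolynomial σ A) F]
    [Algebra K F] [IsScalarTower A K F] (z : F) (hz : IsIntegral (MvPolynomial σ A) z) :
    ∃ w : MvPolynomial σ K, (∀ m, IsIntegral A (w.coeff m)) ∧
      z = ∑ m ∈ w.support, algebraMap K F (w.coeff m) *
        algebraMap (MvPolynomial σ A) F (monomial m 1) := by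
  let jK : MvPolynomial σ K →+* F :=
    eval₂Hom (algebraMap K F) (fun i => algebraMap (MvPolynomial σ A) F (X i))
  letI : Algebra (MvPolynomial σ K) F := jK.toAlgebra
  have hjK : ∀ w : MvPolynomial σ A, jK (MvPolynomial.map (algebraMap A K) w) =
      algebraMap (MvPolynomial σ A) F w := by
    intro w
    have : jK.comp (MvPolynomial.map (algebraMap A K)) = algebraMap (MvPolynomial σ A) F := by
      apply MvPolynomial.ringHom_ext
      · intro a
        simp only [RingHom.comp_apply, map_C, jK, coe_eval₂Hom, eval₂_C]
        rw [← IsScalarTower.algebraMap_apply A K F,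
          IsScalarTower.algebraMap_apply A (MvPolynomial σ A) F]
        rfl
      · intro i
        simp only [RingHom.comp_apply, map_X, jK, coe_eval₂Hom, eval₂_X]
    exact congrArg (fun h => h w) this
  haveI : IsScalarTower (MvPolynomial σ A) (MvPolynomial σ K) F :=
    IsScalarTower.of_algebraMap_eq (fun w => (hjK w).symm)
  haveI : IsLocalization ((nonZeroDivisors A).map (C (σ := σ))) (MvPolynomial σ K) :=
    MvPolynomial.isLocalization (nonZeroDivisors A) K
  haveI : IsFractionRing (MvPolynomial σ K) F :=
    IsFractionRing.isFractionRing_of_isDomain_of_isLocalization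
      ((nonZeroDivisors A).map (C (σ := σ))) (MvPolynomial σ K) F
  have hz' : IsIntegral (MvPolynomial σ K) z := hz.tower_top
  obtain ⟨w, hw⟩ := IsIntegrallyClosed.isIntegral_iff.mp hz'
  have hwint : IsIntegral (MvPolynomial σ A) w := by
    have hinj : Function.Injective (IsScalarTower.toAlgHom (MvPolynomial σ A) (MvPolynomial σ K) F) :=
      IsFractionRing.injective (MvPolynomial σ K) F
    refine (isIntegral_algHom_iff _ hinj).mp ?_
    change IsIntegral (MvPolynomial σ A) (algebraMap (MvPolynomial σ K) F w)
    rw [hw]
    exact hz
  refine ⟨w, MvPolynomial.isIntegral_iff_isIntegral_coeff.mp hwint, ?_⟩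
  rw [← hw]
  change jK w = _
  conv_lhs => rw [← w.support_sum_monomial_coeff]
  rw [map_sum]
  refine Finset.sum_congr rfl fun m _ => ?_
  have h1 : monomial m (w.coeff m) = C (w.coeff m) * MvPolynomial.map (algebraMap A K) (monomial m 1) := by
    rw [map_monomial, map_one, C_mul_monomial, mul_one]
  rw [h1, map_mul, hjK]
  congr 1
  simp only [jK, coe_eval₂Hom, eval₂_C]

/-- The pointwise criterion ascends to polynomial rings. -/
theorem Hp_mvPolynomial (P : Ideal (MvPolynomial σ A)) [P.IsPrime] (p : Ideal A)
    (hp : P.comap (C : A →+* MvPolynomial σ A) = p) (hH : Hp A p K) :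
    Hp (MvPolynomial σ A) P F := by
  intro L _ f g hfg hker
  letI : Algebra A F := ((algebraMap (MvPolynomial σ A) F).comp C).toAlgebra
  haveI : IsScalarTower A (MvPolynomial σ A) F := IsScalarTower.of_algebraMap_eq (fun _ => rfl)
  have hinj : Function.Injective (algebraMap A F) :=
    (IsFractionRing.injective (MvPolynomial σ A) F).comp (C_injective σ A)
  letI : Algebra K F := (IsFractionRing.lift hinj).toAlgebra
  haveI : IsScalarTower A K F :=
    IsScalarTower.of_algebraMap_eq (fun x => (IsFractionRing.lift_algebraMap hinj x).symm)
  -- the map `c : A' → N`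
  let c : integralClosure A K →+* integralClosure (MvPolynomial σ A) F :=
    RingHom.codRestrict ((algebraMap K F).comp (algebraMap (integralClosure A K) K))
      (integralClosure (MvPolynomial σ A) F)
      (fun x => by
        have h1 : IsIntegral A (algebraMap K F x.1) :=
          IsIntegral.map (IsScalarTower.toAlgHom A K F) x.2
        exact h1.tower_top)
  have hcA : ∀ a : A, c (algebraMap A (integralClosure A K) a) =
      algebraMap (MvPolynomial σ A) (integralClosure (MvPolynomial σ A) F) (C a) := by
    intro a
    apply Subtype.ext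
    change algebraMap K F (algebraMap A K a) = algebraMap (MvPolynomial σ A) F (C a)
    rw [← IsScalarTower.algebraMap_apply A K F]
    rfl
  have hfc : f.comp c = g.comp c := by
    apply hH L
    · ext a
      simp only [RingHom.comp_apply]
      rw [hcA]
      exact congrArg (fun h => h (C a)) hfg
    · rw [← hp, ← hker]
      ext a
      simp only [RingHom.mem_ker, Ideal.mem_comap, RingHom.comp_apply]
      rw [hcA]
  ext z
  obtain ⟨w, hwint, hzw⟩ := exists_of_isIntegral_mvPolynomial K σ F z.1 z.2
  have hz : z = ∑ m ∈ w.support, c ⟨w.coeff m, hwint m⟩ *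
      algebraMap (MvPolynomial σ A) (integralClosure (MvPolynomial σ A) F) (monomial m 1) := by
    apply Subtype.ext
    rw [hzw]
    simp only [AddSubmonoidClass.coe_finsetSum, MulMemClass.coe_mul]
    rfl
  rw [hz, map_sum, map_sum]
  refine Finset.sum_congr rfl fun m _ => ?_
  rw [map_mul, map_mul]
  have e1 : f (c ⟨w.coeff m, hwint m⟩) = g (c ⟨w.coeff m, hwint m⟩) :=
    congrArg (fun h => h ⟨w.coeff m, hwint m⟩) hfc
  have e2 : f (algebraMap (MvPolynomial σ A) (integralClosure (MvPolynomial σ A) F) (monomial m 1)) =
      g (algebraMap (MvPolynomial σ A) (integralClosure (MvPolynomial σ A) F) (monomial m 1)) :=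
    congrArg (fun h => h (monomial m 1)) hfg
  rw [e1, e2]

end Poly

end Groth.Agent.H69.GeomUnibranch
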