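import Mathlib
import Groth.Prelude.Def_CAlg2
import Groth.Agent.H47.IntegralClosureLoc
import Groth.Agent.H69.UHomeo2

/-! Geometric unibranchness of the local rings of a domain versus radiciality of the
normalization (EGA 0_IV 23.2 / Stacks 0BQ0-like). -/

set_option autoImplicit false
set_option linter.style.haveILetI false
set_option linter.unusedSectionVars false
open AlgebraicGeometry CategoryTheory

universe u

namespace Groth.Agent.H69.GeomUnibranch

/-- A field `E` integral over a ring `R` such that ring maps out of `E` into fields are determined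
by their restriction to `R`: every element has a `q`-power in the image of `R`. -/
theorem exists_pow_mem_range_of_ringHom_ext {R E : Type u} [CommRing R] [CommRing E]
    (hE : IsField E) (f : R →+* E) (hf : f.IsIntegral)
    (H : ∀ (L : Type u) [Field L] (σ τ : E →+* L), σ.comp f = τ.comp f → σ = τ) (x : E) :
    ∃ n : ℕ, x ^ ringExpChar E ^ n ∈ f.range := by
  letI := hE.toField
  have hImax : (RingHom.ker f).IsMaximal := by
    letI := f.toAlgebra
    haveI : Algebra.IsIntegral R E := ⟨hf⟩
    exact Ideal.isMaximal_comap_of_isIntegral_of_isMaximal (R := R) (⊥ : Ideal E)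
  haveI := hImax
  let g : (RingHom.ker f).ResidueField →+* E := Ideal.ResidueField.lift (RingHom.ker f) f le_rfl (by
    intro r hr
    simp only [Submonoid.mem_comap, IsUnit.mem_submonoid_iff]
    exact isUnit_iff_ne_zero.mpr (fun h => hr (RingHom.mem_ker.mpr h)))
  letI : Algebra (RingHom.ker f).ResidueField E := g.toAlgebra
  have hg : g.comp (algebraMap R (RingHom.ker f).ResidueField) = f := by
    ext r; simp [g]
  haveI : Nonempty (E →+* AlgebraicClosure E) := ⟨algebraMap _ _⟩
  haveI : IsPurelyInseparable (RingHom.ker f).ResidueField E := by
    refine IsPurelyInseparable.of_injective_comp_algebraMap _ _ (AlgebraicClosure E) ?_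
    intro σ τ hστ
    dsimp only at hστ
    apply H
    rw [← hg, ← RingHom.comp_assoc, ← RingHom.comp_assoc]
    exact congrArg (fun h => h.comp (algebraMap R (RingHom.ker f).ResidueField)) hστ
  haveI := ringExpChar.expChar (RingHom.ker f).ResidueField
  have hq : ringExpChar E = ringExpChar (RingHom.ker f).ResidueField := by
    haveI : ExpChar E (ringExpChar (RingHom.ker f).ResidueField) :=
      expChar_of_injective_ringHom g.injective _
    exact ringExpChar.eq E _
  obtain ⟨n, y, hy⟩ := IsPurelyInseparable.pow_mem (RingHom.ker f).ResidueField
    (ringExpChar (RingHom.ker f).ResidueField) x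
  obtain ⟨r, rfl⟩ := Ideal.algebraMap_residueField_surjective (RingHom.ker f) y
  refine ⟨n, r, ?_⟩
  rw [hq, ← hy]
  exact (congrArg (fun h => h r) hg).symm

section Abstract

variable {A : Type u} [CommRing A] [IsDomain A] (p : Ideal A) [p.IsPrime]
  (K : Type u) [Field K] [Algebra A K] [IsFractionRing A K]
  (R' : Type u) [CommRing R'] [IsDomain R'] [Algebra A R']
  (K' : Type u) [Field K'] [Algebra R' K'] [IsFractionRing R' K'] [Algebra A K']
  [IsScalarTower A R' K'] [Algebra K K'] [IsScalarTower A K K']

include p in
theorem isFractionRing_AK' [IsLocalization.AtPrime R' p] : IsFractionRing A K' :=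
  Groth.Agent.H47.isFractionRing_of_isLocalization_of_isFractionRing (R := A) (S := R')
    p.primeCompl

include p R' in
theorem algebraMap_KK'_surjective [IsLocalization.AtPrime R' p] :
    Function.Surjective (algebraMap K K') := by
  haveI := isFractionRing_AK' p R' K'
  intro z
  obtain ⟨x, y, hy, rfl⟩ := IsFractionRing.div_surjective (A := A) z
  refine ⟨algebraMap A K x / algebraMap A K y, ?_⟩
  rw [map_div₀, ← IsScalarTower.algebraMap_apply, ← IsScalarTower.algebraMap_apply]

include R' in
theorem isLocalization_KK' [IsLocalization.AtPrime R' p] :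
    IsLocalization (Algebra.algebraMapSubmonoid K p.primeCompl) K' := by
  haveI : IsLocalization (Algebra.algebraMapSubmonoid K p.primeCompl) K := by
    apply IsLocalization.of_le_isUnit
    rintro _ ⟨s, hs, rfl⟩
    refine (IsUnit.mem_submonoid_iff _).mpr (isUnit_iff_ne_zero.mpr ?_)
    intro h0
    have : s = 0 := (FaithfulSMul.algebraMap_injective A K) (by rw [h0, map_zero])
    exact hs (this ▸ p.zero_mem)
  exact IsLocalization.isLocalization_of_algEquiv _
    (AlgEquiv.ofBijective (Algebra.ofId K K')
      ⟨(algebraMap K K').injective, algebraMap_KK'_surjective p K R' K'⟩)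

/-- The canonical map from the normalization of `A` to the normalization of `R'`. -/
noncomputable def theta : integralClosure A K →+* integralClosure R' K' :=
  RingHom.codRestrict
    ((algebraMap K K').comp (algebraMap (integralClosure A K) K))
    (integralClosure R' K')
    (fun x => by
      have h1 : IsIntegral A (algebraMap K K' x.1) :=
        IsIntegral.map (IsScalarTower.toAlgHom A K K') x.2
      exact h1.tower_top)

/-- Algebra structure induced by `theta`. -/
noncomputable abbrev algA'B : Algebra (integralClosure A K) (integralClosure R' K') :=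
  (theta K R' K').toAlgebra

attribute [local instance] algA'B

theorem isScalarTower_A'BK :
    IsScalarTower (integralClosure A K) (integralClosure R' K') K' :=
  IsScalarTower.of_algebraMap_eq (fun _ => rfl)

theorem isScalarTower_AA'B :
    IsScalarTower A (integralClosure A K) (integralClosure R' K') :=
  IsScalarTower.of_algebraMap_eq (fun a => by
    apply Subtype.ext
    change algebraMap A K' a = algebraMap K K' (algebraMap A K a)
    rw [← IsScalarTower.algebraMap_apply])

attribute [local instance] isScalarTower_A'BK isScalarTower_AA'B

include R' in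
theorem isLocalization_integralClosure [IsLocalization.AtPrime R' p] :
    IsLocalization (Algebra.algebraMapSubmonoid (integralClosure A K) p.primeCompl)
      (integralClosure R' K') := by
  haveI := isLocalization_KK' p K R' K'
  exact IsLocalization.integralClosure (R := A) (S := K) (Rf := R') (Sf := K') p.primeCompl

include p in
theorem isIntegral_R'B : Algebra.IsIntegral R' (integralClosure R' K') := inferInstance

/-- Contraction of a maximal ideal of the normalization of `R' = A_p` to `A` is `p`. -/
theorem comap_eq_of_isMaximal [IsLocalization.AtPrime R' p] (m' : Ideal (integralClosure R' K'))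
    [m'.IsMaximal] : m'.comap (algebraMap A (integralClosure R' K')) = p := by
  haveI : IsLocalRing R' := IsLocalization.AtPrime.isLocalRing R' p
  have h1 : (m'.comap (algebraMap R' (integralClosure R' K'))).IsMaximal :=
    Ideal.isMaximal_comap_of_isIntegral_of_isMaximal (R := R') m'
  have h2 : m'.comap (algebraMap R' (integralClosure R' K')) = IsLocalRing.maximalIdeal R' :=
    IsLocalRing.eq_maximalIdeal h1
  rw [IsScalarTower.algebraMap_eq A R' (integralClosure R' K'), ← Ideal.comap_comap, h2]
  exact IsLocalization.AtPrime.comap_maximalIdeal R' p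

/-- A ring map from the normalization of `A_p` to a field whose restriction to `A` has kernel `p`
has maximal kernel. -/
theorem ker_isMaximal [IsLocalization.AtPrime R' p] {L : Type*} [Field L]
    (h : integralClosure R' K' →+* L)
    (hker : RingHom.ker (h.comp (algebraMap A (integralClosure R' K'))) = p) :
    (RingHom.ker h).IsMaximal := by
  haveI : IsLocalRing R' := IsLocalization.AtPrime.isLocalRing R' p
  haveI : (RingHom.ker h).IsPrime := RingHom.ker_isPrime h
  apply Ideal.isMaximal_of_isIntegral_of_isMaximal_comap (R := R') (RingHom.ker h)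
  have h1 : ((RingHom.ker h).comap (algebraMap R' (integralClosure R' K'))).comap
      (algebraMap A R') = p := by
    rw [Ideal.comap_comap, ← IsScalarTower.algebraMap_eq, ← hker]
    rfl
  have h2 := IsLocalization.map_comap p.primeCompl R'
    ((RingHom.ker h).comap (algebraMap R' (integralClosure R' K')))
  rw [Ideal.under_def, h1, IsLocalization.AtPrime.map_eq_maximalIdeal p R'] at h2
  rw [← h2]
  exact IsLocalRing.maximalIdeal.isMaximal R'

/-- (⇐) in abstract form. -/
theorem ringHom_ext_of_local [IsLocalization.AtPrime R' p]
    (hloc : IsLocalRing (integralClosure R' K'))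
    (hres : ∀ (m' : Ideal (integralClosure R' K')) [m'.IsMaximal]
      (x : integralClosure R' K' ⧸ m'), ∃ n : ℕ,
        x ^ (ringExpChar (integralClosure R' K' ⧸ m')) ^ n ∈
          ((Ideal.Quotient.mk m').comp (algebraMap R' (integralClosure R' K'))).range)
    {L : Type u} [Field L] (f g : integralClosure A K →+* L)
    (hfg : f.comp (algebraMap A (integralClosure A K)) = g.comp (algebraMap A (integralClosure A K)))
    (hker : RingHom.ker (f.comp (algebraMap A (integralClosure A K))) = p) : f = g := by
  haveI := isLocalization_integralClosure p K R' K'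
  have hfu : ∀ y : Algebra.algebraMapSubmonoid (integralClosure A K) p.primeCompl,
      IsUnit (f y) := by
    rintro ⟨_, s, hs, rfl⟩
    refine isUnit_iff_ne_zero.mpr (fun h0 => hs ?_)
    rw [← hker]; exact RingHom.mem_ker.mpr h0
  have hgu : ∀ y : Algebra.algebraMapSubmonoid (integralClosure A K) p.primeCompl,
      IsUnit (g y) := by
    rintro ⟨_, s, hs, rfl⟩
    refine isUnit_iff_ne_zero.mpr (fun h0 => hs ?_)
    rw [← hker, hfg]; exact RingHom.mem_ker.mpr h0
  let f' : integralClosure R' K' →+* L := IsLocalization.lift hfu
  let g' : integralClosure R' K' →+* L := IsLocalization.lift hgu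
  have hf' : f'.comp (algebraMap (integralClosure A K) (integralClosure R' K')) = f :=
    IsLocalization.lift_comp hfu
  have hg' : g'.comp (algebraMap (integralClosure A K) (integralClosure R' K')) = g :=
    IsLocalization.lift_comp hgu
  have hfA : f'.comp (algebraMap A (integralClosure R' K')) =
      f.comp (algebraMap A (integralClosure A K)) := by
    rw [IsScalarTower.algebraMap_eq A (integralClosure A K) (integralClosure R' K'),
      ← RingHom.comp_assoc, hf']
  have hgA : g'.comp (algebraMap A (integralClosure R' K')) =
      g.comp (algebraMap A (integralClosure A K)) := by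
    rw [IsScalarTower.algebraMap_eq A (integralClosure A K) (integralClosure R' K'),
      ← RingHom.comp_assoc, hg']
  suffices hsuff : f' = g' by rw [← hf', ← hg', hsuff]
  have hkf : RingHom.ker f' = IsLocalRing.maximalIdeal _ :=
    IsLocalRing.eq_maximalIdeal (ker_isMaximal p R' K' f' (by rw [hfA, hker]))
  have hkg : RingHom.ker g' = IsLocalRing.maximalIdeal _ :=
    IsLocalRing.eq_maximalIdeal (ker_isMaximal p R' K' g' (by rw [hgA, ← hfg, hker]))
  have hR' : f'.comp (algebraMap R' (integralClosure R' K')) =
      g'.comp (algebraMap R' (integralClosure R' K')) := by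
    apply IsLocalization.ringHom_ext p.primeCompl
    rw [RingHom.comp_assoc, RingHom.comp_assoc, ← IsScalarTower.algebraMap_eq, hfA, hgA, hfg]
  set m := IsLocalRing.maximalIdeal (integralClosure R' K') with hm
  haveI : m.IsMaximal := IsLocalRing.maximalIdeal.isMaximal _
  let fbar : integralClosure R' K' ⧸ m →+* L :=
    Ideal.Quotient.lift m f' (fun a ha => by rw [← RingHom.mem_ker, hkf]; exact ha)
  have hfbar : Function.Injective fbar :=
    RingHom.lift_injective_of_ker_le_ideal m _ (le_of_eq hkf)
  haveI := ringExpChar.expChar (integralClosure R' K' ⧸ m)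
  haveI : ExpChar L (ringExpChar (integralClosure R' K' ⧸ m)) :=
    expChar_of_injective_ringHom hfbar _
  ext b
  obtain ⟨n, r, hr⟩ := hres m (Ideal.Quotient.mk m b)
  have hr' : algebraMap R' (integralClosure R' K') r -
      b ^ (ringExpChar (integralClosure R' K' ⧸ m)) ^ n ∈ m := by
    rw [← Ideal.Quotient.eq, map_pow]; exact hr
  have e1 : f' (algebraMap R' (integralClosure R' K') r) =
      f' b ^ (ringExpChar (integralClosure R' K' ⧸ m)) ^ n := by
    have : algebraMap R' (integralClosure R' K') r -
      b ^ (ringExpChar (integralClosure R' K' ⧸ m)) ^ n ∈ RingHom.ker f' := by rw [hkf]; exact hr'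
    rw [RingHom.mem_ker, map_sub, sub_eq_zero, map_pow] at this
    exact this
  have e2 : g' (algebraMap R' (integralClosure R' K') r) =
      g' b ^ (ringExpChar (integralClosure R' K' ⧸ m)) ^ n := by
    have : algebraMap R' (integralClosure R' K') r -
      b ^ (ringExpChar (integralClosure R' K' ⧸ m)) ^ n ∈ RingHom.ker g' := by rw [hkg]; exact hr'
    rw [RingHom.mem_ker, map_sub, sub_eq_zero, map_pow] at this
    exact this
  have e3 : f' (algebraMap R' (integralClosure R' K') r) =
      g' (algebraMap R' (integralClosure R' K') r) := congrArg (fun h => h r) hR'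
  apply iterateFrobenius_inj L (ringExpChar (integralClosure R' K' ⧸ m)) n
  rw [iterateFrobenius_def, iterateFrobenius_def, ← e1, ← e2, e3]

/-- (⇒) in abstract form. -/
theorem local_of_universallyInjective [IsLocalization.AtPrime R' p]
    (hψ : UniversallyInjective
      (Spec.map (CommRingCat.ofHom (algebraMap A (integralClosure A K))))) :
    IsLocalRing (integralClosure R' K') ∧
    ∀ (m' : Ideal (integralClosure R' K')) [m'.IsMaximal]
      (x : integralClosure R' K' ⧸ m'), ∃ n : ℕ,
        x ^ (ringExpChar (integralClosure R' K' ⧸ m')) ^ n ∈
          ((Ideal.Quotient.mk m').comp (algebraMap R' (integralClosure R' K'))).range := by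
  haveI := isLocalization_integralClosure p K R' K'
  constructor
  · apply IsLocalRing.of_unique_max_ideal
    obtain ⟨m₀, hm₀⟩ := Ideal.exists_maximal (integralClosure R' K')
    refine ⟨m₀, hm₀, fun m₁ hm₁ => ?_⟩
    haveI := hm₀
    haveI := hm₁
    have hinj : Function.Injective
        (PrimeSpectrum.comap (algebraMap A (integralClosure A K))) :=
      (Spec.map (CommRingCat.ofHom (algebraMap A (integralClosure A K)))).injective
    have key : ∀ (m : Ideal (integralClosure R' K')) [m.IsMaximal],
        (m.comap (algebraMap (integralClosure A K) (integralClosure R' K'))).comap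
          (algebraMap A (integralClosure A K)) = p := by
      intro m _
      rw [Ideal.comap_comap, ← IsScalarTower.algebraMap_eq]
      exact comap_eq_of_isMaximal p R' K' m
    have h01 : m₁.comap (algebraMap (integralClosure A K) (integralClosure R' K')) =
        m₀.comap (algebraMap (integralClosure A K) (integralClosure R' K')) := by
      have := @hinj ⟨m₁.comap (algebraMap (integralClosure A K) (integralClosure R' K')),
          inferInstance⟩
        ⟨m₀.comap (algebraMap (integralClosure A K) (integralClosure R' K')), inferInstance⟩
        (by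
          apply PrimeSpectrum.ext
          change Ideal.comap _ _ = Ideal.comap _ _
          rw [key m₁, key m₀])
      exact congrArg PrimeSpectrum.asIdeal this
    have e0 := IsLocalization.map_comap
      (Algebra.algebraMapSubmonoid (integralClosure A K) p.primeCompl) (integralClosure R' K') m₀
    have e1 := IsLocalization.map_comap
      (Algebra.algebraMapSubmonoid (integralClosure A K) p.primeCompl) (integralClosure R' K') m₁
    rw [← e0, ← e1, Ideal.under_def, Ideal.under_def, h01]
  · intro m' _ x
    refine exists_pow_mem_range_of_ringHom_ext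
      ((Ideal.Quotient.maximal_ideal_iff_isField_quotient m').mp inferInstance)
      ((Ideal.Quotient.mk m').comp (algebraMap R' (integralClosure R' K'))) ?_ ?_ x
    · exact RingHom.IsIntegral.trans _ _
        (algebraMap_isIntegral_iff.mpr inferInstance)
        (RingHom.isIntegral_of_surjective _ Ideal.Quotient.mk_surjective)
    · intro L _ σ τ hστ
      have e1 : (σ.comp (Ideal.Quotient.mk m')).comp
          (algebraMap (integralClosure A K) (integralClosure R' K')) =
          (τ.comp (Ideal.Quotient.mk m')).comp
          (algebraMap (integralClosure A K) (integralClosure R' K')) := by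
        apply ringHom_ext_of_universallyInjective_Spec _ hψ
        ext a
        have h1 := congrArg (fun h => h (algebraMap A R' a)) hστ
        simp only [RingHom.comp_apply] at h1 ⊢
        rw [← IsScalarTower.algebraMap_apply A (integralClosure A K) (integralClosure R' K'),
          IsScalarTower.algebraMap_apply A R' (integralClosure R' K')]
        exact h1
      have e2 : σ.comp (Ideal.Quotient.mk m') = τ.comp (Ideal.Quotient.mk m') :=
        IsLocalization.ringHom_ext
          (Algebra.algebraMapSubmonoid (integralClosure A K) p.primeCompl) e1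
      exact Ideal.Quotient.ringHom_ext e2

end Abstract

theorem isGeomUnibranch_iff (R : Type u) [CommRing R] [IsLocalRing R]
    (hd : IsDomain (CAlg2.red R)) : CAlg2.IsGeomUnibranch R ↔
    (IsLocalRing (CAlg2.normRed R) ∧
      ∀ (m' : Ideal (CAlg2.normRed R)) [m'.IsMaximal]
        (x : CAlg2.normRed R ⧸ m'), ∃ n : ℕ,
        x ^ (ringExpChar (CAlg2.normRed R ⧸ m')) ^ n ∈
          ((Ideal.Quotient.mk m').comp (algebraMap (CAlg2.red R) (CAlg2.normRed R))).range) := by
  constructor
  · rintro ⟨⟨_, hloc⟩, hres⟩
    refine ⟨hloc, fun m' _ x => ?_⟩
    obtain ⟨n, r, hr⟩ := hres m' x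
    exact ⟨n, Ideal.Quotient.mk _ r, hr⟩
  · rintro ⟨hloc, hres⟩
    refine ⟨⟨hd, hloc⟩, fun m' _ x => ?_⟩
    obtain ⟨n, r', hr⟩ := hres m' x
    obtain ⟨r, rfl⟩ := Ideal.Quotient.mk_surjective r'
    exact ⟨n, r, hr⟩

section Concrete

variable {A : Type u} [CommRing A] [IsDomain A] (p : Ideal A) [p.IsPrime]

theorem nilradical_eq_bot : nilradical (Localization.AtPrime p) = ⊥ :=
  nilradical_eq_zero _

instance isDomain_red : IsDomain (CAlg2.red (Localization.AtPrime p)) := by
  haveI : (nilradical (Localization.AtPrime p)).IsPrime := by
    rw [nilradical_eq_bot]; exact Ideal.isPrime_bot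
  exact Ideal.Quotient.isDomain _

/-- `A_p ≃ (A_p)_red`. -/
noncomputable def redEquiv : Localization.AtPrime p ≃ₐ[A] CAlg2.red (Localization.AtPrime p) :=
  AlgEquiv.ofBijective (Ideal.Quotient.mkₐ A (nilradical (Localization.AtPrime p)))
    ⟨by
      intro x y hxy
      have h1 : x - y ∈ nilradical (Localization.AtPrime p) := by
        rw [← Ideal.Quotient.eq]; exact hxy
      rw [nilradical_eq_bot, Ideal.mem_bot, sub_eq_zero] at h1
      exact h1, Ideal.Quotient.mkₐ_surjective A _⟩

instance isLocalization_red : IsLocalization.AtPrime (CAlg2.red (Localization.AtPrime p)) p :=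
  IsLocalization.isLocalization_of_algEquiv p.primeCompl (redEquiv p)

instance faithfulSMul_AKr :
    FaithfulSMul A (FractionRing (CAlg2.red (Localization.AtPrime p))) := by
  haveI := isFractionRing_AK' p (CAlg2.red (Localization.AtPrime p))
    (FractionRing (CAlg2.red (Localization.AtPrime p)))
  exact (faithfulSMul_iff_algebraMap_injective A _).mpr (IsFractionRing.injective A _)

noncomputable instance algKKr :
    Algebra (FractionRing A) (FractionRing (CAlg2.red (Localization.AtPrime p))) :=
  FractionRing.liftAlgebra A (FractionRing (CAlg2.red (Localization.AtPrime p)))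

instance isScalarTower_KKr :
    IsScalarTower A (FractionRing A) (FractionRing (CAlg2.red (Localization.AtPrime p))) :=
  FractionRing.isScalarTower_liftAlgebra A (FractionRing (CAlg2.red (Localization.AtPrime p)))

end Concrete

theorem ringHom_ext_of_isGeomUnibranch {A : Type u} [CommRing A] [IsDomain A]
    (H : ∀ (p : Ideal A) [p.IsPrime], CAlg2.IsGeomUnibranch (Localization.AtPrime p))
    (L : Type u) [Field L] (f g : integralClosure A (FractionRing A) →+* L)
    (hfg : f.comp (algebraMap A (integralClosure A (FractionRing A))) =
      g.comp (algebraMap A (integralClosure A (FractionRing A)))) : f = g := by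
  haveI hp : (RingHom.ker (f.comp (algebraMap A (integralClosure A (FractionRing A))))).IsPrime :=
    RingHom.ker_isPrime _
  obtain ⟨hloc, hres⟩ := (isGeomUnibranch_iff _ (isDomain_red _)).mp
    (H (RingHom.ker (f.comp (algebraMap A (integralClosure A (FractionRing A))))))
  exact ringHom_ext_of_local
    (RingHom.ker (f.comp (algebraMap A (integralClosure A (FractionRing A)))))
    (FractionRing A) (CAlg2.red (Localization.AtPrime _))
    (FractionRing (CAlg2.red (Localization.AtPrime _))) hloc hres f g hfg rfl

theorem isGeomUnibranch_of_universallyInjective {A : Type u} [CommRing A] [IsDomain A]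
    (hψ : UniversallyInjective
      (Spec.map (CommRingCat.ofHom (algebraMap A (integralClosure A (FractionRing A))))))
    (p : Ideal A) [p.IsPrime] : CAlg2.IsGeomUnibranch (Localization.AtPrime p) :=
  (isGeomUnibranch_iff _ (isDomain_red p)).mpr
    (local_of_universallyInjective p (FractionRing A) (CAlg2.red (Localization.AtPrime p))
      (FractionRing (CAlg2.red (Localization.AtPrime p))) hψ)

theorem main {A : Type u} [CommRing A] [IsDomain A] :
    (UniversallyInjective (Spec.map (CommRingCat.ofHom
        (algebraMap A (integralClosure A (FractionRing A))))) ↔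
      ∀ (p : Ideal A) [p.IsPrime], CAlg2.IsGeomUnibranch (Localization.AtPrime p)) ∧
    ((∀ (p : Ideal A) [p.IsPrime], CAlg2.IsGeomUnibranch (Localization.AtPrime p)) →
      IsHomeomorph (PrimeSpectrum.comap (algebraMap A (integralClosure A (FractionRing A))))) := by
  refine ⟨⟨fun h p _ => isGeomUnibranch_of_universallyInjective h p, fun H =>
    universallyInjective_Spec_of_ringHom_ext _ (ringHom_ext_of_isGeomUnibranch H)⟩, fun H => ?_⟩
  have hint : (algebraMap A (integralClosure A (FractionRing A))).IsIntegral :=
    algebraMap_isIntegral_iff.mpr inferInstance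
  have hinj : Function.Injective (algebraMap A (integralClosure A (FractionRing A))) :=
    FaithfulSMul.algebraMap_injective A _
  have h1 := isUnivHomeo_Spec_of_integral_of_ringHom_ext _ hint hinj
    (ringHom_ext_of_isGeomUnibranch H)
  exact isHomeomorph_of_isUnivHomeo _ h1

end Groth.Agent.H69.GeomUnibranch
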