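import Groth.Agent.H69.GeomUnibranch

/-! Generalization of `GeomUnibranch`: arbitrary fraction field `K`, arbitrary model `Rp` of the
localization, arbitrary model `C` of the integral closure. -/

set_option autoImplicit false
set_option linter.style.haveILetI false
set_option linter.unusedSectionVars false
open AlgebraicGeometry CategoryTheory

universe u

namespace Groth.Agent.H69.GeomUnibranch

section General

variable {A : Type u} [CommRing A] [IsDomain A] (p : Ideal A) [p.IsPrime]
  (K : Type u) [Field K] [Algebra A K] [IsFractionRing A K]
  (Rp : Type u) [CommRing Rp] [Algebra A Rp] [IsLocalization.AtPrime Rp p]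

include p in
theorem isDomain_Rp : IsDomain Rp :=
  IsLocalization.isDomain_of_le_nonZeroDivisors Rp p.primeCompl_le_nonZeroDivisors

include p in
theorem nilradical_eq_bot' : nilradical Rp = ⊥ := by
  haveI := isDomain_Rp p Rp
  exact nilradical_eq_zero _

include p in
theorem isDomain_red' : IsDomain (CAlg2.red Rp) := by
  haveI := isDomain_Rp p Rp
  haveI : (nilradical Rp).IsPrime := by
    rw [nilradical_eq_bot' p Rp]; exact Ideal.isPrime_bot
  exact Ideal.Quotient.isDomain _

include p in
/-- `Rp ≃ (Rp)_red`. -/
theorem redEquiv'_bijective :
    Function.Bijective (Ideal.Quotient.mkₐ A (nilradical Rp)) :=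
  ⟨by
    intro x y hxy
    have h1 : x - y ∈ nilradical Rp := by
      rw [← Ideal.Quotient.eq]; exact hxy
    rw [nilradical_eq_bot' p Rp, Ideal.mem_bot, sub_eq_zero] at h1
    exact h1, Ideal.Quotient.mkₐ_surjective A _⟩

theorem isLocalization_red' : IsLocalization.AtPrime (CAlg2.red Rp) p :=
  IsLocalization.isLocalization_of_algEquiv p.primeCompl
    (AlgEquiv.ofBijective (Ideal.Quotient.mkₐ A (nilradical Rp)) (redEquiv'_bijective p Rp))

theorem ringHom_ext_of_isGeomUnibranch_aux [IsLocalRing Rp] (hGU : CAlg2.IsGeomUnibranch Rp)
    (L : Type u) [Field L] (f g : integralClosure A K →+* L)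
    (hfg : f.comp (algebraMap A (integralClosure A K)) =
      g.comp (algebraMap A (integralClosure A K)))
    (hker : RingHom.ker (f.comp (algebraMap A (integralClosure A K))) = p) : f = g := by
  haveI := isDomain_red' p Rp
  haveI := isLocalization_red' p Rp
  haveI hfr : IsFractionRing A (FractionRing (CAlg2.red Rp)) :=
    isFractionRing_AK' p (CAlg2.red Rp) (FractionRing (CAlg2.red Rp))
  have hinj : Function.Injective (algebraMap A (FractionRing (CAlg2.red Rp))) :=
    IsFractionRing.injective A _
  letI : Algebra K (FractionRing (CAlg2.red Rp)) := (IsFractionRing.lift hinj).toAlgebra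
  haveI : IsScalarTower A K (FractionRing (CAlg2.red Rp)) :=
    IsScalarTower.of_algebraMap_eq (fun x => (IsFractionRing.lift_algebraMap hinj x).symm)
  obtain ⟨hloc, hres⟩ := (isGeomUnibranch_iff Rp (isDomain_red' p Rp)).mp hGU
  exact ringHom_ext_of_local p K (CAlg2.red Rp) (FractionRing (CAlg2.red Rp)) hloc hres f g hfg hker

end General

/-- General ring-level criterion: if every localization of the domain `A` is geometrically
unibranch, ring maps from (a model `C` of) the normalization of `A` to a field are determined by
their restriction to `A`. -/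
theorem ringHom_ext_of_isIntegralClosure {A : Type u} [CommRing A] [IsDomain A]
    (K : Type u) [Field K] [Algebra A K] [IsFractionRing A K]
    (C : Type u) [CommRing C] [Algebra A C] [Algebra C K] [IsScalarTower A C K]
    [IsIntegralClosure C A K]
    (H : ∀ (p : Ideal A) [p.IsPrime], ∃ (Rp : Type u) (_ : CommRing Rp) (_ : IsLocalRing Rp)
      (_ : Algebra A Rp), IsLocalization.AtPrime Rp p ∧ CAlg2.IsGeomUnibranch Rp)
    (L : Type u) [Field L] (f g : C →+* L)
    (hfg : f.comp (algebraMap A C) = g.comp (algebraMap A C)) : f = g := by
  let e : C ≃ₐ[A] integralClosure A K := IsIntegralClosure.equiv A C K (integralClosure A K)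
  have he : ∀ a : A, e.symm (algebraMap A (integralClosure A K) a) = algebraMap A C a :=
    fun a => e.symm.commutes a
  let f' : integralClosure A K →+* L := f.comp (e.symm : integralClosure A K →+* C)
  let g' : integralClosure A K →+* L := g.comp (e.symm : integralClosure A K →+* C)
  have hfg' : f'.comp (algebraMap A (integralClosure A K)) =
      g'.comp (algebraMap A (integralClosure A K)) := by
    ext a
    change f (e.symm (algebraMap A (integralClosure A K) a)) =
      g (e.symm (algebraMap A (integralClosure A K) a))
    rw [he]
    exact congrArg (fun h => h a) hfg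
  haveI hp : (RingHom.ker (f'.comp (algebraMap A (integralClosure A K)))).IsPrime :=
    RingHom.ker_isPrime _
  obtain ⟨Rp, _, _, _, hloc, hGU⟩ := H (RingHom.ker (f'.comp (algebraMap A (integralClosure A K))))
  have key : f' = g' := ringHom_ext_of_isGeomUnibranch_aux _ K Rp hGU L f' g' hfg' rfl
  ext c
  have := congrArg (fun h => h (e c)) key
  simpa [f', g'] using this

end Groth.Agent.H69.GeomUnibranch
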