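import Groth.Agent.H69.GeomUnibranch2

/-! Purely inseparable variant of `ringHom_ext_of_isIntegralClosure`. -/

set_option autoImplicit false
set_option linter.style.haveILetI false
set_option linter.unusedSectionVars false
open AlgebraicGeometry CategoryTheory

universe u

namespace Groth.Agent.H69.GeomUnibranch

theorem eq_of_pow_expChar_pow_eq {K Ω : Type*} [Field K] [Field Ω] (q : ℕ) [hq : ExpChar K q]
    (hqΩ : q ≠ 1 → (q : Ω) = 0) (n : ℕ) (a b : Ω) (h : a ^ q ^ n = b ^ q ^ n) : a = b := by
  cases hq with
  | zero => simpa using h
  | prime hp =>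
    haveI : CharP Ω q := (CharP.charP_iff_prime_eq_zero hp).mpr (hqΩ hp.ne_one)
    haveI : Fact q.Prime := ⟨hp⟩
    haveI : ExpChar Ω q := ExpChar.prime hp
    apply iterateFrobenius_inj Ω q n
    rw [iterateFrobenius_def, iterateFrobenius_def, h]

theorem cast_expChar_eq_zero {K : Type*} [Field K] (q : ℕ) [hq : ExpChar K q] (hne : q ≠ 1) :
    (q : K) = 0 := by
  cases hq with
  | zero => exact absurd rfl hne
  | prime hp => exact CharP.cast_eq_zero K q

/-- If every localization of the domain `A` is geometrically unibranch and `L` is a purely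
inseparable extension of the fraction field, ring maps from the integral closure of `A` in `L` to
a field are determined by their restriction to `A`. -/
theorem ringHom_ext_of_isIntegralClosure_of_purelyInseparable
    {A : Type u} [CommRing A] [IsDomain A]
    (K : Type u) [Field K] [Algebra A K] [IsFractionRing A K]
    (L : Type u) [Field L] [Algebra K L] [Algebra A L] [IsScalarTower A K L]
    [IsPurelyInseparable K L]
    (D : Type u) [CommRing D] [Algebra A D] [Algebra D L] [IsScalarTower A D L]
    [IsIntegralClosure D A L]
    (H : ∀ (p : Ideal A) [p.IsPrime], ∃ (Rp : Type u) (_ : CommRing Rp) (_ : IsLocalRing Rp)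
      (_ : Algebra A Rp), IsLocalization.AtPrime Rp p ∧ CAlg2.IsGeomUnibranch Rp)
    (Ω : Type u) [Field Ω] (f g : D →+* Ω)
    (hfg : f.comp (algebraMap A D) = g.comp (algebraMap A D)) : f = g := by
  let j : integralClosure A K →ₐ[A] D := IsIntegralClosure.lift A D L
  have hj : ∀ c : integralClosure A K, algebraMap D L (j c) = algebraMap K L c.1 := fun c =>
    IsIntegralClosure.algebraMap_lift A D L c
  have hfj : f.comp (j : integralClosure A K →+* D) = g.comp (j : integralClosure A K →+* D) := by
    apply ringHom_ext_of_isIntegralClosure K (integralClosure A K) H Ω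
    ext a
    change f (j (algebraMap A (integralClosure A K) a)) = g (j (algebraMap A (integralClosure A K) a))
    rw [j.commutes]
    exact congrArg (fun h => h a) hfg
  have hinjK : Function.Injective (algebraMap A K) := IsFractionRing.injective A K
  haveI := ringExpChar.expChar K
  have hqΩ : ringExpChar K ≠ 1 → ((ringExpChar K : ℕ) : Ω) = 0 := by
    intro hne
    have hK : ((ringExpChar K : ℕ) : K) = 0 := cast_expChar_eq_zero _ hne
    have hA : ((ringExpChar K : ℕ) : A) = 0 := hinjK (by rw [map_natCast, hK, map_zero])
    have : ((ringExpChar K : ℕ) : Ω) = f (algebraMap A D ((ringExpChar K : ℕ) : A)) := by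
      rw [map_natCast, map_natCast]
    rw [this, hA, map_zero, map_zero]
  ext d
  obtain ⟨n, y, hy⟩ := IsPurelyInseparable.pow_mem K (ringExpChar K) (algebraMap D L d)
  have hyint : IsIntegral A y := by
    have h1 : IsIntegral A (algebraMap K L y) := by
      rw [hy]
      exact ((IsIntegralClosure.isIntegral A L d).map (IsScalarTower.toAlgHom A D L)).pow _
    exact (isIntegral_algHom_iff (IsScalarTower.toAlgHom A K L) (algebraMap K L).injective).mp h1
  have hjc : j ⟨y, hyint⟩ = d ^ ringExpChar K ^ n := by
    apply IsIntegralClosure.algebraMap_injective D A L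
    rw [hj, map_pow]
    exact hy
  have h2 : f d ^ ringExpChar K ^ n = g d ^ ringExpChar K ^ n := by
    rw [← map_pow, ← map_pow, ← hjc]
    exact congrArg (fun h => h ⟨y, hyint⟩) hfj
  exact eq_of_pow_expChar_pow_eq (K := K) (ringExpChar K) hqΩ n _ _ h2

end Groth.Agent.H69.GeomUnibranch
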