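import Mathlib
import Groth.Prelude.Def_HTop
import Groth.Agent.H37.HTopV6
import Groth.Agent.H37.HTopV3
import Groth.Agent.H24.LimIso

/-!
# Sections of h sheaves: families over `S`, closed covers, abstract blow-up squares (helper69)
-/

set_option autoImplicit false
set_option linter.style.haveILetI false
universe w u
open CategoryTheory CategoryTheory.Limits AlgebraicGeometry Opposite HTop

namespace Groth.Agent.H69.HDescent

variable {S : Scheme.{u}}

/-- A covering family of the underlying scheme gives a covering sieve over `S`. -/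
theorem mem_over_of_family (J : GrothendieckTopology Scheme.{u}) {P : Over S} (R : Sieve P)
    (E : PreZeroHypercover.{w} P.left) (hE : Sieve.generate E.presieve₀ ∈ J P.left)
    (hR : ∀ i, R (Over.homMk (E.f i) rfl : Over.mk (E.f i ≫ P.hom) ⟶ P)) :
    R ∈ (J.over S) P := by
  rw [GrothendieckTopology.mem_over_iff]
  refine J.superset_covering ?_ hE
  rw [Sieve.generate_le_iff]
  rintro Z g ⟨i⟩
  rw [Sieve.overEquiv_iff]
  exact hR i

/-- Separatedness of an h sheaf for an h covering family. -/
theorem ext_of_isHCover (F : HTop.ShH S) {P : Over S} (E : PreZeroHypercover.{w} P.left)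
    (hE : IsHCover E) (a b : F.obj.obj (op P))
    (h : ∀ i, F.obj.map (Over.homMk (E.f i) rfl : Over.mk (E.f i ≫ P.hom) ⟶ P).op a =
      F.obj.map (Over.homMk (E.f i) rfl : Over.mk (E.f i ≫ P.hom) ⟶ P).op b) : a = b := by
  have hF : Presieve.IsSheaf (Jh S) F.obj := (isSheaf_iff_isSheaf_of_type _ F.obj).mp F.property
  let R : Sieve P := Sieve.generate (Presieve.ofArrows (fun i => Over.mk (E.f i ≫ P.hom))
    (fun i => (Over.homMk (E.f i) rfl : Over.mk (E.f i ≫ P.hom) ⟶ P)))
  have hR : R ∈ Jh S P := mem_over_of_family _ R E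
    (Precoverage.generate_mem_toGrothendieck ((presieve₀_mem_hPrecoverage_iff E).2 hE))
    (fun i => Sieve.le_generate _ _ _ (Presieve.ofArrows.mk i))
  refine (hF R hR).isSeparatedFor.ext ?_
  rintro W g ⟨V, k, m, ⟨i⟩, rfl⟩
  rw [op_comp, CategoryTheory.Functor.map_comp_apply, CategoryTheory.Functor.map_comp_apply, h i]

/-- The sheaf condition of an h sheaf for a one-member h covering. -/
theorem existsUnique_of_singleton (F : HTop.ShH S) {X Y : Over S} (f : X ⟶ Y)
    (hf : IsHCover (PreZeroHypercover.singleton.{0} f.left)) (x : F.obj.obj (op X))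
    (hx : ∀ {W : Over S} (p₁ p₂ : W ⟶ X), p₁ ≫ f = p₂ ≫ f →
      F.obj.map p₁.op x = F.obj.map p₂.op x) :
    ∃! t : F.obj.obj (op Y), F.obj.map f.op t = x := by
  have hF : Presieve.IsSheaf (Jh S) F.obj := (isSheaf_iff_isSheaf_of_type _ F.obj).mp F.property
  have hmem : Sieve.generate (Presieve.singleton f) ∈ Jh S Y := by
    apply Groth.Agent.H37.generate_singleton_mem_over
    apply Precoverage.generate_mem_toGrothendieck
    have h := (HTop.presieve₀_mem_hPrecoverage_iff (PreZeroHypercover.singleton.{0} f.left)).mpr hf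
    rwa [PreZeroHypercover.presieve₀_singleton] at h
  have h1 : Presieve.IsSheafFor F.obj (Presieve.singleton f) := by
    rw [Presieve.isSheafFor_iff_generate]
    exact hF _ hmem
  rw [Presieve.isSheafFor_singleton] at h1
  exact h1 x (fun p₁ p₂ hp => hx p₁ p₂ hp)

/-- A proper surjective morphism locally of finite presentation is a one-member h covering. -/
theorem isHCover_singleton_of_proper {X Y : Scheme.{u}} (f : X ⟶ Y) [IsProper f] [Surjective f]
    [LocallyOfFinitePresentation f] : IsHCover (PreZeroHypercover.singleton.{0} f) :=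
  ⟨fun _ => (inferInstance : LocallyOfFinitePresentation f),
    Groth.Agent.H37.isVCover_singleton_of_proper_surjective f⟩

/-- The two-member family given by two morphisms with the same target. -/
noncomputable def pairCover {A B T : Scheme.{u}} (a : A ⟶ T) (b : B ⟶ T) : PreZeroHypercover.{0} T where
  I₀ := PUnit.{1} ⊕ PUnit.{1}
  X x := x.elim (fun _ => A) (fun _ => B)
  f x := x.rec (fun _ => a) (fun _ => b)

/-- Two jointly surjective closed immersions locally of finite presentation form an h covering. -/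
theorem isHCover_pairCover {A B T : Scheme.{u}} (a : A ⟶ T) (b : B ⟶ T) [IsClosedImmersion a]
    [IsClosedImmersion b] [LocallyOfFinitePresentation a] [LocallyOfFinitePresentation b]
    (hs : ∀ t : T, t ∈ Set.range a.base ∨ t ∈ Set.range b.base) : IsHCover (pairCover a b) := by
  refine ⟨fun x => ?_, ?_⟩
  · rcases x with _ | _
    · exact (inferInstance : LocallyOfFinitePresentation a)
    · exact (inferInstance : LocallyOfFinitePresentation b)
  · let c : A ⨿ B ⟶ T := coprod.desc a b
    haveI : IsFinite a := inferInstance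
    haveI : IsFinite b := inferInstance
    haveI : IsFinite c := inferInstance
    haveI : IsProper c := inferInstance
    haveI : Surjective c := ⟨fun t => by
      rcases hs t with ⟨x, hx⟩ | ⟨x, hx⟩
      · refine ⟨(coprod.inl : A ⟶ A ⨿ B) x, ?_⟩
        rw [← Scheme.Hom.comp_apply, coprod.inl_desc]
        exact hx
      · refine ⟨(coprod.inr : B ⟶ A ⨿ B) x, ?_⟩
        rw [← Scheme.Hom.comp_apply, coprod.inr_desc]
        exact hx⟩
    have hVc : IsVCover (PreZeroHypercover.singleton.{0} c) :=
      Groth.Agent.H37.isVCover_singleton_of_proper_surjective c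
    have hG : IsVCover (coprodOpenCover.{u, 0} A B).toPreZeroHypercover :=
      Groth.Agent.H37.HTopSheaf.isVCover_of_zariski _
        (fun i => (coprodOpenCover.{u, 0} A B).map_prop i) (fun t => by
          obtain ⟨i, z, hz⟩ := (coprodOpenCover.{u, 0} A B).exists_eq t
          exact ⟨i, z, hz⟩)
    have hb := Groth.Agent.H37.isVCover_bind (PreZeroHypercover.singleton.{0} c) hVc
      (fun _ => (coprodOpenCover.{u, 0} A B).toPreZeroHypercover) (fun _ => hG)
    intro U
    obtain ⟨F, hF, hr⟩ := hb U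
    refine ⟨F, hF, fun k => ?_⟩
    obtain ⟨⟨_, x⟩, h, hh⟩ := hr k
    rcases x with _ | _
    · let h' : F.X k ⟶ A := h
      have hh' : h' ≫ ((coprod.inl : A ⟶ A ⨿ B) ≫ c) = F.f k ≫ (U : T.Opens).ι := hh
      refine ⟨Sum.inl PUnit.unit, h', ?_⟩
      rw [← hh', coprod.inl_desc]
      rfl
    · let h' : F.X k ⟶ B := h
      have hh' : h' ≫ ((coprod.inr : B ⟶ A ⨿ B) ≫ c) = F.f k ≫ (U : T.Opens).ι := hh
      refine ⟨Sum.inr PUnit.unit, h', ?_⟩
      rw [← hh', coprod.inr_desc]
      rfl

/-- If `f` is an isomorphism over the open `U`, every point of `X ×_Y X` lying over `U` is on the diagonal. -/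
theorem mem_range_diagonal_of_isIso_restrict {X Y : Scheme.{u}} (f : X ⟶ Y) (U : Y.Opens)
    (hiso : IsIso (f ∣_ U)) (p : ↥(pullback f f)) (hp : (pullback.fst f f ≫ f) p ∈ U) :
    p ∈ Set.range (pullback.diagonal f).base := by
  have hpV : p ∈ pullback.fst f f ⁻¹ᵁ (f ⁻¹ᵁ U) := hp
  -- the two projections restricted to `V`
  have hr1 : Set.range ((pullback.fst f f ⁻¹ᵁ (f ⁻¹ᵁ U)).ι ≫ pullback.fst f f).base ⊆
      Set.range (f ⁻¹ᵁ U).ι.base := by
    rintro _ ⟨v, rfl⟩
    rw [Scheme.Opens.range_ι]
    exact v.2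
  have hr2 : Set.range ((pullback.fst f f ⁻¹ᵁ (f ⁻¹ᵁ U)).ι ≫ pullback.snd f f).base ⊆
      Set.range (f ⁻¹ᵁ U).ι.base := by
    rintro _ ⟨v, rfl⟩
    rw [Scheme.Opens.range_ι]
    change (((pullback.fst f f ⁻¹ᵁ (f ⁻¹ᵁ U)).ι ≫ pullback.snd f f) ≫ f) v ∈ U
    rw [Category.assoc, ← pullback.condition]
    exact v.2
  let a₁ := IsOpenImmersion.lift (f ⁻¹ᵁ U).ι
    ((pullback.fst f f ⁻¹ᵁ (f ⁻¹ᵁ U)).ι ≫ pullback.fst f f) hr1
  let a₂ := IsOpenImmersion.lift (f ⁻¹ᵁ U).ι
    ((pullback.fst f f ⁻¹ᵁ (f ⁻¹ᵁ U)).ι ≫ pullback.snd f f) hr2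
  have ha₁ : a₁ ≫ (f ⁻¹ᵁ U).ι = (pullback.fst f f ⁻¹ᵁ (f ⁻¹ᵁ U)).ι ≫ pullback.fst f f :=
    IsOpenImmersion.lift_fac _ _ _
  have ha₂ : a₂ ≫ (f ⁻¹ᵁ U).ι = (pullback.fst f f ⁻¹ᵁ (f ⁻¹ᵁ U)).ι ≫ pullback.snd f f :=
    IsOpenImmersion.lift_fac _ _ _
  have h12 : a₁ = a₂ := by
    rw [← cancel_mono (f ∣_ U), ← cancel_mono U.ι, Category.assoc, Category.assoc,
      morphismRestrict_ι, ← Category.assoc, ← Category.assoc, ha₁, ha₂, Category.assoc,
      Category.assoc, pullback.condition]
  have hι : (pullback.fst f f ⁻¹ᵁ (f ⁻¹ᵁ U)).ι = (a₁ ≫ (f ⁻¹ᵁ U).ι) ≫ pullback.diagonal f := by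
    apply pullback.hom_ext
    · rw [Category.assoc, pullback.diagonal_fst, Category.comp_id, ha₁]
    · rw [Category.assoc, pullback.diagonal_snd, Category.comp_id, h12, ha₂]
  refine ⟨(a₁ ≫ (f ⁻¹ᵁ U).ι) (⟨p, hpV⟩ : ↥((pullback.fst f f ⁻¹ᵁ (f ⁻¹ᵁ U)) : Scheme.{u})), ?_⟩
  rw [← Scheme.Hom.comp_apply, ← hι]
  rfl

/-- Sections of an h sheaf over an abstract blow-up square: `F(Y) = F(X) ×_{F(E)} F(Z)`. -/
theorem existsUnique_section (F : HTop.ShH S)
    {E Z X Y : Over S} (e : E ⟶ X) (π : E ⟶ Z) (f : X ⟶ Y) (i : Z ⟶ Y)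
    [IsProper f.left] [Surjective f.left] [LocallyOfFinitePresentation f.left]
    [IsClosedImmersion i.left] [LocallyOfFinitePresentation i.left]
    (hsq : IsPullback e.left π.left f.left i.left)
    (U : Y.left.Opens) (hU : (U : Set Y.left) = (Set.range i.left.base)ᶜ)
    (hiso : IsIso (f.left ∣_ U))
    (t : F.obj.obj (op Z)) (s' : F.obj.obj (op X)) (hts : F.obj.map π.op t = F.obj.map e.op s') :
    ∃! s : F.obj.obj (op Y), F.obj.map i.op s = t ∧ F.obj.map f.op s = s' := by
  -- the fibre product `P = X ×_Y X` over `S`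
  let P : Over S := Over.mk (pullback.fst f.left f.left ≫ X.hom)
  let pr₁ : P ⟶ X := Over.homMk (pullback.fst f.left f.left) rfl
  have hw : pullback.snd f.left f.left ≫ X.hom = pullback.fst f.left f.left ≫ X.hom := by
    rw [← Over.w f, ← Category.assoc, ← pullback.condition, Category.assoc]
  let pr₂ : P ⟶ X := Over.homMk (pullback.snd f.left f.left) hw
  let g : pullback f.left f.left ⟶ Y.left := pullback.fst f.left f.left ≫ f.left
  let j : pullback g i.left ⟶ pullback f.left f.left := pullback.fst g i.left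
  let Δ : X.left ⟶ pullback f.left f.left := pullback.diagonal f.left
  haveI : IsSeparated f.left := inferInstance
  haveI : IsClosedImmersion Δ := inferInstance
  haveI : LocallyOfFiniteType f.left := inferInstance
  haveI : LocallyOfFinitePresentation Δ := by
    haveI : LocallyOfFinitePresentation (Δ ≫ pullback.fst f.left f.left) := by
      rw [pullback.diagonal_fst]
      infer_instance
    exact Groth.Agent.H24.locallyOfFinitePresentation_of_comp Δ (pullback.fst f.left f.left)
  haveI : IsClosedImmersion j := inferInstance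
  haveI : LocallyOfFinitePresentation j := inferInstance
  -- joint surjectivity
  have hs : ∀ p : ↥(pullback f.left f.left), p ∈ Set.range Δ.base ∨ p ∈ Set.range j.base := by
    intro p
    by_cases hp : g p ∈ Set.range i.left.base
    · right
      rw [Scheme.Pullback.range_fst]
      exact hp
    · left
      have hpU : g p ∈ U := by
        change g p ∈ (U : Set Y.left)
        rw [hU]
        exact hp
      exact mem_range_diagonal_of_isIso_restrict f.left U hiso p hpU
  have hcover : IsHCover (pairCover Δ j) := isHCover_pairCover Δ j hs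
  -- the two pullbacks of `s'` to `P` agree
  have hkey : F.obj.map pr₁.op s' = F.obj.map pr₂.op s' := by
    refine ext_of_isHCover F (P := P) (pairCover Δ j) hcover _ _ ?_
    intro x
    rcases x with _ | _
    · change F.obj.map (Over.homMk Δ rfl : Over.mk (Δ ≫ P.hom) ⟶ P).op (F.obj.map pr₁.op s') =
        F.obj.map (Over.homMk Δ rfl : Over.mk (Δ ≫ P.hom) ⟶ P).op (F.obj.map pr₂.op s')
      rw [← CategoryTheory.Functor.map_comp_apply, ← CategoryTheory.Functor.map_comp_apply,
        ← op_comp, ← op_comp]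
      have e12 : (Over.homMk Δ rfl : Over.mk (Δ ≫ P.hom) ⟶ P) ≫ pr₁ =
          (Over.homMk Δ rfl : Over.mk (Δ ≫ P.hom) ⟶ P) ≫ pr₂ := by
        ext
        change Δ ≫ pullback.fst f.left f.left = Δ ≫ pullback.snd f.left f.left
        rw [pullback.diagonal_fst, pullback.diagonal_snd]
      rw [e12]
    · change F.obj.map (Over.homMk j rfl : Over.mk (j ≫ P.hom) ⟶ P).op (F.obj.map pr₁.op s') =
        F.obj.map (Over.homMk j rfl : Over.mk (j ≫ P.hom) ⟶ P).op (F.obj.map pr₂.op s')
      have c1 : (j ≫ pullback.fst f.left f.left) ≫ f.left = pullback.snd g i.left ≫ i.left := by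
        rw [Category.assoc]
        exact pullback.condition (f := g) (g := i.left)
      have c2 : (j ≫ pullback.snd f.left f.left) ≫ f.left = pullback.snd g i.left ≫ i.left := by
        rw [Category.assoc, ← pullback.condition (f := f.left) (g := f.left)]
        exact c1
      let q₁ : Over.mk (j ≫ P.hom) ⟶ E := Over.homMk (hsq.lift _ _ c1) (by
        change hsq.lift _ _ c1 ≫ E.hom = j ≫ pullback.fst f.left f.left ≫ X.hom
        rw [← Over.w e, ← Category.assoc, hsq.lift_fst, Category.assoc])
      let q₂ : Over.mk (j ≫ P.hom) ⟶ E := Over.homMk (hsq.lift _ _ c2) (by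
        change hsq.lift _ _ c2 ≫ E.hom = j ≫ pullback.fst f.left f.left ≫ X.hom
        rw [← Over.w e, ← Category.assoc, hsq.lift_fst, Category.assoc, hw])
      have h1 : (Over.homMk j rfl : Over.mk (j ≫ P.hom) ⟶ P) ≫ pr₁ = q₁ ≫ e := by
        ext
        exact (hsq.lift_fst _ _ c1).symm
      have h2 : (Over.homMk j rfl : Over.mk (j ≫ P.hom) ⟶ P) ≫ pr₂ = q₂ ≫ e := by
        ext
        exact (hsq.lift_fst _ _ c2).symm
      have h3 : q₁ ≫ π = q₂ ≫ π := by
        ext
        exact (hsq.lift_snd _ _ c1).trans (hsq.lift_snd _ _ c2).symm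
      rw [← CategoryTheory.Functor.map_comp_apply, ← CategoryTheory.Functor.map_comp_apply,
        ← op_comp, ← op_comp, h1, h2, op_comp, op_comp, CategoryTheory.Functor.map_comp_apply,
        CategoryTheory.Functor.map_comp_apply, ← hts, ← CategoryTheory.Functor.map_comp_apply,
        ← CategoryTheory.Functor.map_comp_apply, ← op_comp, ← op_comp, h3]
  -- descent along `f`
  have hfcov : IsHCover (PreZeroHypercover.singleton.{0} f.left) :=
    isHCover_singleton_of_proper f.left
  obtain ⟨s, hs1, hs2⟩ := existsUnique_of_singleton F f hfcov s' (by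
    intro W p₁ p₂ hp
    have hpl : p₁.left ≫ f.left = p₂.left ≫ f.left := congrArg CommaMorphism.left hp
    let ℓ : W ⟶ P := Over.homMk (pullback.lift p₁.left p₂.left hpl) (by
      change pullback.lift p₁.left p₂.left hpl ≫ (pullback.fst f.left f.left ≫ X.hom) = W.hom
      rw [← Category.assoc, pullback.lift_fst, Over.w p₁])
    have e1 : ℓ ≫ pr₁ = p₁ := by
      ext
      exact pullback.lift_fst _ _ _
    have e2 : ℓ ≫ pr₂ = p₂ := by
      ext
      exact pullback.lift_snd _ _ _
    rw [← e1, ← e2, op_comp, op_comp, CategoryTheory.Functor.map_comp_apply,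
      CategoryTheory.Functor.map_comp_apply, hkey])
  -- the restriction to `Z`
  haveI : IsProper π.left := MorphismProperty.of_isPullback (P := @IsProper) hsq inferInstance
  haveI : Surjective π.left := MorphismProperty.of_isPullback (P := @Surjective) hsq inferInstance
  haveI : LocallyOfFinitePresentation π.left :=
    MorphismProperty.of_isPullback (P := @LocallyOfFinitePresentation) hsq inferInstance
  have hπcov : IsHCover (PreZeroHypercover.singleton.{0} π.left) :=
    isHCover_singleton_of_proper π.left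
  have hu := existsUnique_of_singleton F π hπcov (F.obj.map π.op t) (by
    intro W p₁ p₂ hp
    rw [← CategoryTheory.Functor.map_comp_apply, ← CategoryTheory.Functor.map_comp_apply,
      ← op_comp, ← op_comp, hp])
  have hit : F.obj.map i.op s = t := by
    refine hu.unique ?_ rfl
    have hcomm : π ≫ i = e ≫ f := by
      ext
      exact hsq.w.symm
    rw [← CategoryTheory.Functor.map_comp_apply, ← op_comp, hcomm, op_comp,
      CategoryTheory.Functor.map_comp_apply, hs1, hts]
  exact ⟨s, ⟨hit, hs1⟩, fun s₂ h => hs2 s₂ h.2⟩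

end Groth.Agent.H69.HDescent
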