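import Mathlib
import Groth.Prelude.Def_HTop
import Groth.Prelude.Def_HTop3
import Groth.Agent.H69.HDescent
import Groth.Agent.H9.BlowUp

/-!
# Sections of h sheaves over abstract blow-up squares, non-surjective case; almost blow-up squares (helper69)
-/

set_option autoImplicit false
set_option linter.style.haveILetI false
universe w u
open CategoryTheory CategoryTheory.Limits AlgebraicGeometry Opposite HTop

namespace Groth.Agent.H69.HDescent

variable {S : Scheme.{u}}

/-- The fold-and-map factorization shows that `coprod.desc` of two proper morphisms is proper. -/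
theorem isProper_coprodDesc {A B T : Scheme.{u}} (a : A ⟶ T) (b : B ⟶ T) [IsProper a] [IsProper b] :
    IsProper (coprod.desc a b) := by
  have h1 : coprod.desc a b = coprod.map a b ≫ coprod.desc (𝟙 T) (𝟙 T) := by
    ext <;> simp
  rw [h1]
  haveI : IsProper (coprod.map a b) :=
    IsZariskiLocalAtTarget.coprodMap (P := @IsProper) a b inferInstance inferInstance
  haveI : IsFinite (coprod.desc (𝟙 T) (𝟙 T)) := inferInstance
  infer_instance

/-- Two jointly surjective proper morphisms locally of finite presentation form an h covering. -/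
theorem isHCover_pairCover_of_proper {A B T : Scheme.{u}} (a : A ⟶ T) (b : B ⟶ T) [IsProper a]
    [IsProper b] [LocallyOfFinitePresentation a] [LocallyOfFinitePresentation b]
    (hs : ∀ t : T, t ∈ Set.range a.base ∨ t ∈ Set.range b.base) : IsHCover (pairCover a b) := by
  refine ⟨fun x => ?_, ?_⟩
  · rcases x with _ | _
    · exact (inferInstance : LocallyOfFinitePresentation a)
    · exact (inferInstance : LocallyOfFinitePresentation b)
  · let c : A ⨿ B ⟶ T := coprod.desc a b
    haveI : IsProper c := isProper_coprodDesc a b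
    haveI : Surjective c := ⟨fun t => by
      rcases hs t with ⟨x, hx⟩ | ⟨x, hx⟩
      · refine ⟨(coprod.inl : A ⟶ A ⨿ B) x, ?_⟩
        rw [← Scheme.Hom.comp_apply, coprod.inl_desc]
        exact hx
      · refine ⟨(coprod.inr : B ⟶ A ⨿ B) x, ?_⟩
        rw [← Scheme.Hom.comp_apply, coprod.inr_desc]
        exact hx⟩
    have hVc : IsVCover (PreZeroHypercover.singleton.{0} c) :=
      Groth.Agent.H37.isVCover_singleton_of_proper_surjective c
    have hG : IsVCover (coprodOpenCover.{u, 0} A B).toPreZeroHypercover :=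
      Groth.Agent.H37.HTopSheaf.isVCover_of_zariski _
        (fun i => (coprodOpenCover.{u, 0} A B).map_prop i) (fun t => by
          obtain ⟨i, z, hz⟩ := (coprodOpenCover.{u, 0} A B).exists_eq t
          exact ⟨i, z, hz⟩)
    have hb := Groth.Agent.H37.isVCover_bind (PreZeroHypercover.singleton.{0} c) hVc
      (fun _ => (coprodOpenCover.{u, 0} A B).toPreZeroHypercover) (fun _ => hG)
    intro U
    obtain ⟨F, hF, hr⟩ := hb U
    refine ⟨F, hF, fun k => ?_⟩
    obtain ⟨⟨_, x⟩, h, hh⟩ := hr k
    rcases x with _ | _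
    · let h' : F.X k ⟶ A := h
      have hh' : h' ≫ ((coprod.inl : A ⟶ A ⨿ B) ≫ c) = F.f k ≫ (U : T.Opens).ι := hh
      refine ⟨Sum.inl PUnit.unit, h', ?_⟩
      rw [← hh', coprod.inl_desc]
      rfl
    · let h' : F.X k ⟶ B := h
      have hh' : h' ≫ ((coprod.inr : B ⟶ A ⨿ B) ≫ c) = F.f k ≫ (U : T.Opens).ι := hh
      refine ⟨Sum.inr PUnit.unit, h', ?_⟩
      rw [← hh', coprod.inr_desc]
      rfl

/-- The sheaf condition of an h sheaf for a two-member h covering over `S`. -/
theorem existsUnique_of_pair (F : HTop.ShH S) {X Z Y : Over S} (f : X ⟶ Y) (i : Z ⟶ Y)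
    (hcov : IsHCover (pairCover f.left i.left)) (x : F.obj.obj (op X)) (z : F.obj.obj (op Z))
    (h11 : ∀ {W : Over S} (p₁ p₂ : W ⟶ X), p₁ ≫ f = p₂ ≫ f →
      F.obj.map p₁.op x = F.obj.map p₂.op x)
    (h12 : ∀ {W : Over S} (p : W ⟶ X) (q : W ⟶ Z), p ≫ f = q ≫ i →
      F.obj.map p.op x = F.obj.map q.op z)
    (h22 : ∀ {W : Over S} (q₁ q₂ : W ⟶ Z), q₁ ≫ i = q₂ ≫ i →
      F.obj.map q₁.op z = F.obj.map q₂.op z) :
    ∃! s : F.obj.obj (op Y), F.obj.map f.op s = x ∧ F.obj.map i.op s = z := by
  have hF : Presieve.IsSheaf (Jh S) F.obj := (isSheaf_iff_isSheaf_of_type _ F.obj).mp F.property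
  let Xs : PUnit.{1} ⊕ PUnit.{1} → Over S := fun k => k.elim (fun _ => X) (fun _ => Z)
  let πs : ∀ k, Xs k ⟶ Y := fun k => Sum.rec (motive := fun k => Xs k ⟶ Y) (fun _ => f) (fun _ => i) k
  have hmem : Sieve.generate (Presieve.ofArrows Xs πs) ∈ Jh S Y := by
    refine mem_over_of_family _ _ (pairCover f.left i.left)
      (Precoverage.generate_mem_toGrothendieck ((presieve₀_mem_hPrecoverage_iff _).2 hcov)) ?_
    intro k
    rcases k with _ | _
    · have e1 : (Over.homMk f.left rfl : Over.mk (f.left ≫ Y.hom) ⟶ Y) =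
          (Over.homMk (𝟙 _) (by simp [Over.w f]) : Over.mk (f.left ≫ Y.hom) ⟶ X) ≫ f := by
        ext
        simp
      change (Sieve.generate (Presieve.ofArrows Xs πs))
        (Over.homMk f.left rfl : Over.mk (f.left ≫ Y.hom) ⟶ Y)
      rw [e1]
      exact Sieve.downward_closed _
        (Sieve.le_generate _ _ _ (Presieve.ofArrows.mk (Sum.inl PUnit.unit))) _
    · have e1 : (Over.homMk i.left rfl : Over.mk (i.left ≫ Y.hom) ⟶ Y) =
          (Over.homMk (𝟙 _) (by simp [Over.w i]) : Over.mk (i.left ≫ Y.hom) ⟶ Z) ≫ i := by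
        ext
        simp
      change (Sieve.generate (Presieve.ofArrows Xs πs))
        (Over.homMk i.left rfl : Over.mk (i.left ≫ Y.hom) ⟶ Y)
      rw [e1]
      exact Sieve.downward_closed _
        (Sieve.le_generate _ _ _ (Presieve.ofArrows.mk (Sum.inr PUnit.unit))) _
  have h1 : Presieve.IsSheafFor F.obj (Presieve.ofArrows Xs πs) := by
    rw [Presieve.isSheafFor_iff_generate]
    exact hF _ hmem
  rw [Presieve.isSheafFor_arrows_iff] at h1
  obtain ⟨s, hs, hu⟩ := h1
    (fun k => Sum.rec (motive := fun k => F.obj.obj (op (Xs k))) (fun _ => x) (fun _ => z) k) (by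
      intro k l W gk gl h
      rcases k with _ | _ <;> rcases l with _ | _
      · exact h11 gk gl h
      · exact h12 gk gl h
      · exact (h12 gl gk h.symm).symm
      · exact h22 gk gl h)
  refine ⟨s, ⟨hs (Sum.inl PUnit.unit), hs (Sum.inr PUnit.unit)⟩, fun s₂ h => hu s₂ (fun k => ?_)⟩
  rcases k with _ | _
  · exact h.1
  · exact h.2

/-- The two pullbacks of a section over `X` to `X ×_Y X` agree as soon as its restriction to `E` comes from `Z`
(abstract blow-up square, `f` separated of finite presentation and an isomorphism away from `Z`). -/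
theorem map_eq_map_of_square (F : HTop.ShH S)
    {E Z X Y : Over S} (e : E ⟶ X) (π : E ⟶ Z) (f : X ⟶ Y) (i : Z ⟶ Y)
    [IsSeparated f.left] [LocallyOfFinitePresentation f.left]
    [IsClosedImmersion i.left] [LocallyOfFinitePresentation i.left]
    (hsq : IsPullback e.left π.left f.left i.left)
    (U : Y.left.Opens) (hU : (U : Set Y.left) = (Set.range i.left.base)ᶜ)
    (hiso : IsIso (f.left ∣_ U))
    (t : F.obj.obj (op Z)) (s' : F.obj.obj (op X)) (hts : F.obj.map π.op t = F.obj.map e.op s')
    {W : Over S} (p₁ p₂ : W ⟶ X) (hp : p₁ ≫ f = p₂ ≫ f) :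
    F.obj.map p₁.op s' = F.obj.map p₂.op s' := by
  let P : Over S := Over.mk (pullback.fst f.left f.left ≫ X.hom)
  let pr₁ : P ⟶ X := Over.homMk (pullback.fst f.left f.left) rfl
  have hw : pullback.snd f.left f.left ≫ X.hom = pullback.fst f.left f.left ≫ X.hom := by
    rw [← Over.w f, ← Category.assoc, ← pullback.condition, Category.assoc]
  let pr₂ : P ⟶ X := Over.homMk (pullback.snd f.left f.left) hw
  let g : pullback f.left f.left ⟶ Y.left := pullback.fst f.left f.left ≫ f.left
  let j : pullback g i.left ⟶ pullback f.left f.left := pullback.fst g i.left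
  let Δ : X.left ⟶ pullback f.left f.left := pullback.diagonal f.left
  haveI : IsClosedImmersion Δ := inferInstance
  haveI : LocallyOfFiniteType f.left := inferInstance
  haveI : LocallyOfFinitePresentation Δ := by
    haveI : LocallyOfFinitePresentation (Δ ≫ pullback.fst f.left f.left) := by
      rw [pullback.diagonal_fst]
      infer_instance
    exact Groth.Agent.H24.locallyOfFinitePresentation_of_comp Δ (pullback.fst f.left f.left)
  haveI : IsClosedImmersion j := inferInstance
  haveI : LocallyOfFinitePresentation j := inferInstance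
  have hs : ∀ p : ↥(pullback f.left f.left), p ∈ Set.range Δ.base ∨ p ∈ Set.range j.base := by
    intro p
    by_cases hp : g p ∈ Set.range i.left.base
    · right
      rw [Scheme.Pullback.range_fst]
      exact hp
    · left
      have hpU : g p ∈ U := by
        change g p ∈ (U : Set Y.left)
        rw [hU]
        exact hp
      exact mem_range_diagonal_of_isIso_restrict f.left U hiso p hpU
  have hcover : IsHCover (pairCover Δ j) := isHCover_pairCover Δ j hs
  have hkey : F.obj.map pr₁.op s' = F.obj.map pr₂.op s' := by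
    refine ext_of_isHCover F (P := P) (pairCover Δ j) hcover _ _ ?_
    intro x
    rcases x with _ | _
    · change F.obj.map (Over.homMk Δ rfl : Over.mk (Δ ≫ P.hom) ⟶ P).op (F.obj.map pr₁.op s') =
        F.obj.map (Over.homMk Δ rfl : Over.mk (Δ ≫ P.hom) ⟶ P).op (F.obj.map pr₂.op s')
      rw [← CategoryTheory.Functor.map_comp_apply, ← CategoryTheory.Functor.map_comp_apply,
        ← op_comp, ← op_comp]
      have e12 : (Over.homMk Δ rfl : Over.mk (Δ ≫ P.hom) ⟶ P) ≫ pr₁ =
          (Over.homMk Δ rfl : Over.mk (Δ ≫ P.hom) ⟶ P) ≫ pr₂ := by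
        ext
        change Δ ≫ pullback.fst f.left f.left = Δ ≫ pullback.snd f.left f.left
        rw [pullback.diagonal_fst, pullback.diagonal_snd]
      rw [e12]
    · change F.obj.map (Over.homMk j rfl : Over.mk (j ≫ P.hom) ⟶ P).op (F.obj.map pr₁.op s') =
        F.obj.map (Over.homMk j rfl : Over.mk (j ≫ P.hom) ⟶ P).op (F.obj.map pr₂.op s')
      have c1 : (j ≫ pullback.fst f.left f.left) ≫ f.left = pullback.snd g i.left ≫ i.left := by
        rw [Category.assoc]
        exact pullback.condition (f := g) (g := i.left)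
      have c2 : (j ≫ pullback.snd f.left f.left) ≫ f.left = pullback.snd g i.left ≫ i.left := by
        rw [Category.assoc, ← pullback.condition (f := f.left) (g := f.left)]
        exact c1
      let q₁ : Over.mk (j ≫ P.hom) ⟶ E := Over.homMk (hsq.lift _ _ c1) (by
        change hsq.lift _ _ c1 ≫ E.hom = j ≫ pullback.fst f.left f.left ≫ X.hom
        rw [← Over.w e, ← Category.assoc, hsq.lift_fst, Category.assoc])
      let q₂ : Over.mk (j ≫ P.hom) ⟶ E := Over.homMk (hsq.lift _ _ c2) (by
        change hsq.lift _ _ c2 ≫ E.hom = j ≫ pullback.fst f.left f.left ≫ X.hom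
        rw [← Over.w e, ← Category.assoc, hsq.lift_fst, Category.assoc, hw])
      have h1 : (Over.homMk j rfl : Over.mk (j ≫ P.hom) ⟶ P) ≫ pr₁ = q₁ ≫ e := by
        ext
        exact (hsq.lift_fst _ _ c1).symm
      have h2 : (Over.homMk j rfl : Over.mk (j ≫ P.hom) ⟶ P) ≫ pr₂ = q₂ ≫ e := by
        ext
        exact (hsq.lift_fst _ _ c2).symm
      have h3 : q₁ ≫ π = q₂ ≫ π := by
        ext
        exact (hsq.lift_snd _ _ c1).trans (hsq.lift_snd _ _ c2).symm
      rw [← CategoryTheory.Functor.map_comp_apply, ← CategoryTheory.Functor.map_comp_apply,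
        ← op_comp, ← op_comp, h1, h2, op_comp, op_comp, CategoryTheory.Functor.map_comp_apply,
        CategoryTheory.Functor.map_comp_apply, ← hts, ← CategoryTheory.Functor.map_comp_apply,
        ← CategoryTheory.Functor.map_comp_apply, ← op_comp, ← op_comp, h3]
  have hpl : p₁.left ≫ f.left = p₂.left ≫ f.left := congrArg CommaMorphism.left hp
  let ℓ : W ⟶ P := Over.homMk (pullback.lift p₁.left p₂.left hpl) (by
    change pullback.lift p₁.left p₂.left hpl ≫ (pullback.fst f.left f.left ≫ X.hom) = W.hom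
    rw [← Category.assoc, pullback.lift_fst, Over.w p₁])
  have e1 : ℓ ≫ pr₁ = p₁ := by
    ext
    exact pullback.lift_fst _ _ _
  have e2 : ℓ ≫ pr₂ = p₂ := by
    ext
    exact pullback.lift_snd _ _ _
  rw [← e1, ← e2, op_comp, op_comp, CategoryTheory.Functor.map_comp_apply,
    CategoryTheory.Functor.map_comp_apply, hkey]

/-- Sections of an h sheaf over an abstract blow-up square, `f` not assumed surjective. -/
theorem existsUnique_section' (F : HTop.ShH S)
    {E Z X Y : Over S} (e : E ⟶ X) (π : E ⟶ Z) (f : X ⟶ Y) (i : Z ⟶ Y)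
    [IsProper f.left] [LocallyOfFinitePresentation f.left]
    [IsClosedImmersion i.left] [LocallyOfFinitePresentation i.left]
    (hsq : IsPullback e.left π.left f.left i.left)
    (U : Y.left.Opens) (hU : (U : Set Y.left) = (Set.range i.left.base)ᶜ)
    (hiso : IsIso (f.left ∣_ U))
    (t : F.obj.obj (op Z)) (s' : F.obj.obj (op X)) (hts : F.obj.map π.op t = F.obj.map e.op s') :
    ∃! s : F.obj.obj (op Y), F.obj.map i.op s = t ∧ F.obj.map f.op s = s' := by
  haveI : IsSeparated f.left := inferInstance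
  haveI : IsProper i.left := inferInstance
  have hs : ∀ y : ↥Y.left, y ∈ Set.range f.left.base ∨ y ∈ Set.range i.left.base := by
    intro y
    by_cases hy : y ∈ Set.range i.left.base
    · exact Or.inr hy
    · left
      have hyU : y ∈ U := by
        change y ∈ (U : Set Y.left)
        rw [hU]
        exact hy
      haveI := hiso
      let w := (inv (f.left ∣_ U)) (⟨y, hyU⟩ : ↥(U : Scheme.{u}))
      refine ⟨(f.left ⁻¹ᵁ U).ι w, ?_⟩
      have h1 : (f.left ∣_ U) w = (⟨y, hyU⟩ : ↥(U : Scheme.{u})) := by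
        change (inv (f.left ∣_ U) ≫ (f.left ∣_ U)) _ = _
        rw [IsIso.inv_hom_id]
        rfl
      have h2 : ((f.left ⁻¹ᵁ U).ι ≫ f.left) w = ((f.left ∣_ U) ≫ U.ι) w := by
        rw [morphismRestrict_ι]
      rw [Scheme.Hom.comp_apply, Scheme.Hom.comp_apply, h1] at h2
      exact h2
  have hcov : IsHCover (pairCover f.left i.left) := isHCover_pairCover_of_proper f.left i.left hs
  haveI : Mono i := by
    haveI : Mono i.left := inferInstance
    exact Over.mono_of_mono_left i
  obtain ⟨s, hs1, hs2⟩ := existsUnique_of_pair F f i hcov s' t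
    (fun p₁ p₂ hp => map_eq_map_of_square F e π f i hsq U hU hiso t s' hts p₁ p₂ hp)
    (by
      intro W p q hpq
      have hpql : p.left ≫ f.left = q.left ≫ i.left := congrArg CommaMorphism.left hpq
      let ℓ : W ⟶ E := Over.homMk (hsq.lift p.left q.left hpql) (by
        rw [← Over.w e, ← Category.assoc, hsq.lift_fst, Over.w p])
      have e1 : ℓ ≫ e = p := by
        ext
        exact hsq.lift_fst _ _ _
      have e2 : ℓ ≫ π = q := by
        ext
        exact hsq.lift_snd _ _ _
      rw [← e1, ← e2, op_comp, op_comp, CategoryTheory.Functor.map_comp_apply,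
        CategoryTheory.Functor.map_comp_apply, hts])
    (by
      intro W q₁ q₂ h
      rw [(cancel_mono i).1 h])
  exact ⟨s, ⟨hs1.2, hs1.1⟩, fun s₂ h => hs2 s₂ ⟨h.2, h.1⟩⟩

/-- The scheme-theoretic image of an open immersion is an isomorphism over that open. -/
theorem isIso_imageι_restrict {X : Scheme.{u}} (W : X.Opens) : IsIso (W.ι.imageι ∣_ W) := by
  have hτ : W.ι.toImage ≫ W.ι.imageι = W.ι := W.ι.toImage_imageι
  have hr : Set.range W.ι.toImage.base ⊆ Set.range (W.ι.imageι ⁻¹ᵁ W).ι.base := by
    rintro _ ⟨w, rfl⟩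
    rw [Scheme.Opens.range_ι]
    change (W.ι.toImage ≫ W.ι.imageι) w ∈ W
    rw [hτ]
    exact w.2
  let τ' := IsOpenImmersion.lift (W.ι.imageι ⁻¹ᵁ W).ι W.ι.toImage hr
  have hτ' : τ' ≫ (W.ι.imageι ⁻¹ᵁ W).ι = W.ι.toImage := IsOpenImmersion.lift_fac _ _ _
  have h1 : τ' ≫ (W.ι.imageι ∣_ W) = 𝟙 _ := by
    rw [← cancel_mono W.ι, Category.assoc, morphismRestrict_ι, ← Category.assoc, hτ', hτ,
      Category.id_comp]
  have h2 : (W.ι.imageι ∣_ W) ≫ τ' = 𝟙 _ := by
    haveI : Mono W.ι.imageι := inferInstance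
    rw [← cancel_mono ((W.ι.imageι ⁻¹ᵁ W).ι ≫ W.ι.imageι), Category.id_comp, Category.assoc,
      ← Category.assoc τ', hτ', hτ, morphismRestrict_ι]
  exact ⟨τ', h2, h1⟩

theorem isIso_restrict_of_comp {A X' X : Scheme.{u}} (c : A ⟶ X') (b : X' ⟶ X) (U : X.Opens)
    (W : X'.Opens) (hW : W = b ⁻¹ᵁ U) (h1 : IsIso (c ∣_ W)) (h2 : IsIso ((c ≫ b) ∣_ U)) :
    IsIso (b ∣_ U) := by
  subst hW
  rw [morphismRestrict_comp] at h2
  exact @IsIso.of_isIso_comp_left _ _ _ _ _ (c ∣_ b ⁻¹ᵁ U) (b ∣_ U) h1 h2

/-- In an almost blow-up square, `b` is an isomorphism over the complement of `Z`. -/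
theorem isIso_restrict_of_isAlmostBlowUpSquare {E Z X' X : Scheme.{u}} (e : E ⟶ X') (π : E ⟶ Z)
    (b : X' ⟶ X) (i : Z ⟶ X) (h : IsAlmostBlowUpSquare e π b i) :
    IsIso (b ∣_ i.ker.support.compl) := by
  have hbl := Groth.Agent.H9.isIso_morphismRestrict_compl_of_isBlowUp i.ker _ h.isBlowUp
  have hW : awayFrom (i.ker.comap b) = b ⁻¹ᵁ i.ker.support.compl := by
    ext x
    change x ∈ ((i.ker.comap b).support.compl : X'.Opens) ↔ _
    rw [Scheme.IdealSheafData.support_comap]
    rfl
  have h1 : IsIso ((awayFrom (i.ker.comap b)).ι.imageι ∣_ awayFrom (i.ker.comap b)) :=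
    isIso_imageι_restrict _
  exact isIso_restrict_of_comp ((awayFrom (i.ker.comap b)).ι.imageι) b _ _ hW h1 hbl

/-- An h sheaf turns an almost blow-up square into a cartesian square of sections. -/
theorem existsUnique_of_isAlmostBlowUpSquare (F : HTop.ShH S) {E Z X' X : Over S} (e : E ⟶ X')
    (π : E ⟶ Z) (b : X' ⟶ X) (i : Z ⟶ X)
    (h : HTop.IsAlmostBlowUpSquare e.left π.left b.left i.left)
    (t : F.obj.obj (op Z)) (s' : F.obj.obj (op X')) (hts : F.obj.map π.op t = F.obj.map e.op s') :
    ∃! s : F.obj.obj (op X), F.obj.map i.op s = t ∧ F.obj.map b.op s = s' := by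
  haveI := h.isClosedImmersion
  haveI := h.finitePresentation_base
  haveI := h.isProper
  haveI := h.finitePresentation
  have hU : ((i.left.ker.support.compl : X.left.Opens) : Set X.left) =
      (Set.range i.left.base)ᶜ := by
    rw [TopologicalSpace.Closeds.coe_compl, Scheme.Hom.support_ker,
      i.left.isClosedEmbedding.isClosed_range.closure_eq]
  exact existsUnique_section' F e π b i h.isPullback _ hU
    (isIso_restrict_of_isAlmostBlowUpSquare _ _ _ _ h) t s' hts

end Groth.Agent.H69.HDescent
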