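import Groth.Agent.H59.LefConn.Defs
import Groth.Agent.H8.UnitHom
import Groth.Agent.H68.ClopenIdem
import Groth.Agent.H63.Pi0Conn

/-!
# (R1) for S2946: `HomToFormalBijective 𝓙 O_T` gives injectivity of `Γ(T, O) → lim Γ(Y_n, O)`
-/

set_option autoImplicit false
set_option linter.style.haveILetI false
universe u
open CategoryTheory CategoryTheory.Limits AlgebraicGeometry
open Groth.Agent.H59.LefConn

namespace Groth.Agent.H69.LefConn_R1

variable {T : Scheme.{u}} (𝓙 : T.IdealSheafData)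

/-- the value at `1` of `φ ≫ toSubscheme I` is the restriction of the value of `φ` at `1` -/
theorem comp_toSubscheme_app_one (I : T.IdealSheafData)
    (φ : Coh.structureModule T ⟶ Coh.structureModule T) :
    ((φ ≫ ClSub.toSubscheme I).app ⊤
      (show Γ(Coh.structureModule T, ⊤) from (1 : Γ(T, ⊤))) : Γ(ClSub.quotMod I, ⊤)) =
    I.subschemeι.appTop.hom
      (φ.app ⊤ (show Γ(Coh.structureModule T, ⊤) from (1 : Γ(T, ⊤))) : Γ(T, ⊤)) := rfl

theorem secInj_of_homToFormalBijective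
    (h : Lef.HomToFormalBijective 𝓙 (Coh.structureModule T)) : SecInj 𝓙 := by
  intro a b hab
  obtain ⟨φa, hφa⟩ := (Groth.Agent.H8.unit_hom_ev_bijective T (Coh.structureModule T)).2 a
  obtain ⟨φb, hφb⟩ := (Groth.Agent.H8.unit_hom_ev_bijective T (Coh.structureModule T)).2 b
  have hφ : φa = φb := by
    refine h.1 φa φb fun n => ?_
    apply (Groth.Agent.H8.unit_hom_ev_bijective T (ClSub.quotMod (𝓙 ^ (n + 1)))).1
    show ((φa ≫ ClSub.toSubscheme (𝓙 ^ (n + 1))).app ⊤ _ : Γ(ClSub.quotMod (𝓙 ^ (n + 1)), ⊤)) =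
      (φb ≫ ClSub.toSubscheme (𝓙 ^ (n + 1))).app ⊤ _
    rw [comp_toSubscheme_app_one, comp_toSubscheme_app_one]
    have ha : (φa.app ⊤ (show Γ(Coh.structureModule T, ⊤) from (1 : Γ(T, ⊤))) : Γ(T, ⊤)) = a := hφa
    have hb : (φb.app ⊤ (show Γ(Coh.structureModule T, ⊤) from (1 : Γ(T, ⊤))) : Γ(T, ⊤)) = b := hφb
    rw [ha, hb]
    exact hab n
  rw [← hφa, ← hφb, hφ]

end Groth.Agent.H69.LefConn_R1
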