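import Groth.Agent.H59.LefConn.Defs
import Groth.Agent.H8.UnitHom
import Groth.Agent.H68.ClopenIdem
import Groth.Agent.H63.Pi0Conn

/-!
# (R2) for S2946: `HomToFormalBijective 𝓙 O_T` gives surjectivity of `Γ(T, O) → lim Γ(Y_n, O)`
-/

set_option autoImplicit false
set_option linter.style.haveILetI false
universe u
open CategoryTheory CategoryTheory.Limits AlgebraicGeometry
open Groth.Agent.H59.LefConn

namespace Groth.Agent.H69.LefConn_R2

variable {T : Scheme.{u}} (𝓙 : T.IdealSheafData)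

/-- the value at `1` of `φ ≫ toSubscheme I` is the restriction of the value of `φ` at `1` -/
theorem comp_toSubscheme_app_one (I : T.IdealSheafData)
    (φ : Coh.structureModule T ⟶ Coh.structureModule T) :
    ((φ ≫ ClSub.toSubscheme I).app ⊤
      (show Γ(Coh.structureModule T, ⊤) from (1 : Γ(T, ⊤))) : Γ(ClSub.quotMod I, ⊤)) =
    I.subschemeι.appTop.hom
      (φ.app ⊤ (show Γ(Coh.structureModule T, ⊤) from (1 : Γ(T, ⊤))) : Γ(T, ⊤)) := rfl

theorem presheaf_map_eqToHom_self {X : Scheme.{u}} (M : X.Modules) {U : X.Opens} (h : U = U)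
    (x : Γ(M, U)) : M.presheaf.map (eqToHom h).op x = x := by
  simp

/-- the quotient map `O/I ⟶ O/J` on global sections is the restriction along the inclusion -/
theorem quotMap_app_top {I J : T.IdealSheafData} (hIJ : I ≤ J)
    (s : Γ(I.subscheme, ⊤)) :
    ((Lef.quotMap hIJ).app ⊤ (show Γ(ClSub.quotMod I, ⊤) from s) : Γ(ClSub.quotMod J, ⊤)) =
      (Scheme.IdealSheafData.inclusion hIJ).appTop.hom s := by
  have h1 : (Lef.quotMap hIJ).app ⊤ =
      ((Scheme.Modules.pushforward I.subschemeι).map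
        (ClSub.unitToPush (Scheme.IdealSheafData.inclusion hIJ))).app ⊤ ≫
      ((Scheme.Modules.pushforwardComp (Scheme.IdealSheafData.inclusion hIJ)
        I.subschemeι).hom.app _).app ⊤ ≫
      ((Scheme.Modules.pushforwardCongr
        (Scheme.IdealSheafData.inclusion_subschemeι hIJ)).hom.app _).app ⊤ := rfl
  rw [h1, ConcreteCategory.comp_apply, ConcreteCategory.comp_apply,
    Scheme.Modules.pushforwardComp_hom_app_app, Scheme.Modules.pushforwardCongr_hom_app_app]
  exact presheaf_map_eqToHom_self (X := J.subscheme) (Coh.structureModule J.subscheme)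
    (U := ⊤) _ _

theorem secSurj_of_homToFormalBijective
    (h : Lef.HomToFormalBijective 𝓙 (Coh.structureModule T)) : SecSurj 𝓙 := by
  intro y hy
  have hex : ∀ n : ℕ, ∃ ψ : Coh.structureModule T ⟶ ClSub.quotMod (𝓙 ^ (n + 1)),
      (ψ.app ⊤ (show Γ(Coh.structureModule T, ⊤) from (1 : Γ(T, ⊤))) :
        Γ(ClSub.quotMod (𝓙 ^ (n + 1)), ⊤)) = y n := fun n =>
    (Groth.Agent.H8.unit_hom_ev_bijective T (ClSub.quotMod (𝓙 ^ (n + 1)))).2 (y n)
  choose ψ hψ using hex
  have hformal : Lef.IsFormalHom 𝓙 (Coh.structureModule T) ψ := by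
    intro n
    apply (Groth.Agent.H8.unit_hom_ev_bijective T (ClSub.quotMod (𝓙 ^ (n + 1)))).1
    show (((ψ (n + 1)) ≫ Lef.quotMap (Lef.pow_succ_le 𝓙 n)).app ⊤ _ :
      Γ(ClSub.quotMod (𝓙 ^ (n + 1)), ⊤)) = (ψ n).app ⊤ _
    rw [hψ n, Scheme.Modules.Hom.comp_app, ConcreteCategory.comp_apply]
    have h2 := hψ (n + 1)
    refine Eq.trans ?_ (hy n)
    rw [← quotMap_app_top (Lef.pow_succ_le 𝓙 n) (y (n + 1))]
    exact congrArg _ h2
  obtain ⟨φ, hφ⟩ := h.2 ψ hformal
  refine ⟨(φ.app ⊤ (show Γ(Coh.structureModule T, ⊤) from (1 : Γ(T, ⊤))) : Γ(T, ⊤)), fun n => ?_⟩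
  rw [← comp_toSubscheme_app_one, hφ n]
  exact hψ n

end Groth.Agent.H69.LefConn_R2
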