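import Mathlib.AlgebraicGeometry.AffineTransitionLimit
import Mathlib.AlgebraicGeometry.Morphisms.ClosedImmersion
import Mathlib.RingTheory.Localization.AtPrime.Basic
import Mathlib.RingTheory.Localization.Away.Basic

/-!
`Spec A_𝔭` is the cofiltered limit (in `Over T`) of the `Spec A_f`, `f ∉ 𝔭`.
-/

set_option autoImplicit false
universe u

open CategoryTheory AlgebraicGeometry Limits

namespace Groth.Agent.H69.LocLimit

section ToRing

variable {W : Scheme.{u}} {R R' : Type u} [CommRing R] [CommRing R']

/-- the ring map attached to a morphism to an affine scheme -/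
noncomputable def toRing (m : W ⟶ Spec (CommRingCat.of R)) : R →+* Γ(W, ⊤) :=
  ((Scheme.ΓSpecIso (CommRingCat.of R)).inv ≫ m.appTop).hom

lemma toRing_injective : Function.Injective (toRing (W := W) (R := R)) := by
  intro m m' h
  apply ext_to_Spec
  apply CommRingCat.hom_ext
  exact h

lemma toRing_comp_SpecMap (m : W ⟶ Spec (CommRingCat.of R)) (θ : R' →+* R) :
    toRing (m ≫ Spec.map (CommRingCat.ofHom θ)) = (toRing m).comp θ := by
  unfold toRing
  rw [Scheme.Hom.comp_appTop, ← Category.assoc, ← Scheme.ΓSpecIso_inv_naturality]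
  rfl

lemma toRing_toSpecΓ (ψ : R →+* Γ(W, ⊤)) :
    toRing (W.toSpecΓ ≫ Spec.map (CommRingCat.ofHom ψ)) = ψ := by
  unfold toRing
  rw [Scheme.Hom.comp_appTop, ← Category.assoc, ← Scheme.ΓSpecIso_inv_naturality,
    Scheme.toSpecΓ_appTop, Category.assoc, Iso.inv_hom_id, Category.comp_id]
  rfl

end ToRing

variable {A : Type u} [CommRing A] (p : Ideal A) [p.IsPrime]

/-- index: elements outside `p` -/
structure Idx : Type u where
  val : A
  not_mem : val ∉ p

instance : Preorder (Idx p) where
  le f g := g.val ∣ f.val
  le_refl f := dvd_refl _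
  le_trans _ _ _ hfg hgh := dvd_trans hgh hfg

instance : Nonempty (Idx p) := ⟨⟨1, fun h => (Ideal.IsPrime.ne_top ‹_›) (p.eq_top_of_isUnit_mem h isUnit_one)⟩⟩

instance : IsCodirectedOrder (Idx p) where
  directed f g := ⟨⟨f.val * g.val, fun h => (Ideal.IsPrime.mem_or_mem ‹_› h).elim f.not_mem g.not_mem⟩,
    Dvd.intro _ rfl, Dvd.intro_left _ rfl⟩

instance : IsCofiltered (Idx p) := isCofiltered_of_directed_ge_nonempty _

variable {p}

/-- transition maps `A_g → A_f` for `g ∣ f` -/
noncomputable def trans {f g : Idx p} (h : f ≤ g) :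
    Localization.Away g.val →+* Localization.Away f.val :=
  IsLocalization.Away.lift (S := Localization.Away g.val) g.val (g := algebraMap A (Localization.Away f.val))
    (isUnit_of_dvd_unit (map_dvd _ h) (IsLocalization.Away.algebraMap_isUnit f.val))

lemma trans_comp_algebraMap {f g : Idx p} (h : f ≤ g) :
    (trans h).comp (algebraMap A (Localization.Away g.val)) = algebraMap A (Localization.Away f.val) :=
  IsLocalization.Away.lift_comp _ _

/-- `A_f → A_p` -/
noncomputable def toLoc (f : Idx p) : Localization.Away f.val →+* Localization.AtPrime p :=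
  IsLocalization.Away.lift (S := Localization.Away f.val) f.val (g := algebraMap A (Localization.AtPrime p))
    (IsLocalization.map_units (Localization.AtPrime p) (⟨f.val, f.not_mem⟩ : p.primeCompl))

lemma toLoc_comp_algebraMap (f : Idx p) :
    (toLoc f).comp (algebraMap A (Localization.Away f.val)) = algebraMap A (Localization.AtPrime p) :=
  IsLocalization.Away.lift_comp _ _

lemma away_hom_ext {f : Idx p} {B : Type*} [Semiring B] {j k : Localization.Away f.val →+* B}
    (h : j.comp (algebraMap A _) = k.comp (algebraMap A _)) : j = k :=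
  IsLocalization.ringHom_ext (Submonoid.powers f.val) h

lemma trans_refl (f : Idx p) : trans (le_refl f) = RingHom.id _ :=
  away_hom_ext (by rw [trans_comp_algebraMap, RingHom.id_comp])

lemma trans_trans {f g h : Idx p} (h₁ : f ≤ g) (h₂ : g ≤ h) :
    (trans h₁).comp (trans h₂) = trans (h₁.trans h₂) :=
  away_hom_ext (by rw [RingHom.comp_assoc, trans_comp_algebraMap, trans_comp_algebraMap,
    trans_comp_algebraMap])

lemma toLoc_trans {f g : Idx p} (h : f ≤ g) : (toLoc f).comp (trans h) = toLoc g :=
  away_hom_ext (by rw [RingHom.comp_assoc, trans_comp_algebraMap, toLoc_comp_algebraMap,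
    toLoc_comp_algebraMap])

variable {T : Scheme.{u}} (g₀ : Spec (CommRingCat.of A) ⟶ T)

variable (p) in
/-- the diagram `f ↦ Spec A_f → Spec A → T` -/
noncomputable def diagram : Idx p ⥤ Over T where
  obj f := Over.mk (Spec.map (CommRingCat.ofHom (algebraMap A (Localization.Away f.val))) ≫ g₀)
  map {f g} h := Over.homMk (Spec.map (CommRingCat.ofHom (trans (leOfHom h)))) (by
    dsimp
    rw [← Category.assoc, ← Spec.map_comp, ← CommRingCat.ofHom_comp, trans_comp_algebraMap])
  map_id f := by
    apply Over.OverMorphism.ext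
    change Spec.map (CommRingCat.ofHom (trans _)) = 𝟙 _
    rw [trans_refl]
    exact Spec.map_id _
  map_comp {f g h} a b := by
    apply Over.OverMorphism.ext
    change Spec.map (CommRingCat.ofHom (trans _)) =
      Spec.map (CommRingCat.ofHom (trans _)) ≫ Spec.map (CommRingCat.ofHom (trans _))
    rw [← Spec.map_comp, ← CommRingCat.ofHom_comp, trans_trans]

variable (p) in
/-- the cone with vertex `Spec A_p` -/
noncomputable def cone : Cone (diagram p g₀) where
  pt := Over.mk (Spec.map (CommRingCat.ofHom (algebraMap A (Localization.AtPrime p))) ≫ g₀)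
  π :=
    { app := fun f => Over.homMk (Spec.map (CommRingCat.ofHom (toLoc f))) (by
        dsimp [diagram]
        rw [← Category.assoc, ← Spec.map_comp, ← CommRingCat.ofHom_comp, toLoc_comp_algebraMap])
      naturality := fun f g h => by
        apply Over.OverMorphism.ext
        change 𝟙 _ ≫ Spec.map (CommRingCat.ofHom (toLoc g)) =
          Spec.map (CommRingCat.ofHom (toLoc f)) ≫
          Spec.map (CommRingCat.ofHom (trans (leOfHom h)))
        rw [Category.id_comp, ← Spec.map_comp, ← CommRingCat.ofHom_comp, toLoc_trans] }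

section IsLimit

variable {g₀} (s : Cone (diagram p g₀))

/-- the legs of a cone, with explicit type -/
noncomputable def leg (f : Idx p) : s.pt.left ⟶ Spec (CommRingCat.of (Localization.Away f.val)) :=
  (s.π.app f).left

lemma leg_trans {f g : Idx p} (h : f ≤ g) :
    leg s f ≫ Spec.map (CommRingCat.ofHom (trans h)) = leg s g :=
  congrArg (fun m => Over.Hom.left m) (s.w (homOfLE h))

lemma leg_w (f : Idx p) :
    leg s f ≫ Spec.map (CommRingCat.ofHom (algebraMap A (Localization.Away f.val))) ≫ g₀ = s.pt.hom :=
  Over.w (s.π.app f)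

/-- the top element of the index -/
def one : Idx p := ⟨1, fun h => (Ideal.IsPrime.ne_top ‹_›) (p.eq_top_of_isUnit_mem h isUnit_one)⟩

lemma le_one (f : Idx p) : f ≤ one := one_dvd _

/-- the induced ring map `A → Γ(W)` -/
noncomputable def α : A →+* Γ(s.pt.left, ⊤) :=
  (toRing (leg s one)).comp (algebraMap A (Localization.Away (one (p := p)).val))

lemma toRing_leg_comp (f : Idx p) :
    (toRing (leg s f)).comp (algebraMap A (Localization.Away f.val)) = α s := by
  unfold α
  rw [← leg_trans s (le_one f), toRing_comp_SpecMap, RingHom.comp_assoc, trans_comp_algebraMap]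

lemma isUnit_α (y : p.primeCompl) : IsUnit (α s y) := by
  have h := toRing_leg_comp s ⟨y.1, y.2⟩
  rw [← h, RingHom.comp_apply]
  exact (IsLocalization.Away.algebraMap_isUnit y.1).map _

/-- the induced ring map `A_p → Γ(W)` -/
noncomputable def ψ : Localization.AtPrime p →+* Γ(s.pt.left, ⊤) :=
  IsLocalization.lift (M := p.primeCompl) (g := α s) (isUnit_α s)

lemma ψ_comp : (ψ s).comp (algebraMap A (Localization.AtPrime p)) = α s :=
  IsLocalization.lift_comp _

/-- the lift -/
noncomputable def liftMor : s.pt.left ⟶ Spec (CommRingCat.of (Localization.AtPrime p)) :=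
  s.pt.left.toSpecΓ ≫ Spec.map (CommRingCat.ofHom (ψ s))

lemma liftMor_toLoc (f : Idx p) :
    liftMor s ≫ Spec.map (CommRingCat.ofHom (toLoc f)) = leg s f := by
  apply toRing_injective
  rw [toRing_comp_SpecMap, liftMor, toRing_toSpecΓ]
  apply away_hom_ext
  rw [RingHom.comp_assoc, toLoc_comp_algebraMap, ψ_comp, toRing_leg_comp]

lemma liftMor_w :
    liftMor s ≫ Spec.map (CommRingCat.ofHom (algebraMap A (Localization.AtPrime p))) ≫ g₀ =
      s.pt.hom := by
  rw [← leg_w s one, ← liftMor_toLoc s one, Category.assoc, ← Category.assoc (Spec.map _),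
    ← Spec.map_comp, ← CommRingCat.ofHom_comp, toLoc_comp_algebraMap]

lemma liftMor_unique (m : s.pt.left ⟶ Spec (CommRingCat.of (Localization.AtPrime p)))
    (hm : m ≫ Spec.map (CommRingCat.ofHom (toLoc one)) = leg s one) : m = liftMor s := by
  apply toRing_injective
  rw [liftMor, toRing_toSpecΓ]
  apply IsLocalization.ringHom_ext p.primeCompl
  rw [ψ_comp, ← toRing_leg_comp s one, ← hm, toRing_comp_SpecMap, RingHom.comp_assoc,
    toLoc_comp_algebraMap]

end IsLimit

variable (p) in
/-- `Spec A_p` is the limit of the `Spec A_f`. -/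
noncomputable def isLimitCone : IsLimit (cone p g₀) where
  lift s := Over.homMk (liftMor s) (liftMor_w s)
  fac s f := by
    apply Over.OverMorphism.ext
    exact liftMor_toLoc s f
  uniq s m hm := by
    apply Over.OverMorphism.ext
    exact liftMor_unique s m.left (congrArg (fun m => Over.Hom.left m) (hm one))

end Groth.Agent.H69.LocLimit
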