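import Groth.Agent.S10267
import Groth.Agent.S10270
import Groth.Agent.S9919
import Groth.Agent.H51.AffineMor
import Groth.Agent.H50.Basic
import Groth.Agent.H50.SchImage
import Groth.Agent.H50.QcChart
import Groth.Agent.H52.ValRefined2
import Groth.Agent.H52.Codim0Qf
import Groth.Agent.H25.TrdegDim2
import Groth.Agent.H25.AlgSpDim

/-!
# Codimension-0 points of a relative normalization lift (Stacks 0BB1 for algebraic spaces)

* `exists_specializes_of_denseRange'`: variant of `H52.exists_specializes_of_denseRange` which also records that the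
  chart `c` is étale.
* `denseRange_of_isRelNormalization`: `Y ⟶ X'` is dominant for `X'` the normalization of `X` in `Y`.
* `exists_codimZero_lift_of_denseRange`: a quasi-compact dominant morphism of algebraic spaces hits every codimension-0
  point from a codimension-0 point.
-/

set_option autoImplicit false
set_option linter.style.haveILetI false
universe u
open CategoryTheory CategoryTheory.Limits AlgebraicGeometry
open AlgSp

namespace Groth.Agent.H69.NormCodim0

open Groth.Agent.H52 Groth.Agent.H50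

variable {S : Scheme.{u}}

/-- Density step, recording étaleness of the chart. -/
theorem exists_specializes_of_denseRange' {X U : Sp S} (h : U ⟶ X) (hh : IsQuasiCompactMor h)
    (hd : DenseRange (Points.map h)) (W : Over S) [IsAffine W.left] (aX : (yon S).obj W ⟶ X)
    (haX : RepWith @Etale aX) {UW : Sp S} (q₁ : UW ⟶ U) (q₂ : UW ⟶ (yon S).obj W)
    (sqUW : IsPullback q₁ q₂ h aX) (w : ↥W.left) :
    ∃ (T : Over S) (_ : IsAffine T.left) (c : (yon S).obj T ⟶ UW) (g : T ⟶ W) (v : ↥T.left),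
      RepWith @Etale c ∧ (yon S).map g = c ≫ q₂ ∧ g.left v ⤳ w := by
  classical
  have hUWqc : IsQuasiCompactSp UW :=
    hh (IsAlgSpace.yon_obj W) (isQuasiCompactSp_yon W) aX q₁ q₂ sqUW
  obtain ⟨ι, hfin, T, c, hTaff, hce, hcs⟩ := exists_finite_affine_charts hUWqc
  have := hfin
  choose g hg using fun i => (yon S).map_surjective (c i ≫ q₂)
  have hdense : w ∈ closure (⋃ i, Set.range (g i).left) := by
    rw [mem_closure_iff]
    intro O hO hwO
    have hO' : IsOpen (Points.ofPt aX '' O) := isOpenMap_ofPt_of_etale aX haX O hO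
    obtain ⟨u', hu'⟩ := hd.exists_mem_open hO' ⟨_, Set.mem_image_of_mem _ hwO⟩
    obtain ⟨o, hoO, ho⟩ := hu'
    obtain ⟨z, hz1, hz2⟩ := Groth.Agent.H52.exists_point_of_isPullback sqUW u' (Points.ofScheme W o)
      (by rw [← ho, Points.ofPt_eq_map_ofScheme])
    obtain ⟨i, t, hit⟩ := hcs z
    refine ⟨o, hoO, Set.mem_iUnion.2 ⟨i, t, ?_⟩⟩
    apply ofScheme_injective W
    have h1 := ofPt_yon_map_comp (g i) (𝟙 ((yon S).obj W)) t
    rw [Category.comp_id] at h1
    change Points.ofPt (𝟙 _) ((g i).left t) = _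
    rw [← h1, hg, ← Points.map_ofPt, hit, hz2]
  have hfinU : closure (⋃ i, Set.range (g i).left) = ⋃ i, closure (Set.range (g i).left) :=
    closure_iUnion_of_finite _
  rw [hfinU, Set.mem_iUnion] at hdense
  obtain ⟨i, hi⟩ := hdense
  have : IsAffine (T i).left := hTaff i
  obtain ⟨v, hvw⟩ := exists_specializes_of_mem_closure_range (g i).left w hi
  exact ⟨T i, hTaff i, c i, g i, v, hce i, hg i, hvw⟩

/-- A quasi-compact dominant morphism of algebraic spaces hits every codimension-0 point from a codimension-0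
point. -/
theorem exists_codimZero_lift_of_denseRange {Y X' : Sp S} (hX' : IsAlgSpace X') (f' : Y ⟶ X')
    (hqc : IsQuasiCompactMor f') (hd : DenseRange (Points.map f')) (x' : Points X')
    (hx' : HasAt (fun U u => ringKrullDim ↥(U.presheaf.stalk u) = 0) X' x') :
    ∃ y : Points Y, HasAt (fun U u => ringKrullDim ↥(U.presheaf.stalk u) = 0) Y y ∧
      Points.map f' y = x' := by
  obtain ⟨W, aW, w, hWaff, haW, hw⟩ := exists_affine_chart_at hX' x'
  have hdimw : ringKrullDim ↥(W.left.presheaf.stalk w) = 0 :=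
    (Groth.Agent.H25.AlgSpDim.hasAt_ringKrullDim_iff_forall_chart hX' x' 0).mp hx' W aW w haW hw
  haveI := hWaff
  obtain ⟨UW, q₁, q₂, sqUW⟩ : ∃ (UW : Sp S) (q₁ : UW ⟶ Y) (q₂ : UW ⟶ (yon S).obj W),
      IsPullback q₁ q₂ f' aW := ⟨_, _, _, IsPullback.of_hasPullback f' aW⟩
  obtain ⟨T, hTaff, c, g, v, hce, hg, hvw⟩ :=
    exists_specializes_of_denseRange' f' hqc hd W aW haW q₁ q₂ sqUW w
  have hgv : g.left v = w :=
    Groth.Agent.H25.TrdegDim2.eq_of_specializes_of_stalk_dim_zero hvw hdimw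
  have hq₁ : RepWith @Etale q₁ :=
    (repWith_isStableUnderBaseChange (S := S) @Etale).of_isPullback sqUW.flip haW
  have hcq : RepWith @Etale (c ≫ q₁) :=
    (repWith_isMultiplicative (S := S) @Etale).comp_mem _ _ hce hq₁
  obtain ⟨v₀, hv₀v, hv₀max⟩ := exists_specializes_of_no_generization v
  have hdimv₀ : ringKrullDim ↥(T.left.presheaf.stalk v₀) = 0 :=
    (ringKrullDim_stalk_eq_zero_iff v₀).mpr hv₀max
  have hgv₀ : g.left v₀ = w := by
    have h1 : g.left v₀ ⤳ g.left v := hv₀v.map g.left.continuous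
    rw [hgv] at h1
    exact Groth.Agent.H25.TrdegDim2.eq_of_specializes_of_stalk_dim_zero h1 hdimw
  refine ⟨Points.ofPt (c ≫ q₁) v₀, ⟨T, c ≫ q₁, v₀, hcq, rfl, hdimv₀⟩, ?_⟩
  rw [Points.map_ofPt, Category.assoc, sqUW.w, ← Category.assoc, ← hg, ofPt_yon_map_comp, hgv₀, hw]

/-- The morphism to the relative normalization is dominant and quasi-compact. -/
theorem denseRange_of_isRelNormalization {Y X X' : AlgSp.Space S} (f : Y ⟶ X)
    (hqc : IsQuasiCompactMor f.hom) (ν : X' ⟶ X) (f' : Y ⟶ X')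
    (hn : IsRelNormalization f.hom ν.hom f'.hom) :
    IsQuasiCompactMor f'.hom ∧ DenseRange (Points.map f'.hom) := by
  obtain ⟨hfac, hνint, huniv⟩ := hn
  have hsep : IsSeparatedMor ν.hom :=
    Groth.Agent.H51.isSeparatedMor_of_isAffineMor ν ((Groth.Agent.S10270.result ν).1 hνint).1
  have hqsν : IsQuasiSeparatedMor ν.hom :=
    repWith_mono (fun _ _ g (hg : IsClosedImmersion g) => (inferInstance : QuasiCompact g)) hsep
  have hf'qc : IsQuasiCompactMor f'.hom := by
    refine Groth.Agent.S9919.result f' ν ?_ hqsν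
    show IsQuasiCompactMor (f'.hom ≫ ν.hom)
    rw [hfac]
    exact hqc
  refine ⟨hf'qc, ?_⟩
  obtain ⟨Z, i, hZ, hZi⟩ := exists_isSchImage Y.property X'.property f'.hom
  obtain ⟨hicl, ⟨g, hg⟩, -⟩ := id hZi
  let Z' : AlgSp.Space S := ⟨Z, hZ⟩
  let i' : Z' ⟶ X' := ObjectProperty.homMk i
  have e1 : RepWith @IsIntegralHom i :=
    repWith_mono (fun _ _ g (hg : IsClosedImmersion g) => (inferInstance : IsIntegralHom g)) hicl
  have e2 : RepWith @IsIntegralHom ν.hom := (Groth.Agent.S10267.result ν).1.1 hνint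
  have e3 : RepWith @IsIntegralHom (i ≫ ν.hom) := MorphismProperty.comp_mem _ _ _ e1 e2
  have hπ : IsIntegralMor (i ≫ ν.hom) := (Groth.Agent.S10267.result (i' ≫ ν)).1.2 e3
  have hgπ : g ≫ (i ≫ ν.hom) = f.hom := by rw [← Category.assoc, hg, hfac]
  obtain ⟨h, ⟨hh1, hh2⟩, -⟩ := huniv hZ (i ≫ ν.hom) g hπ hgπ
  obtain ⟨k, -, hkuniq⟩ := huniv X'.property ν.hom f'.hom hνint hfac
  have e4 : h ≫ i = k :=
    hkuniq _ ⟨by rw [← Category.assoc, hh1, hg], by rw [Category.assoc, hh2]⟩
  have e5 : 𝟙 X'.obj = k := hkuniq _ ⟨Category.comp_id _, Category.id_comp _⟩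
  have hsplit : h ≫ i = 𝟙 X'.obj := e4.trans e5.symm
  have hsub := range_map_subset_closure_of_isSchImage X'.property hZ f'.hom hf'qc i hZi
  have hsurj : Set.range (Points.map i) = Set.univ := by
    apply Set.eq_univ_of_forall
    intro z
    refine ⟨Points.map h z, ?_⟩
    rw [← Points.map_comp, hsplit, Points.map_id]
  rw [hsurj] at hsub
  exact dense_iff_closure_eq.mpr (Set.eq_univ_of_univ_subset hsub)

end Groth.Agent.H69.NormCodim0
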