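import Mathlib

/-!
# Ring lemma: an integral extension of a normal domain which is generically an isomorphism is an isomorphism (helper69)
-/

set_option autoImplicit false
set_option linter.style.haveILetI false
universe u
open TensorProduct

namespace Groth.Agent.H69.NormalBirat

/-- `B` a normal domain with fraction field `K`, `A` a reduced integral `B`-algebra all of whose minimal primes contract
to `0`, with `K ⟶ K ⊗_B A` bijective. Then `B ⟶ A` is bijective. -/
theorem bijective_algebraMap_of_normal {B A K : Type u} [CommRing B] [IsDomain B] [IsIntegrallyClosed B]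
    [CommRing A] [Algebra B A] [Algebra.IsIntegral B A] [IsReduced A] [Field K] [Algebra B K]
    [IsFractionRing B K]
    (hmin : ∀ p ∈ minimalPrimes A, p.comap (algebraMap B A) = ⊥)
    (hK : Function.Bijective (algebraMap K (K ⊗[B] A))) : Function.Bijective (algebraMap B A) := by
  -- nonzero elements of `B` are nonzerodivisors on `A`
  have hnzd : ∀ b : B, b ≠ 0 → ∀ a : A, b • a = 0 → a = 0 := by
    intro b hb a hba
    have hmem : a ∈ sInf (minimalPrimes A) := by
      rw [Ideal.mem_sInf]
      intro p hp
      have hpp : p.IsPrime := hp.1.1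
      have h1 : algebraMap B A b * a ∈ p := by
        rw [← Algebra.smul_def, hba]; exact p.zero_mem
      rcases hpp.mem_or_mem h1 with h2 | h2
      · exfalso
        have h3 : b ∈ p.comap (algebraMap B A) := h2
        rw [hmin p hp] at h3
        exact hb h3
      · exact h2
    have h4 : sInf (minimalPrimes A) = nilradical A := by
      rw [minimalPrimes, Ideal.sInf_minimalPrimes]
      rfl
    rw [h4, nilradical_eq_zero] at hmem
    exact hmem
  -- `A ⟶ K ⊗ A` is injective
  have hloc : IsLocalizedModule (nonZeroDivisors B) (TensorProduct.mk B K A 1) :=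
    (isLocalizedModule_iff_isBaseChange (nonZeroDivisors B) K _).2 (TensorProduct.isBaseChange B A K)
  have hinj : ∀ a : A, (1 : K) ⊗ₜ[B] a = 0 → a = 0 := by
    intro a ha
    have h1 : TensorProduct.mk B K A 1 a = 0 := ha
    rw [IsLocalizedModule.eq_zero_iff (nonZeroDivisors B)] at h1
    obtain ⟨c, hc⟩ := h1
    exact hnzd c.1 (nonZeroDivisors.ne_zero c.2) a hc
  let e : K ≃ₐ[K] K ⊗[B] A := AlgEquiv.ofBijective (Algebra.ofId K (K ⊗[B] A)) hK
  have he : ∀ κ : K, e κ = κ ⊗ₜ[B] (1 : A) := fun κ => by
    change algebraMap K (K ⊗[B] A) κ = _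
    rw [Algebra.TensorProduct.algebraMap_apply]
    rfl
  constructor
  · intro b b' hbb'
    have h1 : (algebraMap B K b) ⊗ₜ[B] (1 : A) = (algebraMap B K b') ⊗ₜ[B] (1 : A) := by
      rw [Algebra.algebraMap_eq_smul_one, Algebra.algebraMap_eq_smul_one b', smul_tmul, smul_tmul,
        ← Algebra.algebraMap_eq_smul_one, ← Algebra.algebraMap_eq_smul_one, hbb']
    rw [← he, ← he] at h1
    exact (IsFractionRing.injective B K) (e.injective h1)
  · intro a
    obtain ⟨κ, hκ⟩ : ∃ κ : K, e κ = (1 : K) ⊗ₜ[B] a := ⟨e.symm _, e.apply_symm_apply _⟩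
    have hint : IsIntegral B κ := by
      have h1 : IsIntegral B ((1 : K) ⊗ₜ[B] a) :=
        (Algebra.IsIntegral.isIntegral (R := B) a).map
          (Algebra.TensorProduct.includeRight : A →ₐ[B] K ⊗[B] A)
      have h2 : κ = (e.symm.restrictScalars B) ((1 : K) ⊗ₜ[B] a) := by
        rw [← hκ]; simp
      rw [h2]
      exact h1.map (e.symm.restrictScalars B).toAlgHom
    obtain ⟨b, hb⟩ := IsIntegrallyClosed.isIntegral_iff.1 hint
    refine ⟨b, ?_⟩
    have h3 : (1 : K) ⊗ₜ[B] (algebraMap B A b - a) = 0 := by
      rw [tmul_sub, ← hκ, ← hb, he, sub_eq_zero, Algebra.algebraMap_eq_smul_one,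
        Algebra.algebraMap_eq_smul_one (A := K), smul_tmul]
    exact sub_eq_zero.1 (hinj _ h3)

end Groth.Agent.H69.NormalBirat
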