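import Mathlib
import Groth.Agent.H69.NormalBirat
import Groth.Agent.H69.BiratStalk
import Groth.Agent.H25.GeomRedAlgSp2

/-!
# Integral birational morphisms onto normal decent spaces: the affine integral chart case (helper69)
-/

set_option autoImplicit false
set_option linter.style.haveILetI false
universe u
open CategoryTheory CategoryTheory.Limits AlgebraicGeometry TensorProduct
open AlgSp

namespace Groth.Agent.H69.NormalBiratSp

open Groth.Agent.H52 Groth.Agent.H50 Groth.Agent.H69.BiratBC Groth.Agent.H69.BiratStalk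

variable {S : Scheme.{u}}

/-- Spec form: if the base change of a birational `f` along an étale chart `h_{Spec B} ⟶ Y`, with `B` a normal domain,
is `Spec A ⟶ Spec B` with `A` reduced and integral over `B`, then `B ⟶ A` is bijective. -/
theorem bijective_of_isPullback_Spec {X Y : Sp S} (hXa : IsAlgSpace X) (hYa : IsAlgSpace Y) (f : X ⟶ Y)
    (hX : IsDecent X) (hY : IsDecent Y) (hf : W4stk3decentspacesp2.IsBirational f)
    {B A : CommRingCat.{u}} (α : B ⟶ A) (sB : Spec B ⟶ S)
    (b : (yon S).obj (Over.mk sB) ⟶ Y) (hb : RepWith @Etale b)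
    (fstW : (yon S).obj (Over.mk (Spec.map α ≫ sB)) ⟶ X)
    (hP : IsPullback fstW
      ((yon S).map (Over.homMk (Spec.map α) rfl : Over.mk (Spec.map α ≫ sB) ⟶ Over.mk sB)) f b)
    (hint : α.hom.IsIntegral) [_root_.IsReduced A] [IsDomain B] [IsIntegrallyClosed B] :
    Function.Bijective α.hom := by
  obtain ⟨V, hV⟩ : ∃ V : Over S, V = Over.mk sB := ⟨_, rfl⟩
  obtain ⟨W, hW⟩ : ∃ W : Over S, W = Over.mk (Spec.map α ≫ sB) := ⟨_, rfl⟩
  obtain ⟨i, hi⟩ : ∃ i : Over.mk (Spec.map α ≫ sB) ⟶ Over.mk sB, i = Over.homMk (Spec.map α) rfl :=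
    ⟨_, rfl⟩
  rw [← hi] at hP
  have hil : i.left = Spec.map α := by rw [hi]; rfl
  have hVa : IsAlgSpace ((yon S).obj (Over.mk sB)) := IsAlgSpace.yon_obj _
  have hVd : IsDecent ((yon S).obj (Over.mk sB)) := isDecent_yon _
  have hWa0 : IsAlgSpace ((yon S).obj (Over.mk (Spec.map α ≫ sB))) := IsAlgSpace.yon_obj _
  have hWd0 : IsDecent ((yon S).obj (Over.mk (Spec.map α ≫ sB))) := isDecent_yon _
  obtain ⟨-, -, hbir⟩ := isBirational_baseChange' hXa hYa f hX hY hf b hb fstW _ hP
  -- the generic point of `Spec B`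
  obtain ⟨ξ, hξdef⟩ : ∃ ξ : ↥(Spec B), ξ = genericPoint ↥(Spec B) := ⟨_, rfl⟩
  have hξsp : ∀ p' : ↥(Spec B), ξ ⤳ p' := fun p' => by
    rw [hξdef]; exact (genericPoint_spec ↥(Spec B)).specializes trivial
  have hξ : ∀ p' : ↥(Spec B), p' ⤳ ξ → p' = ξ := fun p' h => (h.antisymm (hξsp p')).eq
  have hv : Points.ofScheme (Over.mk sB) ξ ∈ genericPoints (Points ((yon S).obj (Over.mk sB))) :=
    (gen_iff hVa hVd (𝟙 _) (repWith_id @Etale _) ξ).2 hξ
  -- minimal primes of `A` lie over `0`
  have hmin : ∀ p ∈ minimalPrimes A, p.comap α.hom = ⊥ := by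
    intro p hp
    haveI hpp : p.IsPrime := hp.1.1
    let xp : ↥(Spec A) := (⟨p, hpp⟩ : PrimeSpectrum A)
    have hxp : ∀ x' : ↥(Spec A), x' ⤳ xp → x' = xp := by
      intro x' hx'
      have h0 : @LE.le (PrimeSpectrum A) _ x' xp :=
        (PrimeSpectrum.le_iff_specializes (R := A) x' xp).2 hx'
      have h1 : PrimeSpectrum.asIdeal (R := A) x' ≤ p := h0
      have h2 : p ≤ PrimeSpectrum.asIdeal (R := A) x' :=
        hp.2 ⟨PrimeSpectrum.isPrime (R := A) x', bot_le⟩ h1
      exact PrimeSpectrum.ext (le_antisymm h1 h2)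
    have hg1 : Points.ofScheme (Over.mk (Spec.map α ≫ sB)) xp ∈
        genericPoints (Points ((yon S).obj (Over.mk (Spec.map α ≫ sB)))) :=
      (gen_iff hWa0 hWd0 (𝟙 _) (repWith_id @Etale _) xp).2 hxp
    have hg2 := hbir.bijOn.mapsTo hg1
    rw [map_yon_map_ofScheme] at hg2
    have hg3 : ∀ v' : ↥(Spec B), v' ⤳ i.left xp → v' = i.left xp :=
      (gen_iff hVa hVd (𝟙 _) (repWith_id @Etale _) (i.left xp)).1 hg2
    have hg4 : ξ = i.left xp := hg3 ξ (hξsp _)
    have hg5 : (i.left xp : PrimeSpectrum B).asIdeal = ⊥ := by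
      rw [← hg4, hξdef, genericPoint_eq_bot_of_affine]
      rfl
    rw [← hg5, hil]
    rfl
  -- the base change to the function field is an isomorphism
  have hpr2 : IsIso (pullback.snd (Spec.map α) ((Spec B).fromSpecStalk ξ)) := by
    obtain ⟨j, hj⟩ : ∃ j : Over.mk ((Spec B).fromSpecStalk ξ ≫ sB) ⟶ Over.mk sB,
        j = Over.homMk ((Spec B).fromSpecStalk ξ) rfl := ⟨_, rfl⟩
    let π₁ : Over.mk (pullback.fst (Spec.map α) ((Spec B).fromSpecStalk ξ) ≫ Spec.map α ≫ sB) ⟶
        Over.mk (Spec.map α ≫ sB) :=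
      Over.homMk (pullback.fst (Spec.map α) ((Spec B).fromSpecStalk ξ)) rfl
    let π₂ : Over.mk (pullback.fst (Spec.map α) ((Spec B).fromSpecStalk ξ) ≫ Spec.map α ≫ sB) ⟶
        Over.mk ((Spec B).fromSpecStalk ξ ≫ sB) :=
      Over.homMk (pullback.snd (Spec.map α) ((Spec B).fromSpecStalk ξ)) (by
        change pullback.snd (Spec.map α) ((Spec B).fromSpecStalk ξ) ≫
          ((Spec B).fromSpecStalk ξ ≫ sB) = pullback.fst (Spec.map α) _ ≫ Spec.map α ≫ sB
        rw [← Category.assoc, ← pullback.condition, Category.assoc])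
    have hcommO : π₁ ≫ i = π₂ ≫ j := by
      rw [hi, hj]
      ext
      exact pullback.condition
    have sqO : IsPullback π₁ π₂ i j := by
      refine IsPullback.of_map (Over.forget S) hcommO ?_
      rw [hi, hj]
      exact IsPullback.of_hasPullback (Spec.map α) ((Spec B).fromSpecStalk ξ)
    have sqY := sqO.map (yon S)
    rw [hj] at sqY
    haveI : IsIso ((yon S).map π₂) :=
      isIso_snd_of_isBirational_scheme hWa0 hWd0 ((yon S).map i) hbir ξ hv _ _ sqY
    haveI : IsIso π₂ := isIso_of_reflects_iso π₂ (yon S)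
    exact (inferInstance : IsIso ((Over.forget S).map π₂))
  -- translation to rings
  rw [Spec.fromSpecStalk_eq'] at hpr2
  letI : Algebra B A := α.hom.toAlgebra
  haveI : Algebra.IsIntegral B A := ⟨hint⟩
  have hfst : IsIso (pullback.fst (Spec.map (StructureSheaf.toStalk B ξ)) (Spec.map α)) := by
    rw [← pullbackSymmetry_hom_comp_snd]
    exact IsIso.comp_isIso' inferInstance hpr2
  subst hξdef
  have e1 := pullbackSpecIso_inv_fst' B (Spec B).functionField A
  have hiso : IsIso (Spec.map (CommRingCat.ofHom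
      (algebraMap (Spec B).functionField ((Spec B).functionField ⊗[B] A)))) := by
    rw [← e1]
    haveI : IsIso (pullback.fst (Spec.map (CommRingCat.ofHom (algebraMap B (Spec B).functionField)))
        (Spec.map (CommRingCat.ofHom (algebraMap B A)))) := hfst
    infer_instance
  have hK : Function.Bijective (algebraMap (Spec B).functionField ((Spec B).functionField ⊗[B] A)) :=
    isIso_SpecMap_iff.1 hiso
  exact NormalBirat.bijective_algebraMap_of_normal (B := B) (A := A) (K := (Spec B).functionField)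
    hmin hK

/-- The affine integral normal chart case. -/
theorem isIso_snd_of_normal_chart {X Y : Sp S} (hXa : IsAlgSpace X) (hYa : IsAlgSpace Y) (f : X ⟶ Y)
    (hX : IsDecent X) (hY : IsDecent Y) (hi : IsIntegralMor f)
    (hf : W4stk3decentspacesp2.IsBirational f)
    (hXr : EtaleLocally (fun T => IsReduced T) X)
    {V : Over S} [IsAffine V.left] [IsIntegral V.left] (hVn : IsIntegrallyClosed ↑Γ(V.left, ⊤))
    (b : (yon S).obj V ⟶ Y) (hb : RepWith @Etale b) {P : Sp S} (fst : P ⟶ X)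
    (snd : P ⟶ (yon S).obj V) (hP : IsPullback fst snd f b) : IsIso snd := by
  -- replace `V` by `Spec Γ(V)`
  obtain ⟨B, hB⟩ : ∃ B : CommRingCat.{u}, B = Γ(V.left, ⊤) := ⟨_, rfl⟩
  obtain ⟨eV, -⟩ : ∃ eV : V.left ≅ Spec B, True := ⟨hB ▸ V.left.isoSpec, trivial⟩
  let sB : Spec B ⟶ S := eV.inv ≫ V.hom
  let εiso : Over.mk sB ≅ V := Over.isoMk eV.symm (by simp [sB])
  have hεe : Etale εiso.hom.left := by
    haveI : IsIso εiso.hom.left := inferInstanceAs (IsIso eV.inv)
    infer_instance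
  have hb' : RepWith @Etale ((yon S).map εiso.hom ≫ b) :=
    repWith_yon_map_comp @Etale εiso.hom hεe b hb
  haveI : IsAffine (Over.mk sB).left := inferInstanceAs (IsAffine (Spec B))
  obtain ⟨W, i, fstW, sqW, hWaff, hint⟩ := hi (Z := Over.mk sB) inferInstance ((yon S).map εiso.hom ≫ b)
  haveI := hWaff
  obtain ⟨A, hA⟩ : ∃ A : CommRingCat.{u}, A = Γ(W.left, ⊤) := ⟨_, rfl⟩
  obtain ⟨eW, -⟩ : ∃ eW : W.left ≅ Spec A, True := ⟨hA ▸ W.left.isoSpec, trivial⟩
  obtain ⟨α, hα⟩ : ∃ α : B ⟶ A, Spec.map α = eW.inv ≫ i.left :=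
    ⟨Spec.preimage (eW.inv ≫ i.left), Spec.map_preimage _⟩
  have hWhom : W.hom = i.left ≫ sB := (Over.w i).symm
  let ωiso : Over.mk (Spec.map α ≫ sB) ≅ W := Over.isoMk eW.symm (by
    change eW.inv ≫ W.hom = Spec.map α ≫ sB
    rw [hα, hWhom, Category.assoc])
  obtain ⟨i', hi'⟩ : ∃ i' : Over.mk (Spec.map α ≫ sB) ⟶ Over.mk sB, i' = Over.homMk (Spec.map α) rfl :=
    ⟨_, rfl⟩
  have hωi : ωiso.hom ≫ i = i' := by
    rw [hi']
    ext
    change eW.inv ≫ i.left = Spec.map α
    exact hα.symm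
  have sqW' : IsPullback ((yon S).map ωiso.hom ≫ fstW) ((yon S).map i') f
      ((yon S).map εiso.hom ≫ b) := by
    refine IsPullback.of_iso sqW ((yon S).mapIso ωiso.symm) (Iso.refl _) (Iso.refl _) (Iso.refl _)
      ?_ ?_ ?_ ?_
    · rw [Iso.refl_hom, Category.comp_id, Functor.mapIso_hom, Iso.symm_hom, ← Category.assoc,
        ← Functor.map_comp, Iso.inv_hom_id, CategoryTheory.Functor.map_id, Category.id_comp]
    · rw [Iso.refl_hom, Category.comp_id, Functor.mapIso_hom, Iso.symm_hom, ← Functor.map_comp,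
        ← hωi, Iso.inv_hom_id_assoc]
    · simp
    · simp
  -- properties of the rings
  have hfstW : RepWith @Etale fstW := (RepWith (S := S) @Etale).of_isPullback sqW.flip hb'
  haveI hWred : IsReduced W.left := by
    obtain ⟨T, p, hpe, hps, hT⟩ := hXr
    haveI : IsReduced T.left := hT
    exact Groth.Agent.H25.GeomRedAlgSp2.isReduced_of_chart p hpe hps fstW hfstW
  haveI : _root_.IsReduced A := by rw [hA]; infer_instance
  haveI : IsDomain B := by rw [hB]; infer_instance
  haveI : IsIntegrallyClosed B := by rw [hB]; exact hVn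
  have hαint : α.hom.IsIntegral := by
    rw [← IsIntegralHom.SpecMap_iff, hα]
    haveI := hint
    infer_instance
  rw [hi'] at sqW'
  have hbij := bijective_of_isPullback_Spec hXa hYa f hX hY hf α sB _ hb' _ sqW' hαint
  haveI : IsIso (Spec.map α) := isIso_SpecMap_iff.2 hbij
  haveI : IsIso i' := by
    haveI : IsIso ((Over.forget S).map i') := by rw [hi']; exact (inferInstance : IsIso (Spec.map α))
    exact isIso_of_reflects_iso i' (Over.forget S)
  rw [← hi'] at sqW'
  -- transfer to the original square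
  have sq2 : IsPullback ((yon S).map ωiso.hom ≫ fstW) ((yon S).map i' ≫ (yon S).map εiso.hom) f b := by
    refine IsPullback.of_iso sqW' (Iso.refl _) (Iso.refl _) ((yon S).mapIso εiso) (Iso.refl _)
      ?_ ?_ ?_ ?_
    · simp
    · simp
    · simp
    · simp
  have h1 := hP.isoIsPullback_hom_snd _ _ sq2
  rw [← h1]
  infer_instance

end Groth.Agent.H69.NormalBiratSp
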