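import Mathlib
import Groth.Agent.H69.NormalBiratSp
import Groth.Agent.H69.BiratDense
import Groth.Agent.H25.NormalChart
import Groth.Agent.H52.EpiBC
import Groth.Agent.H52.QC

/-!
# Integral birational morphisms onto normal decent spaces are isomorphisms (helper69)
-/

set_option autoImplicit false
set_option linter.style.haveILetI false
universe u
open CategoryTheory CategoryTheory.Limits AlgebraicGeometry TensorProduct
open AlgSp

namespace Groth.Agent.H69.NormalBiratTop

open Groth.Agent.H52 Groth.Agent.H50 Groth.Agent.H69.BiratBC Groth.Agent.H69.BiratStalk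
  Groth.Agent.H69.BiratDense Groth.Agent.H69.NormalBiratSp Groth.Agent.H25.NormalChart

variable {S : Scheme.{u}}

/-- An affine étale chart of a decent space with finitely many irreducible components has finitely many
irreducible components. -/
theorem finite_irreducibleComponents_chart {Y : Sp S} (hYa : IsAlgSpace Y) (hY : IsDecent Y)
    (hYf : (irreducibleComponents (Points Y)).Finite) {V : Over S} [IsAffine V.left]
    (b : (yon S).obj V ⟶ Y) (hb : RepWith @Etale b) : (irreducibleComponents ↥V.left).Finite := by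
  rw [finite_irreducibleComponents_iff]
  have hYg := (finite_irreducibleComponents_iff_of_isDecent hYa hY).1 hYf
  refine (hYg.biUnion fun y _ => finite_fibre_of_isDecent hY y V b inferInstance hb).subset ?_
  intro g hg
  simp only [Set.mem_iUnion]
  exact ⟨_, (mem_genericPoints_scheme_iff hYa hY b hb g).1 hg, rfl⟩

theorem isIso_of_integral_birational_normal {X Y : Sp S} (hXa : IsAlgSpace X) (hYa : IsAlgSpace Y)
    (f : X ⟶ Y) (hX : IsDecent X) (hY : IsDecent Y)
    (hYf : (irreducibleComponents (Points Y)).Finite)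
    (hi : IsIntegralMor f) (hi' : Representable f)
    (hf : W4stk3decentspacesp2.IsBirational f)
    (hYn : EtaleLocally (fun T => ∀ t : ↥T, IsDomain ↥(T.presheaf.stalk t) ∧
      IsIntegrallyClosed ↥(T.presheaf.stalk t)) Y)
    (hXr : EtaleLocally (fun T => IsReduced T) X) : IsIso f := by
  obtain ⟨U₀, a₀, hae, has⟩ := hYa.atlas
  obtain ⟨X₀, i₀, fst₀, sq₀⟩ := hi' a₀
  have hiso : IsIso i₀.left := by
    change MorphismProperty.isomorphisms Scheme.{u} i₀.left
    refine IsZariskiLocalAtTarget.of_forall_exists_morphismRestrict ?_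
    intro u₀
    obtain ⟨O', hO', hu₀O'⟩ : ∃ O' : U₀.left.Opens, IsAffineOpen O' ∧ u₀ ∈ O' := by
      obtain ⟨_, ⟨O', hO', rfl⟩, hu₀O', -⟩ :=
        U₀.left.isBasis_affineOpens.exists_subset_of_mem_open (Set.mem_univ u₀) isOpen_univ
      exact ⟨O', hO', hu₀O'⟩
    have ha' : RepWith @Etale ((yon S).map (overOpenHom U₀ O') ≫ a₀) :=
      repWith_yon_map_comp @Etale _ (show Etale (Scheme.Opens.ι O') from inferInstance) a₀ hae
    haveI hAff' : IsAffine (overOpen U₀ O').left := hO'
    have hfin' : (irreducibleComponents ↥(overOpen U₀ O').left).Finite :=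
      finite_irreducibleComponents_chart hYa hY hYf _ ha'
    have hnorm' := fun v => normal_stalks_chart hYn _ ha' v
    obtain ⟨O'', hO'', hu'', hirr''⟩ := exists_affine_irreducible_nhd hfin' (fun v => (hnorm' v).1)
      (⟨u₀, hu₀O'⟩ : ↥(Scheme.Opens.toScheme O'))
    obtain ⟨O, hOdef⟩ : ∃ O : U₀.left.Opens, O = O'.ι ''ᵁ O'' := ⟨_, rfl⟩
    have hOaff : IsAffineOpen O := by rw [hOdef]; exact hO''.image_of_isOpenImmersion O'.ι
    have hu₀O : u₀ ∈ O := by rw [hOdef]; exact ⟨⟨u₀, hu₀O'⟩, hu'', rfl⟩
    have hOirr : IsIrreducible (O : Set ↥U₀.left) := by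
      rw [hOdef]
      exact hirr''.image _ O'.ι.continuous.continuousOn
    refine ⟨O, hu₀O, ?_⟩
    have ha : RepWith @Etale ((yon S).map (overOpenHom U₀ O) ≫ a₀) :=
      repWith_yon_map_comp @Etale _ (show Etale (Scheme.Opens.ι O) from inferInstance) a₀ hae
    have hnorm := fun v => normal_stalks_chart hYn _ ha v
    haveI hAff : IsAffine (overOpen U₀ O).left := hOaff
    haveI : ∀ v : ↥(overOpen U₀ O).left,
        _root_.IsReduced ↥((overOpen U₀ O).left.presheaf.stalk v) := by
      intro v
      haveI := (hnorm v).1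
      infer_instance
    haveI : IsReduced (overOpen U₀ O).left := isReduced_of_isReduced_stalk _
    haveI : IrreducibleSpace ↥(overOpen U₀ O).left := Subtype.irreducibleSpace hOirr
    haveI hint : IsIntegral (overOpen U₀ O).left := isIntegral_of_irreducibleSpace_of_isReduced _
    have hVn : IsIntegrallyClosed ↑Γ((overOpen U₀ O).left, ⊤) := by
      have hNR : EGA4.IsNormalRing Γ((overOpen U₀ O).left, ⊤) :=
        Groth.Agent.H25.NormalAffine.isNormalRing_sections_of_isNormalScheme hnorm
          (isAffineOpen_top _)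
      haveI : IsDomain ↥Γ((overOpen U₀ O).left, ⊤) := inferInstance
      exact IsIntegrallyClosed.of_localization_maximal (fun p _ _ => (hNR p).2)
    -- the restricted square
    let r : overOpen X₀ (i₀.left ⁻¹ᵁ O) ⟶ overOpen U₀ O := Over.homMk (i₀.left ∣_ O) (by
      change (i₀.left ∣_ O) ≫ (O.ι ≫ U₀.hom) = (i₀.left ⁻¹ᵁ O).ι ≫ X₀.hom
      rw [← Category.assoc, morphismRestrict_ι, Category.assoc, Over.w i₀])
    have hcomm : overOpenHom X₀ (i₀.left ⁻¹ᵁ O) ≫ i₀ = r ≫ overOpenHom U₀ O := by
      ext
      exact (morphismRestrict_ι i₀.left O).symm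
    have sqO : IsPullback (overOpenHom X₀ (i₀.left ⁻¹ᵁ O)) r i₀ (overOpenHom U₀ O) :=
      IsPullback.of_map (Over.forget S) hcomm (isPullback_morphismRestrict i₀.left O).flip
    have sqR := (sqO.map (yon S)).paste_horiz sq₀
    haveI : IsIso ((yon S).map r) :=
      isIso_snd_of_normal_chart hXa hYa f hX hY hi hf hXr hVn _ ha _ _ sqR
    haveI : IsIso r := isIso_of_reflects_iso r (yon S)
    exact (inferInstance : IsIso ((Over.forget S).map r))
  haveI : IsIso i₀ := by
    haveI : IsIso ((Over.forget S).map i₀) := hiso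
    exact isIso_of_reflects_iso i₀ (Over.forget S)
  haveI : Epi a₀ := epi_of_etale_surjective a₀ hae has
  haveI : Mono f := mono_of_isPullback_of_epi sq₀
  haveI : Epi f := by
    haveI : Epi (fst₀ ≫ f) := by
      rw [sq₀.w]
      infer_instance
    exact epi_of_epi fst₀ f
  exact isIso_of_mono_of_epi f

end Groth.Agent.H69.NormalBiratTop
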