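import Groth.Agent.H69.SecSN
import Groth.Prelude.Def_Pi1
import Mathlib

set_option autoImplicit false
universe u
open AlgebraicGeometry CategoryTheory Limits

namespace Groth.Agent.H69

theorem exists_local_sq_cube {R : Type u} [CommRing R] (P : Ideal R) [P.IsPrime] (S : Type u)
    [CommRing S] [Algebra R S] [IsLocalization.AtPrime S P] [IsDomain S] [IsIntegrallyClosed S]
    (x y : R) (hxy : x ^ 3 = y ^ 2) :
    ∃ s a : R, s ∉ P ∧ a ^ 2 = s ^ 2 * x ∧ a ^ 3 = s ^ 3 * y := by
  have hxy' : (algebraMap R S x) ^ 3 = (algebraMap R S y) ^ 2 := by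
    rw [← map_pow, ← map_pow, hxy]
  obtain ⟨c, hc2, hc3⟩ : ∃ c : S, c ^ 2 = algebraMap R S x ∧ c ^ 3 = algebraMap R S y := by
    by_cases hx0 : algebraMap R S x = 0
    · refine ⟨0, by rw [hx0]; ring, ?_⟩
      have h1 : (algebraMap R S y) ^ 2 = 0 := by rw [← hxy', hx0]; ring
      have h2 : algebraMap R S y = 0 := by
        rcases mul_eq_zero.mp (by rw [← pow_two]; exact h1 :
          algebraMap R S y * algebraMap R S y = 0) with h | h <;> exact h
      rw [h2]; ring
    · have hinj := IsFractionRing.injective S (FractionRing S)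
      have hxK : algebraMap S (FractionRing S) (algebraMap R S x) ≠ 0 := by
        intro h0
        apply hx0
        apply hinj
        rw [h0, map_zero]
      have hKxy : (algebraMap S (FractionRing S) (algebraMap R S x)) ^ 3 =
          (algebraMap S (FractionRing S) (algebraMap R S y)) ^ 2 :=
        calc (algebraMap S (FractionRing S) (algebraMap R S x)) ^ 3
            = algebraMap S (FractionRing S) ((algebraMap R S x) ^ 3) := (map_pow _ _ _).symm
          _ = algebraMap S (FractionRing S) ((algebraMap R S y) ^ 2) := by rw [hxy']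
          _ = (algebraMap S (FractionRing S) (algebraMap R S y)) ^ 2 := map_pow _ _ _
      have ht2 : (algebraMap S (FractionRing S) (algebraMap R S y) /
          algebraMap S (FractionRing S) (algebraMap R S x)) ^ 2 =
          algebraMap S (FractionRing S) (algebraMap R S x) := by
        rw [div_pow, ← hKxy]
        field_simp
      have hint : IsIntegral S (algebraMap S (FractionRing S) (algebraMap R S y) /
          algebraMap S (FractionRing S) (algebraMap R S x)) := by
        refine ⟨Polynomial.X ^ 2 - Polynomial.C (algebraMap R S x),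
          Polynomial.monic_X_pow_sub_C _ (by norm_num), ?_⟩
        simp [ht2]
      obtain ⟨c, hc⟩ := IsIntegrallyClosed.isIntegral_iff.mp hint
      refine ⟨c, hinj ?_, hinj ?_⟩
      · rw [map_pow, hc, ht2]
      · rw [map_pow, hc]
        calc (algebraMap S (FractionRing S) (algebraMap R S y) /
              algebraMap S (FractionRing S) (algebraMap R S x)) ^ 3
            = (algebraMap S (FractionRing S) (algebraMap R S y) /
              algebraMap S (FractionRing S) (algebraMap R S x)) *
              (algebraMap S (FractionRing S) (algebraMap R S y) /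
              algebraMap S (FractionRing S) (algebraMap R S x)) ^ 2 := by ring
          _ = (algebraMap S (FractionRing S) (algebraMap R S y) /
              algebraMap S (FractionRing S) (algebraMap R S x)) *
              algebraMap S (FractionRing S) (algebraMap R S x) := by rw [ht2]
          _ = algebraMap S (FractionRing S) (algebraMap R S y) := div_mul_cancel₀ _ hxK
  obtain ⟨⟨r, s⟩, hrs⟩ := IsLocalization.surj P.primeCompl c
  simp only at hrs
  have e2 : algebraMap R S (r ^ 2 - (s : R) ^ 2 * x) = 0 := by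
    simp only [map_sub, map_mul, map_pow]
    rw [← hrs, mul_pow, hc2]; ring
  have e3 : algebraMap R S (r ^ 3 - (s : R) ^ 3 * y) = 0 := by
    simp only [map_sub, map_mul, map_pow]
    rw [← hrs, mul_pow, hc3]; ring
  obtain ⟨u, hu⟩ := (IsLocalization.map_eq_zero_iff P.primeCompl S _).mp e2
  obtain ⟨u', hu'⟩ := (IsLocalization.map_eq_zero_iff P.primeCompl S _).mp e3
  refine ⟨(u : R) * (u' : R) * (s : R), (u : R) * (u' : R) * r, ?_, ?_, ?_⟩
  · exact (u * u' * s).2
  · linear_combination ((u : R) * (u' : R) ^ 2) * hu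
  · linear_combination ((u : R) ^ 3 * (u' : R) ^ 2) * hu'

theorem isSeminormalRing_of_forall_localization {R : Type u} [CommRing R]
    (h : ∀ (P : Ideal R) [P.IsPrime], ∃ (S : Type u) (_ : CommRing S) (_ : Algebra R S),
      IsLocalization.AtPrime S P ∧ IsDomain S ∧ IsIntegrallyClosed S) :
    HTop.IsSeminormalRing R := by
  have hloc : ∀ J : Ideal R, (∀ (P : Ideal R) [P.IsPrime], ∃ s ∈ J, s ∉ P) → J = ⊤ := by
    intro J hJ
    by_contra hne
    obtain ⟨m, hm, hJm⟩ := Ideal.exists_le_maximal J hne
    haveI := hm.isPrime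
    obtain ⟨s, hsJ, hsm⟩ := hJ m
    exact hsm (hJm hsJ)
  haveI hred : IsReduced R := by
    rw [isReduced_iff_pow_one_lt 2 (by norm_num)]
    intro n hn
    have h1 : LinearMap.ker (LinearMap.toSpanSingleton R R n) = ⊤ := by
      apply hloc
      intro P hP
      obtain ⟨S, _, _, hS, hD, -⟩ := h P
      have h0 : algebraMap R S n = 0 := by
        have : (algebraMap R S n) ^ 2 = 0 := by rw [← map_pow, hn, map_zero]
        rcases mul_eq_zero.mp (by rw [← pow_two]; exact this :
          algebraMap R S n * algebraMap R S n = 0) with h | h <;> exact h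
      obtain ⟨u, hu⟩ := (IsLocalization.map_eq_zero_iff P.primeCompl S _).mp h0
      refine ⟨u, ?_, u.2⟩
      rw [LinearMap.mem_ker, LinearMap.toSpanSingleton_apply, smul_eq_mul]
      exact hu
    have h2 : (1 : R) ∈ LinearMap.ker (LinearMap.toSpanSingleton R R n) := by
      rw [h1]; exact Submodule.mem_top
    rw [LinearMap.mem_ker, LinearMap.toSpanSingleton_apply, one_smul] at h2
    exact h2
  intro x y hxy
  let J : Ideal R :=
    { carrier := {s | ∃ a, a ^ 2 = s ^ 2 * x ∧ a ^ 3 = s ^ 3 * y}
      zero_mem' := ⟨0, by ring, by ring⟩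
      add_mem' := by
        rintro s₁ s₂ ⟨a₁, h1a, h1b⟩ ⟨a₂, h2a, h2b⟩
        have hiv1 : a₁ * x = s₁ * y := by
          apply eq_of_sq_cube_of_isReduced
          · linear_combination (x ^ 2) * h1a + s₁ ^ 2 * hxy
          · linear_combination (x ^ 3) * h1b + s₁ ^ 3 * y * hxy
        have hiv2 : a₂ * x = s₂ * y := by
          apply eq_of_sq_cube_of_isReduced
          · linear_combination (x ^ 2) * h2a + s₂ ^ 2 * hxy
          · linear_combination (x ^ 3) * h2b + s₂ ^ 3 * y * hxy
        have hi : a₁ * a₂ = s₁ * s₂ * x := by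
          apply eq_of_sq_cube_of_isReduced
          · linear_combination a₂ ^ 2 * h1a + s₁ ^ 2 * x * h2a
          · linear_combination a₂ ^ 3 * h1b + s₁ ^ 3 * y * h2b - s₁ ^ 3 * s₂ ^ 3 * hxy
        refine ⟨a₁ + a₂, ?_, ?_⟩
        · linear_combination h1a + 2 * hi + h2a
        · linear_combination h1b + 3 * (a₂ * h1a + s₁ ^ 2 * hiv2) +
            3 * (a₁ * h2a + s₂ ^ 2 * hiv1) + h2b
      smul_mem' := by
        rintro c s ⟨a, ha1, ha2⟩
        refine ⟨c * a, ?_, ?_⟩
        · rw [smul_eq_mul]; linear_combination c ^ 2 * ha1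
        · rw [smul_eq_mul]; linear_combination c ^ 3 * ha2 }
  have hJ : J = ⊤ := by
    apply hloc
    intro P hP
    obtain ⟨S, _, _, hS, hD, hIC⟩ := h P
    obtain ⟨s, a, hs, h2, h3⟩ := exists_local_sq_cube P S x y hxy
    exact ⟨s, ⟨a, h2, h3⟩, hs⟩
  have h1 : (1 : R) ∈ J := by rw [hJ]; exact Submodule.mem_top
  obtain ⟨a, ha2, ha3⟩ := h1
  refine ⟨a, ⟨by rw [ha2]; ring, by rw [ha3]; ring⟩, ?_⟩
  rintro b ⟨hb2, hb3⟩
  apply eq_of_sq_cube_of_isReduced
  · rw [← hb2, ha2]; ring
  · rw [← hb3, ha3]; ring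

theorem isSeminormal_of_isNormalScheme {X : Scheme.{u}} (hn : Pi1.IsNormalScheme X) :
    HTop.IsSeminormal X := by
  intro x
  obtain ⟨W, hxW, -⟩ := exists_affineOpen_mem_le (⊤ : X.Opens) x (TopologicalSpace.Opens.mem_top _)
  refine ⟨W, hxW, ?_⟩
  apply isSeminormalRing_of_forall_localization
  intro P hP
  have hy : W.2.fromSpec ⟨P, hP⟩ ∈ (W : X.Opens) := by
    have h := W.2.range_fromSpec
    have h' : W.2.fromSpec ⟨P, hP⟩ ∈ Set.range W.2.fromSpec := ⟨_, rfl⟩
    rw [h] at h'
    exact h'
  letI : Algebra Γ(X, (W : X.Opens)) (X.presheaf.stalk (W.2.fromSpec ⟨P, hP⟩)) :=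
    TopCat.Presheaf.algebra_section_stalk X.presheaf ⟨_, hy⟩
  exact ⟨X.presheaf.stalk (W.2.fromSpec ⟨P, hP⟩), inferInstance, inferInstance,
    W.2.isLocalization_stalk' ⟨P, hP⟩ hy, (hn _).1, (hn _).2⟩

end Groth.Agent.H69
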