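import Groth.Agent.H73.NormzFF
import Groth.Agent.H69.GeomUnibranch3
import Groth.Agent.H69.NormzUH

/-! The normalization of an integral scheme with geometrically unibranch local rings in a purely
inseparable extension of its function field is a universal homeomorphism. -/

set_option autoImplicit false
set_option linter.style.haveILetI false
open AlgebraicGeometry CategoryTheory TopologicalSpace

universe u

namespace Groth.Agent.H69.NormzUH

open Groth.Agent.H73.Normz

theorem universallyInjective_fromNormalization_of_purelyInseparable (X : Scheme.{u}) [IsIntegral X]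
    (M : Type u) [Field M] [Algebra X.functionField M] [IsPurelyInseparable X.functionField M]
    [QuasiCompact (Spec.map (CommRingCat.ofHom (algebraMap X.functionField M)) ≫
      X.fromSpecStalk (genericPoint X))]
    [QuasiSeparated (Spec.map (CommRingCat.ofHom (algebraMap X.functionField M)) ≫
      X.fromSpecStalk (genericPoint X))]
    (hX : ∀ x : X, CAlg2.IsGeomUnibranch (X.presheaf.stalk x)) :
    UniversallyInjective (Spec.map (CommRingCat.ofHom (algebraMap X.functionField M)) ≫
      X.fromSpecStalk (genericPoint X)).fromNormalization := by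
  set γ : Spec (CommRingCat.of M) ⟶ X :=
    Spec.map (CommRingCat.ofHom (algebraMap X.functionField M)) ≫
      X.fromSpecStalk (genericPoint X) with hγ
  have hγη : γ.base (IsLocalRing.closedPoint M) = genericPoint X :=
    specGen_closedPoint (algebraMap X.functionField M)
  refine ((tfae_universallyInjective γ.fromNormalization).out 0 1).mpr ?_
  intro L _ g₁ g₂ hg
  dsimp only at hg
  obtain ⟨U, hU, hxU, hη⟩ := exists_affine_nhd γ hγη
    ((g₁ ≫ γ.fromNormalization) (IsLocalRing.closedPoint L))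
  have hV : IsAffineOpen (γ.fromNormalization ⁻¹ᵁ U) := hU.preimage _
  have hm1 : g₁ (IsLocalRing.closedPoint L) ∈ γ.fromNormalization ⁻¹ᵁ U := hxU
  have hm2 : g₂ (IsLocalRing.closedPoint L) ∈ γ.fromNormalization ⁻¹ᵁ U := by
    change γ.fromNormalization (g₂ _) ∈ U
    rw [← Scheme.Hom.comp_apply, ← hg]; exact hxU
  have h1 : g₁ ⁻¹ᵁ (γ.fromNormalization ⁻¹ᵁ U) = ⊤ :=
    Scheme.preimage_eq_top_of_closedPoint_mem g₁ hm1
  have h2 : g₂ ⁻¹ᵁ (γ.fromNormalization ⁻¹ᵁ U) = ⊤ :=
    Scheme.preimage_eq_top_of_closedPoint_mem g₂ hm2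
  have e1 := IsAffineOpen.SpecMap_appLE_fromSpec g₁ hV (isAffineOpen_top _) (le_of_eq h1.symm)
  have e2 := IsAffineOpen.SpecMap_appLE_fromSpec g₂ hV (isAffineOpen_top _) (le_of_eq h2.symm)
  rw [IsAffineOpen.fromSpec_top] at e1 e2
  suffices hφ : g₁.appLE (γ.fromNormalization ⁻¹ᵁ U) ⊤ (le_of_eq h1.symm) =
      g₂.appLE (γ.fromNormalization ⁻¹ᵁ U) ⊤ (le_of_eq h2.symm) by
    rw [← cancel_epi (Spec (.of L)).isoSpec.inv, ← e1, ← e2, hφ]
  have k1 : γ.fromNormalization.app U ≫
      g₁.appLE (γ.fromNormalization ⁻¹ᵁ U) ⊤ (le_of_eq h1.symm) =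
      (g₁ ≫ γ.fromNormalization).appLE U ⊤ (by rw [Scheme.Hom.comp_preimage, h1]) := by
    rw [Scheme.Hom.app_eq_appLE, Scheme.Hom.appLE_comp_appLE]
  have k2 : γ.fromNormalization.app U ≫
      g₂.appLE (γ.fromNormalization ⁻¹ᵁ U) ⊤ (le_of_eq h2.symm) =
      (g₂ ≫ γ.fromNormalization).appLE U ⊤ (by rw [Scheme.Hom.comp_preimage, h2]) := by
    rw [Scheme.Hom.app_eq_appLE, Scheme.Hom.appLE_comp_appLE]
  have k12 : γ.fromNormalization.app U ≫
      g₁.appLE (γ.fromNormalization ⁻¹ᵁ U) ⊤ (le_of_eq h1.symm) =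
      γ.fromNormalization.app U ≫
      g₂.appLE (γ.fromNormalization ⁻¹ᵁ U) ⊤ (le_of_eq h2.symm) := by
    rw [k1, k2]
    exact appLE_congr _ _ hg _ _ _ _
  -- ring level
  have hne : Nonempty U := ⟨⟨_, hγη ▸ hη⟩⟩
  letI algAD := (γ.fromNormalization.app U).hom.toAlgebra
  letI algAM := (chartρ γ hη).toAlgebra
  letI algDM := (chartι γ hη).toAlgebra
  obtain ⟨ht, hic⟩ := chart_isIntegralClosure γ hU hη
  have htower2 : IsScalarTower Γ(X, U) X.functionField M :=
    IsScalarTower.of_algebraMap_eq' (chartρ_spec (algebraMap X.functionField M) hη)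
  have hfr := functionField_isFractionRing_of_isAffineOpen X U hU
  have hdom : IsDomain Γ(X, U) := inferInstance
  have H : ∀ (p : Ideal Γ(X, U)) [p.IsPrime], ∃ (Rp : Type u) (_ : CommRing Rp)
      (_ : IsLocalRing Rp) (_ : Algebra Γ(X, U) Rp),
      IsLocalization.AtPrime Rp p ∧ CAlg2.IsGeomUnibranch Rp := by
    intro p hp
    have hy : hU.fromSpec ⟨p, hp⟩ ∈ U := by
      rw [← SetLike.mem_coe, ← hU.range_fromSpec]; exact Set.mem_range_self _
    exact ⟨X.presheaf.stalk (hU.fromSpec ⟨p, hp⟩), inferInstance, inferInstance,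
      TopCat.Presheaf.algebra_section_stalk X.presheaf ⟨hU.fromSpec ⟨p, hp⟩, hy⟩,
      hU.isLocalization_stalk' ⟨p, hp⟩ hy, hX _⟩
  have key := Groth.Agent.H69.GeomUnibranch.ringHom_ext_of_isIntegralClosure_of_purelyInseparable
    (A := Γ(X, U)) (X.functionField : Type u) M
    (Γ(γ.normalization, γ.fromNormalization ⁻¹ᵁ U)) H L
    ((g₁.appLE (γ.fromNormalization ⁻¹ᵁ U) ⊤ (le_of_eq h1.symm) ≫
      (Scheme.ΓSpecIso (.of L)).hom).hom)
    ((g₂.appLE (γ.fromNormalization ⁻¹ᵁ U) ⊤ (le_of_eq h2.symm) ≫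
      (Scheme.ΓSpecIso (.of L)).hom).hom)
    (by
      have := congrArg (fun t => (t ≫ (Scheme.ΓSpecIso (.of L)).hom).hom) k12
      simp only [Category.assoc, CommRingCat.hom_comp] at this
      exact this)
  rw [← cancel_mono (Scheme.ΓSpecIso (.of L)).hom]
  exact CommRingCat.hom_ext key

theorem isUnivHomeo_fromNormalization_of_purelyInseparable (X : Scheme.{u}) [IsIntegral X]
    (M : Type u) [Field M] [Algebra X.functionField M] [IsPurelyInseparable X.functionField M]
    [QuasiCompact (Spec.map (CommRingCat.ofHom (algebraMap X.functionField M)) ≫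
      X.fromSpecStalk (genericPoint X))]
    [QuasiSeparated (Spec.map (CommRingCat.ofHom (algebraMap X.functionField M)) ≫
      X.fromSpecStalk (genericPoint X))]
    (hX : ∀ x : X, CAlg2.IsGeomUnibranch (X.presheaf.stalk x)) :
    FlatMor.IsUnivHomeo (Spec.map (CommRingCat.ofHom (algebraMap X.functionField M)) ≫
      X.fromSpecStalk (genericPoint X)).fromNormalization := by
  haveI : Surjective (Spec.map (CommRingCat.ofHom (algebraMap X.functionField M)) ≫
      X.fromSpecStalk (genericPoint X)).fromNormalization :=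
    ⟨fromNormalization_surjective _ (specGen_closedPoint (algebraMap X.functionField M))⟩
  haveI := universallyInjective_fromNormalization_of_purelyInseparable X M hX
  exact Groth.Agent.H69.isUnivHomeo_of_integral _

end Groth.Agent.H69.NormzUH
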