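import Mathlib
import Groth.Prelude.Def_EGA43

/-! Openness at a point of spectra maps: integral extensions of normal domains, and integral maps
with a one-point fibre. -/

set_option autoImplicit false
set_option linter.style.haveILetI false
set_option linter.unusedSectionVars false

universe u

namespace Groth.Agent.H69.OpenAt

open PrimeSpectrum

/-- An integral extension of domains over an integrally closed domain induces an open map on
spectra. -/
theorem isOpenMap_comap_of_isIntegrallyClosed {R S : Type u} [CommRing R] [IsDomain R]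
    [IsIntegrallyClosed R] [CommRing S] [IsDomain S] [Algebra R S] [FaithfulSMul R S]
    [Algebra.IsIntegral R S] : IsOpenMap (comap (algebraMap R S)) := by
  rw [isBasis_basic_opens.isOpenMap_iff]
  rintro _ ⟨_, ⟨b, rfl⟩, rfl⟩
  let R₁ : Subalgebra R S := Algebra.adjoin R {b}
  let b₁ : R₁ := ⟨b, Algebra.subset_adjoin (Set.mem_singleton b)⟩
  have hb : IsIntegral R b := Algebra.IsIntegral.isIntegral b
  haveI : Module.IsTorsionFree R S := inferInstance
  haveI : Algebra.FinitePresentation R R₁ :=
    Algebra.FinitePresentation.equiv (minpoly.equivAdjoin hb)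
  haveI : Algebra.IsIntegral R₁ S := Algebra.IsIntegral.tower_top R
  have hsurj : Function.Surjective (comap (algebraMap R₁ S)) :=
    Algebra.IsIntegral.comap_surjective R₁ S
  haveI : IsDomain R₁ := inferInstance
  haveI : FaithfulSMul R R₁ := by
    rw [faithfulSMul_iff_algebraMap_injective]
    intro x y hxy
    apply FaithfulSMul.algebraMap_injective R S
    exact congrArg Subtype.val hxy
  haveI : Algebra.IsIntegral R R₁ :=
    ⟨fun x => (isIntegral_algHom_iff R₁.val Subtype.val_injective).1
      (Algebra.IsIntegral.isIntegral (R := R) (x : S))⟩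
  haveI : Algebra.HasGoingDown R R₁ := inferInstance
  have hopen : IsOpenMap (comap (algebraMap R R₁)) :=
    isOpenMap_comap_of_hasGoingDown_of_finitePresentation
  have himg : comap (algebraMap R S) '' (basicOpen b : Set (PrimeSpectrum S)) =
      comap (algebraMap R R₁) '' (basicOpen b₁ : Set (PrimeSpectrum R₁)) := by
    have h1 : (basicOpen b : Set (PrimeSpectrum S)) =
        comap (algebraMap R₁ S) ⁻¹' (basicOpen b₁ : Set (PrimeSpectrum R₁)) := by
      ext 𝔓
      rfl
    have h2 : comap (algebraMap R S) = comap (algebraMap R R₁) ∘ comap (algebraMap R₁ S) := by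
      ext 𝔓 : 1
      rw [Function.comp_apply, ← comap_comp_apply, ← IsScalarTower.algebraMap_eq]
    rw [h1, h2, Set.image_comp, Set.image_preimage_eq _ hsurj]
  rw [himg]
  exact hopen _ (basicOpen b₁).2

/-- A closed surjective map is open at a point which is alone in its fibre. -/
theorem isOpenAt_of_isClosedMap {α β : Type*} [TopologicalSpace α] [TopologicalSpace β]
    (f : α → β) (hf : IsClosedMap f) (hs : Function.Surjective f) (x : α)
    (hx : ∀ x', f x' = f x → x' = x) : EGA43.IsOpenAt f x := by
  intro U hU
  obtain ⟨O, hOU, hO, hxO⟩ := mem_nhds_iff.1 hU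
  have hcl : IsClosed (f '' Oᶜ) := hf _ hO.isClosed_compl
  refine Filter.mem_of_superset (hcl.isOpen_compl.mem_nhds ?_) ?_
  · rintro ⟨x', hx'O, hx'⟩
    exact hx'O (hx x' hx' ▸ hxO)
  · intro y hy
    obtain ⟨x', rfl⟩ := hs y
    refine ⟨x', hOU ?_, rfl⟩
    by_contra hx'O
    exact hy ⟨x', hx'O, rfl⟩

theorem IsOpenAt.comp {α β γ : Type*} [TopologicalSpace α] [TopologicalSpace β]
    [TopologicalSpace γ] {f : α → β} {g : β → γ} {x : α} (hf : EGA43.IsOpenAt f x)
    (hg : EGA43.IsOpenAt g (f x)) : EGA43.IsOpenAt (g ∘ f) x := by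
  intro U hU
  rw [Set.image_comp]
  exact hg _ (hf _ hU)

theorem isOpenAt_of_isOpenMap {α β : Type*} [TopologicalSpace α] [TopologicalSpace β]
    {f : α → β} (hf : IsOpenMap f) (x : α) : EGA43.IsOpenAt f x :=
  fun U hU => hf.image_mem_nhds hU

/-- If `g ∘ f` is open at `x`, `f` continuous at... (`f` arbitrary): then `g` is open at `f x`
provided `f` is continuous at `x`. -/
theorem IsOpenAt.of_comp {α β γ : Type*} [TopologicalSpace α] [TopologicalSpace β]
    [TopologicalSpace γ] {f : α → β} {g : β → γ} {x : α} (hf : ContinuousAt f x)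
    (hgf : EGA43.IsOpenAt (g ∘ f) x) : EGA43.IsOpenAt g (f x) := by
  intro U hU
  have := hgf _ (hf hU)
  refine Filter.mem_of_superset this ?_
  rintro _ ⟨a, ha, rfl⟩
  exact ⟨f a, ha, rfl⟩

/-- Core: an integral extension of domains `A ⊆ B` is open at a prime `q` of `B` as soon as the
normalization of `A` has a unique prime over `q ∩ A`. -/
theorem isOpenAt_comap_of_unique {A B : Type u} [CommRing A] [IsDomain A] [CommRing B] [IsDomain B]
    [Algebra A B] (hinj : Function.Injective (algebraMap A B)) [Algebra.IsIntegral A B]
    (q : PrimeSpectrum B)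
    (huniq : ∀ 𝔭₁ 𝔭₂ : PrimeSpectrum (integralClosure A (FractionRing A)),
      comap (algebraMap A (integralClosure A (FractionRing A))) 𝔭₁ = comap (algebraMap A B) q →
      comap (algebraMap A (integralClosure A (FractionRing A))) 𝔭₂ = comap (algebraMap A B) q →
      𝔭₁ = 𝔭₂) :
    EGA43.IsOpenAt (comap (algebraMap A B)) q := by
  classical
  let K := FractionRing A
  let A' := integralClosure A K
  let L := FractionRing B
  haveI : IsScalarTower A B L := inferInstance
  have hinjL : Function.Injective (algebraMap A L) := by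
    rw [IsScalarTower.algebraMap_eq A B L]
    exact (IsFractionRing.injective B L).comp hinj
  haveI : FaithfulSMul A L := (faithfulSMul_iff_algebraMap_injective A L).2 hinjL
  letI : Algebra K L := FractionRing.liftAlgebra A L
  haveI : IsScalarTower A K L := FractionRing.isScalarTower_liftAlgebra A L
  let B' := integralClosure A L
  let ιB : B →ₐ[A] B' := (IsScalarTower.toAlgHom A B L).codRestrict B'
    (fun b => (Algebra.IsIntegral.isIntegral b).map _)
  let ιA' : A' →ₐ[A] B' := ((IsScalarTower.toAlgHom A K L).comp A'.val).codRestrict B'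
    (fun a => IsIntegral.map (IsScalarTower.toAlgHom A K L) a.2)
  have hιB_inj : Function.Injective ιB := by
    intro x y hxy
    apply IsFractionRing.injective B L
    exact congrArg Subtype.val hxy
  have hιA'_inj : Function.Injective ιA' := by
    intro x y hxy
    have h1 : algebraMap K L (x : K) = algebraMap K L (y : K) := congrArg Subtype.val hxy
    exact Subtype.ext ((algebraMap K L).injective h1)
  have hAB' : (algebraMap A B').IsIntegral := algebraMap_isIntegral_iff.2 inferInstance
  have hιB_int : (ιB : B →+* B').IsIntegral := by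
    apply RingHom.IsIntegral.tower_top (algebraMap A B) (ιB : B →+* B')
    have h : (ιB : B →+* B').comp (algebraMap A B) = algebraMap A B' := ιB.comp_algebraMap
    rw [h]
    exact hAB'
  have hιA'_int : (ιA' : A' →+* B').IsIntegral := by
    apply RingHom.IsIntegral.tower_top (algebraMap A A') (ιA' : A' →+* B')
    have h : (ιA' : A' →+* B').comp (algebraMap A A') = algebraMap A B' := ιA'.comp_algebraMap
    rw [h]
    exact hAB'
  -- a prime of `B'` over `q`
  obtain ⟨𝔮', h𝔮'⟩ := hιB_int.comap_surjective hιB_inj q
  -- openness of `Spec B' → Spec A'`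
  haveI : IsIntegrallyClosed A' := integralClosure.isIntegrallyClosedOfFiniteExtension K (L := K)
  have hopen : IsOpenMap (comap (ιA' : A' →+* B')) := by
    letI : Algebra A' B' := (ιA' : A' →+* B').toAlgebra
    haveI : FaithfulSMul A' B' := (faithfulSMul_iff_algebraMap_injective A' B').2 hιA'_inj
    haveI : Algebra.IsIntegral A' B' := ⟨hιA'_int⟩
    exact isOpenMap_comap_of_isIntegrallyClosed (R := A') (S := B')
  -- openness at the unique point
  have hA'int : (algebraMap A A').IsIntegral := algebraMap_isIntegral_iff.2 inferInstance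
  have hA'inj : Function.Injective (algebraMap A A') := FaithfulSMul.algebraMap_injective A A'
  have hcompA : comap (algebraMap A A') (comap (ιA' : A' →+* B') 𝔮') = comap (algebraMap A B) q := by
    rw [← h𝔮', ← comap_comp_apply, ← comap_comp_apply]
    congr 1
    rw [AlgHom.comp_algebraMap, AlgHom.comp_algebraMap]
  have hO2 : EGA43.IsOpenAt (comap (algebraMap A A')) (comap (ιA' : A' →+* B') 𝔮') := by
    apply isOpenAt_of_isClosedMap _ (isClosedMap_comap_of_isIntegral _ hA'int)
      (hA'int.comap_surjective hA'inj)
    intro x' hx'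
    exact huniq _ _ (hx'.trans hcompA) hcompA
  have hcomp : EGA43.IsOpenAt (comap (algebraMap A A') ∘ comap (ιA' : A' →+* B')) 𝔮' :=
    IsOpenAt.comp (isOpenAt_of_isOpenMap hopen 𝔮') hO2
  have heq : comap (algebraMap A A') ∘ comap (ιA' : A' →+* B') =
      comap (algebraMap A B) ∘ comap (ιB : B →+* B') := by
    ext x : 1
    simp only [Function.comp_apply, ← comap_comp_apply]
    congr 1
    rw [AlgHom.comp_algebraMap, AlgHom.comp_algebraMap]
  rw [heq] at hcomp
  have := IsOpenAt.of_comp (continuous_comap (ιB : B →+* B')).continuousAt hcomp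
  rwa [h𝔮'] at this

end Groth.Agent.H69.OpenAt
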