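import Mathlib

set_option autoImplicit false

namespace Groth.Agent.H69

open MulAction

open Classical in
/-- For a `q`-group acting on a finite type, the sum of an invariant function with values in a
group killed by `q` equals the sum over the fixed points. -/
theorem sum_eq_sum_fixedPoints_of_isPGroup {G α M : Type*} [Group G] [MulAction G α] [Fintype α]
    [AddCommGroup M] (q : ℕ) [Fact q.Prime] (hG : IsPGroup q G) (hM : ∀ m : M, q • m = 0)
    (F : α → M) (hF : ∀ (g : G) (a : α), F (g • a) = F a) :
    ∑ a, F a = ∑ a ∈ Finset.univ.filter (fun a => a ∈ fixedPoints G α), F a := by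
  classical
  rw [← Finset.sum_filter_add_sum_filter_not Finset.univ (fun a => a ∈ fixedPoints G α) F]
  suffices h : ∑ a ∈ Finset.univ.filter (fun a => ¬ a ∈ fixedPoints G α), F a = 0 by
    rw [h, add_zero]
  letI : Fintype (Quotient (orbitRel G α)) := Fintype.ofFinite _
  rw [← Finset.sum_fiberwise _ (fun a => (Quotient.mk'' a : Quotient (orbitRel G α))) F]
  apply Finset.sum_eq_zero
  intro ω _
  induction ω using Quotient.inductionOn' with
  | h a₀ =>
    have hmem : ∀ a, (Quotient.mk'' a : Quotient (orbitRel G α)) = Quotient.mk'' a₀ ↔
        a ∈ orbit G a₀ := by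
      intro a
      rw [Quotient.eq'']
      rfl
    have hconst : ∀ a ∈ (Finset.univ.filter (fun a => ¬ a ∈ fixedPoints G α)).filter
        (fun a => (Quotient.mk'' a : Quotient (orbitRel G α)) = Quotient.mk'' a₀),
        F a = F a₀ := by
      intro a ha
      rw [Finset.mem_filter, hmem] at ha
      obtain ⟨g, rfl⟩ := ha.2
      exact hF g a₀
    rw [Finset.sum_congr rfl hconst, Finset.sum_const]
    by_cases hfix : a₀ ∈ fixedPoints G α
    · have : (Finset.univ.filter (fun a => ¬ a ∈ fixedPoints G α)).filter
        (fun a => (Quotient.mk'' a : Quotient (orbitRel G α)) = Quotient.mk'' a₀) = ∅ := by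
        rw [Finset.eq_empty_iff_forall_notMem]
        intro a ha
        rw [Finset.mem_filter, Finset.mem_filter, hmem] at ha
        obtain ⟨g, rfl⟩ := ha.2
        apply ha.1.2
        show g • a₀ ∈ fixedPoints G α
        rw [show g • a₀ = a₀ from hfix g]
        exact hfix
      rw [this, Finset.card_empty, zero_smul]
    · have hset : (Finset.univ.filter (fun a => ¬ a ∈ fixedPoints G α)).filter
        (fun a => (Quotient.mk'' a : Quotient (orbitRel G α)) = Quotient.mk'' a₀) =
          (orbit G a₀).toFinset := by
        ext a
        rw [Finset.mem_filter, Finset.mem_filter, hmem, Set.mem_toFinset]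
        constructor
        · exact fun h => h.2
        · intro h
          refine ⟨⟨Finset.mem_univ _, ?_⟩, h⟩
          intro hafix
          apply hfix
          obtain ⟨g, rfl⟩ := h
          intro g'
          have h1 := hafix (g * g' * g⁻¹)
          rw [mul_smul, mul_smul, inv_smul_smul] at h1
          exact smul_left_cancel g h1
      rw [hset, Set.toFinset_card]
      obtain ⟨k, hk⟩ := hG.card_orbit a₀
      rw [Nat.card_eq_fintype_card] at hk
      have hk0 : k ≠ 0 := by
        rintro rfl
        apply hfix
        rw [mem_fixedPoints_iff_card_orbit_eq_one]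
        rw [← Nat.card_eq_fintype_card] at hk
        simpa using hk
      rw [hk]
      obtain ⟨j, rfl⟩ := Nat.exists_eq_succ_of_ne_zero hk0
      rw [pow_succ, mul_smul, hM, smul_zero]

end Groth.Agent.H69
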