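import Groth.Agent.H69.AWNRing
import Groth.Agent.S7422
import Groth.Agent.S8992
import Mathlib

set_option autoImplicit false
universe u
open AlgebraicGeometry CategoryTheory

namespace Groth.Agent.H69

theorem pow_prime_pow_inj {L : Type*} [Field L] {p : ℕ} (hp : p.Prime) (hp0 : (p : L) = 0)
    (n : ℕ) {x y : L} (h : x ^ p ^ n = y ^ p ^ n) : x = y := by
  induction n generalizing x y with
  | zero => simpa using h
  | succ n ih =>
    apply ih
    apply prime_pow_inj hp (by rw [hp0, zero_mul, zero_mul])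
    rw [← pow_mul, ← pow_mul, ← pow_succ]; exact h

theorem ringUH_of_isPRadical {A A' : Type u} [CommRing A] [CommRing A'] (p : ℕ) (hp : p.Prime)
    (hpA' : (p : A') = 0) (i : A →+* A') [IsPRadical i p] : RingUH i := by
  have hint : i.IsIntegral := by
    intro w
    letI := i.toAlgebra
    obtain ⟨n, y, hy⟩ := IsPRadical.pow_mem i p w
    have h1 : IsIntegral A (w ^ p ^ n) := by
      rw [← hy]; exact isIntegral_algebraMap
    exact IsIntegral.of_pow (pow_pos hp.pos n) h1
  have hker : ∀ P : Ideal A, P.IsPrime → RingHom.ker i ≤ P := by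
    intro P hP a ha
    obtain ⟨n, hn⟩ := mem_pNilradical.mp (IsPRadical.ker_le i p ha)
    exact hP.mem_of_pow_mem _ (hn ▸ P.zero_mem)
  refine ⟨hint, ⟨?_, ?_⟩, ?_⟩
  · intro Q₁ Q₂ h
    have key : ∀ Q Q' : PrimeSpectrum A', PrimeSpectrum.comap i Q = PrimeSpectrum.comap i Q' →
        Q.asIdeal ≤ Q'.asIdeal := by
      intro Q Q' hQ w hw
      obtain ⟨n, y, hy⟩ := IsPRadical.pow_mem i p w
      have h1 : y ∈ (PrimeSpectrum.comap i Q).asIdeal := by
        show i y ∈ Q.asIdeal
        rw [hy]; exact Ideal.pow_mem_of_mem _ hw _ (pow_pos hp.pos n)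
      rw [hQ] at h1
      have h2 : i y ∈ Q'.asIdeal := h1
      rw [hy] at h2
      exact Q'.2.mem_of_pow_mem _ h2
    exact PrimeSpectrum.ext (le_antisymm (key _ _ h) (key _ _ h.symm))
  · intro P
    obtain ⟨Q, hQ, hQP⟩ := exists_prime_comap_eq_of_isIntegral' i hint P.asIdeal (hker _ P.2)
    exact ⟨⟨Q, hQ⟩, PrimeSpectrum.ext hQP⟩
  · intro L _ f g hfg
    ext w
    obtain ⟨n, y, hy⟩ := IsPRadical.pow_mem i p w
    have hp0 : (p : L) = 0 := by
      have := congrArg f hpA'
      simpa using this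
    apply pow_prime_pow_inj hp hp0 n
    rw [← map_pow, ← map_pow, ← hy]
    exact congrArg (fun k => k y) hfg

/-- Transport finality along a bijective comparison map. -/
theorem isRingAWN_of_bijective_comparison {A V W : Type u} [CommRing A] [CommRing V] [CommRing W]
    (φW : A →+* W) (hW : HTop.IsRingAWN φW) (θ : A →+* V) (hθ : RingUH θ) (χ₀ : V →+* W)
    (hχ₀ : Function.Bijective χ₀) (hcomp : χ₀.comp θ = φW) : HTop.IsRingAWN θ := by
  refine ⟨isUnivHomeo_of_ringUH θ hθ, ?_⟩
  intro C _ ψ hψ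
  obtain ⟨χ, hχ, huniq⟩ := hW.2 C ψ hψ
  let e := RingEquiv.ofBijective χ₀ hχ₀
  refine ⟨e.symm.toRingHom.comp χ, ?_, ?_⟩
  · show (e.symm.toRingHom.comp χ).comp ψ = θ
    rw [RingHom.comp_assoc, hχ, ← hcomp]
    ext a
    exact e.symm_apply_apply (θ a)
  · intro χ' hχ'
    have h1 : χ₀.comp χ' = χ := huniq _ (by
      show (χ₀.comp χ').comp ψ = φW
      rw [RingHom.comp_assoc, hχ', hcomp])
    ext c
    have h2 : χ₀ (χ' c) = χ c := congrArg (fun k => k c) h1
    show χ' c = e.symm (χ c)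
    rw [← h2]
    exact (e.symm_apply_apply (χ' c)).symm

/-- A universal homeomorphism between absolutely weakly normal rings is bijective. -/
theorem bijective_of_ringUH_of_isAWNRing {A' B' : Type u} [CommRing A'] [CommRing B']
    (φ' : A' →+* B') (hφ' : RingUH φ') (hA : HTop.IsAWNRing A') (hB : HTop.IsAWNRing B') :
    Function.Bijective φ' := by
  obtain ⟨W, _, φW, hW⟩ := Groth.Agent.S7422.result A'
  have h1 : Function.Bijective φW := bijective_of_isAWNRing φW hW (RingHom.id A')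
    ⟨fun x => ⟨Polynomial.X - Polynomial.C x, Polynomial.monic_X_sub_C x, by simp⟩,
      ⟨fun _ _ h => h, fun P => ⟨P, rfl⟩⟩, fun _ _ f g h => h⟩ φW (RingHom.comp_id φW) hA
  obtain ⟨χ, hχ, -⟩ := hW.2 B' φ' (isUnivHomeo_of_ringUH φ' hφ')
  have h2 : Function.Bijective χ := bijective_of_isAWNRing φW hW φ' hφ' χ hχ hB
  have h3 : Function.Bijective (χ ∘ φ') := by
    have : (χ ∘ φ') = φW := by rw [← hχ]; rfl
    rw [this]; exact h1
  exact (Function.Bijective.of_comp_iff' h2 _).mp h3

end Groth.Agent.H69
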