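import Groth.Agent.H69.PerfUH
import Mathlib

set_option autoImplicit false
universe u
open AlgebraicGeometry CategoryTheory Limits

namespace Groth.Agent.H69

theorem isAWN_of_isOpenImmersion {V X : Scheme.{u}} (f : V ⟶ X) [IsOpenImmersion f]
    (hX : HTop.IsAWN X) : HTop.IsAWN V := by
  intro x
  obtain ⟨W, hxW, -⟩ := exists_affineOpen_mem_le (⊤ : V.Opens) x (TopologicalSpace.Opens.mem_top _)
  refine ⟨W, hxW, ?_⟩
  have hW' : IsAffineOpen (f ''ᵁ (W : V.Opens)) := W.2.image_of_isOpenImmersion f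
  have h1 : HTop.IsAWNRing Γ(X, f ''ᵁ (W : V.Opens)) :=
    ((Groth.Agent.S7420.result X).2.mp hX) ⟨_, hW'⟩
  exact Groth.Agent.S7420.awn_equiv _ _ (f.appIso (W : V.Opens)).commRingCatIsoToRingEquiv h1

theorem isPerfect_of_isAWN (p : ℕ) [Fact p.Prime] (Z : Scheme.{u}) [FrobSch.IsCharP Z p]
    (h : HTop.IsAWN Z) : FrobSch.IsPerfect Z p :=
  isIso_of_isUnivHomeo_of_isAWN (FrobSch.frob Z p) (isUnivHomeo_frob Z p) h h

theorem isPerfect_of_isOpenImmersion (p : ℕ) [Fact p.Prime] {V Z : Scheme.{u}} (j : V ⟶ Z)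
    [IsOpenImmersion j] [FrobSch.IsCharP Z p] [FrobSch.IsCharP V p]
    (hZ : FrobSch.IsPerfect Z p) : FrobSch.IsPerfect V p :=
  isPerfect_of_isAWN p V (isAWN_of_isOpenImmersion j (isAWN_of_isPerfect p Z hZ))

theorem bijective_pow_of_isPerfect (p : ℕ) [Fact p.Prime] (Z : Scheme.{u}) [FrobSch.IsCharP Z p]
    (hZ : FrobSch.IsPerfect Z p) (U : Z.Opens) :
    Function.Bijective (fun s : Γ(Z, U) => s ^ p) := by
  haveI : IsIso (FrobSch.frob Z p) := hZ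
  have h1 : IsIso ((FrobSch.frob Z p).app U) := inferInstance
  exact (ConcreteCategory.isIso_iff_bijective _).mp h1

theorem surj_comp_of_isIso {R S T : CommRingCat.{u}} (a : R ⟶ S) (b : S ⟶ T) [IsIso b]
    (ha : Function.Surjective a) : Function.Surjective (a ≫ b) := by
  intro s
  obtain ⟨t, ht⟩ := ((ConcreteCategory.isIso_iff_bijective b).mp inferInstance).2 s
  obtain ⟨r, hr⟩ := ha t
  exact ⟨r, by rw [CommRingCat.comp_apply, hr, ht]⟩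

section

variable (p : ℕ) [Fact p.Prime] {X Y XP YP : Scheme.{u}}
  [FrobSch.IsCharP X p] [FrobSch.IsCharP Y p] [FrobSch.IsCharP XP p] [FrobSch.IsCharP YP p]
  (πX : XP ⟶ X) (πY : YP ⟶ Y) (hX : FrobSch.IsPerfection πX p) (hY : FrobSch.IsPerfection πY p)
  (f : X ⟶ Y) (fP : XP ⟶ YP) (w : fP ≫ πY = πX ≫ f)

include hX hY w in
theorem isOpenImmersion_perfection [IsOpenImmersion f] : IsOpenImmersion fP := by
  haveI : FrobSch.IsCharP (πY ⁻¹ᵁ f.opensRange).toScheme p :=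
    FrobSch.IsCharP.of_hom (πY ⁻¹ᵁ f.opensRange).ι p
  have hU'perf : FrobSch.IsPerfect (πY ⁻¹ᵁ f.opensRange).toScheme p :=
    isPerfect_of_isOpenImmersion p (πY ⁻¹ᵁ f.opensRange).ι hY.1
  have hk : Set.range ⇑((πY ⁻¹ᵁ f.opensRange).ι ≫ πY) ⊆ Set.range ⇑f := by
    rintro _ ⟨z, rfl⟩
    have h1 : πY ((πY ⁻¹ᵁ f.opensRange).ι z) ∈ f.opensRange := z.2
    exact h1
  have hkf : IsOpenImmersion.lift f ((πY ⁻¹ᵁ f.opensRange).ι ≫ πY) hk ≫ f =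
      (πY ⁻¹ᵁ f.opensRange).ι ≫ πY := IsOpenImmersion.lift_fac _ _ _
  obtain ⟨a, ha⟩ := (hX.2 (πY ⁻¹ᵁ f.opensRange).toScheme hU'perf).2
    (IsOpenImmersion.lift f ((πY ⁻¹ᵁ f.opensRange).ι ≫ πY) hk)
  have ha' : a ≫ πX = IsOpenImmersion.lift f ((πY ⁻¹ᵁ f.opensRange).ι ≫ πY) hk := ha
  have hb : Set.range ⇑fP ⊆ Set.range ⇑(πY ⁻¹ᵁ f.opensRange).ι := by
    rintro _ ⟨x, rfl⟩
    rw [Scheme.Opens.range_ι]
    show πY (fP x) ∈ f.opensRange
    have h1 : πY (fP x) = f (πX x) := by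
      rw [← Scheme.Hom.comp_apply, w, Scheme.Hom.comp_apply]
    rw [h1]
    exact ⟨_, rfl⟩
  have hbι : IsOpenImmersion.lift (πY ⁻¹ᵁ f.opensRange).ι fP hb ≫ (πY ⁻¹ᵁ f.opensRange).ι = fP :=
    IsOpenImmersion.lift_fac _ _ _
  have e1 : a ≫ fP = (πY ⁻¹ᵁ f.opensRange).ι :=
    (hY.2 (πY ⁻¹ᵁ f.opensRange).toScheme hU'perf).1 (by
      show (a ≫ fP) ≫ πY = (πY ⁻¹ᵁ f.opensRange).ι ≫ πY
      rw [Category.assoc, w, ← Category.assoc, ha', hkf])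
  have hab : a ≫ IsOpenImmersion.lift (πY ⁻¹ᵁ f.opensRange).ι fP hb = 𝟙 _ := by
    rw [← cancel_mono (πY ⁻¹ᵁ f.opensRange).ι, Category.assoc, hbι, e1, Category.id_comp]
  have e2 : IsOpenImmersion.lift (πY ⁻¹ᵁ f.opensRange).ι fP hb ≫
      IsOpenImmersion.lift f ((πY ⁻¹ᵁ f.opensRange).ι ≫ πY) hk = πX := by
    rw [← cancel_mono f, Category.assoc, hkf, ← Category.assoc, hbι, w]
  have hba : IsOpenImmersion.lift (πY ⁻¹ᵁ f.opensRange).ι fP hb ≫ a = 𝟙 _ :=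
    (hX.2 XP hX.1).1 (by
      show (IsOpenImmersion.lift (πY ⁻¹ᵁ f.opensRange).ι fP hb ≫ a) ≫ πX = 𝟙 XP ≫ πX
      rw [Category.assoc, ha', e2, Category.id_comp])
  haveI : IsIso (IsOpenImmersion.lift (πY ⁻¹ᵁ f.opensRange).ι fP hb) := ⟨⟨a, hba, hab⟩⟩
  rw [← hbι]
  infer_instance

include hX hY w in
theorem app_surjective_perfection [IsClosedImmersion f] (V : Y.Opens) (hV : IsAffineOpen V) :
    Function.Surjective (fP.app (πY ⁻¹ᵁ V)) := by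
  have hp : p.Prime := Fact.out
  have hX' : FlatMor.IsUnivHomeo πX := isUnivHomeo_of_isPerfection p πX hX
  have hS1 : ∀ a'' : Γ(XP, (πX ≫ f) ⁻¹ᵁ V), ∃ (n : ℕ) (b : Γ(Y, V)),
      (πX ≫ f).app V b = a'' ^ (p ^ n) := by
    intro a''
    have hW : IsAffineOpen (f ⁻¹ᵁ V) := hV.preimage f
    have hφ : RingUH (πX.app (f ⁻¹ᵁ V)).hom := by
      have h1 := isUnivHomeo_SpecMap_appLE πX hX' (f ⁻¹ᵁ V) hW
      rw [← Scheme.Hom.app_eq_appLE] at h1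
      exact ringUH_of_isUnivHomeo _ h1
    have hp0 : (p : Γ(X, f ⁻¹ᵁ V)) = 0 := FrobSch.natCast_eq_zero_app X p _
    have hsurj : Function.Surjective
        (Localization.awayMap (πX.app (f ⁻¹ᵁ V)).hom (p : Γ(X, f ⁻¹ᵁ V))) := by
      haveI : Subsingleton (Localization.Away ((πX.app (f ⁻¹ᵁ V)).hom (p : Γ(X, f ⁻¹ᵁ V)))) := by
        apply IsLocalization.subsingleton
          (M := Submonoid.powers ((πX.app (f ⁻¹ᵁ V)).hom (p : Γ(X, f ⁻¹ᵁ V))))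
        rw [hp0, map_zero]
        exact ⟨1, by simp⟩
      exact Function.surjective_to_subsingleton _
    obtain ⟨n, -, a, ha⟩ := ppow_of_isUnivHomeo (πX.app (f ⁻¹ᵁ V)).hom p hp hsurj hφ a''
    obtain ⟨b, hb⟩ := f.app_surjective V hV a
    refine ⟨n, b, ?_⟩
    show (πX.app (f ⁻¹ᵁ V)).hom ((f.app V).hom b) = a'' ^ (p ^ n)
    have hb' : (f.app V).hom b = a := hb
    rw [hb']
    exact ha
  have hS2 : ∀ a' : Γ(XP, (fP ≫ πY) ⁻¹ᵁ V), ∃ (n : ℕ) (b : Γ(Y, V)),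
      (fP ≫ πY).app V b = a' ^ (p ^ n) := w.symm ▸ hS1
  intro a'
  obtain ⟨n, b, hb⟩ := hS2 a'
  have hb' : (fP.app (πY ⁻¹ᵁ V)).hom ((πY.app V).hom b) = a' ^ (p ^ n) := hb
  obtain ⟨b₁, hb₁⟩ := pow_prime_pow_surjective p
    (bijective_pow_of_isPerfect p YP hY.1 (πY ⁻¹ᵁ V)).2 n ((πY.app V).hom b)
  have hb₁' : b₁ ^ (p ^ n) = (πY.app V).hom b := hb₁
  refine ⟨b₁, ?_⟩
  apply pow_prime_pow_injective p (bijective_pow_of_isPerfect p XP hX.1 (fP ⁻¹ᵁ (πY ⁻¹ᵁ V))).1 n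
  show ((fP.app (πY ⁻¹ᵁ V)).hom b₁) ^ (p ^ n) = a' ^ (p ^ n)
  rw [← map_pow, hb₁', hb']

include hX hY w in
theorem isClosedImmersion_perfection [IsClosedImmersion f] : IsClosedImmersion fP := by
  have hX' : FlatMor.IsUnivHomeo πX := isUnivHomeo_of_isPerfection p πX hX
  have hY' : FlatMor.IsUnivHomeo πY := isUnivHomeo_of_isPerfection p πY hY
  haveI : IsIntegralHom πX := isIntegralHom_of_isUnivHomeo πX hX'
  haveI : IsIntegralHom πY := isIntegralHom_of_isUnivHomeo πY hY'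
  haveI : IsAffineHom (fP ≫ πY) := by rw [w]; infer_instance
  haveI : IsAffineHom fP := IsAffineHom.of_comp fP πY
  have hcov : ⨆ V : Y.affineOpens,
      ((⟨πY ⁻¹ᵁ V.1, V.2.preimage πY⟩ : YP.affineOpens) : YP.Opens) = ⊤ := by
    show ⨆ V : Y.affineOpens, πY ⁻¹ᵁ V.1 = ⊤
    rw [← Scheme.Hom.preimage_iSup, iSup_affineOpens_eq_top, Scheme.Hom.preimage_top]
  rw [HasAffineProperty.iff_of_iSup_eq_top (P := @IsClosedImmersion)
    (fun V : Y.affineOpens => (⟨πY ⁻¹ᵁ V.1, V.2.preimage πY⟩ : YP.affineOpens)) hcov]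
  intro V
  refine ⟨(V.2.preimage πY).preimage fP, ?_⟩
  have key : ∀ O : YP.Opens, O = πY ⁻¹ᵁ V.1 → Function.Surjective (fP.app O) := by
    rintro _ rfl
    exact app_surjective_perfection p πX πY hX hY f fP w V.1 V.2
  rw [morphismRestrict_appTop]
  have h2 := key _ (Scheme.Opens.ι_image_top (πY ⁻¹ᵁ V.1))
  have hiso : ∀ {O O' : XP.Opens} (h : O = O'), IsIso (XP.presheaf.map (eqToHom h).op) :=
    fun h => inferInstance
  exact @surj_comp_of_isIso _ _ _ _ _ (hiso _) h2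

end

end Groth.Agent.H69
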