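import Groth.Agent.H69.PerfFlat
import Groth.Agent.H69.CharPAffine
import Groth.Agent.H69.PerfMor
import Mathlib

set_option autoImplicit false
universe u
open AlgebraicGeometry CategoryTheory Opposite TopologicalSpace

namespace Groth.Agent.H69

theorem exists_ppow_app {X Y : Scheme.{u}} (π : Y ⟶ X) (hπ : FlatMor.IsUnivHomeo π) (p : ℕ)
    (hp : p.Prime) (U : X.Opens) (hU : IsAffineOpen U) (hp0 : (p : Γ(X, U)) = 0)
    (b : Γ(Y, π ⁻¹ᵁ U)) : ∃ n a, (π.app U).hom a = b ^ p ^ n := by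
  have hφU : RingUH (π.appLE U (π ⁻¹ᵁ U) le_rfl).hom :=
    ringUH_of_isUnivHomeo _ (isUnivHomeo_SpecMap_appLE π hπ U hU)
  have hpY : (p : Γ(Y, π ⁻¹ᵁ U)) = 0 := by
    have := congrArg (π.app U).hom hp0
    rwa [map_natCast, map_zero] at this
  have hs : Function.Surjective (Localization.awayMap
      (π.appLE U (π ⁻¹ᵁ U) le_rfl).hom (p : Γ(X, U))) := by
    rw [Localization.awayMap_surjective_iff]
    intro b
    refine ⟨0, 1, ?_⟩
    rw [map_zero, map_natCast, hpY, pow_one, zero_mul]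
  obtain ⟨n, -, r, hr⟩ := ppow_of_isUnivHomeo _ p hp hs hφU b
  refine ⟨n, r, ?_⟩
  rw [Scheme.Hom.app_eq_appLE]
  exact hr

theorem ker_app_nil {X Y : Scheme.{u}} (π : Y ⟶ X) (hπ : FlatMor.IsUnivHomeo π)
    (U : X.Opens) (hU : IsAffineOpen U) (a : Γ(X, U)) (ha : a ∈ RingHom.ker (π.app U).hom) :
    IsNilpotent a := by
  have hφU : RingUH (π.appLE U (π ⁻¹ᵁ U) le_rfl).hom :=
    ringUH_of_isUnivHomeo _ (isUnivHomeo_SpecMap_appLE π hπ U hU)
  apply RingUH.ker_nil _ hφU a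
  rw [← Scheme.Hom.app_eq_appLE]
  exact ha

theorem appLE_congr_hom {X Y : Scheme.{u}} {g g' : X ⟶ Y} (h : g = g') (U : Y.Opens)
    (V : X.Opens) (e : V ≤ g ⁻¹ᵁ U) (e' : V ≤ g' ⁻¹ᵁ U) : g.appLE U V e = g'.appLE U V e' := by
  subst h
  rfl

/-- The perfection of a flat morphism is flat. -/
theorem flat_perfection (p : ℕ) [Fact p.Prime] {X Y XP YP : Scheme.{u}}
    [FrobSch.IsCharP X p] [FrobSch.IsCharP Y p] [FrobSch.IsCharP XP p] [FrobSch.IsCharP YP p]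
    (πX : XP ⟶ X) (πY : YP ⟶ Y) (hX : FrobSch.IsPerfection πX p) (hY : FrobSch.IsPerfection πY p)
    (f : X ⟶ Y) (fP : XP ⟶ YP) (w : fP ≫ πY = πX ≫ f) [Flat f] : Flat fP := by
  have hp : p.Prime := Fact.out
  have hUX : FlatMor.IsUnivHomeo πX := isUnivHomeo_of_isPerfection p πX hX
  have hUY : FlatMor.IsUnivHomeo πY := isUnivHomeo_of_isPerfection p πY hY
  rw [HasRingHomProperty.iff_exists_appLE (P := @Flat)
    (RingHom.Flat.stableUnderComposition.stableUnderCompositionWithLocalizationAway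
      RingHom.Flat.holdsForLocalizationAway).1]
  intro x'
  obtain ⟨U, hU, hxU, -⟩ := Y.isBasis_affineOpens.exists_subset_of_mem_open
    (Set.mem_univ (f (πX x'))) isOpen_univ
  obtain ⟨U, hUaff, rfl⟩ := hU
  obtain ⟨V, hV, hxV, hVU⟩ := X.isBasis_affineOpens.exists_subset_of_mem_open
    (show πX x' ∈ ((f ⁻¹ᵁ U : X.Opens) : Set X) from hxU) (f ⁻¹ᵁ U).isOpen
  obtain ⟨V, hVaff, rfl⟩ := hV
  have hU' : IsAffineOpen (πY ⁻¹ᵁ U) := isAffine_preimage_of_isUnivHomeo πY hUY U hUaff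
  have hV' : IsAffineOpen (πX ⁻¹ᵁ V) := isAffine_preimage_of_isUnivHomeo πX hUX V hVaff
  have e' : πX ⁻¹ᵁ V ≤ fP ⁻¹ᵁ (πY ⁻¹ᵁ U) := by
    intro y hy
    show πY (fP y) ∈ U
    have h1 : πY (fP y) = f (πX y) := by
      rw [← Scheme.Hom.comp_apply, w, Scheme.Hom.comp_apply]
    rw [h1]
    exact hVU hy
  refine ⟨⟨πY ⁻¹ᵁ U, hU'⟩, ⟨πX ⁻¹ᵁ V, hV'⟩, hxV, e', ?_⟩
  have hflat : (f.appLE U V hVU).hom.Flat :=
    HasRingHomProperty.appLE (P := @Flat) f inferInstance ⟨U, hUaff⟩ ⟨V, hVaff⟩ hVU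
  have hcomm : (fP.appLE (πY ⁻¹ᵁ U) (πX ⁻¹ᵁ V) e').hom.comp (πY.app U).hom =
      (πX.app V).hom.comp (f.appLE U V hVU).hom := by
    have h1 : πY.app U ≫ fP.appLE (πY ⁻¹ᵁ U) (πX ⁻¹ᵁ V) e' =
        f.appLE U V hVU ≫ πX.app V := by
      rw [← Scheme.Hom.comp_appLE, πX.app_eq_appLE, Scheme.Hom.appLE_comp_appLE]
      exact appLE_congr_hom w _ _ _ _
    exact congrArg CommRingCat.Hom.hom h1
  exact flat_of_perfection p hp (f.appLE U V hVU).hom hflat (πY.app U).hom (πX.app V).hom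
    (fP.appLE (πY ⁻¹ᵁ U) (πX ⁻¹ᵁ V) e').hom hcomm (FrobSch.natCast_eq_zero_app Y p U)
    (bijective_pow_of_isPerfect p YP hY.1 _) (bijective_pow_of_isPerfect p XP hX.1 _)
    (fun a' => exists_ppow_app πY hUY p hp U hUaff (FrobSch.natCast_eq_zero_app Y p U) a')
    (fun b' => exists_ppow_app πX hUX p hp V hVaff (FrobSch.natCast_eq_zero_app X p V) b')
    (fun b hb => ker_app_nil πX hUX V hVaff b hb)

end Groth.Agent.H69
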