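import Mathlib
import Groth.Agent.H77.PerfDescR3
import Groth.Agent.H69.PerfFlatSch

set_option autoImplicit false
set_option linter.style.haveILetI false
universe u
open AlgebraicGeometry CategoryTheory CategoryTheory.Limits

namespace Groth.Agent.H69.PerfDescLocal

open Groth.Agent.H77.PerfDescR3 in
/-- Local descent of finite étale covers along a flat universal homeomorphism onto an affine
scheme of characteristic `p`. -/
theorem exists_local_descent (hR2 : R2Statement.{u}) (p : ℕ) [Fact p.Prime] {U V Z : Scheme.{u}}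
    [IsAffine U] (a : V ⟶ U) (z : Z ⟶ V) (hp0 : (p : Γ(U, ⊤)) = 0) [IsIntegralHom a]
    [UniversallyInjective a] [Surjective a] [Flat a] [IsFinite z] [Etale z] :
    ∃ (W : Scheme.{u}) (w : W ⟶ U) (q : Z ⟶ W), IsPullback q z w a ∧ IsFinite w ∧ Etale w := by
  have hp : p.Prime := Fact.out
  haveI : IsAffine V := isAffine_of_isAffineHom a
  haveI : IsAffine Z := isAffine_of_isAffineHom z
  have haUH : FlatMor.IsUnivHomeo a := isUnivHomeo_of_integral a
  -- faithfully flat
  have hflat : a.appTop.hom.Flat := (HasRingHomProperty.iff_of_isAffine (P := @Flat)).mp inferInstance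
  have hsurj : Surjective (Spec.map a.appTop) :=
    (MorphismProperty.arrow_mk_iso_iff @Surjective (arrowIsoSpecΓOfIsAffine a)).mp inferInstance
  have hff : a.appTop.hom.FaithfullyFlat := by
    rw [RingHom.FaithfullyFlat.iff_flat_and_comap_surjective]
    exact ⟨hflat, (Spec.map a.appTop).surjective⟩
  have hφ : ∀ x : Γ(V, ⊤), ∃ (n : ℕ) (b : Γ(U, ⊤)), a.appTop.hom b = x ^ p ^ n := fun x =>
    exists_ppow_app a haUH p hp ⊤ (isAffineOpen_top U) hp0 x
  have hχ : z.appTop.hom.Etale := (HasRingHomProperty.iff_of_isAffine (P := @Etale)).mp inferInstance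
  have hfin : z.appTop.hom.Finite := z.finite_appTop
  obtain ⟨D, δ, γ, hpo, hδe, hδf⟩ := exists_descent_ring_of hR2 p a.appTop z.appTop hp0 hff hφ hχ hfin
  have hpb : IsPullback (Spec.map γ) (Spec.map z.appTop) (Spec.map δ) (Spec.map a.appTop) :=
    (isPullback_SpecMap_of_isPushout _ _ _ _ hpo).flip
  refine ⟨Spec D, Spec.map δ ≫ U.isoSpec.inv, Z.isoSpec.hom ≫ Spec.map γ, ?_, ?_, ?_⟩
  · refine hpb.of_iso Z.isoSpec.symm (Iso.refl _) V.isoSpec.symm U.isoSpec.symm ?_ ?_ ?_ ?_
    · simp
    · simp only [Iso.symm_hom]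
      rw [Scheme.isoSpec_inv_naturality]
    · simp
    · simp only [Iso.symm_hom]
      rw [Scheme.isoSpec_inv_naturality]
  · haveI : IsFinite (Spec.map δ) := (IsFinite.SpecMap_iff δ).mpr hδf
    infer_instance
  · haveI : Etale (Spec.map δ) := (HasRingHomProperty.Spec_iff (P := @Etale)).mpr hδe
    infer_instance

end Groth.Agent.H69.PerfDescLocal
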