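import Groth.Agent.S3176
import Groth.Agent.H69.PerfMor
import Groth.Agent.H69.PerfUH
import Mathlib

set_option autoImplicit false
universe u
open AlgebraicGeometry CategoryTheory TensorProduct

namespace Groth.Agent.H69

/-- An étale algebra over a perfect ring of characteristic `p` is perfect. -/
theorem bijective_pow_of_etale (p : ℕ) [Fact p.Prime] {A B : Type u} [CommRing A] [CommRing B]
    (φ : A →+* B) (hφ : φ.Etale) (hA0 : (p : A) = 0)
    (hA : Function.Bijective (fun a : A => a ^ p)) : Function.Bijective (fun b : B => b ^ p) := by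
  have hp : p.Prime := Fact.out
  rcases subsingleton_or_nontrivial B with hB | hB
  · exact ⟨fun _ _ _ => Subsingleton.elim _ _, fun b => ⟨b, Subsingleton.elim _ _⟩⟩
  haveI : Nontrivial A := φ.domain_nontrivial
  letI : Algebra A B := φ.toAlgebra
  haveI : Algebra.Etale A B := hφ
  haveI : CharP A p := (CharP.charP_iff_prime_eq_zero hp).2 hA0
  have hB0 : (p : B) = 0 := by
    have := congrArg φ hA0
    rwa [map_natCast, map_zero] at this
  haveI : CharP B p := (CharP.charP_iff_prime_eq_zero hp).2 hB0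
  have hrel : Function.Bijective (FrobAlg.relFrob p A B) :=
    (Groth.Agent.S3176.result p A B).mp inferInstance
  -- the structure map A → Twist is bijective
  have htw : Function.Bijective (algebraMap A (FrobAlg.Twist p A)) := by
    have : (algebraMap A (FrobAlg.Twist p A) : A → FrobAlg.Twist p A) =
        (FrobAlg.toTwist p A) ∘ (fun a : A => a ^ p) := by
      funext a
      rfl
    rw [this]
    exact (FrobAlg.toTwist p A).bijective.comp hA
  let e : A ≃ₐ[A] FrobAlg.Twist p A :=
    AlgEquiv.ofBijective (Algebra.ofId A (FrobAlg.Twist p A)) htw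
  let E : B ⊗[A] FrobAlg.Twist p A ≃ₐ[A] B :=
    (Algebra.TensorProduct.congr AlgEquiv.refl e.symm).trans (Algebra.TensorProduct.rid A A B)
  have hE : ∀ b : B, E (b ⊗ₜ[A] (1 : FrobAlg.Twist p A)) = b := by
    intro b
    simp [E]
  have hincl : Function.Bijective (fun b : B => (b ⊗ₜ[A] (1 : FrobAlg.Twist p A) :
      B ⊗[A] FrobAlg.Twist p A)) := by
    have : (fun b : B => (b ⊗ₜ[A] (1 : FrobAlg.Twist p A) : B ⊗[A] FrobAlg.Twist p A)) =
        E.symm := by
      funext b
      rw [← hE b, AlgEquiv.symm_apply_apply, hE]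
    rw [this]
    exact E.symm.bijective
  have hfac : (fun b : B => b ^ p) = (FrobAlg.relFrob p A B) ∘
      (fun b : B => (b ⊗ₜ[A] (1 : FrobAlg.Twist p A) : B ⊗[A] FrobAlg.Twist p A)) := by
    funext b
    simp [FrobAlg.relFrob, FrobAlg.frobHom, FrobAlg.inclHom, FrobAlg.toTarget, frobenius_def]
    try rfl
  rw [hfac]
  exact hrel.comp hincl

/-- A scheme étale over a perfect scheme of characteristic `p` is perfect. -/
theorem isPerfect_of_etale (p : ℕ) [Fact p.Prime] {P Z : Scheme.{u}} (h : P ⟶ Z) [Etale h]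
    [FrobSch.IsCharP Z p] [FrobSch.IsCharP P p] (hZ : FrobSch.IsPerfect Z p) :
    FrobSch.IsPerfect P p := by
  have hp : p.Prime := Fact.out
  apply isPerfect_of_isAWN
  intro x
  obtain ⟨U, hU, hxU, -⟩ := Z.isBasis_affineOpens.exists_subset_of_mem_open
    (Set.mem_univ (h x)) isOpen_univ
  obtain ⟨U, hUaff, rfl⟩ := hU
  obtain ⟨V, hV, hxV, hVU⟩ := P.isBasis_affineOpens.exists_subset_of_mem_open
    (show x ∈ ((h ⁻¹ᵁ U : P.Opens) : Set P) from hxU) (h ⁻¹ᵁ U).isOpen
  obtain ⟨V, hVaff, rfl⟩ := hV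
  refine ⟨⟨V, hVaff⟩, hxV, ?_⟩
  have hE : (h.appLE U V hVU).hom.Etale :=
    HasRingHomProperty.appLE (P := @Etale) h inferInstance ⟨U, hUaff⟩ ⟨V, hVaff⟩ hVU
  have hbij := bijective_pow_of_etale p (h.appLE U V hVU).hom hE
    (FrobSch.natCast_eq_zero_app Z p U) (bijective_pow_of_isPerfect p Z hZ U)
  exact isAWNRing_of_perfect p hp (FrobSch.natCast_eq_zero_app P p V) hbij

end Groth.Agent.H69
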