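import Mathlib

set_option autoImplicit false
universe u

namespace Groth.Agent.H69

section
variable {A A' : Type u} [CommRing A] [CommRing A'] (p : ℕ) (α : A →+* A')

theorem exists_uniform_ppow (hα : ∀ a' : A', ∃ n a, α a = a' ^ p ^ n) {l : ℕ} (f : Fin l → A')
    (n0 : ℕ) : ∃ n, n0 ≤ n ∧ ∃ g : Fin l → A, ∀ i, α (g i) = f i ^ p ^ n := by
  choose n a ha using hα
  refine ⟨n0 + Finset.univ.sup (fun i => n (f i)), Nat.le_add_right _ _,
    fun i => a (f i) ^ p ^ (n0 + Finset.univ.sup (fun i => n (f i)) - n (f i)), fun i => ?_⟩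
  have hle : n (f i) ≤ n0 + Finset.univ.sup (fun i => n (f i)) :=
    (Finset.le_sup (f := fun i => n (f i)) (Finset.mem_univ i)).trans (Nat.le_add_left _ _)
  rw [map_pow, ha, ← pow_mul, ← pow_add, Nat.add_sub_cancel' hle]

theorem ppow_of_le (a : A) (a' : A') (n m : ℕ) (h : α a = a' ^ p ^ n) (hnm : n ≤ m) :
    α (a ^ p ^ (m - n)) = a' ^ p ^ m := by
  rw [map_pow, h, ← pow_mul, ← pow_add, Nat.add_sub_cancel' hnm]

end

/-- Flatness passes to perfections (elementwise proof via the equational criterion). -/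
theorem flat_of_perfection {A B A' B' : Type u} [CommRing A] [CommRing B] [CommRing A']
    [CommRing B'] (p : ℕ) (hp : p.Prime) (φ : A →+* B) (hφ : φ.Flat) (α : A →+* A')
    (β : B →+* B') (φ' : A' →+* B') (hcomm : φ'.comp α = β.comp φ) (hA0 : (p : A) = 0)
    (hA' : Function.Bijective (fun a : A' => a ^ p))
    (hB' : Function.Bijective (fun b : B' => b ^ p))
    (hα : ∀ a' : A', ∃ n a, α a = a' ^ p ^ n) (hβ : ∀ b' : B', ∃ n b, β b = b' ^ p ^ n)
    (hker : ∀ b ∈ RingHom.ker β, IsNilpotent b) : φ'.Flat := by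
  letI : Algebra A' B' := φ'.toAlgebra
  letI : Algebra A B := φ.toAlgebra
  haveI : Module.Flat A B := hφ
  show Module.Flat A' B'
  rcases subsingleton_or_nontrivial B' with hB's | hB'n
  · infer_instance
  haveI : Nontrivial A' := φ'.domain_nontrivial
  haveI : Nontrivial B := β.domain_nontrivial
  haveI : Nontrivial A := φ.domain_nontrivial
  haveI : Fact p.Prime := ⟨hp⟩
  have hB0 : (p : B) = 0 := by
    have := congrArg φ hA0; rwa [map_natCast, map_zero] at this
  have hA'0 : (p : A') = 0 := by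
    have := congrArg α hA0; rwa [map_natCast, map_zero] at this
  have hB'0 : (p : B') = 0 := by
    have := congrArg β hB0; rwa [map_natCast, map_zero] at this
  haveI : CharP A p := (CharP.charP_iff_prime_eq_zero hp).2 hA0
  haveI : CharP B p := (CharP.charP_iff_prime_eq_zero hp).2 hB0
  haveI : CharP A' p := (CharP.charP_iff_prime_eq_zero hp).2 hA'0
  haveI : CharP B' p := (CharP.charP_iff_prime_eq_zero hp).2 hB'0
  have hA'N : ∀ N, Function.Bijective (fun a : A' => a ^ p ^ N) := fun N => by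
    have := hA'.iterate N
    rwa [pow_iterate] at this
  have hB'N : ∀ N, Function.Bijective (fun b : B' => b ^ p ^ N) := fun N => by
    have := hB'.iterate N
    rwa [pow_iterate] at this
  have hcomm' : ∀ a, φ' (α a) = β (φ a) := fun a => congrArg (fun h => h a) hcomm
  rw [Module.Flat.iff_forall_isTrivialRelation]
  intro l f x hrel
  obtain ⟨n1, -, g1, hg1⟩ := exists_uniform_ppow p α hα f 0
  obtain ⟨n, hn1n, g2, hg2⟩ := exists_uniform_ppow p β hβ x n1
  -- uniformize g1 to exponent n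
  let g1' : Fin l → A := fun i => g1 i ^ p ^ (n - n1)
  have hg1' : ∀ i, α (g1' i) = f i ^ p ^ n := fun i => ppow_of_le p α _ _ _ _ (hg1 i) hn1n
  -- the element s
  have hs : β (∑ i, φ (g1' i) * g2 i) = 0 := by
    rw [map_sum]
    have : ∀ i, β (φ (g1' i) * g2 i) = (f i • x i) ^ p ^ n := by
      intro i
      rw [map_mul, ← hcomm', hg1', hg2, Algebra.smul_def, mul_pow, ← map_pow]
      rfl
    rw [Finset.sum_congr rfl (fun i _ => this i), ← sum_pow_char_pow, hrel,
      zero_pow (pow_pos hp.pos n).ne']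
  obtain ⟨k0, hk0⟩ := hker _ (RingHom.mem_ker.mpr hs)
  have hk : (∑ i, φ (g1' i) * g2 i) ^ p ^ k0 = 0 :=
    pow_eq_zero_of_le (Nat.lt_pow_self hp.one_lt).le hk0
  rw [sum_pow_char_pow] at hk
  have hrelB : ∑ i, (g1' i ^ p ^ k0) • (g2 i ^ p ^ k0) = 0 := by
    rw [← hk]
    apply Finset.sum_congr rfl
    intro i _
    rw [Algebra.smul_def, mul_pow, map_pow]
    rfl
  obtain ⟨K, γ, y, hy1, hy2⟩ := Module.Flat.iff_forall_isTrivialRelation.mp ‹Module.Flat A B› hrelB
  -- roots
  let N := n + k0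
  choose c hc using fun (ij : Fin l × Fin K) => (hA'N N).2 (α (γ ij.1 ij.2))
  choose y' hy' using fun j : Fin K => (hB'N N).2 (β (y j))
  have hc' : ∀ i j, c (i, j) ^ p ^ N = α (γ i j) := fun i j => hc (i, j)
  refine ⟨K, fun i j => c (i, j), y', ?_, ?_⟩
  · intro i
    apply (hB'N N).1
    show x i ^ p ^ N = (∑ j, c (i, j) • y' j) ^ p ^ N
    rw [sum_pow_char_pow]
    have h1 : ∀ j, (c (i, j) • y' j) ^ p ^ N = β (φ (γ i j) * y j) := by
      intro j
      rw [Algebra.smul_def, mul_pow, map_mul, ← hcomm', ← hc' i j, map_pow]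
      congr 1
      exact hy' j
    rw [Finset.sum_congr rfl (fun j _ => h1 j), ← map_sum]
    have h2 : ∑ j, φ (γ i j) * y j = g2 i ^ p ^ k0 := by
      refine Eq.trans ?_ (hy1 i).symm
      apply Finset.sum_congr rfl
      intro j _
      rw [Algebra.smul_def]
      rfl
    rw [h2, map_pow, hg2, ← pow_mul, ← pow_add]
  · intro j
    apply (hA'N N).1
    show (∑ i, f i * c (i, j)) ^ p ^ N = (0 : A') ^ p ^ N
    rw [sum_pow_char_pow, zero_pow (pow_pos hp.pos N).ne']
    have h1 : ∀ i, (f i * c (i, j)) ^ p ^ N = α (g1' i ^ p ^ k0 * γ i j) := by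
      intro i
      rw [mul_pow, hc' i j, map_mul, map_pow, hg1', ← pow_mul, ← pow_add]
    rw [Finset.sum_congr rfl (fun i _ => h1 i), ← map_sum, hy2 j, map_zero]

end Groth.Agent.H69
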