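import Mathlib

/-!
# Units of localisations `R[1/g]` of a unique factorisation domain, inside the fraction field

`Aw g x`: the element `x` of the fraction field `K` lies in `R[1/g]`.
`UA g x`: `x` is a unit of `R[1/g]`.
`exists_common_unit`: the Čech-type statement which makes invertible modules on opens of the
spectrum of a UFD trivial.
-/

set_option autoImplicit false
set_option linter.unusedSectionVars false

namespace Groth.Agent.H69.UFDUnits

variable {R K : Type*} [CommRing R] [IsDomain R] [Field K] [Algebra R K] [IsFractionRing R K]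

/-- `x ∈ K` lies in `R[1/g]`. -/
def Aw (g : R) (x : K) : Prop :=
  ∃ (r : R) (n : ℕ), x * (algebraMap R K g) ^ n = algebraMap R K r

/-- `x` is a unit of `R[1/g] ⊆ K`. -/
def UA (g : R) (x : K) : Prop := x ≠ 0 ∧ Aw g x ∧ Aw g x⁻¹

omit [IsDomain R] [IsFractionRing R K] in
theorem Aw.mul {g : R} {x y : K} (hx : Aw g x) (hy : Aw g y) : Aw g (x * y) := by
  obtain ⟨r, n, hr⟩ := hx
  obtain ⟨s, m, hs⟩ := hy
  refine ⟨r * s, n + m, ?_⟩
  rw [map_mul, ← hr, ← hs, pow_add]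
  ring

omit [IsDomain R] [IsFractionRing R K] in
theorem Aw.mono {g h : R} {k : ℕ} (hgh : g ∣ h ^ k) {x : K} (hx : Aw g x) : Aw h x := by
  obtain ⟨r, n, hr⟩ := hx
  obtain ⟨c, hc⟩ := hgh
  refine ⟨r * c ^ n, k * n, ?_⟩
  rw [map_mul, ← hr, pow_mul, ← map_pow, hc, map_mul, mul_pow, map_pow]
  ring

omit [IsDomain R] [IsFractionRing R K] in
theorem Aw.of_algebraMap (g r : R) : Aw g (algebraMap R K r) :=
  ⟨r, 0, by simp⟩

omit [IsDomain R] [IsFractionRing R K] in
theorem Aw.one (g : R) : Aw g (1 : K) :=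
  ⟨1, 0, by simp⟩

theorem algebraMap_ne_zero {g : R} (hg : g ≠ 0) : algebraMap R K g ≠ 0 := by
  intro h
  exact hg ((IsFractionRing.injective R K) (h.trans (map_zero _).symm))

theorem UA.one (g : R) : UA g (1 : K) :=
  ⟨one_ne_zero, Aw.one g, by rw [inv_one]; exact Aw.one g⟩

theorem UA.mul {g : R} {x y : K} (hx : UA g x) (hy : UA g y) : UA g (x * y) :=
  ⟨mul_ne_zero hx.1 hy.1, hx.2.1.mul hy.2.1, by rw [mul_inv]; exact hx.2.2.mul hy.2.2⟩

theorem UA.inv {g : R} {x : K} (hx : UA g x) : UA g x⁻¹ :=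
  ⟨inv_ne_zero hx.1, hx.2.2, by rw [inv_inv]; exact hx.2.1⟩

theorem UA.div {g : R} {x y : K} (hx : UA g x) (hy : UA g y) : UA g (x / y) := by
  rw [div_eq_mul_inv]
  exact hx.mul hy.inv

theorem UA.pow {g : R} {x : K} (hx : UA g x) (n : ℕ) : UA g (x ^ n) := by
  induction n with
  | zero => rw [pow_zero]; exact UA.one g
  | succ n ih => rw [pow_succ]; exact ih.mul hx

theorem UA.mono {g h : R} {k : ℕ} (hgh : g ∣ h ^ k) {x : K} (hx : UA g x) : UA h x :=
  ⟨hx.1, hx.2.1.mono hgh, hx.2.2.mono hgh⟩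

/-- A nonzero divisor of `g` is a unit of `R[1/g]`. -/
theorem UA.of_dvd {p g : R} (hp : p ≠ 0) (hpg : p ∣ g) : UA g (algebraMap R K p) := by
  refine ⟨algebraMap_ne_zero hp, Aw.of_algebraMap g p, ?_⟩
  obtain ⟨c, hc⟩ := hpg
  refine ⟨c, 1, ?_⟩
  rw [pow_one, hc, map_mul]
  field_simp [algebraMap_ne_zero (K := K) hp]

/-- Units of `R[1/(ph)]` are units of `R[1/h]` up to powers of the prime `p`. -/
theorem exists_mul_of_UA_prime_mul [UniqueFactorizationMonoid R] {p h : R} (hp : Prime p)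
    {x : K} (hx : UA (p * h) x) :
    ∃ q : K, (∀ g' : R, p ∣ g' → UA g' q) ∧ UA h (q * x) := by
  by_cases hph : p ∣ h
  · refine ⟨1, fun g' _ => UA.one g', ?_⟩
    rw [one_mul]
    refine hx.mono (k := 2) ?_
    rw [pow_two]
    exact mul_dvd_mul hph dvd_rfl
  have hh0 : h ≠ 0 := fun h0 => hph (h0 ▸ dvd_zero p)
  have hp0 : p ≠ 0 := hp.ne_zero
  obtain ⟨hx0, ⟨r, k, hr⟩, ⟨r', l, hr'⟩⟩ := hx
  set P : K := algebraMap R K p with hP
  set H : K := algebraMap R K h with hH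
  have hP0 : P ≠ 0 := algebraMap_ne_zero hp0
  have hH0 : H ≠ 0 := algebraMap_ne_zero hh0
  have hrr' : r * r' = (p * h) ^ (k + l) := by
    apply IsFractionRing.injective R K
    rw [map_mul, ← hr, ← hr', map_pow, pow_add]
    field_simp
  have hr0 : r ≠ 0 := by
    intro h0
    rw [h0, zero_mul] at hrr'
    exact pow_ne_zero _ (mul_ne_zero hp0 hh0) hrr'.symm
  obtain ⟨m, r₁, hr₁, hrm⟩ := WfDvdMonoid.max_power_factor hr0 hp.irreducible
  -- `m ≤ k + l`
  have hmle : m ≤ k + l := by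
    by_contra hlt
    push Not at hlt
    have h1 : p ^ (k + l + 1) ∣ (p * h) ^ (k + l) := by
      rw [← hrr', hrm]
      exact Dvd.dvd.mul_right (Dvd.dvd.mul_right (pow_dvd_pow p hlt) _) _
    rw [mul_pow, pow_succ, mul_comm (p ^ (k + l)) p, mul_comm p (p ^ (k + l))] at h1
    have h2 : p ∣ h ^ (k + l) := (mul_dvd_mul_iff_left (pow_ne_zero _ hp0)).mp h1
    exact hph (hp.dvd_of_dvd_pow h2)
  obtain ⟨d, hd⟩ := Nat.exists_eq_add_of_le hmle
  have h3 : r₁ * r' = p ^ d * h ^ (k + l) := by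
    have h4 : p ^ m * (r₁ * r') = p ^ m * (p ^ d * h ^ (k + l)) := by
      rw [← mul_assoc, ← hrm, hrr', mul_pow, ← mul_assoc, ← pow_add, ← hd]
    exact mul_left_cancel₀ (pow_ne_zero _ hp0) h4
  have h5 : p ^ d ∣ r' := hp.pow_dvd_of_dvd_mul_left d hr₁ (h3 ▸ Dvd.intro _ rfl)
  obtain ⟨r'', hr''⟩ := h5
  have h6 : r₁ * r'' = h ^ (k + l) := by
    have h7 : p ^ d * (r₁ * r'') = p ^ d * h ^ (k + l) := by
      rw [← h3, hr'']
      ring
    exact mul_left_cancel₀ (pow_ne_zero _ hp0) h7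
  have hr₁0 : r₁ ≠ 0 := by
    intro h0
    rw [h0, zero_mul] at h6
    exact pow_ne_zero _ hh0 h6.symm
  refine ⟨P ^ k / P ^ m, fun g' hg' => ((UA.of_dvd hp0 hg').pow k).div ((UA.of_dvd hp0 hg').pow m),
    ?_⟩
  have hy : P ^ k / P ^ m * x * H ^ k = algebraMap R K r₁ := by
    have e1 : x * (P * H) ^ k = P ^ m * algebraMap R K r₁ := by
      rw [hP, hH, ← map_mul, hr, hrm, map_mul, map_pow]
    rw [mul_pow] at e1
    field_simp
    linear_combination e1
  have hR1 : algebraMap R K r₁ ≠ 0 := algebraMap_ne_zero hr₁0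
  refine ⟨mul_ne_zero (div_ne_zero (pow_ne_zero _ hP0) (pow_ne_zero _ hP0)) hx0, ⟨r₁, k, hy⟩,
    ⟨h ^ k * r'', k + l, ?_⟩⟩
  have e6 : algebraMap R K r₁ * algebraMap R K r'' = H ^ (k + l) := by
    rw [← map_mul, h6, map_pow]
  have e7 : (P ^ k / P ^ m * x)⁻¹ = H ^ k / algebraMap R K r₁ := by
    rw [inv_eq_iff_eq_inv, inv_div, ← hy]
    field_simp
  rw [e7, ← e6, map_mul, map_pow, ← hH]
  field_simp

/-- `R[1/(h g₀)] ∩ R[1/(h p)] = R[1/h]` for a prime `p` not dividing `g₀`. -/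
theorem Aw.of_mul_of_mul_prime {p h g₀ : R} (hp : Prime p) (hpg : ¬ p ∣ g₀) {x : K}
    (h1 : Aw (h * g₀) x) (h2 : Aw (h * p) x) : Aw h x := by
  by_cases hph : p ∣ h
  · refine h2.mono (k := 2) ?_
    rw [pow_two]
    exact mul_dvd_mul dvd_rfl hph
  have hp0 : p ≠ 0 := hp.ne_zero
  obtain ⟨r, k, hr⟩ := h1
  obtain ⟨r', l, hr'⟩ := h2
  have e1 : r * (h * p) ^ l = r' * (h * g₀) ^ k := by
    apply IsFractionRing.injective R K
    rw [map_mul, map_mul, ← hr, ← hr', map_pow, map_pow]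
    ring
  have hnd : ¬ p ∣ (h * g₀) ^ k := fun hd =>
    (hp.dvd_or_dvd (hp.dvd_of_dvd_pow hd)).elim hph hpg
  have h5 : p ^ l ∣ r' := by
    refine hp.pow_dvd_of_dvd_mul_right l hnd ?_
    rw [← e1, mul_pow]
    exact ⟨r * h ^ l, by ring⟩
  obtain ⟨r'', hr''⟩ := h5
  refine ⟨r'', l, ?_⟩
  have hP0 : algebraMap R K p ≠ 0 := algebraMap_ne_zero hp0
  have e2 : x * (algebraMap R K h) ^ l * (algebraMap R K p) ^ l =
      algebraMap R K r'' * (algebraMap R K p) ^ l := by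
    rw [mul_assoc, ← mul_pow, ← map_mul, hr', hr'', map_mul, map_pow]
    ring
  exact mul_right_cancel₀ (pow_ne_zero _ hP0) e2

/-- The key Čech-type statement: if `a i` is a unit of `R[1/(f g_i)]` and `a i / a j` is a unit of
`R[1/(g_i g_j)]`, then all `a i` become units of `R[1/g_i]` after multiplying with a common
`t ∈ Kˣ`. -/
theorem exists_common_unit [UniqueFactorizationMonoid R] {I : Type*} (g : I → R) (f : R)
    (hf : f ≠ 0) (a : I → K) (h1 : ∀ i, UA (f * g i) (a i))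
    (h2 : ∀ i j, UA (g i * g j) (a i / a j)) :
    ∃ t : K, t ≠ 0 ∧ ∀ i, UA (g i) (t * a i) := by
  revert a
  induction f using UniqueFactorizationMonoid.induction_on_prime with
  | h₁ => exact absurd rfl hf
  | h₂ u hu =>
    intro a h1 h2
    refine ⟨1, one_ne_zero, fun i => ?_⟩
    rw [one_mul]
    refine (h1 i).mono (k := 1) ?_
    rw [pow_one]
    exact hu.mul_left_dvd.mpr dvd_rfl
  | h₃ b p hb hp ih =>
    intro a h1 h2
    by_cases hall : ∀ i, p ∣ b * g i
    · refine ih hb a (fun i => ?_) h2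
      refine (h1 i).mono (k := 2) ?_
      rw [pow_two, mul_assoc]
      exact mul_dvd_mul (hall i) dvd_rfl
    push Not at hall
    obtain ⟨i₀, hi₀⟩ := hall
    have h10 : UA (p * (b * g i₀)) (a i₀) := by
      rw [← mul_assoc]
      exact h1 i₀
    obtain ⟨q, hq, hq0⟩ := exists_mul_of_UA_prime_mul hp h10
    have hq_ne : q ≠ 0 := (hq p dvd_rfl).1
    have key : ∀ (i : I) (z : K), UA (b * g i * (b * g i₀)) z → UA (b * g i * p) z →
        UA (b * g i) z := fun i z hz1 hz2 =>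
      ⟨hz1.1, Aw.of_mul_of_mul_prime hp hi₀ hz1.2.1 hz2.2.1,
        Aw.of_mul_of_mul_prime hp hi₀ hz1.2.2 hz2.2.2⟩
    have hai : ∀ i, a i ≠ 0 := fun i => (h1 i).1
    have hA : ∀ i, UA (b * g i) (q * a i) := by
      intro i
      refine key i _ ?_ ?_
      · have e : q * a i = (q * a i₀) * (a i / a i₀) := by
          field_simp [hai i₀]
        rw [e]
        refine UA.mul (hq0.mono (k := 1) ?_) ((h2 i i₀).mono (k := 1) ?_)
        · rw [pow_one]
          exact Dvd.intro_left _ rfl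
        · rw [pow_one]
          exact ⟨b * b, by ring⟩
      · refine UA.mul (hq _ (Dvd.intro_left _ rfl)) ((h1 i).mono (k := 1) ?_)
        rw [pow_one]
        exact ⟨1, by ring⟩
    have hB : ∀ i j, UA (g i * g j) (q * a i / (q * a j)) := by
      intro i j
      have e : q * a i / (q * a j) = a i / a j := mul_div_mul_left _ _ hq_ne
      rw [e]
      exact h2 i j
    obtain ⟨t', ht', ht⟩ := ih hb (fun i => q * a i) hA hB
    refine ⟨t' * q, mul_ne_zero ht' hq_ne, fun i => ?_⟩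
    rw [mul_assoc]
    exact ht i

end Groth.Agent.H69.UFDUnits
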