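import Groth.Agent.H18.IsoOfGen
import Groth.Agent.H69.UFDUnits

/-!
# Invertible modules on opens of the spectrum of a UFD are trivial (Stacks 0BCH)

`nonempty_iso_structureModule`: for `S : CommRingCat` a UFD, `U` open in `Spec S`, every invertible
module on `U` is isomorphic to the structure sheaf.  Ingredients: `phi`/`psi` (the embeddings
`Γ(D(g)) → Frac S`), `exists_chart`, and `UFDUnits.exists_common_unit`.
-/

set_option autoImplicit false
set_option linter.style.haveILetI false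
set_option linter.unusedSectionVars false
universe u
open CategoryTheory AlgebraicGeometry TopologicalSpace Opposite
open Groth.Agent.H69.UFDUnits

namespace Groth.Agent.H69.PicUFD

variable {S : CommRingCat.{u}} {K : Type u} [Field K] [Algebra S K]

/-- `D` is the nonempty basic open `D(g)`. -/
def Good (D : (Spec S).Opens) (g : S) : Prop := D = PrimeSpectrum.basicOpen g ∧ g ≠ 0

theorem Good.isLocalization {D : (Spec S).Opens} {g : S} (h : Good D g) :
    IsLocalization.Away g Γ(Spec S, D) := by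
  obtain ⟨rfl, -⟩ := h
  infer_instance

variable [IsDomain S] [IsFractionRing S K]

theorem isUnit_algebraMap {g : S} (hg : g ≠ 0) : IsUnit (algebraMap S K g) :=
  (algebraMap_ne_zero hg).isUnit

variable (K) in
/-- The canonical embedding `Γ(D(g)) = S[1/g] → K`. -/
noncomputable def phi (D : (Spec S).Opens) (g : S) (h : Good D g) : Γ(Spec S, D) →+* K :=
  haveI := h.isLocalization
  IsLocalization.Away.lift g (g := algebraMap S K) (isUnit_algebraMap h.2)

theorem phi_algebraMap (D : (Spec S).Opens) (g : S) (h : Good D g) (r : S) :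
    phi K D g h (algebraMap S Γ(Spec S, D) r) = algebraMap S K r := by
  haveI := h.isLocalization
  exact IsLocalization.Away.lift_eq g (isUnit_algebraMap h.2) r

theorem res_algebraMap {D D' : (Spec S).Opens} (hle : D' ≤ D) (r : S) :
    (Spec S).presheaf.map (homOfLE hle).op (algebraMap S Γ(Spec S, D) r) =
      algebraMap S Γ(Spec S, D') r := by
  rw [IsAffineOpen.algebraMap_Spec_obj, IsAffineOpen.algebraMap_Spec_obj]
  rw [← CommRingCat.comp_apply, Category.assoc, ← Functor.map_comp]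
  rfl

theorem phi_res {D D' : (Spec S).Opens} {g g' : S} (h : Good D g) (h' : Good D' g') (hle : D' ≤ D)
    (x : Γ(Spec S, D)) :
    phi K D' g' h' ((Spec S).presheaf.map (homOfLE hle).op x) = phi K D g h x := by
  haveI := h.isLocalization
  have key : (phi K D' g' h').comp ((Spec S).presheaf.map (homOfLE hle).op).hom = phi K D g h := by
    refine IsLocalization.ringHom_ext (Submonoid.powers g) ?_
    ext r
    simp only [RingHom.comp_apply]
    rw [phi_algebraMap]
    erw [res_algebraMap hle r]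
    rw [phi_algebraMap]
  exact congrArg (fun ψ : Γ(Spec S, D) →+* K => ψ x) key

theorem phi_injective (D : (Spec S).Opens) (g : S) (h : Good D g) :
    Function.Injective (phi K D g h) := by
  haveI := h.isLocalization
  have hle : Submonoid.powers g ≤ nonZeroDivisors S :=
    Submonoid.powers_le.mpr (mem_nonZeroDivisors_of_ne_zero h.2)
  have hinj : Function.Injective (algebraMap S Γ(Spec S, D)) :=
    IsLocalization.injective _ hle
  unfold phi IsLocalization.Away.lift
  rw [IsLocalization.lift_injective_iff]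
  intro x y
  exact ⟨fun e => congrArg _ (hinj e), fun e => congrArg _ (IsFractionRing.injective S K e)⟩

theorem aw_iff (D : (Spec S).Opens) (g : S) (h : Good D g) (x : K) :
    Aw g x ↔ ∃ a : Γ(Spec S, D), phi K D g h a = x := by
  haveI := h.isLocalization
  have hG : algebraMap S K g ≠ 0 := algebraMap_ne_zero h.2
  constructor
  · rintro ⟨r, n, hr⟩
    refine ⟨IsLocalization.mk' Γ(Spec S, D) r (⟨g ^ n, n, rfl⟩ : Submonoid.powers g), ?_⟩
    have h1 : phi K D g h (IsLocalization.mk' Γ(Spec S, D) r (⟨g ^ n, n, rfl⟩ : Submonoid.powers g)) *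
        (algebraMap S K g) ^ n = algebraMap S K r := by
      rw [← map_pow, ← phi_algebraMap D g h (g ^ n), ← map_mul]
      have := IsLocalization.mk'_spec Γ(Spec S, D) r (⟨g ^ n, n, rfl⟩ : Submonoid.powers g)
      rw [this, phi_algebraMap]
    exact mul_right_cancel₀ (pow_ne_zero n hG) (h1.trans hr.symm)
  · rintro ⟨a, rfl⟩
    obtain ⟨⟨r, ⟨_, n, rfl⟩⟩, hr⟩ := IsLocalization.surj (Submonoid.powers g) a
    refine ⟨r, n, ?_⟩
    have := congrArg (phi K D g h) hr
    rw [map_mul, phi_algebraMap, phi_algebraMap, map_pow] at this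
    exact this

theorem ua_iff (D : (Spec S).Opens) (g : S) (h : Good D g) (x : K) :
    UA g x ↔ ∃ a : Γ(Spec S, D), IsUnit a ∧ phi K D g h a = x := by
  constructor
  · rintro ⟨hx0, hx1, hx2⟩
    obtain ⟨a, ha⟩ := (aw_iff D g h x).mp hx1
    obtain ⟨b, hb⟩ := (aw_iff D g h x⁻¹).mp hx2
    refine ⟨a, ?_, ha⟩
    refine IsUnit.of_mul_eq_one b ?_
    apply phi_injective (K := K) D g h
    rw [map_mul, ha, hb, map_one, mul_inv_cancel₀ hx0]
  · rintro ⟨a, ha, rfl⟩
    obtain ⟨b, hb⟩ := ha.exists_right_inv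
    have h1 : phi K D g h a * phi K D g h b = 1 := by rw [← map_mul, hb, map_one]
    have h0 : phi K D g h a ≠ 0 := left_ne_zero_of_mul_eq_one h1
    refine ⟨h0, (aw_iff D g h _).mpr ⟨a, rfl⟩, (aw_iff D g h _).mpr ⟨b, ?_⟩⟩
    exact eq_inv_of_mul_eq_one_right h1

section Charts

variable (U : (Spec S).Opens)

omit [IsDomain S] in
theorem exists_chart (y : (U : Scheme.{u})) (V₀ : (U : Scheme.{u}).Opens) (hy : y ∈ V₀) :
    ∃ (V : (U : Scheme.{u}).Opens) (g : S), y ∈ V ∧ V ≤ V₀ ∧ Good (U.ι ''ᵁ V) g := by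
  have hy' : U.ι y ∈ U.ι ''ᵁ V₀ := ⟨y, hy, rfl⟩
  obtain ⟨_, ⟨g, rfl⟩, hyg, hgle⟩ :=
    (Opens.isBasis_iff_nbhd.mp (PrimeSpectrum.isBasis_basic_opens (R := S))) hy'
  refine ⟨U.ι ⁻¹ᵁ (PrimeSpectrum.basicOpen g), g, hyg, ?_, ?_, ?_⟩
  · have h1 : U.ι ⁻¹ᵁ (PrimeSpectrum.basicOpen g) ≤ U.ι ⁻¹ᵁ (U.ι ''ᵁ V₀) :=
      fun z hz => hgle hz
    rwa [Scheme.Hom.preimage_image_eq] at h1
  · rw [Scheme.Hom.image_preimage_eq_opensRange_inf, Scheme.Opens.opensRange_ι]
    refine inf_eq_right.mpr (hgle.trans ?_)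
    rintro _ ⟨z, -, rfl⟩
    exact z.2
  · rintro rfl
    rw [PrimeSpectrum.basicOpen_zero] at hyg
    exact hyg

theorem Good.inf {V V' : (U : Scheme.{u}).Opens} {g g' : S} (h : Good (U.ι ''ᵁ V) g)
    (h' : Good (U.ι ''ᵁ V') g') : Good (U.ι ''ᵁ (V ⊓ V')) (g * g') := by
  refine ⟨?_, mul_ne_zero h.2 h'.2⟩
  rw [PrimeSpectrum.basicOpen_mul, ← h.1, ← h'.1]
  ext z
  constructor
  · rintro ⟨w, ⟨hw, hw'⟩, rfl⟩
    exact ⟨⟨w, hw, rfl⟩, ⟨w, hw', rfl⟩⟩
  · rintro ⟨⟨w, hw, rfl⟩, ⟨w', hw', e⟩⟩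
    have : w' = w := U.ι.isOpenEmbedding.injective e
    subst this
    exact ⟨w', ⟨hw, hw'⟩, rfl⟩

end Charts

section Main

open Groth.Agent.H8 (res_res res_smul ringRes_res)
open Groth.Agent.H18.SecTw Groth.Agent.H18.TensorGen Groth.Agent.H18.HomOfGens
open Groth.Agent.H18.IsoOfGen

/-- Two free generators differ by a unit. -/
theorem exists_isUnit_smul_eq {X : Scheme.{u}} {M : X.Modules} {V : X.Opens} {μ μ' : Γ(M, V)}
    (h : IsGen M V μ) (h' : IsGen M V μ') : ∃ c : Γ(X, V), IsUnit c ∧ μ' = c • μ := by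
  obtain ⟨c, hc⟩ := h.self.2 μ'
  obtain ⟨c', hc'⟩ := h'.self.2 μ
  have hc1 : c • μ = μ' := hc
  have hc2 : c' • μ' = μ := hc'
  refine ⟨c, IsUnit.of_mul_eq_one c' ?_, hc1.symm⟩
  apply h.self.1
  show (c * c') • μ = (1 : Γ(X, V)) • μ
  rw [one_smul, mul_comm, mul_smul, hc1, hc2]

/-- A unit is a free generator of the structure sheaf. -/
theorem isGen_of_isUnit {X : Scheme.{u}} {V : X.Opens} (w : Γ(X, V)) (hw : IsUnit w) :
    IsGen (Coh.structureModule X) V (show Γ(Coh.structureModule X, V) from w) := by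
  obtain ⟨b, hb⟩ := hw.exists_left_inv
  refine isGen_of_isGen_smul b _ ?_
  have e : b • (show Γ(Coh.structureModule X, V) from w) =
      (show Γ(Coh.structureModule X, V) from (1 : Γ(X, V))) := hb
  rw [e]
  exact isGen_one V

variable (U : (Spec S).Opens)

variable (K) in
/-- The embedding `Γ(U, W) → K` for `W` corresponding to a nonempty basic open. -/
noncomputable def psi (W : (U : Scheme.{u}).Opens) (g : S) (h : Good (U.ι ''ᵁ W) g) :
    Γ((U : Scheme.{u}), W) →+* K :=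
  phi K (U.ι ''ᵁ W) g h

theorem psi_res {W W' : (U : Scheme.{u}).Opens} {g g' : S} (h : Good (U.ι ''ᵁ W) g)
    (h' : Good (U.ι ''ᵁ W') g') (hle : W' ≤ W) (x : Γ((U : Scheme.{u}), W)) :
    psi K U W' g' h' ((U : Scheme.{u}).presheaf.map (homOfLE hle).op x) = psi K U W g h x :=
  phi_res h h' (show U.ι ''ᵁ W' ≤ U.ι ''ᵁ W from (U.ι.opensFunctor.map (homOfLE hle)).le) x

/-- Local trivialisation data of `L` on (the preimage of) a nonempty basic open. -/
structure Chart (L : (U : Scheme.{u}).Modules) where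
  /-- the open -/
  V : (U : Scheme.{u}).Opens
  /-- the function whose basic open is `V` -/
  g : S
  /-- the generator -/
  e : Γ(L, V)
  good : Good (U.ι ''ᵁ V) g
  gen : IsGen L V e

omit [IsDomain S] in
theorem exists_chart_mem {L : (U : Scheme.{u}).Modules} (hL : PicF.IsInvertible L)
    (y : (U : Scheme.{u})) : ∃ c : Chart U L, y ∈ c.V := by
  obtain ⟨V₀, τ, hy, hτ⟩ := exists_isGen hL y
  obtain ⟨V, g, hyV, hle, hgood⟩ := exists_chart U y V₀ hy
  exact ⟨⟨V, g, _, hgood, hτ.res hle⟩, hyV⟩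

/-- Every invertible module on an open subscheme of the spectrum of a UFD is trivial. -/
theorem nonempty_iso_structureModule [UniqueFactorizationMonoid S]
    (L : (U : Scheme.{u}).Modules) (hL : PicF.IsInvertible L) :
    Nonempty (L ≅ Coh.structureModule (U : Scheme.{u})) := by
  by_cases hne : Nonempty (U : Scheme.{u})
  swap
  · haveI : IsEmpty (U : Scheme.{u}) := not_nonempty_iff.mp hne
    haveI := isIso_of_isGen_image hL (0 : L ⟶ Coh.structureModule (U : Scheme.{u}))
      (fun x => isEmptyElim x)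
    exact ⟨asIso (0 : L ⟶ Coh.structureModule (U : Scheme.{u}))⟩
  obtain ⟨y₀⟩ := hne
  obtain ⟨c₀, hc₀⟩ := exists_chart_mem U hL y₀
  let K := FractionRing S
  have hG0 : ∀ i : Chart U L, Good (U.ι ''ᵁ (c₀.V ⊓ i.V)) (c₀.g * i.g) :=
    fun i => c₀.good.inf U i.good
  have hG2 : ∀ i j : Chart U L, Good (U.ι ''ᵁ (i.V ⊓ j.V)) (i.g * j.g) :=
    fun i j => i.good.inf U j.good
  have hα : ∀ i : Chart U L, ∃ α : Γ((U : Scheme.{u}), c₀.V ⊓ i.V), IsUnit α ∧
      L.presheaf.map (homOfLE (inf_le_left : c₀.V ⊓ i.V ≤ c₀.V)).op c₀.e =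
        α • L.presheaf.map (homOfLE (inf_le_right : c₀.V ⊓ i.V ≤ i.V)).op i.e := fun i =>
    exists_isUnit_smul_eq (i.gen.res inf_le_right) (c₀.gen.res inf_le_left)
  choose α hαu hα using hα
  have hc : ∀ i j : Chart U L, ∃ c : Γ((U : Scheme.{u}), i.V ⊓ j.V), IsUnit c ∧
      L.presheaf.map (homOfLE (inf_le_right : i.V ⊓ j.V ≤ j.V)).op j.e =
        c • L.presheaf.map (homOfLE (inf_le_left : i.V ⊓ j.V ≤ i.V)).op i.e := fun i j =>
    exists_isUnit_smul_eq (i.gen.res inf_le_left) (j.gen.res inf_le_right)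
  choose c hcu hc using hc
  let a : Chart U L → K := fun i => psi K U _ _ (hG0 i) (α i)
  have ha1 : ∀ i, UA (c₀.g * i.g) (a i) := fun i =>
    (ua_iff _ _ (hG0 i) _).mpr ⟨α i, hαu i, rfl⟩
  have hac : ∀ i j, a i = a j * psi K U _ _ (hG2 i j) (c i j) := by
    intro i j
    have hGT : Good (U.ι ''ᵁ ((c₀.V ⊓ i.V) ⊓ (c₀.V ⊓ j.V))) ((c₀.g * i.g) * (c₀.g * j.g)) :=
      (hG0 i).inf U (hG0 j)
    have hT0i : (c₀.V ⊓ i.V) ⊓ (c₀.V ⊓ j.V) ≤ c₀.V ⊓ i.V := inf_le_left
    have hT0j : (c₀.V ⊓ i.V) ⊓ (c₀.V ⊓ j.V) ≤ c₀.V ⊓ j.V := inf_le_right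
    have hTij : (c₀.V ⊓ i.V) ⊓ (c₀.V ⊓ j.V) ≤ i.V ⊓ j.V :=
      le_inf (inf_le_left.trans inf_le_right) (inf_le_right.trans inf_le_right)
    have hTi : (c₀.V ⊓ i.V) ⊓ (c₀.V ⊓ j.V) ≤ i.V := hT0i.trans inf_le_right
    have hTj : (c₀.V ⊓ i.V) ⊓ (c₀.V ⊓ j.V) ≤ j.V := hT0j.trans inf_le_right
    have hT0 : (c₀.V ⊓ i.V) ⊓ (c₀.V ⊓ j.V) ≤ c₀.V := hT0i.trans inf_le_left
    have e1 : L.presheaf.map (homOfLE hT0).op c₀.e =
        (U : Scheme.{u}).presheaf.map (homOfLE hT0i).op (α i) •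
          L.presheaf.map (homOfLE hTi).op i.e := by
      have := congrArg (L.presheaf.map (homOfLE hT0i).op) (hα i)
      rw [res_res, res_smul, res_res] at this
      exact this
    have e2 : L.presheaf.map (homOfLE hT0).op c₀.e =
        (U : Scheme.{u}).presheaf.map (homOfLE hT0j).op (α j) •
          L.presheaf.map (homOfLE hTj).op j.e := by
      have := congrArg (L.presheaf.map (homOfLE hT0j).op) (hα j)
      rw [res_res, res_smul, res_res] at this
      exact this
    have e3 : L.presheaf.map (homOfLE hTj).op j.e =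
        (U : Scheme.{u}).presheaf.map (homOfLE hTij).op (c i j) •
          L.presheaf.map (homOfLE hTi).op i.e := by
      have := congrArg (L.presheaf.map (homOfLE hTij).op) (hc i j)
      rw [res_res, res_smul, res_res] at this
      exact this
    have e4 : (U : Scheme.{u}).presheaf.map (homOfLE hT0i).op (α i) =
        (U : Scheme.{u}).presheaf.map (homOfLE hT0j).op (α j) *
          (U : Scheme.{u}).presheaf.map (homOfLE hTij).op (c i j) := by
      apply (i.gen _ hTi).1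
      show _ • L.presheaf.map (homOfLE hTi).op i.e = _ • L.presheaf.map (homOfLE hTi).op i.e
      rw [← e1, e2, e3, mul_smul]
    have e5 := congrArg (psi K U _ _ hGT) e4
    rw [map_mul, psi_res U (hG0 i) hGT hT0i, psi_res U (hG0 j) hGT hT0j,
      psi_res U (hG2 i j) hGT hTij] at e5
    exact e5
  have hpc : ∀ i j, psi K U _ _ (hG2 i j) (c i j) = a i / a j := by
    intro i j
    rw [hac i j, mul_div_cancel_left₀ _ (ha1 j).1]
  have ha2 : ∀ i j : Chart U L, UA (i.g * j.g) (a i / a j) := by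
    intro i j
    exact (ua_iff _ _ (hG2 i j) _).mpr ⟨c i j, hcu i j, hpc i j⟩
  obtain ⟨t, ht0, ht⟩ := exists_common_unit (fun i : Chart U L => i.g) c₀.g c₀.good.2 a ha1 ha2
  have hw : ∀ i : Chart U L, ∃ w : Γ((U : Scheme.{u}), i.V), IsUnit w ∧
      psi K U _ _ i.good w = (t * a i)⁻¹ := fun i =>
    (ua_iff _ _ i.good _).mp (ht i).inv
  choose w hwu hw using hw
  have hcoh : Coh (fun i : Chart U L => i.V) (fun i => i.e)
      (fun i => (show Γ(Coh.structureModule (U : Scheme.{u}), i.V) from w i)) := by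
    refine coh_of_transition (fun i => i.gen) c hc ?_
    intro i j
    show (U : Scheme.{u}).presheaf.map (homOfLE (inf_le_right : i.V ⊓ j.V ≤ j.V)).op (w j) =
      c i j * (U : Scheme.{u}).presheaf.map (homOfLE (inf_le_left : i.V ⊓ j.V ≤ i.V)).op (w i)
    apply phi_injective (K := K) _ _ (hG2 i j)
    show psi K U _ _ (hG2 i j) _ = psi K U _ _ (hG2 i j) _
    rw [map_mul, psi_res U j.good (hG2 i j) inf_le_right, psi_res U i.good (hG2 i j) inf_le_left,
      hw, hw, hpc]
    have h1 := (ha1 i).1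
    have h2 := (ha1 j).1
    have key : ∀ (t x y : FractionRing S), t ≠ 0 → x ≠ 0 → y ≠ 0 →
        (t * y)⁻¹ = x / y * (t * x)⁻¹ := by
      intro t x y ht hx hy
      field_simp
    exact key t (a i) (a j) ht0 h1 h2
  obtain ⟨φ, hφ⟩ := exists_hom_of_gens (fun p => exists_chart_mem U hL p) (fun i => i.gen) hcoh
  haveI := isIso_of_isGen_image hL φ (fun x => by
    obtain ⟨i, hi⟩ := exists_chart_mem U hL x
    refine ⟨i.V, i.e, hi, ?_⟩
    rw [hφ i]
    exact isGen_of_isUnit (w i) (hwu i))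
  exact ⟨asIso φ⟩

end Main

end Groth.Agent.H69.PicUFD
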