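import Groth.Agent.H69.SecSN
import Mathlib

set_option autoImplicit false
universe u
open AlgebraicGeometry CategoryTheory Limits

namespace Groth.Agent.H69

theorem isUnivHomeo_of_universallyClosed {X Y : Scheme.{u}} (f : X ⟶ Y) [UniversallyClosed f]
    [UniversallyInjective f] [Surjective f] : FlatMor.IsUnivHomeo f := by
  intro X' Y' i₁ i₂ f' h
  have h1 : UniversallyClosed f' := MorphismProperty.of_isPullback h.flip inferInstance
  have h2 : UniversallyInjective f' := MorphismProperty.of_isPullback h.flip inferInstance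
  have h3 : Surjective f' := MorphismProperty.of_isPullback h.flip inferInstance
  show IsHomeomorph f'
  rw [isHomeomorph_iff_continuous_isClosedMap_bijective]
  exact ⟨f'.continuous, f'.isClosedMap, f'.injective, f'.surjective⟩

theorem exists_point_of_lift {P T : Scheme.{u}} (f' : P ⟶ T) (t : T)
    (σ : Spec (T.residueField t) ⟶ P) (hσ : σ ≫ f' = T.fromSpecResidueField t) :
    ∃ z : P, f' z = t ∧ Function.Surjective (f'.residueFieldMap z).hom := by
  rcases hE : Scheme.SpecToEquivOfField (T.residueField t) P σ with ⟨z₀, φ⟩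
  have hσ' : σ = Spec.map φ ≫ P.fromSpecResidueField z₀ := by
    have h0 := (Scheme.SpecToEquivOfField (T.residueField t) P).symm_apply_apply σ
    rw [hE] at h0
    exact h0.symm
  have h2 : Spec.map (f'.residueFieldMap z₀ ≫ φ) ≫ T.fromSpecResidueField (f' z₀) =
      T.fromSpecResidueField t := by
    rw [Spec.map_comp, Category.assoc, Scheme.Hom.SpecMap_residueFieldMap_fromSpecResidueField,
      ← Category.assoc, ← hσ', hσ]
  have h3 : (Scheme.SpecToEquivOfField (T.residueField t) T).symm
        ⟨f' z₀, f'.residueFieldMap z₀ ≫ φ⟩ =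
      (Scheme.SpecToEquivOfField (T.residueField t) T).symm
        ⟨t, (𝟙 (T.residueField t) : T.residueField t ⟶ CommRingCat.of (T.residueField t))⟩ := by
    show Spec.map (f'.residueFieldMap z₀ ≫ φ) ≫ T.fromSpecResidueField (f' z₀) =
      Spec.map (𝟙 (T.residueField t)) ≫ T.fromSpecResidueField t
    rw [h2, Spec.map_id, Category.id_comp]
  have h4 := (Scheme.SpecToEquivOfField (T.residueField t) T).symm.injective h3
  obtain ⟨e, he⟩ := Scheme.SpecToEquivOfField_eq_iff.mp h4
  refine ⟨z₀, e, ?_⟩
  intro w
  have hiso : IsIso ((T.residueFieldCongr e).hom ≫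
      (𝟙 (T.residueField t) : T.residueField t ⟶ CommRingCat.of (T.residueField t))) :=
    inferInstance
  have hbij := (ConcreteCategory.isIso_iff_bijective _).mp hiso
  have he' : f'.residueFieldMap z₀ ≫ φ = (T.residueFieldCongr e).hom ≫
      (𝟙 (T.residueField t) : T.residueField t ⟶ CommRingCat.of (T.residueField t)) := he
  rw [← he'] at hbij
  obtain ⟨v, hv⟩ := hbij.2 (φ.hom w)
  exact ⟨v, φ.hom.injective hv⟩

theorem exists_lift_of_pointwise_lift {T X Y : Scheme.{u}} (hT : HTop.IsSeminormal T)
    (f : X ⟶ Y) [UniversallyClosed f] [UniversallyInjective f] (g : T ⟶ Y)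
    (hlift : ∀ t : T, ∃ l : Spec (T.residueField t) ⟶ X,
      l ≫ f = T.fromSpecResidueField t ≫ g) :
    ∃ h : T ⟶ X, h ≫ f = g := by
  haveI : UniversallyClosed (pullback.snd f g) := inferInstance
  haveI : UniversallyInjective (pullback.snd f g) :=
    MorphismProperty.pullback_snd (P := @UniversallyInjective) f g inferInstance
  have hpt : ∀ t : T, ∃ z : ↥(pullback f g), pullback.snd f g z = t ∧
      Function.Surjective ((pullback.snd f g).residueFieldMap z).hom := by
    intro t
    obtain ⟨l, hl⟩ := hlift t
    exact exists_point_of_lift (pullback.snd f g) t (pullback.lift l (T.fromSpecResidueField t) hl)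
      (pullback.lift_snd _ _ _)
  haveI : Surjective (pullback.snd f g) := ⟨fun t => by
    obtain ⟨z, hz, -⟩ := hpt t
    exact ⟨z, hz⟩⟩
  have hUH : FlatMor.IsUnivHomeo (pullback.snd f g) := isUnivHomeo_of_universallyClosed _
  have hRFI : HTop.ResidueFieldsIso (pullback.snd f g) := by
    intro z
    obtain ⟨z₀, hz₀, hsurj⟩ := hpt (pullback.snd f g z)
    have hz : z₀ = z := (pullback.snd f g).injective hz₀
    subst hz
    exact (ConcreteCategory.isIso_iff_bijective _).mpr
      ⟨((pullback.snd f g).residueFieldMap z₀).hom.injective, hsurj⟩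
  obtain ⟨s, hs⟩ := exists_desc_of_isSeminormal hT (𝟙 T) (pullback.snd f g) hUH hRFI
  refine ⟨s ≫ pullback.fst f g, ?_⟩
  rw [Category.assoc, pullback.condition, ← Category.assoc, hs, Category.id_comp]

end Groth.Agent.H69
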