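import Groth.Agent.H69.UnivOpenQF
import Groth.Agent.H73.DVRSpec
import Groth.Prelude.Def_SGA1

/-! Finite families of quasi-finite morphisms to a geometrically unibranch Noetherian irreducible
scheme: universal submersiveness versus joint surjectivity of the dominant members. -/

set_option autoImplicit false
set_option linter.style.haveILetI false
set_option linter.unusedSectionVars false
open AlgebraicGeometry CategoryTheory Limits

universe u

namespace Groth.Agent.H69.GeomUnibranch

/-- Lemma A: a dominant locally quasi-finite morphism from an irreducible scheme to an irreducible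
locally Noetherian geometrically unibranch scheme is universally open. -/
theorem universallyOpen_of_isDominant {U X : Scheme.{u}} (p : U ⟶ X) [IrreducibleSpace U]
    [IrreducibleSpace X] [IsLocallyNoetherian X] [LocallyOfFiniteType p] [LocallyQuasiFinite p]
    [IsDominant p] (hX : ∀ x : X, CAlg2.IsGeomUnibranch (X.presheaf.stalk x)) :
    UniversallyOpen p := by
  apply universallyOpen_of_locallyQuasiFinite_of_isGeomUnibranch p hX
  intro u hu
  have h1 : u = genericPoint U := (hu _ (genericPoint_specializes u)).symm
  intro w hw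
  have h2 : IsGenericPoint (p.base u) (Set.univ : Set X) := by
    rw [h1, IsGenericPoint, ← p.denseRange.closure_range]
    have := (genericPoint_spec U).image p.continuous
    rw [Set.image_univ] at this
    exact this
  have h3 : p.base u ⤳ w := by
    rw [specializes_iff_mem_closure, h2.def]
    trivial
  exact (hw.antisymm h3).eq

/-- Lemma B: a coproduct of universally open morphisms is universally open. -/
theorem universallyOpen_sigmaDesc {J : Type u} {U : J → Scheme.{u}} {X : Scheme.{u}}
    (p : ∀ j, U j ⟶ X) (hp : ∀ j, UniversallyOpen (p j)) : UniversallyOpen (Sigma.desc p) := by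
  rw [IsZariskiLocalAtSource.iff_of_openCover (P := @UniversallyOpen) (sigmaOpenCover U)]
  intro j
  have : (sigmaOpenCover U).f j ≫ Sigma.desc p = p j := Sigma.ι_desc p j
  rw [this]
  exact hp j

/-- Lemma C: universally open and surjective implies universally submersive. -/
theorem univSubmersive_of_universallyOpen_of_surjective {Z X : Scheme.{u}} (π : Z ⟶ X)
    [UniversallyOpen π] [Surjective π] : SGA1.UnivSubmersive π := by
  intro X' Y' i₁ i₂ f' h
  haveI : UniversallyOpen f' := MorphismProperty.of_isPullback (P := @UniversallyOpen) h.flip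
    inferInstance
  haveI : Surjective f' := MorphismProperty.of_isPullback (P := @Surjective) h.flip
    inferInstance
  exact f'.isOpenMap.isQuotientMap f'.continuous f'.surjective

/-- Lemma D: if `h ≫ g` is universally submersive then so is `g`. -/
theorem univSubmersive_of_comp {W Z X : Scheme.{u}} (h : W ⟶ Z) (g : Z ⟶ X)
    (H : SGA1.UnivSubmersive (h ≫ g)) : SGA1.UnivSubmersive g := by
  intro X' Y' i₁ i₂ f' sq
  have sq2 : IsPullback (pullback.snd h i₁) (pullback.fst h i₁) i₁ h :=
    (IsPullback.of_hasPullback h i₁).flip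
  have sq3 := sq2.paste_horiz sq
  have hq := H _ _ _ sq3
  exact Topology.IsQuotientMap.of_comp (pullback.snd h i₁).continuous f'.continuous hq

section Main

variable {X : Scheme.{u}} [IsNoetherian X] [IrreducibleSpace ↥X]
  (hX : ∀ x : X, CAlg2.IsGeomUnibranch (X.presheaf.stalk x))
  (E : PreZeroHypercover.{u} X) [Finite E.I₀] [∀ i, LocallyOfFiniteType (E.f i)]
  [∀ i, LocallyQuasiFinite (E.f i)] [∀ i, IrreducibleSpace ↥(E.X i)]

include hX in
/-- Part 2 of S13736. -/
theorem univSubmersive_dominant_members
    (H : ∀ x : X, ∃ (i : E.I₀) (u : E.X i), IsDominant (E.f i) ∧ (E.f i).base u = x) :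
    SGA1.UnivSubmersive (Sigma.desc fun j : {i : E.I₀ // IsDominant (E.f i)} => E.f j.1) := by
  haveI : UniversallyOpen
      (Sigma.desc fun j : {i : E.I₀ // IsDominant (E.f i)} => E.f j.1) := by
    apply universallyOpen_sigmaDesc
    intro j
    haveI := j.2
    exact universallyOpen_of_isDominant (E.f j.1) hX
  haveI : Surjective (Sigma.desc fun j : {i : E.I₀ // IsDominant (E.f i)} => E.f j.1) := by
    refine ⟨fun x => ?_⟩
    obtain ⟨i, u, hi, hu⟩ := H x
    refine ⟨(Sigma.ι (fun j : {i : E.I₀ // IsDominant (E.f i)} => E.X j.1) ⟨i, hi⟩).base u, ?_⟩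
    rw [← Scheme.Hom.comp_apply, Sigma.ι_desc]
    exact hu
  exact univSubmersive_of_universallyOpen_of_surjective _

include hX in
/-- Part 1 (⇐) of S13736. -/
theorem univSubmersive_of_dominant_members_surjective
    (H : ∀ x : X, ∃ (i : E.I₀) (u : E.X i), IsDominant (E.f i) ∧ (E.f i).base u = x) :
    SGA1.UnivSubmersive (Sigma.desc E.f) := by
  have h1 := univSubmersive_dominant_members hX E H
  have h2 : (Sigma.desc fun j : {i : E.I₀ // IsDominant (E.f i)} => Sigma.ι E.X j.1) ≫
      Sigma.desc E.f = Sigma.desc fun j : {i : E.I₀ // IsDominant (E.f i)} => E.f j.1 := by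
    apply Sigma.hom_ext
    intro j
    simp
  rw [← h2] at h1
  exact univSubmersive_of_comp _ _ h1

include hX in
/-- Part 1 (⇒) of S13736. -/
theorem dominant_members_surjective_of_univSubmersive
    (hπ : SGA1.UnivSubmersive (Sigma.desc E.f)) (x : X) :
    ∃ (i : E.I₀) (u : E.X i), IsDominant (E.f i) ∧ (E.f i).base u = x := by
  classical
  have hq : Topology.IsQuotientMap (Sigma.desc E.f).base :=
    MorphismProperty.universally_le _ _ hπ
  have hsurj := hq.surjective
  have hdomi : ∀ i (u : E.X i), (E.f i).base u = genericPoint X → IsDominant (E.f i) := by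
    intro i u hu
    refine ⟨?_⟩
    rw [DenseRange, dense_iff_closure_eq, Set.eq_univ_iff_forall]
    intro y
    have h1 : y ∈ closure {genericPoint X} := by
      rw [(genericPoint_spec X).def]; trivial
    exact closure_mono (Set.singleton_subset_iff.mpr
      (show genericPoint X ∈ Set.range (E.f i).base from ⟨u, hu⟩)) h1
  have hpt : ∀ z : ↥(∐ E.X), ∃ i, ∃ u : E.X i, (Sigma.ι E.X i).base u = z :=
    fun z => (sigmaOpenCover E.X).exists_eq z
  have hπι : ∀ i (u : E.X i), (Sigma.desc E.f).base ((Sigma.ι E.X i).base u) = (E.f i).base u := by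
    intro i u
    rw [← Scheme.Hom.comp_apply, Sigma.ι_desc]
  by_contra hcon
  push Not at hcon
  have hxη : x ≠ genericPoint X := by
    intro h
    obtain ⟨z, hz⟩ := hsurj (genericPoint X)
    obtain ⟨i, u, rfl⟩ := hpt z
    have hu : (E.f i).base u = genericPoint X := by rw [← hz, hπι]
    exact hcon i u (hdomi i u hu) (hu.trans h.symm)
  obtain ⟨A, h, hDVR, hcl, hcomp⟩ := Groth.Agent.H73.KA.exists_dvr_through_specialization
    (𝟙 X) (genericPoint X) x (genericPoint_specializes x) hxη
  -- the generic point of `Spec A`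
  let g₀ : ↥(Spec (CommRingCat.of A)) := (⟨⊥, Ideal.isPrime_bot⟩ : PrimeSpectrum A)
  have hg₀ : h.base g₀ = genericPoint X := by
    let pt₀ : ↥(Spec (X.residueField (genericPoint X))) :=
      (⟨⊥, Ideal.isPrime_bot⟩ : PrimeSpectrum (X.residueField (genericPoint X)))
    have e1 : (Spec.map (CommRingCat.ofHom A.subtype)).base pt₀ = g₀ := by
      apply PrimeSpectrum.ext
      change Ideal.comap A.subtype ⊥ = ⊥
      exact Ideal.comap_bot_of_injective _ Subtype.val_injective
    rw [← e1, ← Scheme.Hom.comp_apply, hcomp, Scheme.Hom.comp_apply,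
      Scheme.fromSpecResidueField_apply]
    rfl
  have hpts : ∀ s : ↥(Spec (CommRingCat.of A)), s = IsLocalRing.closedPoint A ∨ s = g₀ := by
    intro s
    by_cases hs : (s : PrimeSpectrum A).asIdeal = ⊥
    · right
      exact PrimeSpectrum.ext hs
    · left
      apply PrimeSpectrum.ext
      have hmax : (s : PrimeSpectrum A).asIdeal.IsMaximal :=
        Ring.DimensionLEOne.maximalOfPrime hs (s : PrimeSpectrum A).isPrime
      exact IsLocalRing.eq_maximalIdeal hmax
  -- the base change
  have hq' : Topology.IsQuotientMap (pullback.snd (Sigma.desc E.f) h).base :=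
    hπ _ _ _ (IsPullback.of_hasPullback (Sigma.desc E.f) h).flip
  let O : (pullback (Sigma.desc E.f) h).Opens :=
    ⨆ i : {i : E.I₀ // ¬ IsDominant (E.f i)},
      (pullback.fst (Sigma.desc E.f) h) ⁻¹ᵁ (Sigma.ι E.X i.1).opensRange
  have hcond : ∀ w : ↥(pullback (Sigma.desc E.f) h),
      (Sigma.desc E.f).base ((pullback.fst (Sigma.desc E.f) h).base w) =
        h.base ((pullback.snd (Sigma.desc E.f) h).base w) := by
    intro w
    rw [← Scheme.Hom.comp_apply, ← Scheme.Hom.comp_apply, pullback.condition]
  have hpre : (pullback.snd (Sigma.desc E.f) h).base ⁻¹' {IsLocalRing.closedPoint A} =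
      (O : Set ↥(pullback (Sigma.desc E.f) h)) := by
    ext w
    simp only [Set.mem_preimage, O, TopologicalSpace.Opens.coe_iSup,
      Set.mem_iUnion, SetLike.mem_coe]
    constructor
    · intro hw
      obtain ⟨i, u, hu⟩ := hpt ((pullback.fst (Sigma.desc E.f) h).base w)
      have h1 : (E.f i).base u = x := by
        rw [← hπι, hu, hcond, hw, hcl]
      refine ⟨⟨i, fun hi => hcon i u hi h1⟩, ?_⟩
      exact ⟨u, hu⟩
    · rintro ⟨⟨i, hi⟩, u, hu⟩
      rcases hpts ((pullback.snd (Sigma.desc E.f) h).base w) with hw | hw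
      · exact hw
      · exfalso
        apply hi
        apply hdomi i u
        have hu' : (Sigma.ι E.X i).base u = (pullback.fst (Sigma.desc E.f) h).base w := hu
        rw [← hπι, hu', hcond, hw, hg₀]
  have hopen : IsOpen ({IsLocalRing.closedPoint A} : Set ↥(Spec (CommRingCat.of A))) := by
    rw [← hq'.isOpen_preimage, hpre]
    exact O.2
  have hspec : g₀ ⤳ IsLocalRing.closedPoint A :=
    (PrimeSpectrum.le_iff_specializes (⟨⊥, Ideal.isPrime_bot⟩ : PrimeSpectrum A)
      (IsLocalRing.closedPoint A)).mp (show (⊥ : Ideal A) ≤ _ from bot_le)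
  have hmem := hspec.mem_open hopen rfl
  have : g₀ = IsLocalRing.closedPoint A := hmem
  apply hxη
  rw [← hcl, ← this, hg₀]

end Main

end Groth.Agent.H69.GeomUnibranch
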