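import Mathlib
import Groth.Prelude.Def_SGA1
import Groth.Agent.H69.QuotBasis

/-!
# (LOCQ) for S2907: being a quotient by a finite group is local on the target
-/

set_option autoImplicit false
set_option linter.style.haveILetI false
universe u
open CategoryTheory CategoryTheory.Limits AlgebraicGeometry

namespace Groth.Agent.H69.QuotGlue_LOCQ

open Groth.Agent.H69.QuotBasis

theorem sq_app {V X Y Z : Scheme.{u}} (a : V ⟶ X) (p : X ⟶ Z) (q : V ⟶ Y) (b : Y ⟶ Z)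
    (hsq : a ≫ p = q ≫ b) (U : Z.Opens) (W : V.Opens) (h1 : W ≤ a ⁻¹ᵁ (p ⁻¹ᵁ U))
    (h2 : W ≤ q ⁻¹ᵁ (b ⁻¹ᵁ U)) :
    p.app U ≫ a.appLE (p ⁻¹ᵁ U) W h1 = b.app U ≫ q.appLE (b ⁻¹ᵁ U) W h2 := by
  rw [← Scheme.Hom.comp_appLE, ← Scheme.Hom.comp_appLE]
  exact appLE_congr _ _ hsq _ _ _ _

theorem bijective_appLE {V X : Scheme.{u}} (a : V ⟶ X) [IsOpenImmersion a] (O : X.Opens)
    (hO : O ≤ a.opensRange) (W : V.Opens) (hW : W = a ⁻¹ᵁ O) :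
    Function.Bijective (a.appLE O W hW.le).hom := by
  subst hW
  rw [Scheme.Hom.appLE_eq_app]
  haveI := Scheme.Hom.isIso_app a O hO
  exact ConcreteCategory.bijective_of_isIso (a.app O)

theorem equivariant_appLE {V X : Scheme.{u}} (a : V ⟶ X) (r : V ⟶ V) (r' : X ⟶ X)
    (hr : r ≫ a = a ≫ r') (O : X.Opens) (W : V.Opens) (h1 : W ≤ a ⁻¹ᵁ O)
    (hW : W ≤ r ⁻¹ᵁ W) (hO : O ≤ r' ⁻¹ᵁ O) (t : Γ(X, O)) :
    (r.appLE W W hW).hom ((a.appLE O W h1).hom t) =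
      (a.appLE O W h1).hom ((r'.appLE O O hO).hom t) := by
  have e1 := Scheme.Hom.appLE_comp_appLE r a O W W h1 hW
  have e2 := Scheme.Hom.appLE_comp_appLE a r' O O W hO h1
  have e3 := appLE_congr (r ≫ a) (a ≫ r') hr O W
    (hW.trans ((TopologicalSpace.Opens.map r.base).map (homOfLE h1)).le)
    (h1.trans ((TopologicalSpace.Opens.map a.base).map (homOfLE hO)).le)
  have := e1.trans (e3.trans e2.symm)
  exact congr($(this) t)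

theorem isQuot_of_local {X Z : Scheme.{u}} {G : Type u} [Group G] [Finite G] (ρ : G →* Aut X)
    (p : X ⟶ Z) (hinv : ∀ g : G, (ρ g).hom ≫ p = p) (I : Type u) (V : I → X.Opens)
    (Y : I → Scheme.{u}) (q : ∀ i, (V i).toScheme ⟶ Y i) (ι : ∀ i, Y i ⟶ Z)
    (hι : ∀ i, IsOpenImmersion (ι i)) (hcomm : ∀ i, (V i).ι ≫ p = q i ≫ ι i)
    (hpre : ∀ i (x : X), p.base x ∈ Set.range (ι i).base ↔ x ∈ V i)
    (hcov : ∀ z : Z, ∃ i, ∃ y : Y i, (ι i).base y = z) (ρV : ∀ i, G →* Aut (V i).toScheme)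
    (hρV : ∀ i g, ((ρV i) g).hom ≫ (V i).ι = (V i).ι ≫ (ρ g).hom)
    (hq : ∀ i, SGA1.IsQuot (ρV i) (q i)) : SGA1.IsQuot ρ p := by
  have hpt : ∀ i (x' : (V i).toScheme), (ι i).base ((q i).base x') = p.base ((V i).ι.base x') := by
    intro i x'
    have := congrArg (fun f : (V i).toScheme ⟶ Z => f.base x') (hcomm i)
    exact this.symm
  -- `p` is affine
  haveI : IsAffineHom p := by
    apply isAffineHom_of_forall_exists_isAffineOpen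
    intro z
    obtain ⟨i, y, rfl⟩ := hcov z
    haveI := hι i
    haveI := (hq i).affine
    obtain ⟨_, ⟨W, hW : IsAffineOpen W, rfl⟩, hyW, -⟩ :=
      (Y i).isBasis_affineOpens.exists_subset_of_mem_open (Set.mem_univ y) isOpen_univ
    refine ⟨(ι i) ''ᵁ W, ⟨y, hyW, rfl⟩, hW.image_of_isOpenImmersion (ι i), ?_⟩
    have hEq : p ⁻¹ᵁ ((ι i) ''ᵁ W) = (V i).ι ''ᵁ (q i ⁻¹ᵁ W) := by
      ext x
      constructor
      · rintro ⟨w, hw, hwx⟩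
        have hxV : x ∈ V i := (hpre i x).1 ⟨w, hwx⟩
        refine ⟨⟨x, hxV⟩, ?_, rfl⟩
        have h1 : (ι i).base ((q i).base ⟨x, hxV⟩) = p.base x := hpt i ⟨x, hxV⟩
        have h2 : (q i).base ⟨x, hxV⟩ = w :=
          (ι i).isOpenEmbedding.injective (h1.trans hwx.symm)
        show (q i).base ⟨x, hxV⟩ ∈ W
        rw [h2]
        exact hw
      · rintro ⟨x', hx', rfl⟩
        exact ⟨(q i).base x', hx', hpt i x'⟩
    rw [hEq]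
    exact (hW.preimage (q i)).image_of_isOpenImmersion (V i).ι
  refine isQuot_of_basis ρ p hinv {U | ∃ i, U ≤ (ι i).opensRange} ?_ ?_ ?_
  · intro U z hz
    obtain ⟨i, y, rfl⟩ := hcov z
    exact ⟨U ⊓ (ι i).opensRange, ⟨i, inf_le_right⟩, ⟨hz, ⟨y, rfl⟩⟩, inf_le_left⟩
  · rintro U ⟨i, hUi⟩ s₁ s₂ hs
    haveI := hι i
    have h1 : q i ⁻¹ᵁ (ι i ⁻¹ᵁ U) ≤ (V i).ι ⁻¹ᵁ (p ⁻¹ᵁ U) := by
      rw [← Scheme.Hom.comp_preimage, ← Scheme.Hom.comp_preimage, hcomm i]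
    have hsq := sq_app (V i).ι p (q i) (ι i) (hcomm i) U (q i ⁻¹ᵁ (ι i ⁻¹ᵁ U)) h1 le_rfl
    rw [Scheme.Hom.appLE_eq_app] at hsq
    have e1 : (q i).app (ι i ⁻¹ᵁ U) ((ι i).app U s₁) = (q i).app (ι i ⁻¹ᵁ U) ((ι i).app U s₂) := by
      have a1 := congr($(hsq) s₁)
      have a2 := congr($(hsq) s₂)
      rw [CommRingCat.comp_apply] at a1 a2
      rw [CommRingCat.comp_apply] at a1 a2
      rw [← a1, ← a2]
      exact congrArg _ hs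
    have e2 := (hq i).injective (ι i ⁻¹ᵁ U) e1
    haveI := Scheme.Hom.isIso_app (ι i) U hUi
    exact (ConcreteCategory.bijective_of_isIso ((ι i).app U)).1 e2
  · rintro U ⟨i, hUi⟩ t ht
    haveI := hι i
    have hEq : q i ⁻¹ᵁ (ι i ⁻¹ᵁ U) = (V i).ι ⁻¹ᵁ (p ⁻¹ᵁ U) := by
      rw [← Scheme.Hom.comp_preimage, ← Scheme.Hom.comp_preimage, hcomm i]
    have hsq := sq_app (V i).ι p (q i) (ι i) (hcomm i) U (q i ⁻¹ᵁ (ι i ⁻¹ᵁ U)) hEq.le le_rfl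
    rw [Scheme.Hom.appLE_eq_app] at hsq
    have hOV : p ⁻¹ᵁ U ≤ (V i).ι.opensRange := by
      rw [Scheme.Opens.opensRange_ι]
      intro x hx
      obtain ⟨y, hy⟩ := hUi hx
      exact (hpre i x).1 ⟨y, hy⟩
    have hbij := bijective_appLE (V i).ι (p ⁻¹ᵁ U) hOV (q i ⁻¹ᵁ (ι i ⁻¹ᵁ U)) hEq
    -- the restricted section is invariant
    have hinv' : ∀ g : G, (((ρV i) g).hom.appLE (q i ⁻¹ᵁ (ι i ⁻¹ᵁ U)) (q i ⁻¹ᵁ (ι i ⁻¹ᵁ U))
        (SGA1.preimage_le_of_inv (ρV i) (q i) (hq i).inv g (ι i ⁻¹ᵁ U))).hom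
        (((V i).ι.appLE (p ⁻¹ᵁ U) (q i ⁻¹ᵁ (ι i ⁻¹ᵁ U)) hEq.le).hom t) =
        ((V i).ι.appLE (p ⁻¹ᵁ U) (q i ⁻¹ᵁ (ι i ⁻¹ᵁ U)) hEq.le).hom t := by
      intro g
      rw [equivariant_appLE (V i).ι ((ρV i) g).hom (ρ g).hom (hρV i g) (p ⁻¹ᵁ U)
        (q i ⁻¹ᵁ (ι i ⁻¹ᵁ U)) hEq.le _ (SGA1.preimage_le_of_inv ρ p hinv g U) t]
      exact congrArg _ (ht g)
    obtain ⟨s', hs'⟩ := ((hq i).range_iff (ι i ⁻¹ᵁ U) _).2 hinv'
    haveI := Scheme.Hom.isIso_app (ι i) U hUi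
    obtain ⟨s, rfl⟩ := (ConcreteCategory.bijective_of_isIso ((ι i).app U)).2 s'
    refine ⟨s, hbij.1 ?_⟩
    have a1 := congr($(hsq) s)
    rw [CommRingCat.comp_apply, CommRingCat.comp_apply] at a1
    exact a1.trans hs'

end Groth.Agent.H69.QuotGlue_LOCQ
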