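import Groth.Agent.H69.QuotUH
import Groth.Agent.S13606

/-! Restriction of a finite group action to the preimage of an open of the quotient. -/

set_option autoImplicit false
set_option linter.style.haveILetI false
set_option linter.unusedSectionVars false
open AlgebraicGeometry CategoryTheory CategoryTheory.Limits TopologicalSpace

universe u

namespace Groth.Agent.H69.QuotRes

open Groth.Agent.H69.QuotBasis Groth.Agent.H68.Quot

variable {X Y : Scheme.{u}} {G : Type u} [Group G]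

/-- The restriction of `ρ g` to the `G`-stable open `p⁻¹U`. -/
noncomputable def resHom (ρ : G →* Aut X) (p : X ⟶ Y) (hinv : ∀ g : G, (ρ g).hom ≫ p = p)
    (U : Y.Opens) (g : G) : (p ⁻¹ᵁ U).toScheme ⟶ (p ⁻¹ᵁ U).toScheme :=
  (ρ g).hom.resLE (p ⁻¹ᵁ U) (p ⁻¹ᵁ U) (SGA1.preimage_le_of_inv ρ p hinv g U)

theorem resHom_ι (ρ : G →* Aut X) (p : X ⟶ Y) (hinv : ∀ g : G, (ρ g).hom ≫ p = p)
    (U : Y.Opens) (g : G) :
    resHom ρ p hinv U g ≫ (p ⁻¹ᵁ U).ι = (p ⁻¹ᵁ U).ι ≫ (ρ g).hom :=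
  Scheme.Hom.resLE_comp_ι _ _

theorem resHom_mul (ρ : G →* Aut X) (p : X ⟶ Y) (hinv : ∀ g : G, (ρ g).hom ≫ p = p)
    (U : Y.Opens) (g h : G) :
    resHom ρ p hinv U (g * h) = resHom ρ p hinv U h ≫ resHom ρ p hinv U g := by
  rw [← cancel_mono (p ⁻¹ᵁ U).ι, Category.assoc, resHom_ι, resHom_ι, ← Category.assoc, resHom_ι,
    Category.assoc, map_mul]
  rfl

theorem resHom_one (ρ : G →* Aut X) (p : X ⟶ Y) (hinv : ∀ g : G, (ρ g).hom ≫ p = p)
    (U : Y.Opens) : resHom ρ p hinv U 1 = 𝟙 _ := by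
  rw [← cancel_mono (p ⁻¹ᵁ U).ι, resHom_ι, map_one, Category.id_comp]
  exact Category.comp_id _

/-- The restricted action on `p⁻¹U`. -/
noncomputable def resAct (ρ : G →* Aut X) (p : X ⟶ Y) (hinv : ∀ g : G, (ρ g).hom ≫ p = p)
    (U : Y.Opens) : G →* Aut (p ⁻¹ᵁ U).toScheme :=
  MonoidHom.mk' (fun g =>
    { hom := resHom ρ p hinv U g
      inv := resHom ρ p hinv U g⁻¹
      hom_inv_id := by rw [← resHom_mul, inv_mul_cancel, resHom_one]
      inv_hom_id := by rw [← resHom_mul, mul_inv_cancel, resHom_one] })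
    (fun g h => by
      apply Iso.ext
      exact resHom_mul ρ p hinv U g h)

theorem resAct_ι (ρ : G →* Aut X) (p : X ⟶ Y) (hinv : ∀ g : G, (ρ g).hom ≫ p = p)
    (U : Y.Opens) (g : G) :
    (resAct ρ p hinv U g).hom ≫ (p ⁻¹ᵁ U).ι = (p ⁻¹ᵁ U).ι ≫ (ρ g).hom :=
  resHom_ι ρ p hinv U g

theorem isQuot_restrict [Finite G] (ρ : G →* Aut X) (p : X ⟶ Y) (hp : SGA1.IsQuot ρ p)
    (U : Y.Opens) : SGA1.IsQuot (resAct ρ p hp.inv U) (p ∣_ U) :=
  Groth.Agent.S13606.result ρ p hp U _ (resAct_ι ρ p hp.inv U)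

/-- If the preimage of an open of the quotient is affine then so is the open. -/
theorem isAffineOpen_of_preimage [Finite G] (ρ : G →* Aut X) (p : X ⟶ Y) (hp : SGA1.IsQuot ρ p)
    (U : Y.Opens) (hU : IsAffineOpen (p ⁻¹ᵁ U)) : IsAffineOpen U := by
  haveI : IsAffine (p ⁻¹ᵁ U).toScheme := hU
  exact Groth.Agent.H69.QuotUH.isAffine_of_isQuot _ _ (isQuot_restrict ρ p hp U)

end Groth.Agent.H69.QuotRes

namespace Groth.Agent.H69.QuotRes

/-- Artin–Tate for ring homs: `C → A → B` with `C` noetherian, composite of finite type and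
`A → B` injective integral, then `C → A` is of finite type. -/
theorem finiteType_of_comp {C A B : Type u} [CommRing C] [CommRing A] [CommRing B]
    [IsNoetherianRing C] (φ : C →+* A) (ψ : A →+* B) (h : (ψ.comp φ).FiniteType)
    (hint : ψ.IsIntegral) (hinj : Function.Injective ψ) : φ.FiniteType := by
  algebraize [φ, ψ, ψ.comp φ]
  have hAB : Algebra.FiniteType A B := Algebra.FiniteType.of_restrictScalars_finiteType C A B
  haveI : Algebra.IsIntegral A B := ⟨hint⟩
  have hfin : Module.Finite A B := Algebra.IsIntegral.finite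
  exact ⟨fg_of_fg_of_fg C A B (Algebra.FiniteType.out) hfin.1 hinj⟩

end Groth.Agent.H69.QuotRes
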