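import Mathlib

/-! A finite group acts transitively on the field-valued points of the fibres of
`Spec B → Spec B^G`. -/

set_option autoImplicit false
set_option linter.style.haveILetI false
set_option linter.unusedSectionVars false

namespace Groth.Agent.H69.QuotTrans

open Pointwise

variable {A B : Type*} [CommRing A] [CommRing B] [Algebra A B]
  {G : Type*} [Group G] [Finite G] [MulSemiringAction G B] [SMulCommClass G A B]
  [Algebra.IsInvariant A B G]

/-- Same kernel case. -/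
theorem exists_smul_comp_eq_of_ker_eq {Ω : Type*} [Field Ω] (φ₁ φ₂ : B →+* Ω)
    (h : φ₁.comp (algebraMap A B) = φ₂.comp (algebraMap A B))
    (hker : RingHom.ker φ₁ = RingHom.ker φ₂) :
    ∃ g : G, ∀ b, φ₂ b = φ₁ (g • b) := by
  set Q : Ideal B := RingHom.ker φ₁ with hQ
  haveI hQp : Q.IsPrime := RingHom.ker_isPrime φ₁
  set P : Ideal A := Q.under A with hP
  haveI : Q.LiesOver P := ⟨rfl⟩
  haveI : P.IsPrime := Ideal.IsPrime.under A Q
  let K := FractionRing (A ⧸ P)
  let L := FractionRing (B ⧸ Q)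
  letI algKL : Algebra K L := FractionRing.liftAlgebra (A ⧸ P) L
  haveI : IsScalarTower (A ⧸ P) K L := FractionRing.isScalarTower_liftAlgebra (A ⧸ P) L
  haveI hnormal : Normal K L := Ideal.IsFractionRing.normal G P Q K L
  -- the induced embeddings
  let χ₁ : B ⧸ Q →+* Ω := Ideal.Quotient.lift Q φ₁ (fun a ha => ha)
  let χ₂ : B ⧸ Q →+* Ω := Ideal.Quotient.lift Q φ₂ (fun a ha => by
    have h2 : a ∈ RingHom.ker φ₂ := hker ▸ ha
    exact h2)
  have hχ₁ : Function.Injective χ₁ :=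
    RingHom.lift_injective_of_ker_le_ideal Q _ le_rfl
  have hχ₂ : Function.Injective χ₂ :=
    RingHom.lift_injective_of_ker_le_ideal Q _ (le_of_eq hker.symm)
  let ψ₁ : L →+* Ω := IsFractionRing.lift hχ₁
  let ψ₂ : L →+* Ω := IsFractionRing.lift hχ₂
  have hψ₁ : ∀ b : B, ψ₁ (algebraMap (B ⧸ Q) L (Ideal.Quotient.mk Q b)) = φ₁ b := fun b => by
    rw [IsFractionRing.lift_algebraMap]; rfl
  have hψ₂ : ∀ b : B, ψ₂ (algebraMap (B ⧸ Q) L (Ideal.Quotient.mk Q b)) = φ₂ b := fun b => by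
    rw [IsFractionRing.lift_algebraMap]; rfl
  -- agree on K
  have hK : ψ₁.comp (algebraMap K L) = ψ₂.comp (algebraMap K L) := by
    apply IsLocalization.ringHom_ext (nonZeroDivisors (A ⧸ P))
    apply Ideal.Quotient.ringHom_ext
    ext a
    simp only [RingHom.comp_apply]
    rw [← IsScalarTower.algebraMap_apply (A ⧸ P) K L,
      IsScalarTower.algebraMap_apply (A ⧸ P) (B ⧸ Q) L]
    have e : algebraMap (A ⧸ P) (B ⧸ Q) (Ideal.Quotient.mk P a) =
        Ideal.Quotient.mk Q (algebraMap A B a) := rfl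
    rw [e, hψ₁, hψ₂]
    exact congrArg (fun k => k a) h
  letI algLΩ : Algebra L Ω := ψ₁.toAlgebra
  letI algKΩ : Algebra K Ω := (ψ₁.comp (algebraMap K L)).toAlgebra
  haveI : IsScalarTower K L Ω := IsScalarTower.of_algebraMap_eq (fun _ => rfl)
  let ψ₂' : L →ₐ[K] Ω := { ψ₂ with commutes' := fun x => (congrArg (fun k => k x) hK).symm }
  let τ : L ≃ₐ[K] L := ψ₂'.restrictNormal' L
  have hτ : ∀ x : L, ψ₁ (τ x) = ψ₂ x := fun x => by
    have := AlgHom.restrictNormal_commutes ψ₂' L x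
    exact this
  obtain ⟨σ, hσ⟩ := IsFractionRing.stabilizerHom_surjective G P Q K L τ
  refine ⟨σ.1, fun b => ?_⟩
  rw [← hψ₂, ← hτ, ← hσ, IsFractionRing.stabilizerHom_apply_apply_mk, hψ₁]

/-- Two ring maps from `B` to a field which agree on the invariants differ by a group element. -/
theorem exists_smul_comp_eq {Ω : Type*} [Field Ω] (φ₁ φ₂ : B →+* Ω)
    (h : φ₁.comp (algebraMap A B) = φ₂.comp (algebraMap A B)) :
    ∃ g : G, ∀ b, φ₂ b = φ₁ (g • b) := by
  haveI : (RingHom.ker φ₁).IsPrime := RingHom.ker_isPrime φ₁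
  haveI : (RingHom.ker φ₂).IsPrime := RingHom.ker_isPrime φ₂
  have hunder : (RingHom.ker φ₁).under A = (RingHom.ker φ₂).under A := by
    ext a
    simp only [Ideal.under_def, Ideal.mem_comap, RingHom.mem_ker]
    have := congrArg (fun k => k a) h
    simp only [RingHom.comp_apply] at this
    rw [this]
  obtain ⟨g, hg⟩ := Algebra.IsInvariant.exists_smul_of_under_eq A B G
    (RingHom.ker φ₁) (RingHom.ker φ₂) hunder
  let φ₁' : B →+* Ω := φ₁.comp (MulSemiringAction.toRingHom G B g⁻¹)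
  have hφ₁' : ∀ b, φ₁' b = φ₁ (g⁻¹ • b) := fun _ => rfl
  have hker : RingHom.ker φ₁' = RingHom.ker φ₂ := by
    rw [hg]
    ext b
    rw [Ideal.mem_pointwise_smul_iff_inv_smul_mem, RingHom.mem_ker, RingHom.mem_ker, hφ₁']
  have h' : φ₁'.comp (algebraMap A B) = φ₂.comp (algebraMap A B) := by
    rw [← h]
    ext a
    simp only [RingHom.comp_apply, hφ₁', smul_algebraMap]
  obtain ⟨τ, hτ⟩ := exists_smul_comp_eq_of_ker_eq (A := A) (G := G) φ₁' φ₂ h' hker
  refine ⟨g⁻¹ * τ, fun b => ?_⟩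
  rw [hτ, hφ₁', mul_smul]

end Groth.Agent.H69.QuotTrans
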