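import Groth.Agent.H69.QuotBasis
import Groth.Agent.H69.QuotTrans
import Groth.Agent.H69.UHomeo
import Groth.Agent.H68.Quot
import Groth.Agent.S2925

/-! Quotients by finite groups: affineness, transitivity on field-valued points, base change up to
universal homeomorphism. -/

set_option autoImplicit false
set_option linter.style.haveILetI false
set_option linter.unusedSectionVars false
open AlgebraicGeometry CategoryTheory CategoryTheory.Limits TopologicalSpace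

universe u

namespace Groth.Agent.H69.QuotUH

open Groth.Agent.H69.QuotBasis Groth.Agent.H68.Quot

variable {X Y : Scheme.{u}} {G : Type u} [Group G] [Finite G]

/-- A quotient of an affine scheme by a finite group is affine. -/
theorem isAffine_of_isQuot [IsAffine X] (ρ : G →* Aut X) (r : X ⟶ Y) (hr : SGA1.IsQuot ρ r) :
    IsAffine Y := by
  let p' : X ⟶ Spec Γ(Y, ⊤) := r ≫ Y.toSpecΓ
  have hinv' : ∀ g : G, (ρ g).hom ≫ p' = p' := fun g => by
    simp only [p', ← Category.assoc, hr.inv g]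
  have happ : p'.appTop = Y.toSpecΓ.appTop ≫ r.appTop := Scheme.Hom.comp_appTop _ _
  have hiso : Function.Bijective Y.toSpecΓ.appTop.hom := by
    rw [Scheme.toSpecΓ_appTop]
    exact ConcreteCategory.bijective_of_isIso (Scheme.ΓSpecIso Γ(Y, ⊤)).hom
  have hq : SGA1.IsQuot ρ p' := by
    apply isQuot_of_isAffine ρ p' hinv'
    · rw [happ, CommRingCat.hom_comp]
      exact (hr.injective ⊤).comp hiso.1
    · intro t ht
      have h1 : t ∈ Set.range (r.app ⊤).hom := (hr.range_iff ⊤ t).mpr (fun g => by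
        have := act_top ρ r hr.inv g t
        rw [ht g] at this
        exact this)
      obtain ⟨s, hs⟩ := h1
      obtain ⟨s', hs'⟩ := hiso.2 s
      refine ⟨s', ?_⟩
      rw [happ, CommRingCat.hom_comp, RingHom.comp_apply, hs']
      exact hs
  obtain ⟨m, hm, -⟩ := Groth.Agent.S2925.result ρ r hr _ p' hinv'
  obtain ⟨m', hm', -⟩ := Groth.Agent.S2925.result ρ p' hq _ r hr.inv
  have e1 : m ≫ m' = 𝟙 Y := by
    apply (Groth.Agent.S2925.result ρ r hr _ r hr.inv).unique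
    · rw [← Category.assoc, hm, hm']
    · exact Category.comp_id _
  have e2 : m' ≫ m = 𝟙 _ := by
    apply (Groth.Agent.S2925.result ρ p' hq _ p' hinv').unique
    · rw [← Category.assoc, hm', hm]
    · exact Category.comp_id _
  haveI : IsIso m := ⟨⟨m', e1, e2⟩⟩
  exact IsAffine.of_isIso m

/-- A morphism from the spectrum of a field is determined by its comorphism on an affine open
containing the image. -/
theorem eq_of_appLE_eq {K : Type u} [Field K] {V : X.Opens} (hV : IsAffineOpen V)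
    (ξ₁ ξ₂ : Spec (.of K) ⟶ X) (h₁ : ξ₁ ⁻¹ᵁ V = ⊤) (h₂ : ξ₂ ⁻¹ᵁ V = ⊤)
    (h : ξ₁.appLE V ⊤ (le_of_eq h₁.symm) = ξ₂.appLE V ⊤ (le_of_eq h₂.symm)) : ξ₁ = ξ₂ := by
  have e1 := IsAffineOpen.SpecMap_appLE_fromSpec ξ₁ hV (isAffineOpen_top _) (le_of_eq h₁.symm)
  have e2 := IsAffineOpen.SpecMap_appLE_fromSpec ξ₂ hV (isAffineOpen_top _) (le_of_eq h₂.symm)
  rw [IsAffineOpen.fromSpec_top] at e1 e2
  rw [← cancel_epi (Spec (.of K)).isoSpec.inv, ← e1, ← e2, h]

/-- `G` acts transitively on the field-valued points of the fibres of a quotient. -/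
theorem exists_eq_comp_of_comp_eq (ρ : G →* Aut X) (q : X ⟶ Y) (hq : SGA1.IsQuot ρ q)
    {Ω : Type u} [Field Ω] (ξ₁ ξ₂ : Spec (.of Ω) ⟶ X) (h : ξ₁ ≫ q = ξ₂ ≫ q) :
    ∃ g : G, ξ₂ = ξ₁ ≫ (ρ g).hom := by
  haveI := hq.affine
  obtain ⟨U, hU, hyU, -⟩ := exists_isAffineOpen_mem_and_subset
    (x := (ξ₁ ≫ q) (IsLocalRing.closedPoint Ω)) (U := ⊤) trivial
  have hV : IsAffineOpen (q ⁻¹ᵁ U) := hU.preimage q
  have hm1 : ξ₁ (IsLocalRing.closedPoint Ω) ∈ q ⁻¹ᵁ U := hyU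
  have hm2 : ξ₂ (IsLocalRing.closedPoint Ω) ∈ q ⁻¹ᵁ U := by
    change q (ξ₂ _) ∈ U
    rw [← Scheme.Hom.comp_apply, ← h]; exact hyU
  have h1 : ξ₁ ⁻¹ᵁ (q ⁻¹ᵁ U) = ⊤ := Scheme.preimage_eq_top_of_closedPoint_mem ξ₁ hm1
  have h2 : ξ₂ ⁻¹ᵁ (q ⁻¹ᵁ U) = ⊤ := Scheme.preimage_eq_top_of_closedPoint_mem ξ₂ hm2
  have k1 : q.app U ≫ ξ₁.appLE (q ⁻¹ᵁ U) ⊤ (le_of_eq h1.symm) =
      (ξ₁ ≫ q).appLE U ⊤ (by rw [Scheme.Hom.comp_preimage, h1]) := by
    rw [Scheme.Hom.app_eq_appLE, Scheme.Hom.appLE_comp_appLE]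
  have k2 : q.app U ≫ ξ₂.appLE (q ⁻¹ᵁ U) ⊤ (le_of_eq h2.symm) =
      (ξ₂ ≫ q).appLE U ⊤ (by rw [Scheme.Hom.comp_preimage, h2]) := by
    rw [Scheme.Hom.app_eq_appLE, Scheme.Hom.appLE_comp_appLE]
  have k12 : q.app U ≫ ξ₁.appLE (q ⁻¹ᵁ U) ⊤ (le_of_eq h1.symm) =
      q.app U ≫ ξ₂.appLE (q ⁻¹ᵁ U) ⊤ (le_of_eq h2.symm) := by
    rw [k1, k2]
    exact appLE_congr _ _ h _ _ _ _
  let φ₁ : SecX hq U →+* Ω :=
    (ξ₁.appLE (q ⁻¹ᵁ U) ⊤ (le_of_eq h1.symm) ≫ (Scheme.ΓSpecIso (.of Ω)).hom).hom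
  let φ₂ : SecX hq U →+* Ω :=
    (ξ₂.appLE (q ⁻¹ᵁ U) ⊤ (le_of_eq h2.symm) ≫ (Scheme.ΓSpecIso (.of Ω)).hom).hom
  have hφ : φ₁.comp (algebraMap Γ(Y, U) (SecX hq U)) =
      φ₂.comp (algebraMap Γ(Y, U) (SecX hq U)) := by
    have := congrArg (fun t => (t ≫ (Scheme.ΓSpecIso (.of Ω)).hom).hom) k12
    simp only [Category.assoc, CommRingCat.hom_comp] at this
    exact this
  obtain ⟨g, hg⟩ := Groth.Agent.H69.QuotTrans.exists_smul_comp_eq (A := Γ(Y, U))
    (B := SecX hq U) (G := G) φ₁ φ₂ hφ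
  refine ⟨g⁻¹, ?_⟩
  have h3 : (ξ₁ ≫ (ρ g⁻¹).hom) ⁻¹ᵁ (q ⁻¹ᵁ U) = ⊤ := by
    rw [Scheme.Hom.comp_preimage, ← Scheme.Hom.comp_preimage (ρ g⁻¹).hom q, hq.inv, h1]
  symm
  apply eq_of_appLE_eq hV _ _ h3 h2
  have k3 : (ξ₁ ≫ (ρ g⁻¹).hom).appLE (q ⁻¹ᵁ U) ⊤ (le_of_eq h3.symm) =
      (ρ g⁻¹).hom.appLE (q ⁻¹ᵁ U) (q ⁻¹ᵁ U) (SGA1.preimage_le_of_inv ρ q hq.inv g⁻¹ U) ≫
        ξ₁.appLE (q ⁻¹ᵁ U) ⊤ (le_of_eq h1.symm) := by
    rw [Scheme.Hom.appLE_comp_appLE]
  rw [k3, ← cancel_mono (Scheme.ΓSpecIso (.of Ω)).hom]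
  apply CommRingCat.hom_ext
  ext b
  have := hg b
  rw [smul_def] at this
  exact this.symm

/-- Field-valued points lift along surjective morphisms after a field extension. -/
theorem exists_lift_field_point {X' Y' : Scheme.{u}} (r : X' ⟶ Y') [Surjective r]
    {K : Type u} [Field K] (y : Spec (.of K) ⟶ Y') :
    ∃ (K' : Type u) (_ : Field K') (c : Spec (.of K') ⟶ Spec (.of K)) (x : Spec (.of K') ⟶ X'),
      Epi c ∧ x ≫ r = c ≫ y := by
  haveI : Surjective (pullback.snd r y) := inferInstance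
  obtain ⟨z, -⟩ := (pullback.snd r y).surjective (IsLocalRing.closedPoint K)
  refine ⟨(pullback r y).residueField z, inferInstance,
    (pullback r y).fromSpecResidueField z ≫ pullback.snd r y,
    (pullback r y).fromSpecResidueField z ≫ pullback.fst r y, ?_, ?_⟩
  · obtain ⟨φ, hφ⟩ := Spec.map_surjective
      ((pullback r y).fromSpecResidueField z ≫ pullback.snd r y)
    rw [← hφ]
    haveI : Flat (Spec.map φ) := by
      rw [Flat.SpecMap_iff]
      letI := φ.hom.toAlgebra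
      exact (inferInstance : Module.Flat K ((pullback r y).residueField z))
    haveI : Surjective (Spec.map φ) :=
      ⟨fun x => ⟨IsLocalRing.closedPoint _, Subsingleton.elim (α := PrimeSpectrum K) _ _⟩⟩
    exact Flat.epi_of_flat_of_surjective _
  · rw [Category.assoc, Category.assoc, pullback.condition]

theorem isUnivHomeo_of_universallyClosed (f : X ⟶ Y) [UniversallyClosed f]
    [UniversallyInjective f] [Surjective f] : FlatMor.IsUnivHomeo f := by
  intro X' Y' i₁ i₂ f' h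
  have h1 : UniversallyClosed f' := MorphismProperty.of_isPullback h.flip inferInstance
  have h2 : UniversallyInjective f' := MorphismProperty.of_isPullback h.flip inferInstance
  have h3 : Surjective f' := MorphismProperty.of_isPullback h.flip inferInstance
  show IsHomeomorph f'
  rw [isHomeomorph_iff_continuous_isClosedMap_bijective]
  exact ⟨f'.continuous, f'.isClosedMap, f'.injective, f'.surjective⟩

end Groth.Agent.H69.QuotUH
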