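import Mathlib

set_option autoImplicit false
universe u

namespace Groth.Agent.H69

section tower
variable {A B : Type u} [CommRing A] [CommRing B] [Algebra A B]

/-- The set of entries of `l` strictly before position `i`. -/
def pre (l : List B) (i : Fin l.length) : Set B := {b | ∃ j : Fin l.length, j < i ∧ b = l.get j}

/-- A list is a tower for `Step` if each entry satisfies `Step` relative to the algebra generated
by the earlier entries. -/
def IsTower (Step : Subalgebra A B → B → Prop) (l : List B) : Prop :=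
  ∀ i : Fin l.length, Step (Algebra.adjoin A (pre l i)) (l.get i)

variable (Step : Subalgebra A B → B → Prop)

theorem isTower_nil : IsTower Step ([] : List B) := fun i => i.elim0

theorem isTower_append (hmono : ∀ (S S' : Subalgebra A B) (b : B), S ≤ S' → Step S b → Step S' b)
    (l₁ l₂ : List B) (h₁ : IsTower Step l₁)
    (h₂ : ∀ k : Fin l₂.length,
      Step (Algebra.adjoin A ({x | x ∈ l₁} ∪ pre l₂ k)) (l₂.get k)) :
    IsTower Step (l₁ ++ l₂) := by
  intro i
  have hilen : i.val < l₁.length + l₂.length := by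
    have h0 : i.val < (l₁ ++ l₂).length := i.2
    have h1 : (l₁ ++ l₂).length = l₁.length + l₂.length := List.length_append
    omega
  by_cases hi : i.val < l₁.length
  · have e : (l₁ ++ l₂).get i = l₁.get ⟨i.val, hi⟩ := by
      rw [List.get_eq_getElem, List.get_eq_getElem, List.getElem_append_left hi]
    rw [e]
    refine hmono _ _ _ (Algebra.adjoin_mono ?_) (h₁ ⟨i.val, hi⟩)
    rintro b ⟨j, hj, rfl⟩
    have hjlt : j.val < i.val := hj
    refine ⟨⟨j.val, by rw [List.length_append]; omega⟩, hjlt, ?_⟩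
    rw [List.get_eq_getElem, List.get_eq_getElem, List.getElem_append_left j.2]
  · push_neg at hi
    have hk : i.val - l₁.length < l₂.length := by omega
    have e : (l₁ ++ l₂).get i = l₂.get ⟨i.val - l₁.length, hk⟩ := by
      rw [List.get_eq_getElem, List.get_eq_getElem, List.getElem_append_right hi]
    rw [e]
    refine hmono _ _ _ (Algebra.adjoin_mono ?_) (h₂ ⟨i.val - l₁.length, hk⟩)
    rintro b (hb | ⟨j, hj, rfl⟩)
    · obtain ⟨n, hn, rfl⟩ := List.getElem_of_mem hb
      have hlt : n < i.val := by omega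
      refine ⟨⟨n, by rw [List.length_append]; omega⟩, hlt, ?_⟩
      rw [List.get_eq_getElem, List.getElem_append_left hn]
    · have hjlt : j.val < i.val - l₁.length := hj
      have hlt : l₁.length + j.val < i.val := by omega
      refine ⟨⟨l₁.length + j.val, by rw [List.length_append]; omega⟩, hlt, ?_⟩
      rw [List.get_eq_getElem, List.get_eq_getElem,
        List.getElem_append_right (Nat.le_add_right _ _)]
      congr 1
      omega

theorem isTower_append' (hmono : ∀ (S S' : Subalgebra A B) (b : B), S ≤ S' → Step S b → Step S' b)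
    (l₁ l₂ : List B) (h₁ : IsTower Step l₁) (h₂ : IsTower Step l₂) :
    IsTower Step (l₁ ++ l₂) :=
  isTower_append Step hmono l₁ l₂ h₁ fun k =>
    hmono _ _ _ (Algebra.adjoin_mono Set.subset_union_right) (h₂ k)

theorem isTower_concat (hmono : ∀ (S S' : Subalgebra A B) (b : B), S ≤ S' → Step S b → Step S' b)
    (l : List B) (b : B) (h₁ : IsTower Step l)
    (h₂ : Step (Algebra.adjoin A {x | x ∈ l}) b) : IsTower Step (l ++ [b]) := by
  refine isTower_append Step hmono l [b] h₁ fun k => ?_
  have e : ([b] : List B).get k = b := by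
    rw [List.get_eq_getElem]; simp
  rw [e]
  exact hmono _ _ _ (Algebra.adjoin_mono Set.subset_union_left) h₂

theorem isTower_get_mem (S : Subalgebra A B)
    (hS : ∀ (S' : Subalgebra A B) (b : B), S' ≤ S → Step S' b → b ∈ S)
    (l : List B) (h : IsTower Step l) : ∀ (n : ℕ) (i : Fin l.length), i.val = n → l.get i ∈ S := by
  intro n
  induction n using Nat.strong_induction_on with
  | _ n ih =>
    intro i hi
    apply hS _ _ _ (h i)
    rw [Algebra.adjoin_le_iff]
    rintro b ⟨j, hj, rfl⟩
    have hjlt : j.val < i.val := hj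
    exact ih j.val (by omega) j rfl

theorem adjoin_le_of_isTower (S : Subalgebra A B)
    (hS : ∀ (S' : Subalgebra A B) (b : B), S' ≤ S → Step S' b → b ∈ S)
    (l : List B) (h : IsTower Step l) : Algebra.adjoin A {x | x ∈ l} ≤ S := by
  rw [Algebra.adjoin_le_iff]
  intro b hb
  obtain ⟨n, hn, rfl⟩ := List.getElem_of_mem hb
  have := isTower_get_mem Step S hS l h n ⟨n, hn⟩ rfl
  rwa [List.get_eq_getElem] at this

/-- If every finite subset lies in a tower algebra, any `Step`-closed subalgebra is everything. -/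
theorem eq_top_of_towers (S : Subalgebra A B)
    (hS : ∀ (S' : Subalgebra A B) (b : B), S' ≤ S → Step S' b → b ∈ S)
    (H : ∀ E : Finset B, ∃ l : List B, (↑E : Set B) ⊆ Algebra.adjoin A {b : B | b ∈ l} ∧
      IsTower Step l) : S = ⊤ := by
  rw [eq_top_iff]
  intro b _
  obtain ⟨l, hl, ht⟩ := H {b}
  exact adjoin_le_of_isTower Step S hS l ht (hl (by simp))

/-- The union of all tower algebras. -/
def towerAlg (hmono : ∀ (S S' : Subalgebra A B) (b : B), S ≤ S' → Step S b → Step S' b) :
    Subalgebra A B where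
  carrier := {b | ∃ l : List B, IsTower Step l ∧ b ∈ Algebra.adjoin A {x | x ∈ l}}
  mul_mem' := by
    rintro a b ⟨l₁, h₁, ha⟩ ⟨l₂, h₂, hb⟩
    refine ⟨l₁ ++ l₂, isTower_append' Step hmono l₁ l₂ h₁ h₂, ?_⟩
    refine mul_mem (Algebra.adjoin_mono ?_ ha) (Algebra.adjoin_mono ?_ hb)
    · intro x hx; exact List.mem_append_left _ hx
    · intro x hx; exact List.mem_append_right _ hx
  add_mem' := by
    rintro a b ⟨l₁, h₁, ha⟩ ⟨l₂, h₂, hb⟩
    refine ⟨l₁ ++ l₂, isTower_append' Step hmono l₁ l₂ h₁ h₂, ?_⟩
    refine add_mem (Algebra.adjoin_mono ?_ ha) (Algebra.adjoin_mono ?_ hb)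
    · intro x hx; exact List.mem_append_left _ hx
    · intro x hx; exact List.mem_append_right _ hx
  algebraMap_mem' := fun a => ⟨[], isTower_nil Step, Subalgebra.algebraMap_mem _ a⟩

theorem mem_towerAlg (hmono : ∀ (S S' : Subalgebra A B) (b : B), S ≤ S' → Step S b → Step S' b)
    (b : B) : b ∈ towerAlg Step hmono ↔
      ∃ l : List B, IsTower Step l ∧ b ∈ Algebra.adjoin A {x | x ∈ l} := Iff.rfl

theorem exists_tower_of_finset
    (hmono : ∀ (S S' : Subalgebra A B) (b : B), S ≤ S' → Step S b → Step S' b) (E : Finset B)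
    (hE : ∀ e ∈ E, e ∈ towerAlg Step hmono) :
    ∃ l : List B, (↑E : Set B) ⊆ Algebra.adjoin A {b : B | b ∈ l} ∧ IsTower Step l := by
  classical
  induction E using Finset.induction_on with
  | empty => exact ⟨[], by simp, isTower_nil Step⟩
  | insert e E' _ ih =>
    obtain ⟨l', hl', ht'⟩ := ih (fun x hx => hE x (Finset.mem_insert_of_mem hx))
    obtain ⟨le, hte, hle⟩ := hE e (Finset.mem_insert_self _ _)
    refine ⟨l' ++ le, ?_, isTower_append' Step hmono l' le ht' hte⟩
    intro x hx
    rw [Finset.coe_insert] at hx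
    rcases hx with rfl | hx
    · exact Algebra.adjoin_mono (fun y hy => List.mem_append_right _ hy) hle
    · exact Algebra.adjoin_mono (fun y hy => List.mem_append_left _ hy) (hl' hx)

/-- If every proper subalgebra admits a `Step` outside it (and `Step` is finitary, witnessed by
two elements), the tower algebra is everything. -/
theorem towerAlg_eq_top
    (hmono : ∀ (S S' : Subalgebra A B) (b : B), S ≤ S' → Step S b → Step S' b)
    (hfin : ∀ (S : Subalgebra A B) (b : B), Step S b → ∃ x y : B, x ∈ S ∧ y ∈ S ∧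
      ∀ S' : Subalgebra A B, x ∈ S' → y ∈ S' → Step S' b)
    (hex : ∀ S : Subalgebra A B, S ≠ ⊤ → ∃ b, b ∉ S ∧ Step S b) :
    towerAlg Step hmono = ⊤ := by
  by_contra hne
  obtain ⟨b, hb, hstep⟩ := hex _ hne
  obtain ⟨x, y, hx, hy, hxy⟩ := hfin _ _ hstep
  obtain ⟨l₁, h₁, hx₁⟩ := hx
  obtain ⟨l₂, h₂, hy₂⟩ := hy
  apply hb
  refine ⟨(l₁ ++ l₂) ++ [b], isTower_concat Step hmono _ b
    (isTower_append' Step hmono l₁ l₂ h₁ h₂) (hxy _ ?_ ?_), ?_⟩
  · exact Algebra.adjoin_mono (fun z hz => List.mem_append_left _ hz) hx₁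
  · exact Algebra.adjoin_mono (fun z hz => List.mem_append_right _ hz) hy₂
  · exact Algebra.subset_adjoin (by simp)

end tower

end Groth.Agent.H69
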