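import Groth.Agent.H69.SNPrime
import Groth.Agent.H69.Tower
import Mathlib

set_option autoImplicit false
universe u
open AlgebraicGeometry CategoryTheory

namespace Groth.Agent.H69

theorem sq_cube_inj {L : Type*} [Field L] {x y : L} (h2 : x ^ 2 = y ^ 2) (h3 : x ^ 3 = y ^ 3) :
    x = y := by
  have h : (x - y) * y ^ 2 = 0 := by
    calc (x - y) * y ^ 2 = x * y ^ 2 - y ^ 3 := by ring
      _ = x * x ^ 2 - x ^ 3 := by rw [← h2, ← h3]
      _ = 0 := by ring
  rcases mul_eq_zero.mp h with h | h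
  · exact sub_eq_zero.mp h
  · have hy : y = 0 := by simpa using h
    have hx : x = 0 := by
      rw [hy] at h2
      simpa using h2
    rw [hx, hy]

theorem prime_pow_inj {L : Type*} [Field L] {p : ℕ} (hp : p.Prime) {x y : L}
    (h1 : (p : L) * x = (p : L) * y) (h2 : x ^ p = y ^ p) : x = y := by
  by_cases hp0 : (p : L) = 0
  · have hdvd : ringChar L ∣ p := (CharP.cast_eq_zero_iff L (ringChar L) p).mp hp0
    have hchar : ringChar L = p := by
      rcases (Nat.dvd_prime hp).mp hdvd with h | h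
      · exact absurd h CharP.ringChar_ne_one
      · exact h
    haveI : CharP L p := by
      have := ringChar.charP L
      rwa [hchar] at this
    haveI := Fact.mk hp
    apply frobenius_inj L p
    simpa [frobenius_def] using h2
  · exact mul_left_cancel₀ hp0 h1

theorem surjective_residueFieldMap_of_forall_mem_range {A B : Type u} [CommRing A] [CommRing B]
    (φ : A →+* B) (q : PrimeSpectrum B)
    (h : ∀ b : B, algebraMap B q.asIdeal.ResidueField b ∈
      Set.range (Ideal.ResidueField.map (q.asIdeal.comap φ) q.asIdeal φ rfl)) :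
    Function.Surjective (Ideal.ResidueField.map (q.asIdeal.comap φ) q.asIdeal φ rfl) := by
  intro k'
  obtain ⟨c, t, ht, hkt⟩ := exists_frac_residueField q.asIdeal k'
  obtain ⟨k₁, hk₁⟩ := h c
  obtain ⟨k₂, hk₂⟩ := h t
  have ht0 : algebraMap B q.asIdeal.ResidueField t ≠ 0 := by
    rw [Ne, Ideal.algebraMap_residueField_eq_zero]; exact ht
  refine ⟨k₁ / k₂, ?_⟩
  rw [map_div₀, hk₁, hk₂, div_eq_iff ht0]
  exact hkt.symm

section
variable {A B : Type u} [CommRing A] [CommRing B] [Algebra A B]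

/-- One step of the seminormal tower. -/
def StepSN (S : Subalgebra A B) (b : B) : Prop := b ^ 2 ∈ S ∧ b ^ 3 ∈ S

/-- One step of the absolutely weakly normal tower. -/
def StepAWN (S : Subalgebra A B) (b : B) : Prop :=
  (b ^ 2 ∈ S ∧ b ^ 3 ∈ S) ∨ ∃ p : ℕ, p.Prime ∧ (p : B) * b ∈ S ∧ b ^ p ∈ S

theorem stepSN_mono (S S' : Subalgebra A B) (b : B) (h : S ≤ S') (hs : StepSN S b) :
    StepSN S' b := ⟨h hs.1, h hs.2⟩

theorem stepAWN_mono (S S' : Subalgebra A B) (b : B) (h : S ≤ S') (hs : StepAWN S b) :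
    StepAWN S' b := by
  rcases hs with hs | ⟨p, hp, h1, h2⟩
  · exact Or.inl ⟨h hs.1, h hs.2⟩
  · exact Or.inr ⟨p, hp, h h1, h h2⟩

theorem stepSN_fin (S : Subalgebra A B) (b : B) (hs : StepSN S b) :
    ∃ x y : B, x ∈ S ∧ y ∈ S ∧ ∀ S' : Subalgebra A B, x ∈ S' → y ∈ S' → StepSN S' b :=
  ⟨b ^ 2, b ^ 3, hs.1, hs.2, fun _ hx hy => ⟨hx, hy⟩⟩

theorem stepAWN_fin (S : Subalgebra A B) (b : B) (hs : StepAWN S b) :
    ∃ x y : B, x ∈ S ∧ y ∈ S ∧ ∀ S' : Subalgebra A B, x ∈ S' → y ∈ S' → StepAWN S' b := by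
  rcases hs with hs | ⟨p, hp, h1, h2⟩
  · exact ⟨b ^ 2, b ^ 3, hs.1, hs.2, fun _ hx hy => Or.inl ⟨hx, hy⟩⟩
  · exact ⟨(p : B) * b, b ^ p, h1, h2, fun _ hx hy => Or.inr ⟨p, hp, hx, hy⟩⟩

theorem isTower_awn_of_sn (l : List B) (h : IsTower (StepSN (A := A)) l) :
    IsTower (StepAWN (A := A)) l := fun i => Or.inl (h i)

variable (H : ∀ E : Finset B, ∃ l : List B, (↑E : Set B) ⊆ Algebra.adjoin A {b : B | b ∈ l} ∧
      IsTower (StepAWN (A := A)) l)

include H in
theorem isIntegral_of_towers : (algebraMap A B).IsIntegral := by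
  have htop : integralClosure A B = ⊤ := by
    apply eq_top_of_towers (StepAWN (A := A)) _ _ H
    intro S' b hS' hs
    rcases hs with hs | ⟨p, hp, -, h2⟩
    · have h1 : IsIntegral A (b ^ 2) := hS' hs.1
      exact IsIntegral.of_pow (by norm_num) h1
    · have h1 : IsIntegral A (b ^ p) := hS' h2
      exact IsIntegral.of_pow hp.pos h1
  intro b
  have hb : b ∈ integralClosure A B := by rw [htop]; trivial
  exact hb

include H in
theorem ext_of_towers (L : Type u) [Field L] (f g : B →+* L)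
    (hfg : f.comp (algebraMap A B) = g.comp (algebraMap A B)) : f = g := by
  letI : Algebra A L := (f.comp (algebraMap A B)).toAlgebra
  let f' : B →ₐ[A] L := { f with commutes' := fun a => rfl }
  let g' : B →ₐ[A] L := { g with commutes' := fun a => (congrArg (fun k => k a) hfg).symm }
  have htop : AlgHom.equalizer f' g' = ⊤ := by
    apply eq_top_of_towers (StepAWN (A := A)) _ _ H
    intro S' b hS' hs
    rw [AlgHom.mem_equalizer]
    show f b = g b
    rcases hs with hs | ⟨p, hp, h1, h2⟩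
    · have e2 : f (b ^ 2) = g (b ^ 2) := hS' hs.1
      have e3 : f (b ^ 3) = g (b ^ 3) := hS' hs.2
      rw [map_pow, map_pow] at e2 e3
      exact sq_cube_inj e2 e3
    · have e1 : f ((p : B) * b) = g ((p : B) * b) := hS' h1
      have e2 : f (b ^ p) = g (b ^ p) := hS' h2
      rw [map_mul, map_mul, map_natCast, map_natCast] at e1
      rw [map_pow, map_pow] at e2
      exact prime_pow_inj hp e1 e2
  ext b
  have hb : b ∈ AlgHom.equalizer f' g' := by rw [htop]; trivial
  exact hb

end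

section
variable {A B : Type u} [CommRing A] [CommRing B] [Algebra A B]

theorem resTriv_of_towers
    (H : ∀ E : Finset B, ∃ l : List B, (↑E : Set B) ⊆ Algebra.adjoin A {b : B | b ∈ l} ∧
      IsTower (StepSN (A := A)) l) : ResTriv (algebraMap A B) := by
  intro q
  apply surjective_residueFieldMap_of_forall_mem_range
  let S : Subalgebra A B :=
    { carrier := {b | algebraMap B q.asIdeal.ResidueField b ∈
        Set.range (Ideal.ResidueField.map (q.asIdeal.comap (algebraMap A B)) q.asIdeal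
          (algebraMap A B) rfl)}
      mul_mem' := by
        rintro a b ⟨ka, ha⟩ ⟨kb, hb⟩
        exact ⟨ka * kb, by rw [map_mul, map_mul, ha, hb]⟩
      add_mem' := by
        rintro a b ⟨ka, ha⟩ ⟨kb, hb⟩
        exact ⟨ka + kb, by rw [map_add, map_add, ha, hb]⟩
      algebraMap_mem' := fun a => ⟨algebraMap A _ a, Ideal.ResidueField.map_algebraMap _ _ _ rfl a⟩ }
  have htop : S = ⊤ := by
    apply eq_top_of_towers (StepSN (A := A)) _ _ H
    intro S' b hS' hs
    obtain ⟨k₂, hk₂⟩ : b ^ 2 ∈ S := hS' hs.1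
    obtain ⟨k₃, hk₃⟩ : b ^ 3 ∈ S := hS' hs.2
    show algebraMap B q.asIdeal.ResidueField b ∈ Set.range _
    by_cases hb0 : algebraMap B q.asIdeal.ResidueField b = 0
    · exact ⟨0, by rw [map_zero, hb0]⟩
    · refine ⟨k₃ / k₂, ?_⟩
      rw [map_div₀, hk₂, hk₃, map_pow, map_pow]
      field_simp
  intro b
  have hb : b ∈ S := by rw [htop]; trivial
  exact hb

end

end Groth.Agent.H69
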