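import Groth.Agent.H69.UHCancel
import Groth.Agent.S7400
import Groth.Agent.S7401
import Mathlib

set_option autoImplicit false
universe u
open AlgebraicGeometry CategoryTheory

namespace Groth.Agent.H69

theorem isUnivHomeo_of_integral_of_ext_of_ker_nil {A B : Type u} [CommRing A] [CommRing B]
    (φ : A →+* B) (hint : φ.IsIntegral)
    (hext : ∀ (L : Type u) [Field L] (f g : B →+* L), f.comp φ = g.comp φ → f = g)
    (hker : ∀ a ∈ RingHom.ker φ, IsNilpotent a) :
    FlatMor.IsUnivHomeo (Spec.map (CommRingCat.ofHom φ)) := by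
  haveI : IsIntegralHom (Spec.map (CommRingCat.ofHom φ)) := IsIntegralHom.SpecMap_iff.mpr hint
  haveI : UniversallyInjective (Spec.map (CommRingCat.ofHom φ)) :=
    universallyInjective_Spec_of_ringHom_ext φ hext
  haveI : Surjective (Spec.map (CommRingCat.ofHom φ)) := by
    refine ⟨fun P => ?_⟩
    obtain ⟨Q, hQ, hQP⟩ := exists_prime_comap_eq_of_isIntegral' φ hint P.asIdeal (by
      intro a ha
      exact (nilpotent_iff_mem_prime.mp (hker a ha)) _ P.2)
    exact ⟨⟨Q, hQ⟩, PrimeSpectrum.ext hQP⟩
  exact isUnivHomeo_of_integral _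

section
variable {A B : Type u} [CommRing A] [CommRing B] [Algebra A B]

/-- `S` is closed under `Step`. -/
def StepClosed (Step : Subalgebra A B → B → Prop) (S : Subalgebra A B) : Prop :=
  ∀ b, Step S b → b ∈ S

/-- The smallest `Step`-closed subalgebra. -/
def relClosure (Step : Subalgebra A B → B → Prop) : Subalgebra A B :=
  sInf {S | StepClosed Step S}

theorem relClosure_closed (Step : Subalgebra A B → B → Prop)
    (hmono : ∀ (S S' : Subalgebra A B) (b : B), S ≤ S' → Step S b → Step S' b) :
    StepClosed Step (relClosure Step) := by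
  intro b hb
  rw [relClosure, Algebra.mem_sInf]
  intro S hS
  exact hS b (hmono _ _ b (sInf_le hS) hb)

theorem relClosure_le (Step : Subalgebra A B → B → Prop) (S : Subalgebra A B)
    (hS : StepClosed Step S) : relClosure Step ≤ S := sInf_le hS

theorem ker_algebraMap_subalgebra (S : Subalgebra A B) (a : A)
    (ha : a ∈ RingHom.ker (algebraMap A S)) : a ∈ RingHom.ker (algebraMap A B) := by
  rw [RingHom.mem_ker] at ha ⊢
  exact congrArg Subtype.val ha

theorem isIntegral_relClosure_awn :
    (algebraMap A (relClosure (StepAWN (A := A) (B := B)))).IsIntegral := by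
  have hle : relClosure (StepAWN (A := A) (B := B)) ≤ integralClosure A B := by
    apply relClosure_le
    intro b hs
    rcases hs with hs | ⟨p, hp, -, h2⟩
    · exact IsIntegral.of_pow (n := 2) (by norm_num) hs.1
    · exact IsIntegral.of_pow hp.pos h2
  intro b'
  have h1 : IsIntegral A (b' : B) := hle b'.2
  exact (isIntegral_algHom_iff (relClosure (StepAWN (A := A) (B := B))).val
    Subtype.val_injective).mp h1

theorem ext_relClosure_awn (L : Type u) [Field L]
    (f g : relClosure (StepAWN (A := A) (B := B)) →+* L)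
    (hfg : f.comp (algebraMap A _) = g.comp (algebraMap A _)) : f = g := by
  letI : Algebra A L := (f.comp (algebraMap A _)).toAlgebra
  let f' : relClosure (StepAWN (A := A) (B := B)) →ₐ[A] L := { f with commutes' := fun a => rfl }
  let g' : relClosure (StepAWN (A := A) (B := B)) →ₐ[A] L :=
    { g with commutes' := fun a => (congrArg (fun k => k a) hfg).symm }
  have hcl : StepClosed (StepAWN (A := A) (B := B))
      ((AlgHom.equalizer f' g').map (relClosure (StepAWN (A := A) (B := B))).val) := by
    intro b hs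
    have hsub : (AlgHom.equalizer f' g').map (relClosure (StepAWN (A := A) (B := B))).val ≤
        relClosure (StepAWN (A := A) (B := B)) := by
      rintro _ ⟨x, -, rfl⟩
      exact x.2
    have hb : b ∈ relClosure (StepAWN (A := A) (B := B)) :=
      relClosure_closed _ stepAWN_mono b (stepAWN_mono _ _ b hsub hs)
    refine ⟨⟨b, hb⟩, ?_, rfl⟩
    show f ⟨b, hb⟩ = g ⟨b, hb⟩
    have key : ∀ (y : B) (hy : y ∈ (AlgHom.equalizer f' g').map
        (relClosure (StepAWN (A := A) (B := B))).val)
        (hy' : y ∈ relClosure (StepAWN (A := A) (B := B))), f ⟨y, hy'⟩ = g ⟨y, hy'⟩ := by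
      rintro _ ⟨x, hx, rfl⟩ hy'
      exact hx
    rcases hs with hs | ⟨p, hp, h1, h2⟩
    · have e2 := key _ hs.1 (Subalgebra.pow_mem _ hb 2)
      have e3 := key _ hs.2 (Subalgebra.pow_mem _ hb 3)
      have e2' : f ⟨b, hb⟩ ^ 2 = g ⟨b, hb⟩ ^ 2 := by
        rw [← map_pow, ← map_pow]; exact e2
      have e3' : f ⟨b, hb⟩ ^ 3 = g ⟨b, hb⟩ ^ 3 := by
        rw [← map_pow, ← map_pow]; exact e3
      exact sq_cube_inj e2' e3'
    · have e1 := key _ h1 (Subalgebra.mul_mem _ (Subalgebra.natCast_mem _ p) hb)
      have e2 := key _ h2 (Subalgebra.pow_mem _ hb p)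
      have e1' : f ((p : relClosure (StepAWN (A := A) (B := B))) * ⟨b, hb⟩) =
          g ((p : relClosure (StepAWN (A := A) (B := B))) * ⟨b, hb⟩) := e1
      rw [map_mul, map_mul, map_natCast, map_natCast] at e1'
      have e2' : f ⟨b, hb⟩ ^ p = g ⟨b, hb⟩ ^ p := by
        rw [← map_pow, ← map_pow]; exact e2
      exact prime_pow_inj hp e1' e2'
  have hle := relClosure_le _ _ hcl
  ext b'
  obtain ⟨x, hx, hxb⟩ := hle b'.2
  have : x = b' := Subtype.ext hxb
  rw [← this]
  exact hx

theorem isUnivHomeo_relClosure_awn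
    (hker : ∀ a ∈ RingHom.ker (algebraMap A B), IsNilpotent a) :
    FlatMor.IsUnivHomeo (Spec.map (CommRingCat.ofHom
      (algebraMap A (relClosure (StepAWN (A := A) (B := B)))))) :=
  isUnivHomeo_of_integral_of_ext_of_ker_nil _ isIntegral_relClosure_awn
    (fun L _ f g h => ext_relClosure_awn L f g h)
    (fun a ha => hker a (ker_algebraMap_subalgebra _ a ha))

theorem le_relClosure_awn (C' : Subalgebra A B) (hC' : RingUH (algebraMap A C')) :
    C' ≤ relClosure (StepAWN (A := A) (B := B)) := by
  apply le_sInf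
  intro S hS
  have hT : S.comap C'.val = ⊤ := by
    by_contra hT
    obtain ⟨c, hc, hstep⟩ := Groth.Agent.S7401.hex_awn hC' _ hT
    apply hc
    show (c : B) ∈ S
    apply hS
    rcases hstep with hs | ⟨p, hp, h1, h2⟩
    · exact Or.inl ⟨hs.1, hs.2⟩
    · exact Or.inr ⟨p, hp, by simpa using h1, h2⟩
  intro b hb
  have : (⟨b, hb⟩ : C') ∈ S.comap C'.val := by rw [hT]; trivial
  exact this

theorem ringUH_range {C : Type u} [CommRing C] [Algebra A C] (g : C →ₐ[A] B)
    (hC : RingUH (algebraMap A C))
    (hker : ∀ a ∈ RingHom.ker (algebraMap A B), IsNilpotent a) :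
    RingUH (algebraMap A g.range) := by
  apply ringUH_of_isUnivHomeo
  apply isUnivHomeo_of_integral_of_ext_of_ker_nil
  · rintro ⟨_, c, rfl⟩
    have h1 : IsIntegral A c := hC.integral c
    have h2 : IsIntegral A (g c) := h1.map g
    exact (isIntegral_algHom_iff g.range.val Subtype.val_injective).mp h2
  · intro L _ f h hfh
    have h1 : f.comp (g.rangeRestrict : C →+* g.range) = h.comp (g.rangeRestrict : C →+* g.range) := by
      apply hC.ext L
      ext a
      have e : (g.rangeRestrict : C →+* g.range) (algebraMap A C a) = algebraMap A g.range a :=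
        g.rangeRestrict.commutes a
      simp only [RingHom.comp_apply]
      rw [e]
      exact congrArg (fun k => k a) hfh
    ext ⟨_, c, rfl⟩
    exact congrArg (fun k => k c) h1
  · intro a ha
    exact hker a (ker_algebraMap_subalgebra _ a ha)

end

end Groth.Agent.H69
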