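import Mathlib

set_option autoImplicit false
universe u
open AlgebraicGeometry CategoryTheory

namespace Groth.Agent.H69

/-- Every element of the residue field at a point of an affine open is a quotient of evaluations
of sections. -/
theorem exists_evaluation_div {X : Scheme.{u}} {V : X.Opens} (hV : IsAffineOpen V) (x : X)
    (hx : x ∈ V) (l : X.residueField x) :
    ∃ a s : Γ(X, V), (X.evaluation V x hx).hom s ≠ 0 ∧
      l * (X.evaluation V x hx).hom s = (X.evaluation V x hx).hom a := by
  obtain ⟨z, rfl⟩ := X.residue_surjective x l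
  letI : Algebra Γ(X, V) (X.presheaf.stalk x) :=
    TopCat.Presheaf.algebra_section_stalk X.presheaf (⟨x, hx⟩ : V)
  haveI : IsLocalization.AtPrime (X.presheaf.stalk x) (hV.primeIdealOf ⟨x, hx⟩).asIdeal :=
    hV.isLocalization_stalk ⟨x, hx⟩
  obtain ⟨⟨a, s⟩, rfl⟩ := IsLocalization.mk'_surjective (hV.primeIdealOf ⟨x, hx⟩).asIdeal.primeCompl z
  refine ⟨a, s.1, ?_, ?_⟩
  · have hu : IsUnit (algebraMap Γ(X, V) (X.presheaf.stalk x) s.1) :=
      IsLocalization.map_units (M := (hV.primeIdealOf ⟨x, hx⟩).asIdeal.primeCompl) _ s
    have hu2 : IsUnit ((X.residue x).hom (algebraMap Γ(X, V) (X.presheaf.stalk x) s.1)) :=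
      hu.map _
    exact hu2.ne_zero
  · have h1 := IsLocalization.mk'_spec (M := (hV.primeIdealOf ⟨x, hx⟩).asIdeal.primeCompl)
      (X.presheaf.stalk x) a s
    have h2 := congrArg (X.residue x).hom h1
    rw [map_mul] at h2
    exact h2

/-- If `p` is a morphism, `U` an affine open of the target with affine preimage, and the sections
over the preimage are spanned over the sections over `U` by a finite set `s`, then all residue
field extensions at points over `U` have degree at most the cardinality of `s`. -/
theorem finrank_residueField_le_card {T' T : Scheme.{u}} (p : T' ⟶ T) (U : T.Opens)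
    (hV : IsAffineOpen (p ⁻¹ᵁ U)) (s : Finset Γ(T', p ⁻¹ᵁ U))
    (hs : letI := (p.app U).hom.toAlgebra
      Submodule.span Γ(T, U) (s : Set Γ(T', p ⁻¹ᵁ U)) = ⊤)
    (t' : T') (ht : p t' ∈ U) :
    letI := (p.residueFieldMap t').hom.toAlgebra
    Module.Finite (T.residueField (p t')) (T'.residueField t') ∧
      Module.finrank (T.residueField (p t')) (T'.residueField t') ≤ s.card := by
  classical
  letI := (p.residueFieldMap t').hom.toAlgebra
  letI := (p.app U).hom.toAlgebra
  set K := T.residueField (p t') with hK
  set L := T'.residueField t' with hL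
  let ev' : Γ(T', p ⁻¹ᵁ U) →+* L := (T'.evaluation (p ⁻¹ᵁ U) t' ht).hom
  let ev : Γ(T, U) →+* K := (T.evaluation U (p t') ht).hom
  have hnat : ∀ a, ev' (algebraMap Γ(T, U) Γ(T', p ⁻¹ᵁ U) a) = algebraMap K L (ev a) := by
    intro a
    exact (Scheme.evaluation_naturality_apply p t' ht a).symm
  let W : Submodule K L := Submodule.span K (ev' '' (s : Set Γ(T', p ⁻¹ᵁ U)))
  -- step a
  have ha : ∀ b, ev' b ∈ W := by
    intro b
    have hb : b ∈ Submodule.span Γ(T, U) (s : Set Γ(T', p ⁻¹ᵁ U)) := by rw [hs]; trivial
    induction hb using Submodule.span_induction with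
    | mem x hx => exact Submodule.subset_span ⟨x, hx, rfl⟩
    | zero => rw [map_zero]; exact zero_mem _
    | add x y _ _ hx hy => rw [map_add]; exact add_mem hx hy
    | smul a x _ hx =>
      rw [Algebra.smul_def, map_mul, hnat, ← Algebra.smul_def]
      exact W.smul_mem _ hx
  -- step b: closed under multiplication
  have hmul : ∀ x ∈ W, ∀ y ∈ W, x * y ∈ W := by
    intro x hx y hy
    induction hx using Submodule.span_induction with
    | mem x hx =>
      obtain ⟨b, _, rfl⟩ := hx
      induction hy using Submodule.span_induction with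
      | mem y hy =>
        obtain ⟨c, _, rfl⟩ := hy
        rw [← map_mul]; exact ha _
      | zero => rw [mul_zero]; exact zero_mem _
      | add y z _ _ hy hz => rw [mul_add]; exact add_mem hy hz
      | smul a y _ hy => rw [mul_smul_comm]; exact W.smul_mem _ hy
    | zero => rw [zero_mul]; exact zero_mem _
    | add x z _ _ hx hz => rw [add_mul]; exact add_mem hx hz
    | smul a x _ hx => rw [smul_mul_assoc]; exact W.smul_mem _ hx
  let S : Subalgebra K L :=
    { carrier := W
      mul_mem' := fun {x y} hx hy => hmul x hx y hy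
      add_mem' := fun {x y} hx hy => W.add_mem hx hy
      algebraMap_mem' := fun k => by
        have h1 : (1 : L) ∈ W := by
          have := ha 1
          rwa [map_one] at this
        have : algebraMap K L k = k • (1 : L) := by rw [Algebra.smul_def, mul_one]
        show algebraMap K L k ∈ W
        rw [this]
        exact W.smul_mem _ h1 }
  have hSW : ∀ x, x ∈ S ↔ x ∈ W := fun x => Iff.rfl
  haveI hWfin : Module.Finite K W := by
    apply Module.Finite.span_of_finite
    exact (s.finite_toSet).image _
  haveI : Module.Finite K S := hWfin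
  have hWtop : W = ⊤ := by
    rw [eq_top_iff]
    intro l _
    obtain ⟨a, c, hc, hl⟩ := exists_evaluation_div hV t' ht l
    have hinv : (ev' c)⁻¹ ∈ S := by
      apply Subalgebra.inv_mem_of_algebraic (x := ⟨ev' c, ha c⟩)
      exact (Algebra.IsAlgebraic.isAlgebraic (R := K) (⟨ev' c, ha c⟩ : S)).algebraMap
    have : l = ev' a * (ev' c)⁻¹ := by
      rw [eq_mul_inv_iff_mul_eq₀ hc]
      exact hl
    rw [this]
    exact hmul _ (ha a) _ hinv
  have hfin : Module.Finite K L := by
    have : Module.Finite K (⊤ : Submodule K L) := hWtop ▸ hWfin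
    exact Module.Finite.of_surjective (⊤ : Submodule K L).subtype
      (fun x => ⟨⟨x, trivial⟩, rfl⟩)
  refine ⟨hfin, ?_⟩
  have h1 : Module.finrank K W ≤ (s.image ev').card := by
    have : W = Submodule.span K ((s.image ev' : Finset L) : Set L) := by
      simp [W]
    rw [this]
    exact finrank_span_finset_le_card _
  have h2 : Module.finrank K L = Module.finrank K W := by
    rw [hWtop, finrank_top]
  rw [h2]
  exact h1.trans Finset.card_image_le

end Groth.Agent.H69
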