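import Mathlib
import Groth.Prelude.Def_W4c2submetdescSubtr
import Groth.Agent.H69.SubtrScheme
import Groth.Agent.H69.ChainLift

/-!
# Locally closed retrocompact subsets and universally S-subtrusive morphisms
-/

set_option autoImplicit false
set_option linter.style.haveILetI false

universe u

open CategoryTheory CategoryTheory.Limits AlgebraicGeometry TopologicalSpace

namespace Groth.Agent.H69.RetroLC

/-- For affine opens `W ≤ f⁻¹ V`, the preimage of a compact open `N ≤ V` meets `W` in a compact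
set. -/
theorem isCompact_preimage_inter_of_isAffineOpen {X Y : Scheme.{u}} (f : X ⟶ Y)
    {W : X.Opens} {V : Y.Opens} (hW : IsAffineOpen W) (hV : IsAffineOpen V)
    (hWV : W ≤ f ⁻¹ᵁ V) (N : Y.Opens) (hN : IsCompact (N : Set Y)) (hNV : N ≤ V) :
    IsCompact ((f.base ⁻¹' (N : Set Y)) ∩ (W : Set X)) := by
  haveI : IsAffine W.toScheme := hW
  haveI : IsAffine V.toScheme := hV
  let h := f.resLE V W hWV
  have hcomm : ∀ w : W.toScheme, V.ι.base (h.base w) = f.base (W.ι.base w) := by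
    intro w
    have := congrArg (fun q : W.toScheme ⟶ Y => q.base w) (Scheme.Hom.resLE_comp_ι f hWV)
    exact this
  have hN' : IsCompact (V.ι.base ⁻¹' (N : Set Y)) := by
    rw [V.ι.isEmbedding.isInducing.isCompact_preimage_iff]
    · exact hN
    · intro p hp
      rw [Scheme.Opens.range_ι]
      exact hNV hp
  have hN'o : IsOpen (V.ι.base ⁻¹' (N : Set Y)) := N.isOpen.preimage V.ι.continuous
  have h1 : IsCompact (h.base ⁻¹' (V.ι.base ⁻¹' (N : Set Y))) :=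
    QuasiCompact.isCompact_preimage (f := h) _ hN'o hN'
  have h2 := h1.image W.ι.continuous
  convert h2 using 1
  ext x
  constructor
  · rintro ⟨hxN, hxW⟩
    refine ⟨⟨x, hxW⟩, ?_, rfl⟩
    change V.ι.base (h.base ⟨x, hxW⟩) ∈ (N : Set Y)
    rw [hcomm]
    exact hxN
  · rintro ⟨w, hw, rfl⟩
    refine ⟨?_, w.2⟩
    change f.base (W.ι.base w) ∈ (N : Set Y)
    rw [← hcomm]
    exact hw

/-- Affine piece of: the preimage of a locally closed retrocompact set is retrocompact. -/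
theorem isCompact_preimage_inter_of_isRetrocompact {X Y : Scheme.{u}} (f : X ⟶ Y)
    {W : X.Opens} {V : Y.Opens} (hW : IsAffineOpen W) (hV : IsAffineOpen V)
    (hWV : W ≤ f ⁻¹ᵁ V) {O Z : Set Y} (hO : IsOpen O) (hZ : IsClosed Z)
    (hE : IsRetrocompact (O ∩ Z)) :
    IsCompact ((f.base ⁻¹' (O ∩ Z)) ∩ (W : Set X)) := by
  have hEV : IsCompact ((O ∩ Z) ∩ (V : Set Y)) := hE hV.isCompact V.isOpen
  let O' : Y.Opens := ⟨O, hO⟩
  have hex : ∀ y : ↥((O ∩ Z) ∩ (V : Set Y)), ∃ N : Y.Opens, IsAffineOpen N ∧ y.1 ∈ N ∧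
      N ≤ O' ⊓ V := by
    intro y
    obtain ⟨N, hN, hyN, hNle⟩ := (Opens.isBasis_iff_nbhd.mp Y.isBasis_affineOpens)
      (show y.1 ∈ O' ⊓ V from ⟨y.2.1.1, y.2.2⟩)
    exact ⟨N, hN, hyN, hNle⟩
  choose N hNaff hyN hNle using hex
  obtain ⟨t, ht⟩ := hEV.elim_nhds_subcover' (fun y hy => (N ⟨y, hy⟩ : Set Y))
    (fun y hy => (N ⟨y, hy⟩).isOpen.mem_nhds (hyN ⟨y, hy⟩))
  have heq : (f.base ⁻¹' (O ∩ Z)) ∩ (W : Set X) =
      ⋃ y ∈ t, (f.base ⁻¹' Z) ∩ ((f.base ⁻¹' ((N y : Y.Opens) : Set Y)) ∩ (W : Set X)) := by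
    ext x
    simp only [Set.mem_inter_iff, Set.mem_preimage, Set.mem_iUnion, exists_prop]
    constructor
    · rintro ⟨⟨hxO, hxZ⟩, hxW⟩
      have hxV : f.base x ∈ (V : Set Y) := hWV hxW
      have := ht ⟨⟨hxO, hxZ⟩, hxV⟩
      simp only [Set.mem_iUnion, exists_prop] at this
      obtain ⟨y, hyt, hxy⟩ := this
      exact ⟨y, hyt, hxZ, hxy, hxW⟩
    · rintro ⟨y, -, hxZ, hxy, hxW⟩
      exact ⟨⟨(hNle y hxy).1, hxZ⟩, hxW⟩
  rw [heq]
  apply Finset.isCompact_biUnion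
  intro y _
  apply IsCompact.inter_left _ (hZ.preimage f.continuous)
  exact isCompact_preimage_inter_of_isAffineOpen f hW hV hWV (N y) (hNaff y).isCompact
    ((hNle y).trans inf_le_right)

/-- The preimage of a locally closed retrocompact subset under any morphism of schemes is
retrocompact. -/
theorem isRetrocompact_preimage {X Y : Scheme.{u}} (f : X ⟶ Y) {O Z : Set Y} (hO : IsOpen O)
    (hZ : IsClosed Z) (hE : IsRetrocompact (O ∩ Z)) :
    IsRetrocompact (f.base ⁻¹' (O ∩ Z)) := by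
  intro U' hU'c hU'o
  let U'' : X.Opens := ⟨U', hU'o⟩
  have hex : ∀ x : ↥U', ∃ (V : Y.Opens) (W : X.Opens), IsAffineOpen V ∧ IsAffineOpen W ∧
      x.1 ∈ W ∧ W ≤ f ⁻¹ᵁ V ∧ W ≤ U'' := by
    intro x
    obtain ⟨V, hV, hxV, -⟩ := (Opens.isBasis_iff_nbhd.mp Y.isBasis_affineOpens)
      (show f.base x.1 ∈ (⊤ : Y.Opens) from trivial)
    obtain ⟨W, hW, hxW, hWle⟩ := (Opens.isBasis_iff_nbhd.mp X.isBasis_affineOpens)
      (show x.1 ∈ f ⁻¹ᵁ V ⊓ U'' from ⟨hxV, x.2⟩)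
    exact ⟨V, W, hV, hW, hxW, hWle.trans inf_le_left, hWle.trans inf_le_right⟩
  choose V W hV hW hxW hWV hWU using hex
  obtain ⟨t, ht⟩ := hU'c.elim_nhds_subcover' (fun x hx => (W ⟨x, hx⟩ : Set X))
    (fun x hx => (W ⟨x, hx⟩).isOpen.mem_nhds (hxW ⟨x, hx⟩))
  have heq : f.base ⁻¹' (O ∩ Z) ∩ U' =
      ⋃ x ∈ t, (f.base ⁻¹' (O ∩ Z)) ∩ ((W x : X.Opens) : Set X) := by
    ext p
    simp only [Set.mem_inter_iff, Set.mem_iUnion, exists_prop]
    constructor
    · rintro ⟨hp, hpU⟩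
      have := ht hpU
      simp only [Set.mem_iUnion, exists_prop] at this
      obtain ⟨x, hxt, hpx⟩ := this
      exact ⟨x, hxt, hp, hpx⟩
    · rintro ⟨x, -, hp, hpx⟩
      exact ⟨hp, hWU x hpx⟩
  rw [heq]
  apply Finset.isCompact_biUnion
  intro x _
  exact isCompact_preimage_inter_of_isRetrocompact f (hW x) (hV x) (hWV x) hO hZ hE

/-- Affine piece of `exists_specializes_of_mem_closure_image_inter`. -/
theorem exists_specializes_of_mem_closure_image_affine {X Y : Scheme.{u}} (f : X ⟶ Y)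
    {W : X.Opens} {V : Y.Opens} (hW : IsAffineOpen W) (hV : IsAffineOpen V)
    (hWV : W ≤ f ⁻¹ᵁ V) {C : Set X} (hC : IsClosed C) {y : Y} (hyV : y ∈ V)
    (hy : y ∈ closure (f.base '' (C ∩ (W : Set X)))) :
    ∃ z ∈ C ∩ (W : Set X), f.base z ⤳ y := by
  haveI : IsAffine W.toScheme := hW
  haveI : IsAffine V.toScheme := hV
  let h := f.resLE V W hWV
  have hcomm : ∀ w : W.toScheme, V.ι.base (h.base w) = f.base (W.ι.base w) := by
    intro w
    have := congrArg (fun q : W.toScheme ⟶ Y => q.base w) (Scheme.Hom.resLE_comp_ι f hWV)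
    exact this
  let C' : Set W.toScheme := W.ι.base ⁻¹' C
  have hC' : IsClosed C' := hC.preimage W.ι.continuous
  let y' : V.toScheme := ⟨y, hyV⟩
  have himg : V.ι.base '' (h.base '' C') = f.base '' (C ∩ (W : Set X)) := by
    ext p
    constructor
    · rintro ⟨_, ⟨w, hw, rfl⟩, rfl⟩
      exact ⟨W.ι.base w, ⟨hw, w.2⟩, (hcomm w).symm⟩
    · rintro ⟨z, ⟨hzC, hzW⟩, rfl⟩
      exact ⟨h.base ⟨z, hzW⟩, ⟨⟨z, hzW⟩, hzC, rfl⟩, hcomm ⟨z, hzW⟩⟩
  have hy' : y' ∈ closure (h.base '' C') := by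
    rw [V.ι.isEmbedding.isInducing.closure_eq_preimage_closure_image, himg]
    exact hy
  obtain ⟨w, hw, hwy⟩ := Subtr.exists_specializes_of_mem_closure_image h hC' hy'
  refine ⟨W.ι.base w, ⟨hw, w.2⟩, ?_⟩
  rw [← hcomm]
  exact hwy.map V.ι.continuous

/-- For a quasi-compact morphism and a locally closed retrocompact set `C ∩ O`, a point of
the closure of the image of `C ∩ O` is a specialization of a point of the image. -/
theorem exists_specializes_of_mem_closure_image_inter {X Y : Scheme.{u}} (f : X ⟶ Y)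
    [QuasiCompact f] {C O : Set X} (hC : IsClosed C) (hO : IsOpen O)
    (hT : IsRetrocompact (C ∩ O)) {y : Y} (hy : y ∈ closure (f.base '' (C ∩ O))) :
    ∃ z ∈ C ∩ O, f.base z ⤳ y := by
  obtain ⟨V, hV, hyV, -⟩ := (Opens.isBasis_iff_nbhd.mp Y.isBasis_affineOpens)
    (show y ∈ (⊤ : Y.Opens) from trivial)
  let O' : X.Opens := ⟨O, hO⟩
  have hfV : IsCompact ((f ⁻¹ᵁ V : X.Opens) : Set X) := f.isCompact_preimage hV.isCompact
  have hTV : IsCompact ((C ∩ O) ∩ ((f ⁻¹ᵁ V : X.Opens) : Set X)) :=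
    hT hfV (f ⁻¹ᵁ V).isOpen
  have hex : ∀ x : ↥((C ∩ O) ∩ ((f ⁻¹ᵁ V : X.Opens) : Set X)), ∃ W : X.Opens,
      IsAffineOpen W ∧ x.1 ∈ W ∧ W ≤ O' ⊓ f ⁻¹ᵁ V := by
    intro x
    obtain ⟨W, hW, hxW, hWle⟩ := (Opens.isBasis_iff_nbhd.mp X.isBasis_affineOpens)
      (show x.1 ∈ O' ⊓ f ⁻¹ᵁ V from ⟨x.2.1.2, x.2.2⟩)
    exact ⟨W, hW, hxW, hWle⟩
  choose W hW hxW hWle using hex
  obtain ⟨t, ht⟩ := hTV.elim_nhds_subcover' (fun x hx => (W ⟨x, hx⟩ : Set X))
    (fun x hx => (W ⟨x, hx⟩).isOpen.mem_nhds (hxW ⟨x, hx⟩))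
  have heq : f.base '' (C ∩ O) ∩ (V : Set Y) =
      ⋃ x ∈ t, f.base '' (C ∩ ((W x : X.Opens) : Set X)) := by
    ext p
    simp only [Set.mem_inter_iff, Set.mem_iUnion, exists_prop, Set.mem_image]
    constructor
    · rintro ⟨⟨z, ⟨hzC, hzO⟩, rfl⟩, hzV⟩
      have := ht ⟨⟨hzC, hzO⟩, hzV⟩
      simp only [Set.mem_iUnion, exists_prop] at this
      obtain ⟨x, hxt, hzx⟩ := this
      exact ⟨x, hxt, z, ⟨hzC, hzx⟩, rfl⟩
    · rintro ⟨x, -, z, ⟨hzC, hzx⟩, rfl⟩
      exact ⟨⟨z, ⟨hzC, (hWle x hzx).1⟩, rfl⟩, (hWle x hzx).2⟩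
  have hy1 : y ∈ closure (f.base '' (C ∩ O) ∩ (V : Set Y)) := by
    rw [mem_closure_iff]
    intro o ho hyo
    obtain ⟨p, hp1, hp2⟩ := mem_closure_iff.mp hy (o ∩ (V : Set Y))
      (ho.inter V.isOpen) ⟨hyo, hyV⟩
    exact ⟨p, hp1.1, hp2, hp1.2⟩
  rw [heq, Finset.closure_biUnion] at hy1
  simp only [Set.mem_iUnion, exists_prop] at hy1
  obtain ⟨x, -, hyx⟩ := hy1
  obtain ⟨z, ⟨hzC, hzW⟩, hzy⟩ := exists_specializes_of_mem_closure_image_affine f (hW x) hV
    ((hWle x).trans inf_le_right) hC hyV hyx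
  exact ⟨z, ⟨hzC, (hWle x hzW).1⟩, hzy⟩

/-- Closed subsets of `Z` descend along a quasi-compact morphism lifting ordered pairs of `Z` to
ordered pairs of `C`. -/
theorem isClosed_of_isClosed_preimage_inter {X Y : Scheme.{u}} (f : X ⟶ Y) [QuasiCompact f]
    {C : Set X} {Z : Set Y}
    (hlift : ∀ ⦃y y' : Y⦄, y' ∈ Z → y' ⤳ y →
      ∃ x x' : X, x' ∈ C ∧ x ∈ C ∧ x' ⤳ x ∧ f.base x = y ∧ f.base x' = y')
    {M : Set Y} (hMZ : M ⊆ Z) (hM : IsClosed (f.base ⁻¹' M ∩ C)) : IsClosed M := by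
  rw [← closure_subset_iff_isClosed]
  intro y hy
  have hMeq : M = f.base '' (f.base ⁻¹' M ∩ C) := by
    ext m
    constructor
    · intro hm
      obtain ⟨x, x', -, hxC, -, hx, -⟩ := hlift (hMZ hm) (specializes_rfl : m ⤳ m)
      refine ⟨x, ⟨?_, hxC⟩, hx⟩
      change f.base x ∈ M
      rw [hx]
      exact hm
    · rintro ⟨x, ⟨hx, -⟩, rfl⟩
      exact hx
  rw [hMeq] at hy
  obtain ⟨z, hz, hzy⟩ := Subtr.exists_specializes_of_mem_closure_image f hM hy
  obtain ⟨x, x', hx'C, hxC, hx'x, hx, hx'⟩ := hlift (hMZ hz.1) hzy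
  have hx'D : x' ∈ f.base ⁻¹' M ∩ C := by
    refine ⟨?_, hx'C⟩
    change f.base x' ∈ M
    rw [hx']
    exact hz.1
  have hxD : x ∈ f.base ⁻¹' M ∩ C := hx'x.mem_closed hM hx'D
  rw [← hx]
  exact hxD.1

/-- **Descent of locally closed retrocompact subsets** along quasi-compact universally
S-subtrusive morphisms. -/
theorem isLocallyClosed_of_preimage {X Y : Scheme.{u}} (f : X ⟶ Y) [QuasiCompact f]
    (hf : Subtr.UnivSSubtrusive f) (E : Set Y) (hlc : IsLocallyClosed (f.base ⁻¹' E))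
    (hrc : IsRetrocompact (f.base ⁻¹' E)) : IsLocallyClosed E := by
  have hfS : Subtr.IsSSubtrusive f := by
    have := hf (𝟙 X) (𝟙 Y) f (IsPullback.of_id_snd)
    exact this
  have hsurj : Function.Surjective f.base := fun t => by
    obtain ⟨x, x', -, hx, -⟩ := hfS (specializes_rfl : t ⤳ t)
    exact ⟨x, hx⟩
  obtain ⟨O, C₀, hO, hC₀, hT⟩ := hlc
  set T := f.base ⁻¹' E with hTdef
  have hT' : T = C₀ ∩ O := by rw [hT, Set.inter_comm]
  have hEeq : E = f.base '' T := (Set.image_preimage_eq E hsurj).symm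
  -- Fact P
  have factP : ∀ y ∈ closure E, ∃ y' ∈ E, y' ⤳ y := by
    intro y hy
    rw [hEeq, hT'] at hy
    obtain ⟨z, hz, hzy⟩ := exists_specializes_of_mem_closure_image_inter f hC₀ hO
      (by rw [← hT']; exact hrc) hy
    refine ⟨f.base z, ?_, hzy⟩
    have : z ∈ T := by rw [hT']; exact hz
    exact this
  let Z := closure E
  let C := closure T
  have hCZ : C ⊆ f.base ⁻¹' Z :=
    closure_minimal (Set.preimage_mono subset_closure) (isClosed_closure.preimage f.continuous)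
  have hlift : ∀ ⦃y y' : Y⦄, y' ∈ Z → y' ⤳ y →
      ∃ x x' : X, x' ∈ C ∧ x ∈ C ∧ x' ⤳ x ∧ f.base x = y ∧ f.base x' = y' := by
    intro y y' hy' hsp
    obtain ⟨y'', hy''E, hy''⟩ := factP y' hy'
    let c : ℕ → Y := fun i => if i = 0 then y'' else if i = 1 then y' else y
    have hc : ∀ i, c i ⤳ c (i + 1) := by
      intro i
      match i with
      | 0 => exact hy''
      | 1 => exact hsp
      | (j + 2) => exact specializes_rfl
    obtain ⟨x, hxsp, hx⟩ := ChainLift.exists_chain_lift f hf c hc 2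
    have hx0 : x 0 ∈ T := by
      change f.base (x 0) ∈ E
      rw [hx 0 (by omega)]
      exact hy''E
    have hx0C : x 0 ∈ C := subset_closure hx0
    have hx1C : x 1 ∈ C := (hxsp 0).mem_closed isClosed_closure hx0C
    have hx2C : x 2 ∈ C := (hxsp 1).mem_closed isClosed_closure hx1C
    exact ⟨x 2, x 1, hx1C, hx2C, hxsp 1, hx 2 (by omega), hx 1 (by omega)⟩
  let M : Set Y := Z \ E
  have hMpre : f.base ⁻¹' M ∩ C = C ∩ Oᶜ := by
    ext p
    constructor
    · rintro ⟨⟨-, hpE⟩, hpC⟩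
      refine ⟨hpC, fun hpO => hpE ?_⟩
      have hpC₀ : p ∈ C₀ := by
        have : C ⊆ C₀ := closure_minimal (by rw [hT']; exact Set.inter_subset_left) hC₀
        exact this hpC
      have : p ∈ T := by rw [hT']; exact ⟨hpC₀, hpO⟩
      exact this
    · rintro ⟨hpC, hpO⟩
      refine ⟨⟨hCZ hpC, fun hpE => hpO ?_⟩, hpC⟩
      have : p ∈ T := hpE
      rw [hT'] at this
      exact this.2
  have hMclosed : IsClosed M := by
    apply isClosed_of_isClosed_preimage_inter f hlift Set.sdiff_subset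
    rw [hMpre]
    exact isClosed_closure.inter hO.isClosed_compl
  refine ⟨Mᶜ, Z, hMclosed.isOpen_compl, isClosed_closure, ?_⟩
  ext p
  constructor
  · intro hp
    exact ⟨fun hpM => hpM.2 hp, subset_closure hp⟩
  · rintro ⟨hpM, hpZ⟩
    by_contra hpE
    exact hpM ⟨hpZ, hpE⟩

theorem isRetrocompact_of_preimage {X Y : Scheme.{u}} (f : X ⟶ Y) [QuasiCompact f]
    (hsurj : Function.Surjective f.base) (E : Set Y)
    (hrc : IsRetrocompact (f.base ⁻¹' E)) : IsRetrocompact E := by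
  intro U hUc hUo
  have h1 : IsCompact (f.base ⁻¹' U) := QuasiCompact.isCompact_preimage (f := f) U hUo hUc
  have h2 : IsCompact (f.base ⁻¹' E ∩ f.base ⁻¹' U) := hrc h1 (hUo.preimage f.continuous)
  have h3 := h2.image f.continuous
  convert h3 using 1
  rw [← Set.preimage_inter, Set.image_preimage_eq _ hsurj]

end Groth.Agent.H69.RetroLC
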