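import Groth.Agent.H69.UHomeo2
import Mathlib

set_option autoImplicit false
universe u
open AlgebraicGeometry CategoryTheory

namespace Groth.Agent.H69

theorem exists_frac_residueField {A : Type*} [CommRing A] (P : Ideal A) [P.IsPrime]
    (k : P.ResidueField) :
    ∃ a s : A, s ∉ P ∧ k * algebraMap A P.ResidueField s = algebraMap A P.ResidueField a := by
  obtain ⟨y, rfl⟩ := IsLocalRing.residue_surjective k
  obtain ⟨a, s, rfl⟩ := IsLocalization.exists_mk'_eq P.primeCompl y
  refine ⟨a, s, s.2, ?_⟩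
  rw [IsScalarTower.algebraMap_apply A (Localization.AtPrime P) P.ResidueField,
    IsScalarTower.algebraMap_apply A (Localization.AtPrime P) P.ResidueField a,
    IsLocalRing.ResidueField.algebraMap_eq, ← map_mul, IsLocalization.mk'_spec]

section core
variable {A C : Type u} [CommRing A] [CommRing C] (ψ : A →+* C)

/-- The image of `ψ` is closed under extracting "square-cube roots". -/
def SqCubeClosed : Prop := ∀ c : C, c ^ 2 ∈ ψ.range → c ^ 3 ∈ ψ.range → c ∈ ψ.range

theorem mem_range_of_pow_mem (h : SqCubeClosed ψ) (f : C) (n : ℕ)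
    (hn : ∀ m, n ≤ m → f ^ m ∈ ψ.range) : f ∈ ψ.range := by
  induction n with
  | zero => simpa using hn 1 (Nat.zero_le _)
  | succ n ih =>
    rcases Nat.eq_zero_or_pos n with h0 | hpos
    · subst h0
      simpa using hn 1 le_rfl
    · apply ih
      intro m hm
      rcases hm.eq_or_lt with h1 | h1
      · rw [← h1]
        apply h (f ^ n)
        · rw [← pow_mul]; exact hn _ (by omega)
        · rw [← pow_mul]; exact hn _ (by omega)
      · exact hn m h1

/-- The conductor of `C` into the image of `ψ`, as an ideal of `C`. -/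
def conductor : Ideal C where
  carrier := {x | ∀ c : C, x * c ∈ ψ.range}
  add_mem' := by
    intro a b ha hb c
    rw [add_mul]
    exact ψ.range.add_mem (ha c) (hb c)
  zero_mem' := by
    intro c
    rw [zero_mul]
    exact ψ.range.zero_mem
  smul_mem' := by
    intro r x hx c
    rw [smul_eq_mul, mul_comm r x, mul_assoc]
    exact hx (r * c)

theorem mem_conductor {x : C} : x ∈ conductor ψ ↔ ∀ c, x * c ∈ ψ.range := Iff.rfl

theorem conductor_le_range {x : C} (hx : x ∈ conductor ψ) : x ∈ ψ.range := by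
  simpa using hx 1

theorem conductor_radical (h : SqCubeClosed ψ) {f : C} {n : ℕ} (hf : f ^ n ∈ conductor ψ) :
    f ∈ conductor ψ := by
  intro c
  apply mem_range_of_pow_mem ψ h (f * c) n
  intro m hm
  have : (f * c) ^ m = f ^ n * (f ^ (m - n) * c ^ m) := by
    rw [mul_pow, ← mul_assoc, ← pow_add, Nat.add_sub_cancel' hm]
  rw [this]
  exact hf _

theorem core (hinj : Function.Injective ψ) (hint : ψ.IsIntegral)
    (hcinj : Function.Injective (PrimeSpectrum.comap ψ))
    (hfin : ∃ G : Finset C, ∀ s : A, (∀ g ∈ G, ψ s * g ∈ ψ.range) → ∀ c, ψ s * c ∈ ψ.range)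
    (h : SqCubeClosed ψ) (hns : ¬ Function.Surjective ψ) :
    ∃ q : PrimeSpectrum C,
      ¬ Function.Surjective (Ideal.ResidueField.map (q.asIdeal.comap ψ) q.asIdeal ψ rfl) ∧
      ∀ x ∈ q.asIdeal, ∃ s : A, s ∉ q.asIdeal.comap ψ ∧ ψ s * x ∈ ψ.range := by
  classical
  have hJtop : conductor ψ ≠ ⊤ := by
    intro htop
    apply hns
    intro c
    have h1 : (1 : C) ∈ conductor ψ := by rw [htop]; trivial
    simpa using h1 c
  have hJA : (conductor ψ).comap ψ ≠ ⊤ := by
    intro htop
    apply hJtop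
    rw [Ideal.eq_top_iff_one]
    have h1 : (1 : A) ∈ (conductor ψ).comap ψ := by rw [htop]; trivial
    simpa using h1
  obtain ⟨M, hM, hJM⟩ := Ideal.exists_le_maximal _ hJA
  haveI := hM.isPrime
  obtain ⟨P₀, hP₀, -⟩ := Ideal.exists_minimalPrimes_le hJM
  have hP₀prime : P₀.IsPrime := hP₀.1.1
  obtain ⟨q, hq⟩ := hint.comap_surjective hinj ⟨P₀, hP₀prime⟩
  have hqP : q.asIdeal.comap ψ = P₀ := congrArg PrimeSpectrum.asIdeal hq
  clear hq
  subst hqP
  have hJP₀ : (conductor ψ).comap ψ ≤ q.asIdeal.comap ψ := hP₀.1.2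
  have step6 : ∀ x ∈ q.asIdeal, ∃ s : A, s ∉ q.asIdeal.comap ψ ∧ ψ s * x ∈ conductor ψ := by
    intro x hx
    by_contra hcon
    push_neg at hcon
    let T : Submonoid C :=
      { carrier := {t | ∃ s : A, s ∉ q.asIdeal.comap ψ ∧ ∃ k : ℕ, t = ψ s * x ^ k}
        one_mem' := ⟨1, (fun h1 => hP₀prime.ne_top ((Ideal.eq_top_iff_one _).mpr h1)), 0,
          by simp⟩
        mul_mem' := by
          rintro _ _ ⟨s, hs, k, rfl⟩ ⟨s', hs', k', rfl⟩
          refine ⟨s * s', ?_, k + k', ?_⟩
          · intro hmem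
            rcases hP₀prime.mem_or_mem hmem with h1 | h1
            · exact hs h1
            · exact hs' h1
          · rw [map_mul, pow_add]; ring }
    have hdisj : Disjoint (conductor ψ : Set C) (T : Set C) := by
      rw [Set.disjoint_left]
      rintro _ hJ ⟨s, hs, k, rfl⟩
      rcases Nat.eq_zero_or_pos k with h0 | hk
      · subst h0
        rw [pow_zero, mul_one] at hJ
        exact hs (hJP₀ hJ)
      · apply hcon s hs
        apply conductor_radical ψ h (n := k)
        have h2 : (ψ s * x) ^ k = ψ s ^ (k - 1) * (ψ s * x ^ k) := by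
          rw [mul_pow, ← mul_assoc, ← pow_succ, Nat.sub_add_cancel hk]
        rw [h2]
        exact Ideal.mul_mem_left _ _ hJ
    obtain ⟨q', hq'prime, hJq', hq'T⟩ := Ideal.exists_le_prime_disjoint (conductor ψ) T hdisj
    have hsub : q'.comap ψ ≤ q.asIdeal.comap ψ := by
      intro s hs
      by_contra hsP
      exact (Set.disjoint_left.mp hq'T) hs ⟨s, hsP, 0, by simp⟩
    have hge : q.asIdeal.comap ψ ≤ q'.comap ψ :=
      hP₀.2 ⟨Ideal.comap_isPrime ψ q', Ideal.comap_mono hJq'⟩ hsub
    have heq : q' = q.asIdeal := by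
      have h3 : (⟨q', hq'prime⟩ : PrimeSpectrum C) = q := by
        apply hcinj
        apply PrimeSpectrum.ext
        exact le_antisymm hsub hge
      exact congrArg PrimeSpectrum.asIdeal h3
    apply (Set.disjoint_left.mp hq'T) (heq ▸ hx)
    exact ⟨1, (fun h1 => hP₀prime.ne_top ((Ideal.eq_top_iff_one _).mpr h1)), 1, by simp⟩
  refine ⟨q, ?_, ?_⟩
  · intro hsurj
    have claim : ∀ c : C, ∃ s : A, s ∉ q.asIdeal.comap ψ ∧ ψ s * c ∈ ψ.range := by
      intro c
      obtain ⟨k, hk⟩ := hsurj (algebraMap C q.asIdeal.ResidueField c)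
      obtain ⟨a, s₁, hs₁, hks⟩ := exists_frac_residueField (q.asIdeal.comap ψ) k
      have hx : ψ s₁ * c - ψ a ∈ q.asIdeal := by
        rw [← Ideal.algebraMap_residueField_eq_zero, map_sub, map_mul, ← hk,
          ← Ideal.ResidueField.map_algebraMap (q.asIdeal.comap ψ) q.asIdeal ψ rfl,
          ← Ideal.ResidueField.map_algebraMap (q.asIdeal.comap ψ) q.asIdeal ψ rfl,
          ← map_mul, mul_comm, hks, sub_self]
      obtain ⟨s₂, hs₂, hJ₂⟩ := step6 _ hx
      refine ⟨s₂ * s₁, ?_, ?_⟩
      · intro hmem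
        rcases hP₀prime.mem_or_mem hmem with h1 | h1
        · exact hs₂ h1
        · exact hs₁ h1
      · obtain ⟨r, hr⟩ := conductor_le_range ψ hJ₂
        refine ⟨r + s₂ * a, ?_⟩
        rw [map_add, hr, map_mul, map_mul]; ring
    obtain ⟨G, hG⟩ := hfin
    choose sg hsg1 hsg2 using claim
    have hsP : (∏ g ∈ G, sg g) ∉ q.asIdeal.comap ψ := by
      intro hmem
      obtain ⟨g, -, hg⟩ := (hP₀prime.prod_mem_iff).mp hmem
      exact hsg1 g hg
    have hsG : ∀ g ∈ G, ψ (∏ g ∈ G, sg g) * g ∈ ψ.range := by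
      intro g hg
      rw [← Finset.prod_erase_mul G sg hg, map_mul, mul_assoc]
      obtain ⟨r, hr⟩ := hsg2 g
      exact ⟨(∏ g' ∈ G.erase g, sg g') * r, by rw [map_mul, hr]⟩
    have h4 : ψ (∏ g ∈ G, sg g) ∈ conductor ψ := fun c => hG _ hsG c
    exact hsP (hJP₀ h4)
  · intro x hx
    obtain ⟨s, hs, hJ⟩ := step6 x hx
    exact ⟨s, hs, conductor_le_range ψ hJ⟩

end core

theorem hfin_of_finite {A C : Type u} [CommRing A] [CommRing C] [Algebra A C] [Module.Finite A C] :
    ∃ G : Finset C, ∀ s : A, (∀ g ∈ G, algebraMap A C s * g ∈ (algebraMap A C).range) →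
      ∀ c, algebraMap A C s * c ∈ (algebraMap A C).range := by
  obtain ⟨G, hG⟩ := (Module.Finite.fg_top : (⊤ : Submodule A C).FG)
  refine ⟨G, fun s hs c => ?_⟩
  have hc : c ∈ Submodule.span A (G : Set C) := hG ▸ Submodule.mem_top
  induction hc using Submodule.span_induction with
  | mem x hx => exact hs x hx
  | zero => rw [mul_zero]; exact Subring.zero_mem _
  | add x y _ _ hx hy => rw [mul_add]; exact Subring.add_mem _ hx hy
  | smul a x _ hx =>
    obtain ⟨r, hr⟩ := hx
    exact ⟨a * r, by rw [map_mul, hr, Algebra.smul_def]; ring⟩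

end Groth.Agent.H69
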