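import Groth.Agent.H69.SNCore
import Mathlib

set_option autoImplicit false
universe u
open AlgebraicGeometry CategoryTheory

namespace Groth.Agent.H69

/-- Ring-level description of a universal homeomorphism on spectra. -/
structure RingUH {A B : Type u} [CommRing A] [CommRing B] (φ : A →+* B) : Prop where
  integral : φ.IsIntegral
  bij : Function.Bijective (PrimeSpectrum.comap φ)
  ext : ∀ (L : Type u) [Field L] (f g : B →+* L), f.comp φ = g.comp φ → f = g

theorem ringUH_of_isUnivHomeo {A B : Type u} [CommRing A] [CommRing B] (φ : A →+* B)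
    (h : FlatMor.IsUnivHomeo (Spec.map (CommRingCat.ofHom φ))) : RingUH φ :=
  ⟨isIntegral_of_isUnivHomeo_Spec φ h, comap_bijective_of_isUnivHomeo_Spec φ h,
   fun _ _ f g hfg => ringHom_ext_of_universallyInjective_Spec φ
    (universallyInjective_of_isUnivHomeo _ h) f g hfg⟩

theorem isUnivHomeo_of_ringUH {A B : Type u} [CommRing A] [CommRing B] (φ : A →+* B)
    (h : RingUH φ) : FlatMor.IsUnivHomeo (Spec.map (CommRingCat.ofHom φ)) := by
  haveI : IsIntegralHom (Spec.map (CommRingCat.ofHom φ)) :=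
    IsIntegralHom.SpecMap_iff.mpr h.integral
  haveI : UniversallyInjective (Spec.map (CommRingCat.ofHom φ)) :=
    universallyInjective_Spec_of_ringHom_ext φ h.ext
  haveI : Surjective (Spec.map (CommRingCat.ofHom φ)) := ⟨h.bij.2⟩
  exact isUnivHomeo_of_integral _

theorem isUnivHomeo_iff_ringUH {A B : Type u} [CommRing A] [CommRing B] (φ : A →+* B) :
    FlatMor.IsUnivHomeo (Spec.map (CommRingCat.ofHom φ)) ↔ RingUH φ :=
  ⟨ringUH_of_isUnivHomeo φ, isUnivHomeo_of_ringUH φ⟩

/-- All residue field extensions of `φ` are trivial. -/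
def ResTriv {A B : Type u} [CommRing A] [CommRing B] (φ : A →+* B) : Prop :=
  ∀ q : PrimeSpectrum B,
    Function.Surjective (Ideal.ResidueField.map (q.asIdeal.comap φ) q.asIdeal φ rfl)

theorem resTriv_iff {A B : Type u} [CommRing A] [CommRing B] (φ : A →+* B) :
    (∀ x : Spec (CommRingCat.of B),
      Function.Surjective ((Spec.map (CommRingCat.ofHom φ)).residueFieldMap x)) ↔ ResTriv φ := by
  constructor
  · intro h q
    have h1 : IsIso ((Spec.map (CommRingCat.ofHom φ)).residueFieldMap q) := by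
      rw [ConcreteCategory.isIso_iff_bijective]
      exact ⟨((Spec.map (CommRingCat.ofHom φ)).residueFieldMap q).hom.injective, h q⟩
    exact ((isIso_residueFieldMap_Spec_iff φ q).mp h1).2
  · intro h x
    have h1 : IsIso ((Spec.map (CommRingCat.ofHom φ)).residueFieldMap x) :=
      (isIso_residueFieldMap_Spec_iff φ x).mpr ⟨RingHom.injective _, h x⟩
    exact ((ConcreteCategory.isIso_iff_bijective _).mp h1).2

theorem RingUH.of_comp {A C B : Type u} [CommRing A] [CommRing C] [CommRing B] (ψ : A →+* C)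
    (χ : C →+* B) (hχ : Function.Injective χ) (h : RingUH (χ.comp ψ)) : RingUH ψ ∧ RingUH χ := by
  have hχint : χ.IsIntegral := RingHom.IsIntegral.tower_top ψ χ h.integral
  have hψint : ψ.IsIntegral := RingHom.IsIntegral.tower_bot ψ χ hχ h.integral
  have hχsurj : Function.Surjective (PrimeSpectrum.comap χ) := hχint.comap_surjective hχ
  have hcomp : PrimeSpectrum.comap (χ.comp ψ) = PrimeSpectrum.comap ψ ∘ PrimeSpectrum.comap χ := by
    funext q; rfl
  have hb := h.bij
  rw [hcomp] at hb
  have hχinj : Function.Injective (PrimeSpectrum.comap χ) := Function.Injective.of_comp hb.1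
  have hχbij : Function.Bijective (PrimeSpectrum.comap χ) := ⟨hχinj, hχsurj⟩
  have hψbij : Function.Bijective (PrimeSpectrum.comap ψ) :=
    (Function.Bijective.of_comp_iff _ hχbij).mp hb
  refine ⟨⟨hψint, hψbij, ?_⟩, ⟨hχint, hχbij, ?_⟩⟩
  · intro L _ f g hfg
    letI : Algebra C B := χ.toAlgebra
    haveI : Algebra.IsIntegral C B := ⟨hχint⟩
    have hk : ∀ φ' : C →+* AlgebraicClosure L,
        RingHom.ker (algebraMap C B) ≤ RingHom.ker φ' := by
      intro φ' c hc
      have h0 : c = 0 := hχ (by rw [map_zero]; exact RingHom.mem_ker.mp hc)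
      rw [h0]
      exact Ideal.zero_mem _
    obtain ⟨f', hf'⟩ := exists_ringHom_extension_algClosed
      ((algebraMap L (AlgebraicClosure L)).comp f) (hk _)
    obtain ⟨g', hg'⟩ := exists_ringHom_extension_algClosed
      ((algebraMap L (AlgebraicClosure L)).comp g) (hk _)
    have hfg' : f' = g' := by
      apply h.ext (AlgebraicClosure L)
      have e1 : f'.comp (χ.comp ψ) = ((algebraMap L (AlgebraicClosure L)).comp f).comp ψ := by
        rw [← hf']; rfl
      have e2 : g'.comp (χ.comp ψ) = ((algebraMap L (AlgebraicClosure L)).comp g).comp ψ := by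
        rw [← hg']; rfl
      rw [e1, e2, RingHom.comp_assoc, RingHom.comp_assoc, hfg]
    ext c
    apply (algebraMap L (AlgebraicClosure L)).injective
    have a1 := congrArg (fun k => k c) hf'
    have a2 := congrArg (fun k => k c) hg'
    simp only [RingHom.comp_apply] at a1 a2
    rw [← a1, ← a2, hfg']
  · intro L _ f g hfg
    apply h.ext L
    rw [← RingHom.comp_assoc, ← RingHom.comp_assoc, hfg]

theorem ResTriv.of_comp {A C B : Type u} [CommRing A] [CommRing C] [CommRing B] (ψ : A →+* C)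
    (χ : C →+* B) (hχsurj : Function.Surjective (PrimeSpectrum.comap χ))
    (h : ResTriv (χ.comp ψ)) : ResTriv ψ ∧ ResTriv χ := by
  have hcomp : ∀ q : PrimeSpectrum B,
      (Ideal.ResidueField.map (q.asIdeal.comap χ) q.asIdeal χ rfl).comp
        (Ideal.ResidueField.map (q.asIdeal.comap (χ.comp ψ)) (q.asIdeal.comap χ) ψ rfl) =
      Ideal.ResidueField.map (q.asIdeal.comap (χ.comp ψ)) q.asIdeal (χ.comp ψ) rfl := by
    intro q
    apply Ideal.ResidueField.ringHom_ext
    ext a
    simp only [RingHom.comp_apply, Ideal.ResidueField.map_algebraMap]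
  constructor
  · intro q'
    obtain ⟨q, rfl⟩ := hχsurj q'
    show Function.Surjective
      (Ideal.ResidueField.map (q.asIdeal.comap (χ.comp ψ)) (q.asIdeal.comap χ) ψ rfl)
    intro y
    obtain ⟨z, hz⟩ := h q (Ideal.ResidueField.map (q.asIdeal.comap χ) q.asIdeal χ rfl y)
    refine ⟨z, (Ideal.ResidueField.map (q.asIdeal.comap χ) q.asIdeal χ rfl).injective ?_⟩
    rw [← hz, ← hcomp q]
    rfl
  · intro q
    have h1 := h q
    rw [← hcomp q] at h1
    exact Function.Surjective.of_comp h1

theorem charP_of_expChar_ne_one (R : Type*) [Semiring R] (q : ℕ) (hq : ExpChar R q) (h1 : q ≠ 1) :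
    q.Prime ∧ CharP R q := by
  cases hq with
  | zero => exact absurd rfl h1
  | prime hprime => exact ⟨hprime, inferInstance⟩

theorem reduction_aux {A B : Type u} [CommRing A] [CommRing B] [Algebra A B]
    (hU : RingUH (algebraMap A B)) (hinj : Function.Injective (algebraMap A B))
    (C : Subalgebra A B) [Module.Finite A C] (b₀ : B) (hb₀C : b₀ ∈ C)
    (hb₀ : b₀ ∉ (algebraMap A B).range)
    (hsq : ∀ b : B, b ^ 2 ∈ (algebraMap A B).range → b ^ 3 ∈ (algebraMap A B).range →
      b ∈ (algebraMap A B).range) :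
    ∃ q : PrimeSpectrum C,
      ¬ Function.Surjective (Ideal.ResidueField.map (q.asIdeal.comap (algebraMap A C)) q.asIdeal
        (algebraMap A C) rfl) ∧
      ∀ x ∈ q.asIdeal, ∃ s : A, s ∉ q.asIdeal.comap (algebraMap A C) ∧
        algebraMap A C s * x ∈ (algebraMap A C).range := by
  have hχ : Function.Injective (C.val.toRingHom) := Subtype.val_injective
  have hcomp : (C.val.toRingHom).comp (algebraMap A C) = algebraMap A B := by
    ext a; rfl
  obtain ⟨hUψ, hUχ⟩ := RingUH.of_comp _ _ hχ (by rw [hcomp]; exact hU)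
  have hψinj : Function.Injective (algebraMap A C) := by
    intro a b hab
    exact hinj (congrArg Subtype.val hab)
  have hsqC : SqCubeClosed (algebraMap A C) := by
    intro c h2 h3
    obtain ⟨a2, ha2⟩ := h2
    obtain ⟨a3, ha3⟩ := h3
    have hc : (c : B) ∈ (algebraMap A B).range :=
      hsq c ⟨a2, congrArg Subtype.val ha2⟩ ⟨a3, congrArg Subtype.val ha3⟩
    obtain ⟨a, ha⟩ := hc
    exact ⟨a, Subtype.ext ha⟩
  have hnsψ : ¬ Function.Surjective (algebraMap A C) := by
    intro hs
    obtain ⟨a, ha⟩ := hs ⟨b₀, hb₀C⟩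
    exact hb₀ ⟨a, congrArg Subtype.val ha⟩
  exact core _ hψinj hUψ.integral hUψ.bij.1 hfin_of_finite hsqC hnsψ

theorem reduction {A B : Type u} [CommRing A] [CommRing B] (φ : A →+* B) (hU : RingUH φ)
    (hinj : Function.Injective φ) (b₀ : B) (hb₀ : b₀ ∉ φ.range)
    (hsq : ∀ b : B, b ^ 2 ∈ φ.range → b ^ 3 ∈ φ.range → b ∈ φ.range) :
    ∃ (C : Type u) (_ : CommRing C) (ψ : A →+* C) (χ : C →+* B), Function.Injective χ ∧
      χ.comp ψ = φ ∧ ∃ q : PrimeSpectrum C,
      ¬ Function.Surjective (Ideal.ResidueField.map (q.asIdeal.comap ψ) q.asIdeal ψ rfl) ∧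
      ∀ x ∈ q.asIdeal, ∃ s : A, s ∉ q.asIdeal.comap ψ ∧ ψ s * x ∈ ψ.range := by
  letI : Algebra A B := φ.toAlgebra
  haveI : Module.Finite A (Algebra.adjoin A ({b₀} : Set B)) := by
    have hb₀int : IsIntegral A b₀ := hU.integral b₀
    exact Module.Finite.iff_fg.mpr hb₀int.fg_adjoin_singleton
  obtain ⟨q, hq1, hq2⟩ := reduction_aux (A := A) (B := B) hU hinj (Algebra.adjoin A ({b₀} : Set B)) b₀
    (Algebra.subset_adjoin (Set.mem_singleton _)) hb₀ hsq
  exact ⟨_, inferInstance, _, (Algebra.adjoin A ({b₀} : Set B)).val.toRingHom,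
    Subtype.val_injective, by ext a; rfl, q, hq1, hq2⟩

/-- Ring-level form: universal homeomorphism with trivial residue field extensions. -/
theorem exists_sq_cube_of_ringUH_resTriv {A B : Type u} [CommRing A] [CommRing B] (φ : A →+* B)
    (hinj : Function.Injective φ) (hns : ¬ Function.Surjective φ) (hU : RingUH φ)
    (hres : ResTriv φ) : ∃ b : B, b ∉ φ.range ∧ b ^ 2 ∈ φ.range ∧ b ^ 3 ∈ φ.range := by
  by_contra hno
  push_neg at hno
  have hsq : ∀ b : B, b ^ 2 ∈ φ.range → b ^ 3 ∈ φ.range → b ∈ φ.range :=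
    fun b h2 h3 => by_contra fun hb => hno b hb h2 h3
  obtain ⟨b₀, hb₀⟩ : ∃ b₀, b₀ ∉ φ.range := by
    by_contra hcon
    push_neg at hcon
    exact hns (fun b => hcon b)
  obtain ⟨C, _, ψ, χ, hχ, hcomp, q, hq1, -⟩ := reduction φ hU hinj b₀ hb₀ hsq
  have hχint : χ.IsIntegral := RingHom.IsIntegral.tower_top ψ χ (by rw [hcomp]; exact hU.integral)
  exact hq1 ((ResTriv.of_comp ψ χ (hχint.comap_surjective hχ) (by rw [hcomp]; exact hres)).1 q)

end Groth.Agent.H69
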