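import Groth.Agent.H69.SecSN
import Groth.Agent.H69.RelNormSN
import Groth.Agent.H69.UHomeo2
import Mathlib

set_option autoImplicit false
universe u
open AlgebraicGeometry CategoryTheory

namespace Groth.Agent.H69

/-- Residue field extensions of a ring map whose field-valued points are injective are purely
inseparable. -/
theorem isPurelyInseparable_residueField_of_ringHom_ext {A C : Type u} [CommRing A] [CommRing C]
    (ψ : A →+* C)
    (H : ∀ (L : Type u) [Field L] (f g : C →+* L), f.comp ψ = g.comp ψ → f = g)
    (r : Ideal C) [r.IsPrime] :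
    letI : Algebra (r.comap ψ).ResidueField r.ResidueField :=
      (Ideal.ResidueField.map (r.comap ψ) r ψ rfl).toAlgebra
    IsPurelyInseparable (r.comap ψ).ResidueField r.ResidueField := by
  letI : Algebra (r.comap ψ).ResidueField r.ResidueField :=
    (Ideal.ResidueField.map (r.comap ψ) r ψ rfl).toAlgebra
  haveI : Nonempty (r.ResidueField →+* AlgebraicClosure r.ResidueField) := ⟨algebraMap _ _⟩
  refine IsPurelyInseparable.of_injective_comp_algebraMap _ _
    (AlgebraicClosure r.ResidueField) ?_
  intro f g hfg
  dsimp only at hfg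
  apply Ideal.ResidueField.ringHom_ext
  apply H
  ext a
  have := congrArg (fun h => h (algebraMap A _ a)) hfg
  simpa [RingHom.algebraMap_toAlgebra] using this

/-- If `C` is seminormal, `g : C → C'` induces a universal homeomorphism with `C'` reduced, then
an element of `C'` all of whose residues come from the residue fields of `C` lies in the image. -/
theorem mem_range_of_forall_residue_mem {C C' : Type u} [CommRing C] [CommRing C']
    (hC : HTop.IsSeminormalRing C) (g : C →+* C') [IsReduced C'] (hg : RingUH g) (c' : C')
    (h : ∀ q : PrimeSpectrum C', algebraMap C' q.asIdeal.ResidueField c' ∈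
      Set.range (Ideal.ResidueField.map (q.asIdeal.comap g) q.asIdeal g rfl)) :
    c' ∈ g.range := by
  letI : Algebra C C' := g.toAlgebra
  let D : Subalgebra C C' := Algebra.adjoin C {c'}
  let φD : C →+* D := algebraMap C D
  have hval_inj : Function.Injective (D.val.toRingHom : D →+* C') := Subtype.val_injective
  have hcomp : (D.val.toRingHom).comp φD = g := by ext; rfl
  have hUH := RingUH.of_comp φD D.val.toRingHom hval_inj (by rw [hcomp]; exact hg)
  -- residue triviality
  have hT : ResTriv φD := by
    rw [resTriv_iff_forall]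
    intro qD b
    obtain ⟨q, rfl⟩ := hUH.2.bij.2 qD
    have key : ∀ (y : C') (hy : y ∈ Algebra.adjoin C {c'}),
        ∃ a s : C, g s ∉ q.asIdeal ∧ g s * y - g a ∈ q.asIdeal := by
      intro y hy
      induction hy using Algebra.adjoin_induction with
      | mem y hy =>
        rw [Set.mem_singleton_iff.mp hy]
        obtain ⟨a, s, hs, hsa⟩ := (mem_range_residueFieldMap_iff g q c').mp (h q)
        exact ⟨a, s, hs, hsa⟩
      | algebraMap r =>
        refine ⟨r, 1, ?_, ?_⟩
        · rw [map_one]; exact q.asIdeal.one_notMem
        · rw [map_one, one_mul]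
          show g r - g r ∈ q.asIdeal
          rw [sub_self]; exact zero_mem _
      | add y z _ _ hy hz =>
        obtain ⟨a1, s1, hs1, h1⟩ := hy
        obtain ⟨a2, s2, hs2, h2⟩ := hz
        refine ⟨s2 * a1 + s1 * a2, s1 * s2, ?_, ?_⟩
        · rw [map_mul]; exact fun hmem => (q.2.mem_or_mem hmem).elim hs1 hs2
        · have : g (s1 * s2) * (y + z) - g (s2 * a1 + s1 * a2) =
              g s2 * (g s1 * y - g a1) + g s1 * (g s2 * z - g a2) := by
            simp only [map_mul, map_add]; ring
          rw [this]
          exact add_mem (Ideal.mul_mem_left _ _ h1) (Ideal.mul_mem_left _ _ h2)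
      | mul y z _ _ hy hz =>
        obtain ⟨a1, s1, hs1, h1⟩ := hy
        obtain ⟨a2, s2, hs2, h2⟩ := hz
        refine ⟨a1 * a2, s1 * s2, ?_, ?_⟩
        · rw [map_mul]; exact fun hmem => (q.2.mem_or_mem hmem).elim hs1 hs2
        · have : g (s1 * s2) * (y * z) - g (a1 * a2) =
              g s1 * y * (g s2 * z - g a2) + g a2 * (g s1 * y - g a1) := by
            simp only [map_mul]; ring
          rw [this]
          exact add_mem (Ideal.mul_mem_left _ _ h2) (Ideal.mul_mem_left _ _ h1)
    obtain ⟨a, s, hs, hsa⟩ := key b.1 b.2
    exact ⟨a, s, hs, hsa⟩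
  obtain ⟨ρ, hρ⟩ := exists_retraction_of_isSeminormalRing hC φD hUH.1 hT
  haveI : IsReduced D := isReduced_of_injective D.val.toRingHom hval_inj
  have hρinj : Function.Injective ρ := by
    rw [injective_iff_map_eq_zero]
    intro x hx
    have hnil : x ∈ nilradical D := by
      rw [nilradical_eq_sInf, Ideal.mem_sInf]
      intro J hJ
      let qD : PrimeSpectrum D := ⟨J, hJ⟩
      let p : PrimeSpectrum C := PrimeSpectrum.comap φD qD
      let q' : PrimeSpectrum D := PrimeSpectrum.comap ρ p
      have hq' : PrimeSpectrum.comap φD q' = PrimeSpectrum.comap φD qD := by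
        show PrimeSpectrum.comap φD (PrimeSpectrum.comap ρ p) = p
        rw [← PrimeSpectrum.comap_comp_apply, hρ]
        rfl
      have heq : q' = qD := hUH.1.bij.1 hq'
      have hxq' : x ∈ q'.asIdeal := by
        show ρ x ∈ p.asIdeal
        rw [hx]; exact zero_mem _
      rw [heq] at hxq'
      exact hxq'
    rw [nilradical_eq_zero D] at hnil
    exact hnil
  have hsurj : ∀ y : D, φD (ρ y) = y := by
    intro y
    apply hρinj
    have := congrArg (fun f => f (ρ y)) hρ
    simpa using this
  have := hsurj ⟨c', Algebra.subset_adjoin (Set.mem_singleton c')⟩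
  refine ⟨ρ ⟨c', Algebra.subset_adjoin (Set.mem_singleton c')⟩, ?_⟩
  exact congrArg Subtype.val this

end Groth.Agent.H69
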