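import Groth.Agent.H69.SNMain
import Mathlib

set_option autoImplicit false
universe u
open AlgebraicGeometry CategoryTheory

namespace Groth.Agent.H69

theorem key_prime {A C : Type u} [CommRing A] [CommRing C] (ψ : A →+* C) (hU : RingUH ψ)
    (q : PrimeSpectrum C)
    (hq1 : ¬ Function.Surjective (Ideal.ResidueField.map (q.asIdeal.comap ψ) q.asIdeal ψ rfl))
    (hq2 : ∀ x ∈ q.asIdeal, ∃ s : A, s ∉ q.asIdeal.comap ψ ∧ ψ s * x ∈ ψ.range) :
    ∃ (ℓ : ℕ) (c : C), ℓ.Prime ∧ c ∉ ψ.range ∧ (ℓ : C) * c ∈ ψ.range ∧ c ^ ℓ ∈ ψ.range := by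
  classical
  obtain ⟨P, hP⟩ : ∃ P : Ideal A, P = q.asIdeal.comap ψ := ⟨_, rfl⟩
  haveI hPprime : P.IsPrime := hP ▸ Ideal.comap_isPrime ψ q.asIdeal
  obtain ⟨m, hm⟩ : ∃ m : P.ResidueField →+* q.asIdeal.ResidueField,
      m = Ideal.ResidueField.map P q.asIdeal ψ hP := ⟨_, rfl⟩
  have hmalg : ∀ a : A, m (algebraMap A P.ResidueField a) =
      algebraMap C q.asIdeal.ResidueField (ψ a) := by
    intro a; rw [hm]; exact Ideal.ResidueField.map_algebraMap P q.asIdeal ψ hP a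
  have hq1' : ¬ Function.Surjective m := by
    subst hP; rw [hm]; exact hq1
  have hq2' : ∀ x ∈ q.asIdeal, ∃ s : A, s ∉ P ∧ ψ s * x ∈ ψ.range := by
    subst hP; exact hq2
  have hpi : ∀ x : q.asIdeal.ResidueField,
      ∃ n : ℕ, x ^ ringExpChar P.ResidueField ^ n ∈ Set.range m := by
    have hui : UniversallyInjective (Spec.map (CommRingCat.ofHom ψ)) :=
      universallyInjective_Spec_of_ringHom_ext ψ hU.ext
    subst hP; rw [hm]
    exact exists_pow_mem_range_residueFieldMap ψ hui q.asIdeal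
  clear hq1 hq2
  -- Step A
  have hA : ∃ c : C, algebraMap C q.asIdeal.ResidueField c ∉ Set.range m := by
    by_contra hcon
    push_neg at hcon
    apply hq1'
    intro k'
    obtain ⟨c, t, ht, hkt⟩ := exists_frac_residueField q.asIdeal k'
    obtain ⟨k₁, hk₁⟩ := hcon c
    obtain ⟨k₂, hk₂⟩ := hcon t
    have ht0 : algebraMap C q.asIdeal.ResidueField t ≠ 0 := by
      rw [Ne, Ideal.algebraMap_residueField_eq_zero]; exact ht
    refine ⟨k₁ / k₂, ?_⟩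
    rw [map_div₀, hk₁, hk₂, div_eq_iff ht0]
    exact hkt.symm
  obtain ⟨c, hc⟩ := hA
  obtain ⟨ℓ, hℓdef⟩ : ∃ ℓ : ℕ, ℓ = ringExpChar P.ResidueField := ⟨_, rfl⟩
  rw [← hℓdef] at hpi
  have hexp : ExpChar P.ResidueField ℓ := hℓdef ▸ ringExpChar.expChar _
  have hex : ∃ n, (algebraMap C q.asIdeal.ResidueField c) ^ ℓ ^ n ∈ Set.range m := hpi _
  have hn : (algebraMap C q.asIdeal.ResidueField c) ^ ℓ ^ (Nat.find hex) ∈ Set.range m :=
    Nat.find_spec hex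
  have hn0 : Nat.find hex ≠ 0 := by
    intro h0
    rw [h0, pow_zero, pow_one] at hn
    exact hc hn
  obtain ⟨n', hn'⟩ := Nat.exists_eq_succ_of_ne_zero hn0
  have hmin : (algebraMap C q.asIdeal.ResidueField c) ^ ℓ ^ n' ∉ Set.range m :=
    Nat.find_min hex (by omega)
  obtain ⟨c', hc'⟩ : ∃ c' : C, c' = c ^ ℓ ^ n' := ⟨_, rfl⟩
  have hc'1 : algebraMap C q.asIdeal.ResidueField c' ∉ Set.range m := by
    rw [hc', map_pow]; exact hmin
  have hc'2 : (algebraMap C q.asIdeal.ResidueField c') ^ ℓ ∈ Set.range m := by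
    rw [hc', map_pow, ← pow_mul, ← pow_succ, ← Nat.succ_eq_add_one, ← hn']; exact hn
  have hℓ1 : ℓ ≠ 1 := by
    intro h; rw [h, pow_one] at hc'2; exact hc'1 hc'2
  obtain ⟨hℓprime, hchar⟩ := charP_of_expChar_ne_one _ ℓ hexp hℓ1
  have hℓP : (ℓ : A) ∈ P := by
    rw [← Ideal.algebraMap_residueField_eq_zero, map_natCast]; exact CharP.cast_eq_zero _ _
  obtain ⟨j, hj⟩ : ∃ j, ℓ = j + 1 := ⟨ℓ - 1, by have := hℓprime.pos; omega⟩
  obtain ⟨k, hk⟩ := hc'2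
  obtain ⟨a, s, hs, hks⟩ := exists_frac_residueField P k
  have hs0 : algebraMap A P.ResidueField s ≠ 0 := by
    rw [Ne, Ideal.algebraMap_residueField_eq_zero]; exact hs
  obtain ⟨c'', hc''⟩ : ∃ c'' : C, c'' = ψ s * c' := ⟨_, rfl⟩
  have e3 : algebraMap A P.ResidueField s ^ ℓ * k = algebraMap A P.ResidueField (s ^ j * a) := by
    rw [map_mul, map_pow, ← hks, hj, pow_succ]; ring
  have hx₁ : c'' ^ ℓ - ψ (s ^ j * a) ∈ q.asIdeal := by
    rw [← Ideal.algebraMap_residueField_eq_zero, map_sub, sub_eq_zero, hc'', map_pow, map_mul,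
      mul_pow, ← hk, ← hmalg, ← hmalg, ← map_pow, ← map_mul, e3]
  have hx₂ : (ℓ : C) * c'' ∈ q.asIdeal := by
    apply Ideal.mul_mem_right
    have h1 : ψ (ℓ : A) ∈ q.asIdeal := by
      have := hℓP; rw [hP] at this; exact this
    simpa using h1
  have hc''1 : algebraMap C q.asIdeal.ResidueField c'' ∉ Set.range m := by
    rintro ⟨k'', hk''⟩
    apply hc'1
    refine ⟨k'' / algebraMap A P.ResidueField s, ?_⟩
    rw [map_div₀, hk'', hc'', map_mul, hmalg]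
    exact mul_div_cancel_left₀ _ (by rw [← hmalg]; exact (map_ne_zero m).mpr hs0)
  obtain ⟨s₁, hs₁, r₁, hr₁⟩ := hq2' _ hx₁
  obtain ⟨s₂, hs₂, r₂, hr₂⟩ := hq2' _ hx₂
  refine ⟨ℓ, ψ (s₁ * s₂) * c'', hℓprime, ?_, ?_, ?_⟩
  · rintro ⟨r, hr⟩
    apply hc''1
    have ht0 : algebraMap A P.ResidueField (s₁ * s₂) ≠ 0 := by
      rw [Ne, Ideal.algebraMap_residueField_eq_zero]
      intro hmem
      rcases hPprime.mem_or_mem hmem with h | h
      · exact hs₁ h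
      · exact hs₂ h
    refine ⟨algebraMap A _ r / algebraMap A _ (s₁ * s₂), ?_⟩
    rw [map_div₀, hmalg, hmalg, hr, map_mul]
    exact mul_div_cancel_left₀ _ (by rw [← hmalg]; exact (map_ne_zero m).mpr ht0)
  · refine ⟨s₁ * r₂, ?_⟩
    rw [map_mul, hr₂, map_mul]; ring
  · refine ⟨(s₁ * s₂) ^ j * s₂ * r₁ + (s₁ * s₂) ^ ℓ * (s ^ j * a), ?_⟩
    rw [map_add, map_mul, hr₁]
    simp only [map_mul, map_pow]
    rw [hj]; ring

theorem exists_sq_cube_or_prime_of_ringUH {A B : Type u} [CommRing A] [CommRing B] (φ : A →+* B)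
    (hinj : Function.Injective φ) (hns : ¬ Function.Surjective φ) (hU : RingUH φ) :
    (∃ b : B, b ∉ φ.range ∧ b ^ 2 ∈ φ.range ∧ b ^ 3 ∈ φ.range) ∨
      ∃ (p : ℕ) (b : B), p.Prime ∧ b ∉ φ.range ∧ (p : B) * b ∈ φ.range ∧ b ^ p ∈ φ.range := by
  by_cases h1 : ∃ b : B, b ∉ φ.range ∧ b ^ 2 ∈ φ.range ∧ b ^ 3 ∈ φ.range
  · exact Or.inl h1
  right
  push_neg at h1
  have hsq : ∀ b : B, b ^ 2 ∈ φ.range → b ^ 3 ∈ φ.range → b ∈ φ.range :=
    fun b h2 h3 => by_contra fun hb => h1 b hb h2 h3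
  obtain ⟨b₀, hb₀⟩ : ∃ b₀, b₀ ∉ φ.range := by
    by_contra hcon
    push_neg at hcon
    exact hns (fun b => hcon b)
  obtain ⟨C, _, ψ, χ, hχ, hcomp, q, hq1, hq2⟩ := reduction φ hU hinj b₀ hb₀ hsq
  obtain ⟨hUψ, hUχ⟩ := RingUH.of_comp ψ χ hχ (by rw [hcomp]; exact hU)
  obtain ⟨ℓ, c, hℓ, hc1, hc2, hc3⟩ := key_prime ψ hUψ q hq1 hq2
  refine ⟨ℓ, χ c, hℓ, ?_, ?_, ?_⟩
  · rintro ⟨a, ha⟩
    exact hc1 ⟨a, hχ (by rw [← ha, ← hcomp]; rfl)⟩
  · obtain ⟨a, ha⟩ := hc2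
    exact ⟨a, by rw [← hcomp, RingHom.comp_apply, ha, map_mul, map_natCast]⟩
  · obtain ⟨a, ha⟩ := hc3
    exact ⟨a, by rw [← hcomp, RingHom.comp_apply, ha, map_pow]⟩

end Groth.Agent.H69
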