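import Mathlib

/-!
# Krull dimension of sober spaces through coheights of points (helper69)
-/

set_option autoImplicit false
set_option linter.style.haveILetI false
universe u
open TopologicalSpace Topology

namespace Groth.Agent.H69.SoberDim

variable {α : Type*} [TopologicalSpace α]

/-- The coheight of a point for the specialization preorder. -/
noncomputable abbrev spCoheight (x : α) : ℕ∞ := @Order.coheight α (specializationPreorder α) x

/-- The Krull dimension of a sober space is the supremum of the coheights of its points. -/
theorem topologicalKrullDim_eq_iSup [QuasiSober α] [T0Space α] :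
    topologicalKrullDim α = ⨆ x : α, ((spCoheight x : ℕ∞) : WithBot ℕ∞) := by
  letI : PartialOrder α := specializationOrder α
  have h1 : topologicalKrullDim α = Order.krullDim α :=
    Order.krullDim_eq_of_orderIso (irreducibleSetEquivPoints (α := α))
  rw [h1, Order.krullDim_eq_iSup_coheight]

/-- Coheights in an open subset agree with coheights in the ambient space. -/
theorem spCoheight_subtype_of_isOpen {W : Set α} (hW : IsOpen W) (w : W) :
    spCoheight w = spCoheight (w : α) := by
  have hiff : ∀ a b : W, (b ⤳ a) ↔ ((b : α) ⤳ (a : α)) := fun a b =>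
    (Topology.IsInducing.subtypeVal.specializes_iff (x := b) (y := a)).symm
  have hstrict : @StrictMono W α (specializationPreorder W) (specializationPreorder α)
      (Subtype.val : W → α) := by
    intro a b h
    have h' := (@lt_iff_le_not_ge W (specializationPreorder W) a b).1 h
    refine (@lt_iff_le_not_ge α (specializationPreorder α) a b).2 ⟨?_, ?_⟩
    · exact (hiff a b).1 h'.1
    · intro hge
      exact h'.2 ((hiff b a).2 hge)
  refine @Order.coheight_eq_of_strictMono W α (specializationPreorder W) (specializationPreorder α)
    (Subtype.val : W → α) hstrict ?_ w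
  intro a y hy
  have hy' := (@lt_iff_le_not_ge α (specializationPreorder α) a y).1 hy
  have hyW : y ∈ W := (show y ⤳ (a : α) from hy'.1).mem_open hW a.2
  refine ⟨⟨y, hyW⟩, ?_, rfl⟩
  refine (@lt_iff_le_not_ge W (specializationPreorder W) a ⟨y, hyW⟩).2 ⟨?_, ?_⟩
  · exact (hiff a ⟨y, hyW⟩).2 hy'.1
  · intro hge
    exact hy'.2 ((hiff ⟨y, hyW⟩ a).1 hge)

/-- The Krull dimension of an open subset of a sober space. -/
theorem topologicalKrullDim_of_isOpen [QuasiSober α] [T0Space α] {W : Set α} (hW : IsOpen W) :
    topologicalKrullDim W = ⨆ w : W, ((spCoheight (w : α) : ℕ∞) : WithBot ℕ∞) := by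
  haveI : QuasiSober W := hW.isOpenEmbedding_subtypeVal.quasiSober
  rw [topologicalKrullDim_eq_iSup]
  congr 1
  funext w
  rw [spCoheight_subtype_of_isOpen hW w]

/-- Local dimension (infimum of dimensions of open neighbourhoods). -/
theorem iInf_opens_eq [QuasiSober α] [T0Space α] (x : α) :
    (⨅ U : {U : Opens α // x ∈ U}, topologicalKrullDim (U.1 : Set α)) =
      ⨅ U : {U : Opens α // x ∈ U}, ⨆ w : (U.1 : Set α),
        ((spCoheight (w : α) : ℕ∞) : WithBot ℕ∞) := by
  congr 1
  funext U
  exact topologicalKrullDim_of_isOpen U.1.isOpen

end Groth.Agent.H69.SoberDim
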