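import Mathlib
import Groth.Agent.H69.UHomeo

/-! Stein factor of a proper morphism with geometrically connected fibres is a universal
homeomorphism over the base (easy half: no formal functions needed). -/

set_option autoImplicit false
set_option linter.style.haveILetI false
open AlgebraicGeometry CategoryTheory CategoryTheory.Limits TopologicalSpace

universe u

namespace Groth.Agent.H69.SteinUH

/-- A connected spectrum of an algebra integral over a field is a point. -/
theorem subsingleton_primeSpectrum_of_isIntegral {K C : Type*} [Field K] [CommRing C] [Algebra K C]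
    [Algebra.IsIntegral K C] [PreconnectedSpace (PrimeSpectrum C)] :
    Subsingleton (PrimeSpectrum C) := by
  refine ⟨fun p q => ?_⟩
  by_contra hne
  have hmax : ∀ r : PrimeSpectrum C, r.asIdeal.IsMaximal := by
    intro r
    apply Ideal.isMaximal_of_isIntegral_of_isMaximal_comap (R := K) r.asIdeal
    have : r.asIdeal.comap (algebraMap K C) = ⊥ := Ideal.eq_bot_of_prime _
    rw [this]
    exact Ideal.bot_isMaximal
  have hpq : ¬ p.asIdeal ≤ q.asIdeal := fun hle =>
    hne (PrimeSpectrum.ext ((hmax p).eq_of_le (hmax q).ne_top hle))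
  obtain ⟨x, hxp, hxq⟩ := SetLike.not_le_iff_exists.mp hpq
  let B : Subalgebra K C := Algebra.adjoin K {x}
  haveI : Module.Finite K B :=
    Algebra.finite_adjoin_simple_of_isIntegral (Algebra.IsIntegral.isIntegral (R := K) x)
  haveI : IsArtinianRing B := IsArtinianRing.of_finite K B
  let p₀ : Ideal B := p.asIdeal.comap (algebraMap B C)
  let q₀ : Ideal B := q.asIdeal.comap (algebraMap B C)
  haveI : p₀.IsPrime := Ideal.comap_isPrime _ _
  haveI : q₀.IsPrime := Ideal.comap_isPrime _ _
  have hxB : x ∈ B := Algebra.subset_adjoin (Set.mem_singleton x)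
  have hne₀ : q₀ ≠ p₀ := by
    intro h
    have h1 : (⟨x, hxB⟩ : B) ∈ p₀ := hxp
    rw [← h] at h1
    exact hxq h1
  obtain ⟨r, hr, hidem, hall⟩ := IsArtinianRing.exists_not_mem_forall_mem_of_ne p₀
  have hrq : r ∈ q₀ := hall q₀ inferInstance hne₀
  have he : IsIdempotentElem (r : C) := by
    have := congrArg (Subtype.val) hidem.eq
    exact this
  have hclopen : IsClopen ((PrimeSpectrum.basicOpen (r : C) : Set (PrimeSpectrum C))) :=
    PrimeSpectrum.isClopen_iff.mpr ⟨_, he, rfl⟩
  rcases isClopen_iff.mp hclopen with h | h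
  · have : p ∈ (PrimeSpectrum.basicOpen (r : C) : Set (PrimeSpectrum C)) := hr
    rw [h] at this
    exact this
  · have : q ∈ (PrimeSpectrum.basicOpen (r : C) : Set (PrimeSpectrum C)) := by
      rw [h]; trivial
    exact this hrq

/-- Two retractions of a ring with a single prime onto a domain sharing a section are equal. -/
theorem eq_of_subsingleton_primeSpectrum {C K₀ : Type*} [CommRing C] [CommRing K₀] [IsDomain K₀]
    [Subsingleton (PrimeSpectrum C)] (π : K₀ →+* C) (s₁ s₂ : C →+* K₀)
    (h₁ : s₁.comp π = RingHom.id _) (h₂ : s₂.comp π = RingHom.id _) : s₁ = s₂ := by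
  have hk : RingHom.ker s₁ = RingHom.ker s₂ := by
    have := Subsingleton.elim (⟨RingHom.ker s₁, RingHom.ker_isPrime s₁⟩ : PrimeSpectrum C)
      ⟨RingHom.ker s₂, RingHom.ker_isPrime s₂⟩
    exact congrArg PrimeSpectrum.asIdeal this
  ext c
  have e1 : s₁ (π (s₁ c)) = s₁ c := congrArg (fun h => h (s₁ c)) h₁
  have e2 : s₂ (π (s₁ c)) = s₁ c := congrArg (fun h => h (s₁ c)) h₂
  have hmem : c - π (s₁ c) ∈ RingHom.ker s₁ := by
    rw [RingHom.mem_ker, map_sub, e1, sub_self]
  rw [hk, RingHom.mem_ker, map_sub, e2, sub_eq_zero] at hmem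
  exact hmem.symm

/-- A connected scheme integral over the spectrum of a field is a point. -/
theorem subsingleton_of_isIntegralHom_of_connected {P : Scheme.{u}} {K : Type u} [Field K]
    (π : P ⟶ Spec (.of K)) [IsIntegralHom π] [ConnectedSpace P] : Subsingleton P := by
  haveI : IsAffine P := isAffine_of_isAffineHom π
  let φ : CommRingCat.of K ⟶ Γ(P, ⊤) := (Scheme.ΓSpecIso (.of K)).inv ≫ π.appTop
  have hφ : φ.hom.IsIntegral := by
    have h1 : (π.app ⊤).hom.IsIntegral := IsIntegralHom.isIntegral_app π ⊤ (isAffineOpen_top _)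
    have h2 : (Scheme.ΓSpecIso (.of K)).inv.hom.IsIntegral :=
      RingHom.isIntegral_of_surjective _
        (ConcreteCategory.bijective_of_isIso (Scheme.ΓSpecIso (CommRingCat.of K)).inv).2
    exact RingHom.IsIntegral.trans _ _ h2 h1
  letI : Algebra K Γ(P, ⊤) := φ.hom.toAlgebra
  haveI : Algebra.IsIntegral K Γ(P, ⊤) := ⟨hφ⟩
  haveI : ConnectedSpace (PrimeSpectrum Γ(P, ⊤)) :=
    (P.isoSpec.hom.homeomorph.connectedSpace_iff).mp inferInstance
  haveI : Subsingleton (PrimeSpectrum Γ(P, ⊤)) := subsingleton_primeSpectrum_of_isIntegral (K := K)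
  haveI : Subsingleton ↥(Spec Γ(P, ⊤)) := ‹Subsingleton (PrimeSpectrum Γ(P, ⊤))›
  exact P.isoSpec.hom.homeomorph.injective.subsingleton

/-- An affine morphism whose base changes to spectra of fields are one-point spaces is
universally injective. -/
theorem universallyInjective_of_subsingleton_pullback {S' S : Scheme.{u}} (ν : S' ⟶ S)
    [IsAffineHom ν]
    (h : ∀ (K : Type u) [Field K] (a : Spec (.of K) ⟶ S), Subsingleton ↥(pullback ν a)) :
    UniversallyInjective ν := by
  refine ((tfae_universallyInjective ν).out 0 1).mpr ?_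
  intro K _ g₁ g₂ hg
  dsimp only at hg
  let a : Spec (.of K) ⟶ S := g₁ ≫ ν
  let σ₁ : Spec (.of K) ⟶ pullback ν a := pullback.lift g₁ (𝟙 _) (by simp [a])
  let σ₂ : Spec (.of K) ⟶ pullback ν a := pullback.lift g₂ (𝟙 _) (by simp [a, hg])
  have hσ₁ : σ₁ ≫ pullback.snd ν a = 𝟙 _ := pullback.lift_snd _ _ _
  have hσ₂ : σ₂ ≫ pullback.snd ν a = 𝟙 _ := pullback.lift_snd _ _ _
  suffices hσ : σ₁ = σ₂ by
    have e1 : g₁ = σ₁ ≫ pullback.fst ν a := (pullback.lift_fst _ _ _).symm
    have e2 : g₂ = σ₂ ≫ pullback.fst ν a := (pullback.lift_fst _ _ _).symm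
    rw [e1, e2, hσ]
  haveI : IsAffine (pullback ν a) := isAffine_of_isAffineHom (pullback.snd ν a)
  haveI := h K a
  haveI : Subsingleton (PrimeSpectrum Γ(pullback ν a, ⊤)) :=
    (pullback ν a).isoSpec.inv.homeomorph.injective.subsingleton
  apply ext_of_isAffine
  have k₁ : (pullback.snd ν a).appTop ≫ σ₁.appTop = 𝟙 _ := by
    rw [← Scheme.Hom.comp_appTop, hσ₁, Scheme.Hom.id_appTop]
  have k₂ : (pullback.snd ν a).appTop ≫ σ₂.appTop = 𝟙 _ := by
    rw [← Scheme.Hom.comp_appTop, hσ₂, Scheme.Hom.id_appTop]
  haveI : IsDomain Γ(Spec (CommRingCat.of K), ⊤) :=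
    MulEquiv.isDomain K (Scheme.ΓSpecIso (CommRingCat.of K)).commRingCatIsoToRingEquiv.toMulEquiv
  apply CommRingCat.hom_ext
  exact eq_of_subsingleton_primeSpectrum (pullback.snd ν a).appTop.hom σ₁.appTop.hom σ₂.appTop.hom
    (by rw [← CommRingCat.hom_comp, k₁]; rfl) (by rw [← CommRingCat.hom_comp, k₂]; rfl)

theorem isUnivHomeo_fromNormalization_of_geometricallyConnected {X S : Scheme.{u}} (f : X ⟶ S)
    [IsProper f] [GeometricallyConnected f] : FlatMor.IsUnivHomeo f.fromNormalization := by
  have hfac : f.toNormalization ≫ f.fromNormalization = f := f.toNormalization_fromNormalization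
  haveI : IsProper (f.toNormalization ≫ f.fromNormalization) := by rw [hfac]; infer_instance
  haveI : IsProper f.toNormalization := IsProper.of_comp f.toNormalization f.fromNormalization
  haveI : Surjective f.toNormalization := by
    constructor
    rw [← Set.range_eq_univ]
    have hcl : IsClosed (Set.range f.toNormalization) := f.toNormalization.isClosedMap.isClosed_range
    have hd : DenseRange f.toNormalization := f.toNormalization.denseRange
    rw [← hcl.closure_eq]
    exact hd.closure_range
  haveI : Surjective (f.toNormalization ≫ f.fromNormalization) := by rw [hfac]; infer_instance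
  haveI : Surjective f.fromNormalization :=
    Surjective.of_comp f.toNormalization f.fromNormalization
  haveI : UniversallyInjective f.fromNormalization := by
    refine universallyInjective_of_subsingleton_pullback _ (fun K _ a => ?_)
    have hpb : IsPullback (pullback.fst f.toNormalization (pullback.fst f.fromNormalization a))
        (pullback.snd f.toNormalization (pullback.fst f.fromNormalization a) ≫
          pullback.snd f.fromNormalization a) f a := by
      have := (IsPullback.of_hasPullback f.toNormalization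
        (pullback.fst f.fromNormalization a)).paste_vert
        (IsPullback.of_hasPullback f.fromNormalization a)
      rwa [hfac] at this
    haveI : ConnectedSpace ↥(pullback f.toNormalization (pullback.fst f.fromNormalization a)) :=
      GeometricallyConnected.geometrically_connectedSpace (f := f) a _ _ hpb
    haveI : ConnectedSpace ↥(pullback f.fromNormalization a) :=
      (pullback.snd f.toNormalization (pullback.fst f.fromNormalization a)).surjective.connectedSpace
        (pullback.snd f.toNormalization (pullback.fst f.fromNormalization a)).continuous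
    exact subsingleton_of_isIntegralHom_of_connected (pullback.snd f.fromNormalization a)
  exact Groth.Agent.H69.isUnivHomeo_of_integral _

end Groth.Agent.H69.SteinUH
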