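import Mathlib
import Groth.Prelude.Def_SGA1

/-!
# Descent of topological properties along universally submersive morphisms
-/

set_option autoImplicit false
set_option linter.style.haveILetI false

universe u

open CategoryTheory CategoryTheory.Limits AlgebraicGeometry MorphismProperty

namespace Groth.Agent.H69.SubmDescent

instance univSubmersive_isStableUnderBaseChange :
    (SGA1.UnivSubmersive.{u}).IsStableUnderBaseChange :=
  universally_isStableUnderBaseChange _

theorem isQuotientMap_of_univSubmersive {X Y : Scheme.{u}} {f : X ⟶ Y}
    (hf : SGA1.UnivSubmersive f) : Topology.IsQuotientMap f.base :=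
  hf (𝟙 X) (𝟙 Y) f IsPullback.of_id_snd

/-- Universally closed descends along universally submersive morphisms. -/
instance universallyClosed_descendsAlong_univSubmersive :
    DescendsAlong @UniversallyClosed (SGA1.UnivSubmersive.{u}) := by
  apply DescendsAlong.mk'
  intro X Y Z φ g _ hφ hfst
  haveI : UniversallyClosed (pullback.fst φ g) := hfst
  refine ⟨universally_mk' _ _ fun {T} f _ s hs ↦ ?_⟩
  let p := pullback.fst (pullback.fst φ f) (pullback.fst φ g)
  let r : pullback (pullback.fst φ f) (pullback.fst φ g) ⟶ pullback f g :=
    pullback.map _ _ _ _ (pullback.snd _ _) (pullback.snd _ _) φ (pullback.condition ..)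
      (pullback.condition ..)
  have : IsClosed ((pullback.snd φ f).base ⁻¹' ((pullback.fst f g).base '' s)) := by
    rw [← Scheme.image_preimage_eq_of_isPullback (isPullback_map_snd_snd ..)]
    exact p.isClosedMap _ (hs.preimage r.continuous)
  have hq : Topology.IsQuotientMap (pullback.snd φ f).base :=
    isQuotientMap_of_univSubmersive (MorphismProperty.pullback_snd _ _ hφ)
  rwa [hq.isClosed_preimage] at this

/-- The morphism property "the range is closed". -/
def ClosedRange : MorphismProperty Scheme.{u} := fun _ _ h => IsClosed (Set.range h.base)

instance closedRange_respectsIso : (ClosedRange.{u}).RespectsIso := by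
  apply MorphismProperty.RespectsIso.mk
  · intro X Y Z e f hf
    change IsClosed (Set.range (e.hom ≫ f).base)
    have : Set.range (e.hom ≫ f).base = Set.range f.base := by
      rw [Scheme.Hom.comp_base, TopCat.coe_comp, Set.range_comp]
      have : Function.Surjective e.hom.base := e.hom.surjective
      rw [this.range_eq, Set.image_univ]
    rw [this]
    exact hf
  · intro X Y Z e f hf
    change IsClosed (Set.range (f ≫ e.hom).base)
    rw [Scheme.Hom.comp_base, TopCat.coe_comp, Set.range_comp]
    exact (e.hom.homeomorph).isClosedMap _ hf

/-- Having closed range descends along universally submersive morphisms. -/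
instance closedRange_descendsAlong_univSubmersive :
    DescendsAlong (ClosedRange.{u}) (SGA1.UnivSubmersive.{u}) where
  of_isPullback {A X Y Z fst snd f g} h hf hfst := by
    change IsClosed (Set.range g.base)
    have hq : Topology.IsQuotientMap f.base := isQuotientMap_of_univSubmersive hf
    rw [← hq.isClosed_preimage]
    have := Scheme.image_preimage_eq_of_isPullback h.flip (Set.univ : Set Y)
    rw [Set.preimage_univ, Set.image_univ, Set.image_univ] at this
    rw [← this]
    exact hfst

/-- Separatedness of an étale morphism descends along universally submersive morphisms. -/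
theorem isSeparated_of_univSubmersive {X S S' : Scheme.{u}} (g : S' ⟶ S)
    (hg : SGA1.UnivSubmersive g) (f : X ⟶ S) [Etale f] [IsSeparated (pullback.snd f g)] :
    IsSeparated f := by
  have h1 : diagonal ClosedRange (pullback.snd f g) := by
    change IsClosed (Set.range (pullback.diagonal (pullback.snd f g)).base)
    exact (pullback.diagonal (pullback.snd f g)).isClosedEmbedding.isClosed_range
  have h2 : diagonal ClosedRange f :=
    MorphismProperty.of_pullback_snd_of_descendsAlong (P := diagonal ClosedRange)
      (Q := SGA1.UnivSubmersive) hg h1
  have h3 : IsClosed (Set.range (pullback.diagonal f).base) := h2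
  haveI : IsOpenImmersion (pullback.diagonal f) := inferInstance
  exact ⟨IsClosedImmersion.of_isPreimmersion _ h3⟩

theorem universallyClosed_of_univSubmersive {X S S' : Scheme.{u}} (g : S' ⟶ S)
    (hg : SGA1.UnivSubmersive g) (f : X ⟶ S) [UniversallyClosed (pullback.snd f g)] :
    UniversallyClosed f :=
  MorphismProperty.of_pullback_snd_of_descendsAlong (P := @UniversallyClosed)
    (Q := SGA1.UnivSubmersive) hg inferInstance

theorem quasiCompact_of_surjective {X S S' : Scheme.{u}} (g : S' ⟶ S) [QuasiCompact g]
    (hg : Function.Surjective g.base) (f : X ⟶ S) [QuasiCompact (pullback.snd f g)] :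
    QuasiCompact f := by
  constructor
  intro U hUo hUc
  have h1 : IsCompact (g.base ⁻¹' U) := QuasiCompact.isCompact_preimage (f := g) U hUo hUc
  have h2 : IsCompact ((pullback.snd f g).base ⁻¹' (g.base ⁻¹' U)) :=
    QuasiCompact.isCompact_preimage (f := pullback.snd f g) _ (hUo.preimage g.continuous) h1
  have h3 := h2.image (pullback.fst f g).continuous
  convert h3 using 1
  ext x
  constructor
  · intro hx
    obtain ⟨s', hs'⟩ := hg (f.base x)
    obtain ⟨z, hz1, hz2⟩ := Scheme.Pullback.exists_preimage_pullback (f := f) (g := g) x s'
      hs'.symm
    refine ⟨z, ?_, hz1⟩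
    change g.base ((pullback.snd f g).base z) ∈ U
    rw [hz2, hs']
    exact hx
  · rintro ⟨z, hz, rfl⟩
    change f.base ((pullback.fst f g).base z) ∈ U
    have : f.base ((pullback.fst f g).base z) = g.base ((pullback.snd f g).base z) :=
      congrArg (fun q : pullback f g ⟶ S => q.base z) (pullback.condition (f := f) (g := g))
    rw [this]
    exact hz

/-- An unramified morphism locally of finite type is locally quasi-finite. -/
theorem locallyQuasiFinite_of_unramified {X Y : Scheme.{u}} (f : X ⟶ Y) [LocallyOfFiniteType f]
    [FormallyUnramified f] : LocallyQuasiFinite f := by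
  rw [HasRingHomProperty.iff_appLE (P := @LocallyQuasiFinite)]
  intro U V e
  have h1 := HasRingHomProperty.appLE @LocallyOfFiniteType f inferInstance U V e
  have h2 := HasRingHomProperty.appLE @FormallyUnramified f inferInstance U V e
  algebraize [(f.appLE U V e).hom]
  exact RingHom.quasiFinite_algebraMap.2 inferInstance

/-- Finiteness of an étale morphism descends along quasi-compact universally submersive
morphisms. -/
theorem isFinite_of_univSubmersive {X S S' : Scheme.{u}} (g : S' ⟶ S) [QuasiCompact g]
    (hg : SGA1.UnivSubmersive g) (f : X ⟶ S) [Etale f] [IsFinite (pullback.snd f g)] :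
    IsFinite f := by
  haveI : IsSeparated f := isSeparated_of_univSubmersive g hg f
  haveI : UniversallyClosed f := universallyClosed_of_univSubmersive g hg f
  haveI : QuasiCompact f :=
    quasiCompact_of_surjective g (isQuotientMap_of_univSubmersive hg).surjective f
  haveI : LocallyOfFiniteType f := inferInstance
  haveI : IsProper f := { }
  haveI : LocallyQuasiFinite f := locallyQuasiFinite_of_unramified f
  exact IsFinite.of_isProper_of_locallyQuasiFinite f

end Groth.Agent.H69.SubmDescent
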