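import Mathlib
import Groth.Agent.H73.DVRExists

/-! Algebraic core of "lifting of ordered pairs along valuation rings follows from lifting along
discrete valuation rings over a Noetherian base". -/

set_option autoImplicit false
set_option linter.style.haveILetI false
universe u
open TensorProduct

namespace Groth.Agent.H69.Subtr

section VL

variable {V C : Type*} [CommRing V] [IsDomain V] [CommRing C] [Algebra V C]

/-- The ideal of `V`-torsion elements of a `V`-algebra (`V` a domain). -/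
def torsIdeal (V C : Type*) [CommRing V] [IsDomain V] [CommRing C] [Algebra V C] : Ideal C where
  carrier := {c | ∃ v : V, v ≠ 0 ∧ v • c = 0}
  zero_mem' := ⟨1, one_ne_zero, smul_zero _⟩
  add_mem' := by
    rintro a b ⟨v, hv, hva⟩ ⟨w, hw, hwb⟩
    refine ⟨v * w, mul_ne_zero hv hw, ?_⟩
    have h1 : (v * w) • a = 0 := by rw [mul_comm, mul_smul, hva, smul_zero]
    have h2 : (v * w) • b = 0 := by rw [mul_smul, hwb, smul_zero]
    rw [smul_add, h1, h2, add_zero]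
  smul_mem' := by
    rintro c a ⟨v, hv, hva⟩
    exact ⟨v, hv, by rw [smul_eq_mul, ← mul_smul_comm, hva, mul_zero]⟩

theorem mem_torsIdeal {c : C} : c ∈ torsIdeal V C ↔ ∃ v : V, v ≠ 0 ∧ v • c = 0 := Iff.rfl

/-- If `1` is not in `𝔪 C + (torsion)`, there are primes `Q' ≤ Q` of `C` over `(0)` and `𝔪`. -/
theorem exists_primes_of_forall_smul_ne_zero [IsLocalRing V]
    (h : ∀ (v : V) (z : C), v ≠ 0 →
      z ∈ Ideal.map (algebraMap V C) (IsLocalRing.maximalIdeal V) → v • (1 - z) ≠ 0) :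
    ∃ Q' Q : Ideal C, Q'.IsPrime ∧ Q.IsPrime ∧ Q' ≤ Q ∧
      Q'.comap (algebraMap V C) = ⊥ ∧
      Q.comap (algebraMap V C) = IsLocalRing.maximalIdeal V := by
  classical
  set T := torsIdeal V C with hT
  set I := Ideal.map (algebraMap V C) (IsLocalRing.maximalIdeal V) ⊔ T with hI
  have hIne : I ≠ ⊤ := by
    intro htop
    have h1 : (1 : C) ∈ I := htop ▸ Submodule.mem_top
    obtain ⟨z, hz, τ, hτ, hsum⟩ := Submodule.mem_sup.mp h1
    obtain ⟨v, hv, hvτ⟩ := hτ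
    apply h v z hv hz
    have : (1 : C) - z = τ := by rw [← hsum]; ring
    rw [this, hvτ]
  obtain ⟨Q, hQmax, hIQ⟩ := Ideal.exists_le_maximal I hIne
  haveI := hQmax.isPrime
  have hTQ : T ≤ Q := le_trans le_sup_right hIQ
  obtain ⟨Q', hQ'min, hQ'Q⟩ := Ideal.exists_minimalPrimes_le hTQ
  haveI hQ'prime : Q'.IsPrime := hQ'min.1.1
  refine ⟨Q', Q, hQ'prime, inferInstance, hQ'Q, ?_, ?_⟩
  · rw [eq_bot_iff]
    intro v hv
    rw [Ideal.mem_comap] at hv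
    rw [Ideal.mem_bot]
    by_contra hv0
    obtain ⟨y, hyT, hxy⟩ := Ideal.exists_mul_mem_of_mem_minimalPrimes hQ'min hv
    obtain ⟨w, hw, hwy⟩ := hxy
    apply hyT
    refine ⟨w * v, mul_ne_zero hw hv0, ?_⟩
    rw [mul_smul, ← hwy, Algebra.smul_def v y]
  · have hle : IsLocalRing.maximalIdeal V ≤ Q.comap (algebraMap V C) := by
      rw [← Ideal.map_le_iff_le_comap]
      exact le_trans le_sup_left hIQ
    have hne : Q.comap (algebraMap V C) ≠ ⊤ := Ideal.comap_ne_top _ hQmax.ne_top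
    exact ((IsLocalRing.maximalIdeal.isMaximal V).eq_of_le hne hle).symm

end VL

section AL

variable {R₀ B V : Type u} [CommRing R₀] [CommRing B] [Algebra R₀ B]
  [CommRing V] [Algebra R₀ V]

/-- The canonical map `A ⊗ B → V ⊗ B` for a subalgebra `A` of `V`. -/
noncomputable def ρ (A : Subalgebra R₀ V) : ↥A ⊗[R₀] B →ₐ[R₀] V ⊗[R₀] B :=
  Algebra.TensorProduct.map A.val (AlgHom.id R₀ B)

/-- Transition maps. -/
noncomputable def τ {A A' : Subalgebra R₀ V} (h : A ≤ A') : ↥A ⊗[R₀] B →ₐ[R₀] ↥A' ⊗[R₀] B :=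
  Algebra.TensorProduct.map (Subalgebra.inclusion h) (AlgHom.id R₀ B)

theorem ρ_apply (A : Subalgebra R₀ V) (x : ↥A ⊗[R₀] B) :
    ρ (B := B) A x = LinearMap.rTensor B A.val.toLinearMap x := rfl

theorem τ_apply {A A' : Subalgebra R₀ V} (h : A ≤ A') (x : ↥A ⊗[R₀] B) :
    τ (B := B) h x = LinearMap.rTensor B (Subalgebra.inclusion h).toLinearMap x := rfl

theorem ρ_τ {A A' : Subalgebra R₀ V} (h : A ≤ A') (x : ↥A ⊗[R₀] B) :
    ρ (B := B) A' (τ h x) = ρ A x := by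
  induction x using TensorProduct.induction_on with
  | zero => simp
  | tmul a b => simp [ρ, τ]
  | add x y hx hy => simp [map_add, hx, hy]

/-- The ideal `𝔭_A (A ⊗ B)` for `𝔭_A = 𝔪 ∩ A`. -/
noncomputable def pIdeal (m : Ideal V) (A : Subalgebra R₀ V) : Ideal (↥A ⊗[R₀] B) :=
  Ideal.map (Algebra.TensorProduct.includeLeftRingHom : ↥A →+* ↥A ⊗[R₀] B)
    (Ideal.comap (A.val : ↥A →+* V) m)

theorem τ_mem_pIdeal (m : Ideal V) {A A' : Subalgebra R₀ V} (h : A ≤ A') {x : ↥A ⊗[R₀] B}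
    (hx : x ∈ pIdeal (B := B) m A) : τ h x ∈ pIdeal (B := B) m A' := by
  have : pIdeal (B := B) m A ≤ Ideal.comap (τ (B := B) h : ↥A ⊗[R₀] B →+* ↥A' ⊗[R₀] B)
      (pIdeal (B := B) m A') := by
    rw [pIdeal, Ideal.map_le_iff_le_comap]
    intro a ha
    rw [Ideal.mem_comap, Ideal.mem_comap]
    have : (τ (B := B) h : ↥A ⊗[R₀] B →+* ↥A' ⊗[R₀] B)
        (Algebra.TensorProduct.includeLeftRingHom a) =
        Algebra.TensorProduct.includeLeftRingHom (Subalgebra.inclusion h a) := by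
      simp [τ]
    rw [this]
    apply Ideal.mem_map_of_mem
    exact ha
  exact this hx

/-- Every element of `𝔪 (V ⊗ B)` comes from `𝔭_A (A ⊗ B)` for a finitely generated `A`. -/
theorem exists_fg_of_mem_map (m : Ideal V) {z : V ⊗[R₀] B}
    (hz : z ∈ Ideal.map (algebraMap V (V ⊗[R₀] B)) m) :
    ∃ A : Subalgebra R₀ V, A.FG ∧ ∃ zA ∈ pIdeal (B := B) m A, ρ A zA = z := by
  classical
  rw [Ideal.map] at hz
  induction hz using Submodule.span_induction with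
  | mem x hx =>
    obtain ⟨a, ha, rfl⟩ := hx
    refine ⟨Algebra.adjoin R₀ {a}, by simpa using Subalgebra.fg_adjoin_finset (R := R₀) ({a} : Finset V), ?_⟩
    refine ⟨Algebra.TensorProduct.includeLeftRingHom
      (⟨a, Algebra.subset_adjoin (Set.mem_singleton a)⟩ : ↥(Algebra.adjoin R₀ {a})), ?_, ?_⟩
    · apply Ideal.mem_map_of_mem
      exact ha
    · simp [ρ, Algebra.TensorProduct.algebraMap_apply]
  | zero => exact ⟨⊥, Subalgebra.fg_bot, 0, Ideal.zero_mem _, map_zero _⟩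
  | add x y _ _ hx hy =>
    obtain ⟨A₁, hA₁, z₁, hz₁, rfl⟩ := hx
    obtain ⟨A₂, hA₂, z₂, hz₂, rfl⟩ := hy
    refine ⟨A₁ ⊔ A₂, hA₁.sup hA₂, τ (B := B) (le_sup_left : A₁ ≤ A₁ ⊔ A₂) z₁ +
      τ (B := B) (le_sup_right : A₂ ≤ A₁ ⊔ A₂) z₂,
      Ideal.add_mem _ (τ_mem_pIdeal m _ hz₁) (τ_mem_pIdeal m _ hz₂), ?_⟩
    rw [map_add, ρ_τ, ρ_τ]
  | smul c x _ hx =>
    obtain ⟨A₁, hA₁, z₁, hz₁, rfl⟩ := hx
    obtain ⟨A₃, hA₃, c₃, hc₃⟩ := TensorProduct.Algebra.exists_of_fg (R := R₀) (S := V) (N := B) c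
    refine ⟨A₁ ⊔ A₃, hA₁.sup hA₃, τ (B := B) (le_sup_right : A₃ ≤ A₁ ⊔ A₃) c₃ *
      τ (B := B) (le_sup_left : A₁ ≤ A₁ ⊔ A₃) z₁,
      Ideal.mul_mem_left _ _ (τ_mem_pIdeal m _ hz₁), ?_⟩
    rw [map_mul, ρ_τ, ρ_τ, smul_eq_mul, ρ_apply, hc₃]

/-- **Algebraic core.** Over a Noetherian ring `R₀`, if for every discrete valuation ring `D` over
`R₀` there are primes `Q' ≤ Q` of `D ⊗ B` over `(0)` and `𝔪_D`, then the same holds for every local
domain `V` over `R₀` which is not a field. -/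
theorem exists_primes_tensor [IsNoetherianRing R₀] [IsDomain V] [IsLocalRing V]
    (hV : ∃ v₀ ∈ IsLocalRing.maximalIdeal V, v₀ ≠ 0)
    (H : ∀ (D : Type u) [CommRing D] [IsDomain D] [IsDiscreteValuationRing D] [Algebra R₀ D],
      ∃ Q' Q : Ideal (D ⊗[R₀] B), Q'.IsPrime ∧ Q.IsPrime ∧ Q' ≤ Q ∧
        Q'.comap (algebraMap D (D ⊗[R₀] B)) = ⊥ ∧
        Q.comap (algebraMap D (D ⊗[R₀] B)) = IsLocalRing.maximalIdeal D) :
    ∃ Q' Q : Ideal (V ⊗[R₀] B), Q'.IsPrime ∧ Q.IsPrime ∧ Q' ≤ Q ∧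
      Q'.comap (algebraMap V (V ⊗[R₀] B)) = ⊥ ∧
      Q.comap (algebraMap V (V ⊗[R₀] B)) = IsLocalRing.maximalIdeal V := by
  classical
  obtain ⟨v₀, hv₀m, hv₀⟩ := hV
  apply exists_primes_of_forall_smul_ne_zero
  intro v z hv hz hzero
  obtain ⟨A₀, hA₀, z₀, hz₀, rfl⟩ := exists_fg_of_mem_map (B := B) (IsLocalRing.maximalIdeal V) hz
  -- enlarge to contain `v` and `v₀`
  let A₁ : Subalgebra R₀ V := A₀ ⊔ Algebra.adjoin R₀ {v, v₀}
  have hA₁ : A₁.FG :=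
    hA₀.sup (by simpa using Subalgebra.fg_adjoin_finset (R := R₀) ({v, v₀} : Finset V))
  have hvA₁ : v ∈ A₁ := (le_sup_right : _ ≤ A₁) (Algebra.subset_adjoin (by simp))
  have hv₀A₁ : v₀ ∈ A₁ := (le_sup_right : _ ≤ A₁) (Algebra.subset_adjoin (by simp))
  let z₁ := τ (B := B) (le_sup_left : A₀ ≤ A₁) z₀
  have hz₁ : z₁ ∈ pIdeal (B := B) (IsLocalRing.maximalIdeal V) A₁ := τ_mem_pIdeal _ _ hz₀
  let x₁ : ↥A₁ ⊗[R₀] B := ((⟨v, hvA₁⟩ : ↥A₁) ⊗ₜ[R₀] (1 : B)) * (1 - z₁)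
  have hx₁ : LinearMap.rTensor B A₁.val.toLinearMap x₁ =
      LinearMap.rTensor B A₁.val.toLinearMap 0 := by
    rw [← ρ_apply, ← ρ_apply, map_zero, map_mul, map_sub, map_one, ρ_τ, ← hzero,
      Algebra.smul_def, Algebra.TensorProduct.algebraMap_apply]
    simp [ρ]
  obtain ⟨A, hA₁A, hA, hx⟩ := TensorProduct.Algebra.eq_of_fg_of_subtype_eq hA₁ hx₁
  rw [← τ_apply, ← τ_apply, map_zero] at hx
  have hvA : v ∈ A := hA₁A hvA₁
  have hv₀A : v₀ ∈ A := hA₁A hv₀A₁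
  set zA := τ (B := B) hA₁A z₁ with hzA
  have hzA' : zA ∈ pIdeal (B := B) (IsLocalRing.maximalIdeal V) A := τ_mem_pIdeal _ _ hz₁
  have hxA : ((⟨v, hvA⟩ : ↥A) ⊗ₜ[R₀] (1 : B)) * (1 - zA) = 0 := by
    rw [← hx]
    simp only [x₁, map_mul, map_sub, map_one, hzA]
    congr 1
  -- the Noetherian domain `A` and its prime `p = 𝔪 ∩ A`
  haveI : Algebra.FiniteType R₀ ↥A := (Subalgebra.fg_iff_finiteType A).mp hA
  haveI : IsNoetherianRing ↥A := Algebra.FiniteType.isNoetherianRing R₀ ↥A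
  let p : Ideal ↥A := Ideal.comap (A.val : ↥A →+* V) (IsLocalRing.maximalIdeal V)
  haveI : p.IsPrime := Ideal.comap_isPrime _ _
  let L := FractionRing ↥A
  let Ap := Localization.AtPrime p
  haveI : IsNoetherianRing Ap := IsLocalization.isNoetherianRing p.primeCompl Ap inferInstance
  have hunits : ∀ s : p.primeCompl, IsUnit (algebraMap ↥A L (s : ↥A)) := by
    intro s
    apply IsUnit.mk0
    intro h0
    have h1 : (s : ↥A) = 0 := (IsFractionRing.injective ↥A L) (by rw [h0, map_zero])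
    exact s.2 (h1 ▸ p.zero_mem)
  let φ : Ap →+* L := IsLocalization.lift (M := p.primeCompl) (g := algebraMap ↥A L) hunits
  have hφ_eq : ∀ a : ↥A, φ (algebraMap ↥A Ap a) = algebraMap ↥A L a :=
    fun a => IsLocalization.lift_eq _ a
  have hφ : ∃ a ∈ IsLocalRing.maximalIdeal Ap, φ a ≠ 0 := by
    refine ⟨algebraMap ↥A Ap ⟨v₀, hv₀A⟩, ?_, ?_⟩
    · rw [IsLocalization.AtPrime.to_map_mem_maximal_iff Ap p]
      exact hv₀m
    · rw [hφ_eq]
      intro h0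
      apply hv₀
      have := (IsFractionRing.injective ↥A L) (h0.trans (map_zero _).symm)
      exact congrArg Subtype.val this
  have hs : Subfield.closure (Set.range φ ∪ ((∅ : Finset L) : Set L)) = ⊤ := by
    rw [Finset.coe_empty, Set.union_empty, eq_top_iff,
      ← IsFractionRing.closure_range_algebraMap (A := ↥A) (K := L)]
    apply Subfield.closure_mono
    rintro _ ⟨a, rfl⟩
    exact ⟨algebraMap ↥A Ap a, hφ_eq a⟩
  obtain ⟨D, hD, hφD, hdom⟩ := Groth.Agent.H73.KA.exists_dvr_of_ringHom φ hφ ∅ hs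
  let θ : ↥A →+* ↥D := (algebraMap ↥A L).codRestrict D.toSubring
    (fun a => by rw [← hφ_eq]; exact hφD _)
  have hθinj : Function.Injective θ := fun a b hab =>
    IsFractionRing.injective ↥A L (congrArg Subtype.val hab)
  have hθp : ∀ a ∈ p, θ a ∈ IsLocalRing.maximalIdeal ↥D := by
    intro a ha
    rw [ValuationSubring.valuation_lt_one_iff]
    have := hdom (algebraMap ↥A Ap a)
      ((IsLocalization.AtPrime.to_map_mem_maximal_iff Ap p a).mpr ha)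
    rwa [hφ_eq] at this
  letI : Algebra R₀ ↥D := (θ.comp (algebraMap R₀ ↥A)).toAlgebra
  let θa : ↥A →ₐ[R₀] ↥D := { θ with commutes' := fun r => rfl }
  obtain ⟨Q', Q, hQ'p, hQp, hle, hQ'bot, hQm⟩ := H ↥D
  let σ : ↥A ⊗[R₀] B →ₐ[R₀] ↥D ⊗[R₀] B := Algebra.TensorProduct.map θa (AlgHom.id R₀ B)
  have hσincl : ∀ a : ↥A, σ (a ⊗ₜ[R₀] (1 : B)) = algebraMap ↥D (↥D ⊗[R₀] B) (θ a) := by
    intro a
    rw [Algebra.TensorProduct.algebraMap_apply]
    simp only [σ, Algebra.TensorProduct.map_tmul, map_one]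
    rfl
  have h0 : σ (((⟨v, hvA⟩ : ↥A) ⊗ₜ[R₀] (1 : B)) * (1 - zA)) = 0 := by rw [hxA, map_zero]
  rw [map_mul, map_sub, map_one, hσincl] at h0
  have hvQ' : algebraMap ↥D (↥D ⊗[R₀] B) (θ ⟨v, hvA⟩) ∉ Q' := by
    intro hmem
    have h1 : θ ⟨v, hvA⟩ ∈ Q'.comap (algebraMap ↥D (↥D ⊗[R₀] B)) := hmem
    rw [hQ'bot, Ideal.mem_bot] at h1
    have h2 := hθinj (h1.trans (map_zero θ).symm)
    exact hv (congrArg Subtype.val h2)
  have h1 : (1 - σ zA) ∈ Q' := by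
    have h2 : algebraMap ↥D (↥D ⊗[R₀] B) (θ ⟨v, hvA⟩) * (1 - σ zA) ∈ Q' := by
      rw [h0]
      exact Q'.zero_mem
    exact (hQ'p.mem_or_mem h2).resolve_left hvQ'
  have h2 : σ zA ∈ Q := by
    have h3 : pIdeal (B := B) (IsLocalRing.maximalIdeal V) A ≤
        Ideal.comap (σ : ↥A ⊗[R₀] B →+* ↥D ⊗[R₀] B) Q := by
      rw [pIdeal, Ideal.map_le_iff_le_comap]
      intro a ha
      rw [Ideal.mem_comap, Ideal.mem_comap]
      have e : (σ : ↥A ⊗[R₀] B →+* ↥D ⊗[R₀] B)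
          (Algebra.TensorProduct.includeLeftRingHom a) =
          algebraMap ↥D (↥D ⊗[R₀] B) (θ a) := hσincl a
      rw [e]
      have h4 : θ a ∈ Q.comap (algebraMap ↥D (↥D ⊗[R₀] B)) := by
        rw [hQm]
        exact hθp a ha
      exact h4
    exact h3 hzA'
  have h3 : (1 : ↥D ⊗[R₀] B) ∈ Q := by
    have := Q.add_mem (hle h1) h2
    simpa using this
  exact hQp.ne_top ((Ideal.eq_top_iff_one _).mpr h3)

end AL

end Groth.Agent.H69.Subtr
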