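import Groth.Agent.H69.SubtrScheme
import Groth.Agent.H73.DVRSpec

/-! The discrete valuation ring lifting criterion for universally submersive morphisms. -/

set_option autoImplicit false
set_option linter.style.haveILetI false
universe u
open CategoryTheory CategoryTheory.Limits AlgebraicGeometry

namespace Groth.Agent.H69.Subtr

/-- The lifting condition along discrete valuation rings, up to a surjective change of
discrete valuation ring. -/
def DVRLift {X Y : Scheme.{u}} (f : X ⟶ Y) : Prop :=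
  ∀ (D : Type u) [CommRing D] [IsDomain D] [IsDiscreteValuationRing D]
    (g : Spec (CommRingCat.of D) ⟶ Y),
    ∃ (D' : Type u) (_ : CommRing D') (_ : IsDomain D') (_ : IsDiscreteValuationRing D')
      (a : Spec (CommRingCat.of D') ⟶ X)
      (b : Spec (CommRingCat.of D') ⟶ Spec (CommRingCat.of D)), Surjective b ∧ a ≫ f = b ≫ g

/-- A surjective map between spectra of discrete valuation rings preserves generic and closed
points. -/
theorem bot_and_closedPoint_of_surjective {D D' : Type u} [CommRing D] [IsDomain D]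
    [IsDiscreteValuationRing D] [CommRing D'] [IsDomain D'] [IsDiscreteValuationRing D']
    (b : Spec (CommRingCat.of D') ⟶ Spec (CommRingCat.of D)) (hb : Function.Surjective b.base) :
    b.base (⟨⊥, Ideal.isPrime_bot⟩ : PrimeSpectrum D') =
      (⟨⊥, Ideal.isPrime_bot⟩ : PrimeSpectrum D) ∧
    b.base (IsLocalRing.closedPoint D') = IsLocalRing.closedPoint D := by
  let g' : ↥(Spec (CommRingCat.of D')) := (⟨⊥, Ideal.isPrime_bot⟩ : PrimeSpectrum D')
  let c' : ↥(Spec (CommRingCat.of D')) := IsLocalRing.closedPoint D'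
  let g₀ : ↥(Spec (CommRingCat.of D)) := (⟨⊥, Ideal.isPrime_bot⟩ : PrimeSpectrum D)
  let c₀ : ↥(Spec (CommRingCat.of D)) := IsLocalRing.closedPoint D
  have hne : g₀ ≠ c₀ := DVRQuot.bot_ne_closedPoint (A := D)
  have hpts' : ∀ s : ↥(Spec (CommRingCat.of D')), s = c' ∨ s = g' := fun s =>
    DVRQuot.eq_closedPoint_or_eq_bot (A := D') s
  have hsp' : g' ⤳ c' :=
    (PrimeSpectrum.le_iff_specializes (⟨⊥, Ideal.isPrime_bot⟩ : PrimeSpectrum D')
      (IsLocalRing.closedPoint D')).mp (show (⊥ : Ideal D') ≤ _ from bot_le)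
  have hsp : b.base g' ⤳ b.base c' := hsp'.map b.continuous
  have hbot_le : ∀ s : ↥(Spec (CommRingCat.of D)), s ⤳ g₀ → s = g₀ := by
    intro s hs
    have h1 := (PrimeSpectrum.le_iff_specializes (s : PrimeSpectrum D)
      (⟨⊥, Ideal.isPrime_bot⟩ : PrimeSpectrum D)).mpr hs
    have h2 : (s : PrimeSpectrum D).asIdeal ≤ ⊥ := h1
    exact PrimeSpectrum.ext (le_bot_iff.mp h2)
  have hg : b.base g' = g₀ := by
    obtain ⟨p, hp⟩ := hb g₀
    rcases hpts' p with rfl | rfl
    · exact hbot_le _ (hp ▸ hsp)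
    · exact hp
  refine ⟨hg, ?_⟩
  obtain ⟨p, hp⟩ := hb c₀
  rcases hpts' p with rfl | rfl
  · exact hp
  · exact absurd (hg.symm.trans hp) hne

theorem hasDVRPairs_of_dvrLift {X Y : Scheme.{u}} (f : X ⟶ Y) (hf : DVRLift f) :
    HasDVRPairs f := by
  intro D _ _ _ g P fst snd sq
  obtain ⟨D', _, _, _, a, b, hb, hab⟩ := hf D g
  let l : Spec (CommRingCat.of D') ⟶ P := sq.lift a b hab
  have hl : l ≫ snd = b := sq.lift_snd _ _ _
  have hpt : ∀ p, snd.base (l.base p) = b.base p := by
    intro p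
    rw [← Scheme.Hom.comp_apply, hl]
  obtain ⟨h1, h2⟩ := bot_and_closedPoint_of_surjective b hb.surj
  have hsp' : (⟨⊥, Ideal.isPrime_bot⟩ : PrimeSpectrum D') ⤳ IsLocalRing.closedPoint D' :=
    (PrimeSpectrum.le_iff_specializes (⟨⊥, Ideal.isPrime_bot⟩ : PrimeSpectrum D')
      (IsLocalRing.closedPoint D')).mp (show (⊥ : Ideal D') ≤ _ from bot_le)
  exact ⟨_, _, hsp'.map l.continuous, (hpt _).trans h1, (hpt _).trans h2⟩

theorem dvrLift_of_hasDVRPairs {X Y : Scheme.{u}} (f : X ⟶ Y) [LocallyOfFiniteType f]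
    (hf : HasDVRPairs f) : DVRLift f := by
  intro D _ _ _ g
  obtain ⟨w', w, hsp, hw', hw⟩ := hf D g (pullback f g) (pullback.fst f g) (pullback.snd f g)
    (IsPullback.of_hasPullback f g)
  haveI : IsLocallyNoetherian (pullback f g) :=
    LocallyOfFiniteType.isLocallyNoetherian (pullback.snd f g)
  have hne : w ≠ w' := by
    intro h
    rw [h, hw'] at hw
    exact DVRQuot.bot_ne_closedPoint (A := D) hw
  obtain ⟨A, h, hDVR, hcl, hcomp⟩ := Groth.Agent.H73.KA.exists_dvr_through_specialization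
    (𝟙 (pullback f g)) w' w hsp hne
  let g₀ : ↥(Spec (CommRingCat.of A)) := (⟨⊥, Ideal.isPrime_bot⟩ : PrimeSpectrum A)
  have hg₀ : h.base g₀ = w' := by
    let pt₀ : ↥(Spec ((pullback f g).residueField w')) :=
      (⟨⊥, Ideal.isPrime_bot⟩ : PrimeSpectrum ((pullback f g).residueField w'))
    have e1 : (Spec.map (CommRingCat.ofHom A.subtype)).base pt₀ = g₀ := by
      apply PrimeSpectrum.ext
      change Ideal.comap A.subtype ⊥ = ⊥
      exact Ideal.comap_bot_of_injective _ Subtype.val_injective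
    rw [← e1, ← Scheme.Hom.comp_apply, hcomp, Scheme.Hom.comp_apply,
      Scheme.fromSpecResidueField_apply]
    rfl
  refine ⟨A, inferInstance, inferInstance, hDVR, h ≫ pullback.fst f g, h ≫ pullback.snd f g,
    ⟨?_⟩, ?_⟩
  · intro s
    rcases DVRQuot.eq_closedPoint_or_eq_bot (A := D) s with rfl | rfl
    · exact ⟨IsLocalRing.closedPoint A, by
        rw [Scheme.Hom.comp_apply, hcl]; exact hw⟩
    · exact ⟨g₀, by rw [Scheme.Hom.comp_apply, hg₀]; exact hw'⟩
  · rw [Category.assoc, Category.assoc, pullback.condition]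

end Groth.Agent.H69.Subtr
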