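import Groth.Prelude.Def_SymTen
import Groth.Agent.H69.PGroupSum
import Groth.Agent.H69.SNMain
import Mathlib

set_option autoImplicit false
universe u
open scoped TensorProduct

namespace Groth.Agent.H69

section
variable {A B K L : Type u} [CommRing A] [CommRing B] [Algebra A B] [Field K] [Field L]
  [Algebra K L] [Algebra A K] [Algebra A L] [IsScalarTower A K L]

theorem pow_finrank_mem_range [FiniteDimensional K L] [IsPurelyInseparable K L] (y : L) :
    y ^ Module.finrank K L ∈ (algebraMap K L).range := by
  obtain ⟨n, a, h⟩ := IsPurelyInseparable.minpoly_eq_X_pow_sub_C K (ringExpChar K) y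
  have hint : IsIntegral K y := Algebra.IsIntegral.isIntegral y
  have hdvd : (ringExpChar K) ^ n ∣ Module.finrank K L := by
    have h1 := minpoly.degree_dvd (K := K) (L := L) hint
    rw [h] at h1
    have hpos : 0 < ringExpChar K ^ n := pow_pos (expChar_pos K (ringExpChar K)) n
    rwa [Polynomial.natDegree_X_pow_sub_C] at h1
  have hy : y ^ (ringExpChar K) ^ n = algebraMap K L a := by
    have h2 := minpoly.aeval K y
    rw [h] at h2
    simpa [sub_eq_zero] using h2
  obtain ⟨c, hc⟩ := hdvd
  rw [hc, pow_mul, hy, ← map_pow]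
  exact ⟨a ^ c, rfl⟩

variable (l : Module.Basis (Fin (Module.finrank K L)) K L) (ψ : B →ₐ[A] L) (d : ℕ)

/-- coordinate functionals -/
noncomputable def coordψ (j : Fin (Module.finrank K L)) : B →ₗ[A] K :=
  ((l.coord j).restrictScalars A).comp ψ.toLinearMap

noncomputable def coordΨ (I : Fin d → Fin (Module.finrank K L)) :
    (⨂[A] _ : Fin d, B) →ₗ[A] K :=
  PiTensorProduct.lift ((MultilinearMap.mkPiAlgebra A (Fin d) K).compLinearMap
    (fun k => coordψ l ψ (I k)))

theorem coordΨ_tprod (I : Fin d → Fin (Module.finrank K L)) (b : Fin d → B) :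
    coordΨ l ψ d I (PiTensorProduct.tprod A b) = ∏ k, l.repr (ψ (b k)) (I k) := by
  simp [coordΨ, coordψ]

theorem psi_mul_eq_sum (x : ⨂[A] _ : Fin d, B) :
    ψ (PiTensorProduct.lift (MultilinearMap.mkPiAlgebra A (Fin d) B) x) =
      ∑ I : Fin d → Fin (Module.finrank K L),
        algebraMap K L (coordΨ l ψ d I x) * ∏ k, l (I k) := by
  induction x using PiTensorProduct.induction_on with
  | smul_tprod a b =>
    simp only [map_smul, PiTensorProduct.lift.tprod, MultilinearMap.mkPiAlgebra_apply, map_prod,
      coordΨ_tprod]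
    have h1 : ∀ k, ψ (b k) = ∑ j, l.repr (ψ (b k)) j • l j := fun k => (l.sum_repr _).symm
    have h2 : ∏ k, ψ (b k) = ∑ I : Fin d → Fin (Module.finrank K L),
        ∏ k, (l.repr (ψ (b k)) (I k) • l (I k)) := by
      conv_lhs => rw [Finset.prod_congr rfl (fun k _ => h1 k)]
      rw [Finset.prod_univ_sum]
      simp
    rw [h2, Finset.smul_sum]
    apply Finset.sum_congr rfl
    intro I _
    simp only [Algebra.smul_def, Finset.prod_mul_distrib, map_mul, map_prod,
      ← IsScalarTower.algebraMap_apply]
    ring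
  | add x y hx hy =>
    simp only [map_add, hx, hy, add_mul, Finset.sum_add_distrib]

theorem coordΨ_reindex (I : Fin d → Fin (Module.finrank K L)) (σ : Equiv.Perm (Fin d))
    (x : ⨂[A] _ : Fin d, B) :
    coordΨ l ψ d I (PiTensorProduct.reindex A (fun _ : Fin d => B) σ x) =
      coordΨ l ψ d (I ∘ σ) x := by
  induction x using PiTensorProduct.induction_on with
  | smul_tprod a b =>
    simp only [map_smul, PiTensorProduct.reindex_tprod, coordΨ_tprod, Function.comp_apply]
    congr 1
    exact (Fintype.prod_equiv σ _ _ (fun k => by simp)).symm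
  | add x y hx hy =>
    simp only [map_add, hx, hy]

theorem coordΨ_comp_of_mem_TS (I : Fin d → Fin (Module.finrank K L)) (σ : Equiv.Perm (Fin d))
    (x : ⨂[A] _ : Fin d, B) (hx : x ∈ SymTen.TS A B d) :
    coordΨ l ψ d (I ∘ σ) x = coordΨ l ψ d I x := by
  rw [← coordΨ_reindex, hx σ]

end

section
variable {A B K L : Type u} [CommRing A] [CommRing B] [Algebra A B] [Field K] [Field L]
  [Algebra K L] [Algebra A K] [Algebra A L] [IsScalarTower A K L]

theorem mul_symTen_mem_range [FiniteDimensional K L] [IsPurelyInseparable K L] (d : ℕ)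
    (hdvd : Module.finrank K L ∣ d) (ψ : B →ₐ[A] L) (x : ⨂[A] _ : Fin d, B)
    (hx : x ∈ SymTen.TS A B d) :
    ψ (PiTensorProduct.lift (MultilinearMap.mkPiAlgebra A (Fin d) B) x) ∈
      (algebraMap K L).range := by
  classical
  by_cases h1 : Module.finrank K L = 1
  · have := pow_finrank_mem_range (K := K) (L := L)
      (ψ (PiTensorProduct.lift (MultilinearMap.mkPiAlgebra A (Fin d) B) x))
    rwa [h1, pow_one] at this
  set n := Module.finrank K L with hn
  obtain ⟨e, he⟩ := IsPurelyInseparable.finrank_eq_pow (F := K) L (ringExpChar K)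
  have hq1 : ringExpChar K ≠ 1 := by
    intro h
    apply h1
    rw [hn, he, h, one_pow]
  obtain ⟨hqp, hqc⟩ := charP_of_expChar_ne_one K (ringExpChar K) inferInstance hq1
  set q := ringExpChar K with hq
  haveI : Fact q.Prime := ⟨hqp⟩
  haveI : CharP L q := charP_of_injective_algebraMap (algebraMap K L).injective q
  have hM : ∀ y : L, q • y = 0 := by
    intro y
    rw [nsmul_eq_mul, CharP.cast_eq_zero, zero_mul]
  have hn0 : n ≠ 0 := by
    rw [hn]
    exact Module.finrank_pos.ne'
  haveI : NeZero n := ⟨hn0⟩
  obtain ⟨m, hm⟩ := hdvd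
  let l : Module.Basis (Fin n) K L := Module.finBasis K L
  let G := Multiplicative (ZMod n)
  have hG : IsPGroup q G := by
    apply IsPGroup.of_card (n := e)
    rw [Nat.card_congr Multiplicative.toAdd, Nat.card_zmod]
    exact he
  let ed : Fin d ≃ Fin m × ZMod n := Fintype.equivOfCardEq (by
    rw [Fintype.card_fin, Fintype.card_prod, Fintype.card_fin, ZMod.card, hm, mul_comm])
  let sh : G → Equiv.Perm (Fin d) := fun g =>
    (ed.trans ((Equiv.refl (Fin m)).prodCongr (Equiv.addRight (Multiplicative.toAdd g)))).trans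
      ed.symm
  letI : MulAction G (Fin d → Fin n) :=
    { smul := fun g I => I ∘ sh g
      one_smul := by
        intro I
        funext k
        show I (sh 1 k) = I k
        simp [sh]
      mul_smul := by
        intro g h I
        funext k
        show I (sh (g * h) k) = I (sh h (sh g k))
        simp only [sh, Equiv.trans_apply, Equiv.apply_symm_apply, Equiv.prodCongr_apply,
          Equiv.refl_apply, Equiv.coe_addRight]
        congr 2
        apply Prod.ext
        · simp
        · simp only [Prod.map_snd, add_assoc]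
          rfl }
  have hsmul : ∀ (g : G) (I : Fin d → Fin n), g • I = I ∘ sh g := fun _ _ => rfl
  let F : (Fin d → Fin n) → L := fun I =>
    algebraMap K L (coordΨ l ψ d I x) * ∏ k, l (I k)
  have hF : ∀ (g : G) (I : Fin d → Fin n), F (g • I) = F I := by
    intro g I
    show algebraMap K L (coordΨ l ψ d (g • I) x) * ∏ k, l ((g • I) k) =
      algebraMap K L (coordΨ l ψ d I x) * ∏ k, l (I k)
    rw [hsmul, coordΨ_comp_of_mem_TS l ψ d I (sh g) x hx]
    congr 1
    exact Fintype.prod_equiv (sh g) _ _ (fun k => rfl)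
  rw [psi_mul_eq_sum l ψ d x]
  have hsum := sum_eq_sum_fixedPoints_of_isPGroup (G := G) (α := Fin d → Fin n) q hG hM F hF
  rw [show (∑ I : Fin d → Fin n, algebraMap K L (coordΨ l ψ d I x) * ∏ k, l (I k)) =
    ∑ I, F I from rfl, hsum]
  apply Subring.sum_mem
  intro I hI
  rw [Finset.mem_filter] at hI
  have hfix : ∀ g : G, I ∘ sh g = I := fun g => hI.2 g
  apply Subring.mul_mem
  · exact ⟨_, rfl⟩
  · have h2 : ∏ k, l (I k) = ∏ t : Fin m × ZMod n, l (I (ed.symm t)) :=
      Fintype.prod_equiv ed _ _ (fun k => by simp)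
    rw [h2, Fintype.prod_prod_type]
    apply Subring.prod_mem
    intro j _
    have h3 : ∀ s : ZMod n, l (I (ed.symm (j, s))) = l (I (ed.symm (j, 0))) := by
      intro s
      have := congrFun (hfix (Multiplicative.ofAdd s)) (ed.symm (j, 0))
      simp only [Function.comp_apply, sh, Equiv.trans_apply, Equiv.apply_symm_apply,
        Equiv.prodCongr_apply, Prod.map_apply, Equiv.refl_apply, Equiv.coe_addRight,
        toAdd_ofAdd, zero_add] at this
      rw [this]
    rw [Finset.prod_congr rfl (fun s _ => h3 s), Finset.prod_const, Finset.card_univ, ZMod.card]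
    exact pow_finrank_mem_range _

end

end Groth.Agent.H69
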