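import Groth.Agent.H69.PerfAWN
import Mathlib

set_option autoImplicit false
universe u
open AlgebraicGeometry CategoryTheory

namespace Groth.Agent.H69

theorem RingUH.ker_nil {A B : Type u} [CommRing A] [CommRing B] (φ : A →+* B) (h : RingUH φ)
    (a : A) (ha : a ∈ RingHom.ker φ) : IsNilpotent a := by
  rw [nilpotent_iff_mem_prime]
  intro P hP
  obtain ⟨Q, hQ⟩ := h.bij.2 ⟨P, hP⟩
  have : a ∈ (PrimeSpectrum.comap φ Q).asIdeal := by
    show φ a ∈ Q.asIdeal
    have h0 : φ a = 0 := RingHom.mem_ker.mp ha
    rw [h0]; exact Ideal.zero_mem _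
  rw [hQ] at this
  exact this

theorem RingUH.of_comp_right {A B B' : Type u} [CommRing A] [CommRing B] [CommRing B']
    (φ : A →+* B) (j : B →+* B') (hj : RingUH j) (h : RingUH (j.comp φ)) : RingUH φ := by
  refine ⟨?_, ?_, ?_⟩
  · intro b
    obtain ⟨P, hP, hPb⟩ := h.integral (j b)
    rw [← Polynomial.hom_eval₂] at hPb
    obtain ⟨m, hm⟩ := hj.ker_nil j _ (RingHom.mem_ker.mpr hPb)
    exact ⟨P ^ m, hP.pow m, by rw [Polynomial.eval₂_pow, hm]⟩
  · have hcomp : PrimeSpectrum.comap (j.comp φ) = PrimeSpectrum.comap φ ∘ PrimeSpectrum.comap j := by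
      funext q; rfl
    have hb := h.bij
    rw [hcomp] at hb
    exact (Function.Bijective.of_comp_iff _ hj.bij).mp hb
  · intro L _ f g hfg
    letI : Algebra B B' := j.toAlgebra
    haveI : Algebra.IsIntegral B B' := ⟨hj.integral⟩
    have hk : ∀ φ' : B →+* AlgebraicClosure L,
        RingHom.ker (algebraMap B B') ≤ RingHom.ker φ' := by
      intro φ' b hb
      rw [RingHom.mem_ker]
      exact ((hj.ker_nil j b hb).map φ').eq_zero
    obtain ⟨f', hf'⟩ := exists_ringHom_extension_algClosed
      ((algebraMap L (AlgebraicClosure L)).comp f) (hk _)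
    obtain ⟨g', hg'⟩ := exists_ringHom_extension_algClosed
      ((algebraMap L (AlgebraicClosure L)).comp g) (hk _)
    have hfg' : f' = g' := by
      apply h.ext (AlgebraicClosure L)
      have e1 : f'.comp (j.comp φ) = ((algebraMap L (AlgebraicClosure L)).comp f).comp φ := by
        rw [← hf']; rfl
      have e2 : g'.comp (j.comp φ) = ((algebraMap L (AlgebraicClosure L)).comp g).comp φ := by
        rw [← hg']; rfl
      rw [e1, e2, RingHom.comp_assoc, RingHom.comp_assoc, hfg]
    ext c
    apply (algebraMap L (AlgebraicClosure L)).injective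
    have a1 := congrArg (fun k => k c) hf'
    have a2 := congrArg (fun k => k c) hg'
    simp only [RingHom.comp_apply] at a1 a2
    rw [← a1, ← a2, hfg']

theorem ringUH_of_bijective {A B : Type u} [CommRing A] [CommRing B] (φ : A →+* B)
    (h : Function.Bijective φ) : RingUH φ :=
  ringUH_of_surjective_of_ker_nil φ h.2 (fun a ha => by
    have : a = 0 := h.1 (by rw [map_zero]; exact RingHom.mem_ker.mp ha)
    rw [this]; exact IsNilpotent.zero)

end Groth.Agent.H69
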