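import Groth.Agent.H69.GeomUnibranch2
import Groth.Agent.H69.OpenAt

/-! Unibranch local rings: uniqueness of the prime of the normalization over the point, and
openness of integral extensions at such points. -/

set_option autoImplicit false
set_option linter.style.haveILetI false
set_option linter.unusedSectionVars false
open AlgebraicGeometry CategoryTheory

universe u

namespace Groth.Agent.H69.GeomUnibranch

section Abstract

variable {A : Type u} [CommRing A] [IsDomain A] (p : Ideal A) [p.IsPrime]
  (K : Type u) [Field K] [Algebra A K] [IsFractionRing A K]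
  (R' : Type u) [CommRing R'] [IsDomain R'] [Algebra A R']
  (K' : Type u) [Field K'] [Algebra R' K'] [IsFractionRing R' K'] [Algebra A K']
  [IsScalarTower A R' K'] [Algebra K K'] [IsScalarTower A K K']

attribute [local instance] algA'B isScalarTower_A'BK isScalarTower_AA'B

/-- A prime of the normalization of `R' = A_p` contracting to `p` is maximal. -/
theorem isMaximal_of_comap_eq [IsLocalization.AtPrime R' p] (P : Ideal (integralClosure R' K'))
    [P.IsPrime] (hP : P.comap (algebraMap A (integralClosure R' K')) = p) : P.IsMaximal := by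
  haveI : IsLocalRing R' := IsLocalization.AtPrime.isLocalRing R' p
  apply Ideal.isMaximal_of_isIntegral_of_isMaximal_comap (R := R') P
  have h1 : (P.comap (algebraMap R' (integralClosure R' K'))).comap (algebraMap A R') = p := by
    rw [Ideal.comap_comap, ← IsScalarTower.algebraMap_eq, hP]
  have h2 := IsLocalization.map_under p.primeCompl R'
    (P.comap (algebraMap R' (integralClosure R' K')))
  rw [Ideal.under_def, h1, IsLocalization.AtPrime.map_eq_maximalIdeal p R'] at h2
  rw [← h2]
  exact IsLocalRing.maximalIdeal.isMaximal R'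

/-- If the normalization of `R' = A_p` is local, a prime of the normalization of `A` over `p` is the
contraction of its maximal ideal. -/
theorem eq_comap_maximalIdeal [IsLocalization.AtPrime R' p]
    [hloc : IsLocalRing (integralClosure R' K')]
    (𝔭₁ : Ideal (integralClosure A K)) [𝔭₁.IsPrime]
    (h1 : 𝔭₁.comap (algebraMap A (integralClosure A K)) = p) :
    𝔭₁ = (IsLocalRing.maximalIdeal (integralClosure R' K')).comap
      (algebraMap (integralClosure A K) (integralClosure R' K')) := by
  haveI := isLocalization_integralClosure p K R' K'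
  have hdisj : Disjoint (Algebra.algebraMapSubmonoid (integralClosure A K) p.primeCompl : Set _)
      (𝔭₁ : Set (integralClosure A K)) := by
    rw [Set.disjoint_left]
    rintro _ ⟨s, hs, rfl⟩ hs'
    apply hs
    rw [← h1]
    exact hs'
  have hprime := IsLocalization.isPrime_of_isPrime_disjoint
    (Algebra.algebraMapSubmonoid (integralClosure A K) p.primeCompl) (integralClosure R' K')
    𝔭₁ inferInstance hdisj
  have hcm : (𝔭₁.map (algebraMap (integralClosure A K) (integralClosure R' K'))).comap
      (algebraMap (integralClosure A K) (integralClosure R' K')) = 𝔭₁ :=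
    IsLocalization.under_map_of_isPrime_disjoint
      (Algebra.algebraMapSubmonoid (integralClosure A K) p.primeCompl) (integralClosure R' K')
      (I := 𝔭₁) inferInstance hdisj
  have hP : (𝔭₁.map (algebraMap (integralClosure A K) (integralClosure R' K'))).comap
      (algebraMap A (integralClosure R' K')) = p := by
    rw [IsScalarTower.algebraMap_eq A (integralClosure A K) (integralClosure R' K'),
      ← Ideal.comap_comap, hcm, h1]
  haveI := isMaximal_of_comap_eq p R' K' _ hP
  rw [← IsLocalRing.eq_maximalIdeal this, hcm]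

end Abstract

section General

variable {A : Type u} [CommRing A] [IsDomain A] (p : Ideal A) [p.IsPrime]
  (K : Type u) [Field K] [Algebra A K] [IsFractionRing A K]

/-- If `R'` is a domain model of `A_p` whose normalization is local, then the normalization of `A`
has at most one prime over `p`. -/
theorem eq_of_comap_eq_of_isLocalRing (R' : Type u) [CommRing R'] [IsDomain R'] [Algebra A R']
    [IsLocalization.AtPrime R' p] (hloc : IsLocalRing (integralClosure R' (FractionRing R')))
    (𝔭₁ 𝔭₂ : Ideal (integralClosure A K)) [𝔭₁.IsPrime] [𝔭₂.IsPrime]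
    (h1 : 𝔭₁.comap (algebraMap A (integralClosure A K)) = p)
    (h2 : 𝔭₂.comap (algebraMap A (integralClosure A K)) = p) : 𝔭₁ = 𝔭₂ := by
  haveI hfr : IsFractionRing A (FractionRing R') :=
    isFractionRing_AK' p R' (FractionRing R')
  have hinj : Function.Injective (algebraMap A (FractionRing R')) :=
    IsFractionRing.injective A _
  letI : Algebra K (FractionRing R') := (IsFractionRing.lift hinj).toAlgebra
  haveI : IsScalarTower A K (FractionRing R') :=
    IsScalarTower.of_algebraMap_eq (fun x => (IsFractionRing.lift_algebraMap hinj x).symm)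
  rw [eq_comap_maximalIdeal p K R' (FractionRing R') 𝔭₁ h1,
    eq_comap_maximalIdeal p K R' (FractionRing R') 𝔭₂ h2]

/-- If (a model of) the local ring `A_p` is unibranch, then the normalization of `A` has at most one
prime over `p`. -/
theorem eq_of_comap_eq_of_isUnibranch (Rp : Type u) [CommRing Rp] [Algebra A Rp]
    [IsLocalization.AtPrime Rp p] [IsLocalRing Rp] (hU : CAlg2.IsUnibranch Rp)
    (𝔭₁ 𝔭₂ : Ideal (integralClosure A K)) [𝔭₁.IsPrime] [𝔭₂.IsPrime]
    (h1 : 𝔭₁.comap (algebraMap A (integralClosure A K)) = p)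
    (h2 : 𝔭₂.comap (algebraMap A (integralClosure A K)) = p) : 𝔭₁ = 𝔭₂ := by
  haveI := isDomain_red' p Rp
  haveI := isLocalization_red' p Rp
  exact eq_of_comap_eq_of_isLocalRing p K (CAlg2.red Rp) hU.2 𝔭₁ 𝔭₂ h1 h2

end General

open PrimeSpectrum in
/-- Openness of an integral extension of domains at a prime over a point where (a domain model
of) the local ring has local normalization. -/
theorem isOpenAt_comap_of_isLocalRing {A B : Type u} [CommRing A] [IsDomain A] [CommRing B]
    [IsDomain B] [Algebra A B] (hinj : Function.Injective (algebraMap A B))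
    [Algebra.IsIntegral A B] (q : PrimeSpectrum B)
    (R' : Type u) [CommRing R'] [IsDomain R'] [Algebra A R']
    [IsLocalization.AtPrime R' (q.asIdeal.comap (algebraMap A B))]
    (hloc : IsLocalRing (integralClosure R' (FractionRing R'))) :
    EGA43.IsOpenAt (comap (algebraMap A B)) q := by
  apply OpenAt.isOpenAt_comap_of_unique hinj q
  intro 𝔭₁ 𝔭₂ h1 h2
  apply PrimeSpectrum.ext
  exact eq_of_comap_eq_of_isLocalRing (q.asIdeal.comap (algebraMap A B)) (FractionRing A) R' hloc
    𝔭₁.asIdeal 𝔭₂.asIdeal (congrArg PrimeSpectrum.asIdeal h1) (congrArg PrimeSpectrum.asIdeal h2)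

open PrimeSpectrum in
/-- S5383 (i) for an arbitrary model of the local ring. -/
theorem isOpenAt_comap_of_isUnibranch {A B : Type u} [CommRing A] [IsDomain A] [CommRing B]
    [IsDomain B] [Algebra A B] (hinj : Function.Injective (algebraMap A B))
    [Algebra.IsIntegral A B] (q : PrimeSpectrum B)
    (Rp : Type u) [CommRing Rp] [Algebra A Rp]
    [IsLocalization.AtPrime Rp (q.asIdeal.comap (algebraMap A B))] [IsLocalRing Rp]
    (hU : CAlg2.IsUnibranch Rp) :
    EGA43.IsOpenAt (comap (algebraMap A B)) q := by
  haveI := isDomain_red' (q.asIdeal.comap (algebraMap A B)) Rp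
  haveI := isLocalization_red' (q.asIdeal.comap (algebraMap A B)) Rp
  exact isOpenAt_comap_of_isLocalRing hinj q (CAlg2.red Rp) hU.2

section Reduce

variable {A₀ : Type u} [CommRing A₀]

/-- The nilradical of a localization is the extension of the nilradical. -/
theorem nilradical_le_map_nilradical (M : Submonoid A₀) (S : Type*) [CommRing S] [Algebra A₀ S]
    [IsLocalization M S] : nilradical S ≤ (nilradical A₀).map (algebraMap A₀ S) := by
  intro x hx
  obtain ⟨a, s, rfl⟩ := IsLocalization.exists_mk'_eq M x
  rw [IsLocalization.mk'_mem_map_algebraMap_iff]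
  obtain ⟨n, hn⟩ := mem_nilradical.1 hx
  rw [← IsLocalization.mk'_pow, IsLocalization.mk'_eq_zero_iff] at hn
  obtain ⟨m, hm⟩ := hn
  refine ⟨m, m.2, mem_nilradical.2 ⟨n + 1, ?_⟩⟩
  rw [mul_pow, pow_succ, pow_succ]
  calc (m : A₀) ^ n * m * (a ^ n * a) = (m : A₀) ^ n * a * (m * a ^ n) := by ring
    _ = 0 := by rw [hm, mul_zero]

/-- The canonical map `A₀ / nil → (Rp)_red`. -/
noncomputable def redMap (Rp : Type u) [CommRing Rp] [Algebra A₀ Rp] :
    A₀ ⧸ nilradical A₀ →+* CAlg2.red Rp :=
  Ideal.Quotient.lift (nilradical A₀) (algebraMap A₀ (CAlg2.red Rp)) (fun a ha => by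
    rw [IsScalarTower.algebraMap_apply A₀ Rp (CAlg2.red Rp), Ideal.Quotient.algebraMap_eq,
      Ideal.Quotient.eq_zero_iff_mem]
    exact mem_nilradical.2 ((mem_nilradical.1 ha).map _))

/-- Algebra structure from `redMap`. -/
noncomputable abbrev redAlgebra (Rp : Type u) [CommRing Rp] [Algebra A₀ Rp] :
    Algebra (A₀ ⧸ nilradical A₀) (CAlg2.red Rp) := (redMap Rp).toAlgebra

attribute [local instance] redAlgebra

theorem redMap_mk (Rp : Type u) [CommRing Rp] [Algebra A₀ Rp] (a : A₀) :
    algebraMap (A₀ ⧸ nilradical A₀) (CAlg2.red Rp) (Ideal.Quotient.mk _ a) =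
      Ideal.Quotient.mk _ (algebraMap A₀ Rp a) := rfl

/-- L1: the reduction of a model of `(A₀)_{p₀}` is a model of the localization of `A₀ / nil` at the
image of `p₀`. -/
theorem isLocalization_red_of_isLocalization (p₀ : Ideal A₀) [p₀.IsPrime]
    (Rp : Type u) [CommRing Rp] [Algebra A₀ Rp] [IsLocalization.AtPrime Rp p₀]
    (p' : Ideal (A₀ ⧸ nilradical A₀)) [p'.IsPrime]
    (hp : p'.comap (Ideal.Quotient.mk (nilradical A₀)) = p₀) :
    IsLocalization.AtPrime (CAlg2.red Rp) p' := by
  have key := IsLocalization.of_surjective p₀.primeCompl Rp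
    (Ideal.Quotient.mk (nilradical A₀)) Ideal.Quotient.mk_surjective
    (Ideal.Quotient.mk (nilradical Rp)) Ideal.Quotient.mk_surjective
    (S' := CAlg2.red Rp) (by ext a; rfl)
    (by
      rw [Ideal.mk_ker, Ideal.mk_ker]
      exact nilradical_le_map_nilradical p₀.primeCompl Rp)
  have hM : p₀.primeCompl.map (Ideal.Quotient.mk (nilradical A₀)) = p'.primeCompl := by
    ext x
    obtain ⟨a, rfl⟩ := Ideal.Quotient.mk_surjective x
    constructor
    · rintro ⟨b, hb, hba⟩ ha
      apply hb
      rw [← hp]
      change Ideal.Quotient.mk (nilradical A₀) b ∈ p'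
      rw [hba]
      exact ha
    · intro ha
      refine ⟨a, ?_, rfl⟩
      intro ha'
      apply ha
      rw [← hp] at ha'
      exact ha'
  change IsLocalization p'.primeCompl (CAlg2.red Rp)
  rw [← hM]
  exact key

end Reduce

section Integral

open PrimeSpectrum OpenAt

theorem isHomeomorph_comap_mk_nilradical (R : Type u) [CommRing R] :
    IsHomeomorph (comap (Ideal.Quotient.mk (nilradical R))) :=
  PrimeSpectrum.isHomeomorph_comap _
    (fun x => ⟨1, one_pos, by rw [pow_one]; exact Ideal.Quotient.mk_surjective x⟩)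
    (by rw [Ideal.mk_ker])

theorem nilradical_liesOver {A₀ B₀ : Type u} [CommRing A₀] [CommRing B₀] [Algebra A₀ B₀]
    (hker : RingHom.ker (algebraMap A₀ B₀) ≤ nilradical A₀) :
    (nilradical B₀).LiesOver (nilradical A₀) := ⟨by
  ext a
  rw [Ideal.under_def, Ideal.mem_comap, mem_nilradical, mem_nilradical]
  constructor
  · intro h; exact h.map _
  · rintro ⟨n, hn⟩
    rw [← map_pow] at hn
    have : a ^ n ∈ nilradical A₀ := hker hn
    obtain ⟨m, hm⟩ := mem_nilradical.1 this
    exact ⟨n * m, by rw [pow_mul, hm]⟩⟩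

/-- Theorem I: an integral ring map between rings with irreducible spectra and dominant on spectra
is open at every prime lying over a unibranch point. -/
theorem isOpenAt_comap_of_isIntegral_of_isUnibranch {A₀ B₀ : Type u} [CommRing A₀] [CommRing B₀]
    [Algebra A₀ B₀] [Algebra.IsIntegral A₀ B₀]
    (hA : (nilradical A₀).IsPrime) (hB : (nilradical B₀).IsPrime)
    (hker : RingHom.ker (algebraMap A₀ B₀) ≤ nilradical A₀)
    (q : PrimeSpectrum B₀) (p₀ : Ideal A₀) [p₀.IsPrime]
    (hp₀ : q.asIdeal.comap (algebraMap A₀ B₀) = p₀) (Rp : Type u) [CommRing Rp] [Algebra A₀ Rp]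
    [IsLocalization.AtPrime Rp p₀] [IsLocalRing Rp]
    (hU : CAlg2.IsUnibranch Rp) : EGA43.IsOpenAt (comap (algebraMap A₀ B₀)) q := by
  subst hp₀
  haveI := nilradical_liesOver hker
  letI : Algebra (A₀ ⧸ nilradical A₀) (CAlg2.red Rp) := redAlgebra Rp
  haveI : IsDomain (A₀ ⧸ nilradical A₀) := Ideal.Quotient.isDomain _
  haveI : IsDomain (B₀ ⧸ nilradical B₀) := Ideal.Quotient.isDomain _
  haveI : FaithfulSMul (A₀ ⧸ nilradical A₀) (B₀ ⧸ nilradical B₀) :=
    Ideal.Quotient.instFaithfulSMul (nilradical B₀) (nilradical A₀)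
  haveI : Algebra.IsIntegral (A₀ ⧸ nilradical A₀) (B₀ ⧸ nilradical B₀) :=
    Ideal.Quotient.algebra_isIntegral_of_liesOver (nilradical B₀) (nilradical A₀)
  have hinj : Function.Injective (algebraMap (A₀ ⧸ nilradical A₀) (B₀ ⧸ nilradical B₀)) :=
    FaithfulSMul.algebraMap_injective _ _
  have hhA := isHomeomorph_comap_mk_nilradical A₀
  have hhB := isHomeomorph_comap_mk_nilradical B₀
  obtain ⟨q', hq'⟩ := hhB.surjective q
  have hcomp : (algebraMap (A₀ ⧸ nilradical A₀) (B₀ ⧸ nilradical B₀)).comp
      (Ideal.Quotient.mk (nilradical A₀)) =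
      (Ideal.Quotient.mk (nilradical B₀)).comp (algebraMap A₀ B₀) := by
    ext a; rfl
  have hp' : (q'.asIdeal.comap (algebraMap (A₀ ⧸ nilradical A₀) (B₀ ⧸ nilradical B₀))).comap
      (Ideal.Quotient.mk (nilradical A₀)) = q.asIdeal.comap (algebraMap A₀ B₀) := by
    rw [← hq']
    change _ = (q'.asIdeal.comap (Ideal.Quotient.mk _)).comap (algebraMap A₀ B₀)
    rw [Ideal.comap_comap, Ideal.comap_comap, hcomp]
  haveI hdom : IsDomain (CAlg2.red Rp) := hU.1
  haveI : IsLocalization.AtPrime (CAlg2.red Rp)
      (q'.asIdeal.comap (algebraMap (A₀ ⧸ nilradical A₀) (B₀ ⧸ nilradical B₀))) :=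
    isLocalization_red_of_isLocalization _ Rp _ hp'
  have h1 : EGA43.IsOpenAt (comap (algebraMap (A₀ ⧸ nilradical A₀) (B₀ ⧸ nilradical B₀))) q' :=
    isOpenAt_comap_of_isLocalRing hinj q' (CAlg2.red Rp) hU.2
  have h2 := IsOpenAt.comp h1 (isOpenAt_of_isOpenMap hhA.isOpenMap _)
  have heq : comap (Ideal.Quotient.mk (nilradical A₀)) ∘
      comap (algebraMap (A₀ ⧸ nilradical A₀) (B₀ ⧸ nilradical B₀)) =
      comap (algebraMap A₀ B₀) ∘ comap (Ideal.Quotient.mk (nilradical B₀)) := by
    ext x : 1
    simp only [Function.comp_apply, ← comap_comp_apply]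
    rw [hcomp]
  rw [heq] at h2
  have := IsOpenAt.of_comp (continuous_comap _).continuousAt h2
  rwa [hq'] at this

/-- Theorem II: a finite type ring map between rings with irreducible spectra, dominant on spectra,
is open at every prime at which it is quasi-finite and which lies over a unibranch point. -/
theorem isOpenAt_comap_of_quasiFiniteAt_of_isUnibranch {A₀ C₀ : Type u} [CommRing A₀]
    [CommRing C₀] [Algebra A₀ C₀] [Algebra.FiniteType A₀ C₀]
    (hA : (nilradical A₀).IsPrime) (hC : (nilradical C₀).IsPrime)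
    (hker : RingHom.ker (algebraMap A₀ C₀) ≤ nilradical A₀)
    (q : PrimeSpectrum C₀) [Algebra.QuasiFiniteAt A₀ q.asIdeal] (p₀ : Ideal A₀) [p₀.IsPrime]
    (hp₀ : q.asIdeal.comap (algebraMap A₀ C₀) = p₀) (Rp : Type u) [CommRing Rp] [Algebra A₀ Rp]
    [IsLocalization.AtPrime Rp p₀] [IsLocalRing Rp]
    (hU : CAlg2.IsUnibranch Rp) : EGA43.IsOpenAt (comap (algebraMap A₀ C₀)) q := by
  obtain ⟨S', hfg, r, hrq, hbij⟩ :=
    Algebra.QuasiFiniteAt.exists_fg_and_exists_notMem_and_awayMap_bijective (R := A₀) q.asIdeal
  haveI : Module.Finite A₀ S' := ⟨(Submodule.fg_top _).mpr hfg⟩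
  haveI : Algebra.IsIntegral A₀ S' := inferInstance
  have hS' : (nilradical S').IsPrime := by
    have : nilradical S' = (nilradical C₀).comap S'.val.toRingHom := by
      ext x
      rw [Ideal.mem_comap, mem_nilradical, mem_nilradical]
      exact (IsNilpotent.map_iff (f := S'.val.toRingHom) Subtype.val_injective).symm
    rw [this]
    exact Ideal.comap_isPrime _ _
  have hker' : RingHom.ker (algebraMap A₀ S') ≤ nilradical A₀ := by
    intro a ha
    apply hker
    rw [RingHom.mem_ker] at ha ⊢
    have := congrArg Subtype.val ha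
    exact this
  -- openness of `Spec S' → Spec A₀` at `q ∩ S'`
  have h1 : EGA43.IsOpenAt (comap (algebraMap A₀ S')) (comap S'.val.toRingHom q) :=
    isOpenAt_comap_of_isIntegral_of_isUnibranch hA hS' hker' _ p₀ (by rw [← hp₀]; rfl) Rp hU
  -- openness of `Spec C₀ → Spec S'` at `q`
  have h2 : EGA43.IsOpenAt (comap S'.val.toRingHom) q := by
    let e : Localization.Away r ≃+* Localization.Away (S'.val.toRingHom r) :=
      RingEquiv.ofBijective _ hbij
    have hjS := localization_away_isOpenEmbedding (Localization.Away r) r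
    have hjC := localization_away_isOpenEmbedding (Localization.Away (S'.val.toRingHom r))
      (S'.val.toRingHom r)
    obtain ⟨qr, hqr⟩ : q ∈ Set.range (comap (algebraMap C₀
        (Localization.Away (S'.val.toRingHom r)))) := by
      rw [localization_away_comap_range _ (S'.val.toRingHom r)]
      exact hrq
    have hopen : IsOpenMap (comap (algebraMap S' (Localization.Away r)) ∘
        comap (e : Localization.Away r →+* Localization.Away (S'.val.toRingHom r))) :=
      hjS.isOpenMap.comp (PrimeSpectrum.homeomorphOfRingEquiv e.symm).isOpenMap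
    have heq : comap (algebraMap S' (Localization.Away r)) ∘
        comap (e : Localization.Away r →+* Localization.Away (S'.val.toRingHom r)) =
        comap S'.val.toRingHom ∘ comap (algebraMap C₀
          (Localization.Away (S'.val.toRingHom r))) := by
      ext x : 1
      simp only [Function.comp_apply, ← comap_comp_apply]
      congr 1
      refine RingHom.ext fun y => ?_
      change IsLocalization.Away.map _ _ S'.val.toRingHom r (algebraMap _ _ y) = _
      simp only [IsLocalization.Away.map]
      exact IsLocalization.map_eq _ y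
    rw [heq] at hopen
    have := IsOpenAt.of_comp (continuous_comap _).continuousAt (isOpenAt_of_isOpenMap hopen qr)
    rwa [hqr] at this
  have h3 := IsOpenAt.comp h2 h1
  have heq : comap (algebraMap A₀ S') ∘ comap S'.val.toRingHom = comap (algebraMap A₀ C₀) := by
    ext x : 1
    simp only [Function.comp_apply, ← comap_comp_apply]
    rfl
  rwa [heq] at h3

end Integral

end Groth.Agent.H69.GeomUnibranch
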