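import Groth.Agent.H69.UnibranchScheme
import Groth.Agent.H69.GUPolyRing

/-! Openness at quasi-finite points over unibranch points: several irreducible components. -/

set_option autoImplicit false
set_option linter.style.haveILetI false
set_option linter.unusedSectionVars false
open AlgebraicGeometry CategoryTheory

universe u

namespace Groth.Agent.H69.GeomUnibranch

open PrimeSpectrum OpenAt

/-- An inducing map whose range is a neighbourhood of `f x` is open at `x`. -/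
theorem isOpenAt_of_isInducing {α β : Type*} [TopologicalSpace α] [TopologicalSpace β]
    {f : α → β} (hf : Topology.IsInducing f) (x : α) (h : Set.range f ∈ nhds (f x)) :
    EGA43.IsOpenAt f x := by
  intro U hU
  rw [hf.nhds_eq_comap] at hU
  obtain ⟨V, hV, hVU⟩ := hU
  refine Filter.mem_of_superset (Filter.inter_mem hV h) ?_
  rintro _ ⟨hyV, ⟨a, rfl⟩⟩
  exact ⟨a, hVU hyV, rfl⟩

/-- Zariski's main theorem, topological form: if `S' ⊆ C₀` and `S'[1/r] → C₀[1/r]` is bijective,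
then `Spec C₀ → Spec S'` is open at every point of `D(r)`. -/
theorem isOpenAt_comap_val_of_awayMap_bijective {A₀ C₀ : Type u} [CommRing A₀] [CommRing C₀]
    [Algebra A₀ C₀] (S' : Subalgebra A₀ C₀) (r : S') (q : PrimeSpectrum C₀)
    (hrq : (r : C₀) ∉ q.asIdeal)
    (hbij : Function.Bijective (Localization.awayMap S'.val.toRingHom r)) :
    EGA43.IsOpenAt (comap S'.val.toRingHom) q := by
  let e : Localization.Away r ≃+* Localization.Away (S'.val.toRingHom r) :=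
    RingEquiv.ofBijective _ hbij
  have hjS := localization_away_isOpenEmbedding (Localization.Away r) r
  obtain ⟨qr, hqr⟩ : q ∈ Set.range (comap (algebraMap C₀
      (Localization.Away (S'.val.toRingHom r)))) := by
    rw [localization_away_comap_range _ (S'.val.toRingHom r)]
    exact hrq
  have hopen : IsOpenMap (comap (algebraMap S' (Localization.Away r)) ∘
      comap (e : Localization.Away r →+* Localization.Away (S'.val.toRingHom r))) :=
    hjS.isOpenMap.comp (PrimeSpectrum.homeomorphOfRingEquiv e.symm).isOpenMap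
  have heq : comap (algebraMap S' (Localization.Away r)) ∘
      comap (e : Localization.Away r →+* Localization.Away (S'.val.toRingHom r)) =
      comap S'.val.toRingHom ∘ comap (algebraMap C₀
        (Localization.Away (S'.val.toRingHom r))) := by
    ext x : 1
    simp only [Function.comp_apply, ← comap_comp_apply]
    congr 1
    refine RingHom.ext fun y => ?_
    change IsLocalization.Away.map _ _ S'.val.toRingHom r (algebraMap _ _ y) = _
    simp only [IsLocalization.Away.map]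
    exact IsLocalization.map_eq _ y
  rw [heq] at hopen
  have := IsOpenAt.of_comp (continuous_comap _).continuousAt (isOpenAt_of_isOpenMap hopen qr)
  rwa [hqr] at this

section Star

variable {A₀ : Type u} [CommRing A₀] (p₀ : Ideal A₀) [p₀.IsPrime]
  (Rp : Type u) [CommRing Rp] [Algebra A₀ Rp] [IsLocalization.AtPrime Rp p₀]

/-- (★) If the nilradical of `(A₀)_{p₀}` is prime, it is the extension of every minimal prime of
`A₀` contained in `p₀`. -/
theorem nilradical_eq_map_of_mem_minimalPrimes (hN : (nilradical Rp).IsPrime)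
    (𝔞 : Ideal A₀) (h𝔞 : 𝔞 ∈ minimalPrimes A₀) (h𝔞p : 𝔞 ≤ p₀) :
    nilradical Rp = 𝔞.map (algebraMap A₀ Rp) := by
  haveI : 𝔞.IsPrime := h𝔞.1.1
  have hdisj : Disjoint (p₀.primeCompl : Set A₀) (𝔞 : Set A₀) := by
    rw [Set.disjoint_left]
    intro a ha ha'
    exact ha (h𝔞p ha')
  haveI hprime : (𝔞.map (algebraMap A₀ Rp)).IsPrime :=
    IsLocalization.isPrime_of_isPrime_disjoint p₀.primeCompl Rp 𝔞 inferInstance hdisj
  have hcm : (𝔞.map (algebraMap A₀ Rp)).comap (algebraMap A₀ Rp) = 𝔞 :=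
    IsLocalization.under_map_of_isPrime_disjoint p₀.primeCompl Rp (I := 𝔞) inferInstance hdisj
  have hle : nilradical Rp ≤ 𝔞.map (algebraMap A₀ Rp) := nilradical_le_prime _
  have h1 : (nilradical Rp).comap (algebraMap A₀ Rp) ≤ 𝔞 := by
    rw [← hcm]
    exact Ideal.comap_mono hle
  have h2 : 𝔞 ≤ (nilradical Rp).comap (algebraMap A₀ Rp) :=
    h𝔞.2 ⟨Ideal.comap_isPrime _ _, bot_le⟩ h1
  have h3 : (nilradical Rp).comap (algebraMap A₀ Rp) = 𝔞 := le_antisymm h1 h2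
  have h4 := IsLocalization.map_under p₀.primeCompl Rp (nilradical Rp)
  rw [Ideal.under_def, h3] at h4
  exact h4.symm

/-- At a point with prime nilradical of the local ring, the unique minimal prime below it cuts
out a neighbourhood, provided there are finitely many minimal primes. -/
theorem zeroLocus_mem_nhds_of_mem_minimalPrimes (hfin : (minimalPrimes A₀).Finite)
    (hN : (nilradical Rp).IsPrime)
    (𝔞 : Ideal A₀) (h𝔞 : 𝔞 ∈ minimalPrimes A₀) (h𝔞p : 𝔞 ≤ p₀) :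
    zeroLocus (𝔞 : Set A₀) ∈ nhds (⟨p₀, inferInstance⟩ : PrimeSpectrum A₀) := by
  let F : Set (PrimeSpectrum A₀) := ⋃ 𝔞' ∈ (minimalPrimes A₀ \ {𝔞}), zeroLocus (𝔞' : Set A₀)
  have hF : IsClosed F :=
    (hfin.subset Set.sdiff_subset).isClosed_biUnion fun 𝔞' _ => isClosed_zeroLocus _
  have hpF : (⟨p₀, inferInstance⟩ : PrimeSpectrum A₀) ∉ F := by
    intro hp
    simp only [F, Set.mem_iUnion, exists_prop] at hp
    obtain ⟨𝔞', ⟨h𝔞', hne⟩, hp𝔞'⟩ := hp
    apply hne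
    have h𝔞'p : 𝔞' ≤ p₀ := by
      rw [mem_zeroLocus] at hp𝔞'
      exact hp𝔞'
    haveI : 𝔞.IsPrime := h𝔞.1.1
    haveI : 𝔞'.IsPrime := h𝔞'.1.1
    have e1 := nilradical_eq_map_of_mem_minimalPrimes p₀ Rp hN 𝔞 h𝔞 h𝔞p
    have e2 := nilradical_eq_map_of_mem_minimalPrimes p₀ Rp hN 𝔞' h𝔞' h𝔞'p
    have hdisj : ∀ (I : Ideal A₀), I ≤ p₀ → Disjoint (p₀.primeCompl : Set A₀) (I : Set A₀) := by
      intro I hI
      rw [Set.disjoint_left]
      intro a ha ha'
      exact ha (hI ha')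
    have c1 : (𝔞.map (algebraMap A₀ Rp)).comap (algebraMap A₀ Rp) = 𝔞 :=
      IsLocalization.under_map_of_isPrime_disjoint p₀.primeCompl Rp (I := 𝔞) inferInstance
        (hdisj 𝔞 h𝔞p)
    have c2 : (𝔞'.map (algebraMap A₀ Rp)).comap (algebraMap A₀ Rp) = 𝔞' :=
      IsLocalization.under_map_of_isPrime_disjoint p₀.primeCompl Rp (I := 𝔞') inferInstance
        (hdisj 𝔞' h𝔞'p)
    rw [Set.mem_singleton_iff, ← c1, ← c2, ← e1, ← e2]
  refine Filter.mem_of_superset (hF.isOpen_compl.mem_nhds hpF) ?_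
  intro 𝔭 h𝔭
  obtain ⟨𝔞'', h𝔞'', hle⟩ := Ideal.exists_minimalPrimes_le (bot_le : ⊥ ≤ 𝔭.asIdeal)
  by_cases h : 𝔞'' = 𝔞
  · rw [mem_zeroLocus]
    rw [← h]
    exact hle
  · exfalso
    apply h𝔭
    simp only [F, Set.mem_iUnion, exists_prop]
    exact ⟨𝔞'', ⟨h𝔞'', h⟩, by rw [mem_zeroLocus]; exact hle⟩

end Star

/-- Theorem O' (integral case). -/
theorem isOpenAt_comap_of_isIntegral_of_isUnibranch' {A₀ B₀ : Type u} [CommRing A₀]
    [CommRing B₀] [Algebra A₀ B₀] [Algebra.IsIntegral A₀ B₀]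
    (hfin : (minimalPrimes A₀).Finite)
    (q : PrimeSpectrum B₀) (𝔠 : Ideal B₀) [𝔠.IsPrime] (h𝔠q : 𝔠 ≤ q.asIdeal)
    (h𝔠min : 𝔠.comap (algebraMap A₀ B₀) ∈ minimalPrimes A₀)
    (p₀ : Ideal A₀) [p₀.IsPrime] (hp₀ : q.asIdeal.comap (algebraMap A₀ B₀) = p₀)
    (Rp : Type u) [CommRing Rp] [Algebra A₀ Rp] [IsLocalization.AtPrime Rp p₀] [IsLocalRing Rp]
    (hU : CAlg2.IsUnibranch Rp) : EGA43.IsOpenAt (comap (algebraMap A₀ B₀)) q := by
  set 𝔞 : Ideal A₀ := 𝔠.comap (algebraMap A₀ B₀) with h𝔞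
  haveI : 𝔞.IsPrime := Ideal.comap_isPrime _ _
  haveI : 𝔠.LiesOver 𝔞 := ⟨rfl⟩
  haveI : IsDomain (A₀ ⧸ 𝔞) := Ideal.Quotient.isDomain _
  haveI : IsDomain (B₀ ⧸ 𝔠) := Ideal.Quotient.isDomain _
  haveI : FaithfulSMul (A₀ ⧸ 𝔞) (B₀ ⧸ 𝔠) := Ideal.Quotient.instFaithfulSMul 𝔠 𝔞
  haveI : Algebra.IsIntegral (A₀ ⧸ 𝔞) (B₀ ⧸ 𝔠) :=
    Ideal.Quotient.algebra_isIntegral_of_liesOver 𝔠 𝔞
  have hinj : Function.Injective (algebraMap (A₀ ⧸ 𝔞) (B₀ ⧸ 𝔠)) :=
    FaithfulSMul.algebraMap_injective _ _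
  have h𝔞p : 𝔞 ≤ p₀ := by
    rw [← hp₀]
    exact Ideal.comap_mono h𝔠q
  have hN : (nilradical Rp).IsPrime := (Ideal.Quotient.isDomain_iff_prime _).mp hU.1
  have hstar := nilradical_eq_map_of_mem_minimalPrimes p₀ Rp hN 𝔞 h𝔠min h𝔞p
  -- the point `q₁`
  obtain ⟨q₁, hq₁⟩ : q ∈ Set.range (comap (Ideal.Quotient.mk 𝔠)) := by
    rw [range_comap_of_surjective _ _ Ideal.Quotient.mk_surjective, Ideal.mk_ker]
    exact h𝔠q
  have hcomp : (algebraMap (A₀ ⧸ 𝔞) (B₀ ⧸ 𝔠)).comp (Ideal.Quotient.mk 𝔞) =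
      (Ideal.Quotient.mk 𝔠).comp (algebraMap A₀ B₀) := by
    ext a; rfl
  have hp' : (q₁.asIdeal.comap (algebraMap (A₀ ⧸ 𝔞) (B₀ ⧸ 𝔠))).comap
      (Ideal.Quotient.mk 𝔞) = p₀ := by
    rw [← hp₀, ← hq₁]
    change _ = (q₁.asIdeal.comap (Ideal.Quotient.mk _)).comap (algebraMap A₀ B₀)
    rw [Ideal.comap_comap, Ideal.comap_comap, hcomp]
  -- the model
  let φ : A₀ →+* CAlg2.red Rp := (Ideal.Quotient.mk (nilradical Rp)).comp (algebraMap A₀ Rp)
  have hφ : ∀ a ∈ 𝔞, φ a = 0 := by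
    intro a ha
    change Ideal.Quotient.mk (nilradical Rp) (algebraMap A₀ Rp a) = 0
    rw [Ideal.Quotient.eq_zero_iff_mem, hstar]
    exact Ideal.mem_map_of_mem _ ha
  letI algR : Algebra (A₀ ⧸ 𝔞) (CAlg2.red Rp) := (Ideal.Quotient.lift 𝔞 φ hφ).toAlgebra
  haveI hdom : IsDomain (CAlg2.red Rp) := hU.1
  haveI : IsLocalization.AtPrime (CAlg2.red Rp)
      (q₁.asIdeal.comap (algebraMap (A₀ ⧸ 𝔞) (B₀ ⧸ 𝔠))) :=
    isLocalization_atPrime_of_surjective (Ideal.Quotient.mk 𝔞) Ideal.Quotient.mk_surjective p₀ Rp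
      (CAlg2.red Rp) (Ideal.Quotient.mk (nilradical Rp)) Ideal.Quotient.mk_surjective
      (by ext a; rfl)
      (by rw [Ideal.mk_ker, Ideal.mk_ker, hstar])
      _ hp'
  have h1 : EGA43.IsOpenAt (comap (algebraMap (A₀ ⧸ 𝔞) (B₀ ⧸ 𝔠))) q₁ :=
    isOpenAt_comap_of_isLocalRing hinj q₁ (CAlg2.red Rp) hU.2
  -- the closed embedding `Spec A₀/𝔞 → Spec A₀` is open at the image point
  have h2 : EGA43.IsOpenAt (comap (Ideal.Quotient.mk 𝔞))
      (comap (algebraMap (A₀ ⧸ 𝔞) (B₀ ⧸ 𝔠)) q₁) := by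
    apply isOpenAt_of_isInducing
      (isClosedEmbedding_comap_of_surjective _ _ Ideal.Quotient.mk_surjective).isInducing
    rw [range_comap_of_surjective _ _ Ideal.Quotient.mk_surjective, Ideal.mk_ker]
    have hpt : comap (Ideal.Quotient.mk 𝔞) (comap (algebraMap (A₀ ⧸ 𝔞) (B₀ ⧸ 𝔠)) q₁) =
        (⟨p₀, inferInstance⟩ : PrimeSpectrum A₀) := PrimeSpectrum.ext hp'
    rw [hpt]
    exact zeroLocus_mem_nhds_of_mem_minimalPrimes p₀ Rp hfin hN 𝔞 h𝔠min h𝔞p
  have h3 := IsOpenAt.comp h1 h2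
  have heq : comap (Ideal.Quotient.mk 𝔞) ∘ comap (algebraMap (A₀ ⧸ 𝔞) (B₀ ⧸ 𝔠)) =
      comap (algebraMap A₀ B₀) ∘ comap (Ideal.Quotient.mk 𝔠) := by
    ext x : 1
    simp only [Function.comp_apply, ← comap_comp_apply]
    rw [hcomp]
  rw [heq] at h3
  have := IsOpenAt.of_comp (continuous_comap _).continuousAt h3
  rwa [hq₁] at this

/-- Theorem O' (finite type case). -/
theorem isOpenAt_comap_of_quasiFiniteAt_of_isUnibranch' {A₀ C₀ : Type u} [CommRing A₀]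
    [CommRing C₀] [Algebra A₀ C₀] [Algebra.FiniteType A₀ C₀]
    (hfin : (minimalPrimes A₀).Finite)
    (q : PrimeSpectrum C₀) [Algebra.QuasiFiniteAt A₀ q.asIdeal]
    (𝔠 : Ideal C₀) [𝔠.IsPrime] (h𝔠q : 𝔠 ≤ q.asIdeal)
    (h𝔠min : 𝔠.comap (algebraMap A₀ C₀) ∈ minimalPrimes A₀)
    (p₀ : Ideal A₀) [p₀.IsPrime]
    (hp₀ : q.asIdeal.comap (algebraMap A₀ C₀) = p₀) (Rp : Type u) [CommRing Rp] [Algebra A₀ Rp]
    [IsLocalization.AtPrime Rp p₀] [IsLocalRing Rp]
    (hU : CAlg2.IsUnibranch Rp) : EGA43.IsOpenAt (comap (algebraMap A₀ C₀)) q := by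
  obtain ⟨S', hfg, r, hrq, hbij⟩ :=
    Algebra.QuasiFiniteAt.exists_fg_and_exists_notMem_and_awayMap_bijective (R := A₀) q.asIdeal
  haveI : Module.Finite A₀ S' := ⟨(Submodule.fg_top _).mpr hfg⟩
  haveI : Algebra.IsIntegral A₀ S' := inferInstance
  have h1 : EGA43.IsOpenAt (comap (algebraMap A₀ S')) (comap S'.val.toRingHom q) :=
    isOpenAt_comap_of_isIntegral_of_isUnibranch' hfin _ (𝔠.comap S'.val.toRingHom)
      (Ideal.comap_mono h𝔠q) (by rw [Ideal.comap_comap]; exact h𝔠min) p₀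
      (by rw [← hp₀]; rfl) Rp hU
  have h2 := isOpenAt_comap_val_of_awayMap_bijective S' r q hrq hbij
  have h3 := IsOpenAt.comp h2 h1
  have heq : comap (algebraMap A₀ S') ∘ comap S'.val.toRingHom = comap (algebraMap A₀ C₀) := by
    ext x : 1
    simp only [Function.comp_apply, ← comap_comp_apply]
    rfl
  rwa [heq] at h3

end Groth.Agent.H69.GeomUnibranch
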