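import Groth.Agent.H69.Unibranch

/-! Scheme-level openness at quasi-finite points over unibranch points. -/

set_option autoImplicit false
set_option linter.style.haveILetI false
set_option linter.unusedSectionVars false
open AlgebraicGeometry CategoryTheory

universe u

namespace Groth.Agent.H69.GeomUnibranch

open OpenAt

/-- A dominant morphism locally of finite type between irreducible schemes is open at every point
at which it is quasi-finite and whose image is a unibranch point. -/
theorem isOpenAt_of_quasiFiniteAt_of_isUnibranch {X Y : Scheme.{u}} (f : X ⟶ Y)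
    [IrreducibleSpace X] [IrreducibleSpace Y] [LocallyOfFiniteType f] (hd : DenseRange f.base)
    (x : X) (hx : f.QuasiFiniteAt x)
    (hUni : CAlg2.IsUnibranch (Y.presheaf.stalk (f.base x))) : EGA43.IsOpenAt f.base x := by
  obtain ⟨U, hU, hfxU, -⟩ :=
    exists_isAffineOpen_mem_and_subset (x := f.base x) (U := ⊤) trivial
  obtain ⟨V, hV, hxV, hVU⟩ :=
    exists_isAffineOpen_mem_and_subset (x := x) (U := f ⁻¹ᵁ U) hfxU
  have hft : (f.appLE U V hVU).hom.FiniteType :=
    HasRingHomProperty.appLE (P := @LocallyOfFiniteType) f ‹_› ⟨U, hU⟩ ⟨V, hV⟩ hVU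
  have hqf := hx.quasiFiniteAt hV hU hVU hxV
  have hcomm := IsAffineOpen.SpecMap_appLE_fromSpec f hU hV hVU
  have hprime := IsAffineOpen.comap_primeIdealOf_appLE (f := f) U hU V hV hVU hxV
  -- irreducibility of the spectra
  haveI : Nonempty (Spec Γ(X, V)) := ⟨hV.primeIdealOf ⟨x, hxV⟩⟩
  haveI : Nonempty (Spec Γ(Y, U)) := ⟨hU.primeIdealOf ⟨f.base x, hfxU⟩⟩
  haveI hirrV : IrreducibleSpace (Spec Γ(X, V)) :=
    hV.fromSpec.isOpenEmbedding.irreducibleSpace
  haveI hirrU : IrreducibleSpace (Spec Γ(Y, U)) :=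
    hU.fromSpec.isOpenEmbedding.irreducibleSpace
  have hnilV : (nilradical Γ(X, V)).IsPrime :=
    PrimeSpectrum.irreducibleSpace_iff_isPrime_nilradical.1 hirrV
  have hnilU : (nilradical Γ(Y, U)).IsPrime :=
    PrimeSpectrum.irreducibleSpace_iff_isPrime_nilradical.1 hirrU
  -- dominance
  have hdense : DenseRange (PrimeSpectrum.comap (f.appLE U V hVU).hom) := by
    have h1 : Dense (Set.range hV.fromSpec.base) := by
      rw [hV.range_fromSpec]
      exact V.2.dense ⟨x, hxV⟩
    have h2 : Dense (f.base '' Set.range hV.fromSpec.base) := hd.dense_image f.continuous h1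
    have h3 : f.base '' Set.range hV.fromSpec.base =
        hU.fromSpec.base '' Set.range (Spec.map (f.appLE U V hVU)).base := by
      rw [← Set.range_comp, ← Set.range_comp]
      congr 1
      ext z
      change (hV.fromSpec ≫ f).base z = (Spec.map (f.appLE U V hVU) ≫ hU.fromSpec).base z
      rw [hcomm]
    rw [h3] at h2
    intro z
    have := h2 (hU.fromSpec.base z)
    change z ∈ closure (Set.range (Spec.map (f.appLE U V hVU)).base)
    rw [hU.fromSpec.isOpenEmbedding.isInducing.closure_eq_preimage_closure_image]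
    exact this
  have hker := (PrimeSpectrum.denseRange_comap_iff_ker_le_nilRadical _).1 hdense
  algebraize [(f.appLE U V hVU).hom]
  letI := Y.presheaf.algebra_section_stalk ⟨f.base x, hfxU⟩
  haveI := hU.isLocalization_stalk ⟨f.base x, hfxU⟩
  haveI : Algebra.QuasiFiniteAt Γ(Y, U) (hV.primeIdealOf ⟨x, hxV⟩).asIdeal := hqf
  have key : EGA43.IsOpenAt (PrimeSpectrum.comap (algebraMap Γ(Y, U) Γ(X, V)))
      (hV.primeIdealOf ⟨x, hxV⟩) :=
    isOpenAt_comap_of_quasiFiniteAt_of_isUnibranch hnilU hnilV hker (hV.primeIdealOf ⟨x, hxV⟩)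
      (hU.primeIdealOf ⟨f.base x, hfxU⟩).asIdeal (congrArg PrimeSpectrum.asIdeal hprime)
      (Y.presheaf.stalk (f.base x)) hUni
  -- transfer to `f`
  have h4 : EGA43.IsOpenAt (hU.fromSpec.base ∘ (Spec.map (f.appLE U V hVU)).base)
      (hV.primeIdealOf ⟨x, hxV⟩) :=
    IsOpenAt.comp key (isOpenAt_of_isOpenMap hU.fromSpec.isOpenEmbedding.isOpenMap _)
  have h5 : hU.fromSpec.base ∘ (Spec.map (f.appLE U V hVU)).base =
      f.base ∘ hV.fromSpec.base := by
    ext z
    change (Spec.map (f.appLE U V hVU) ≫ hU.fromSpec).base z = (hV.fromSpec ≫ f).base z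
    rw [hcomm]
  rw [h5] at h4
  have h6 := IsOpenAt.of_comp hV.fromSpec.continuous.continuousAt h4
  rwa [hV.fromSpec_primeIdealOf ⟨x, hxV⟩] at h6

end Groth.Agent.H69.GeomUnibranch
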