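import Groth.Agent.H69.UnibranchOpen2

/-! Scheme-level openness at quasi-finite points over unibranch points of a locally Noetherian
scheme, without irreducibility assumptions. -/

set_option autoImplicit false
set_option linter.style.haveILetI false
set_option linter.unusedSectionVars false
open AlgebraicGeometry CategoryTheory

universe u

namespace Groth.Agent.H69.GeomUnibranch

open OpenAt

/-- Theorem O: a morphism locally of finite type to a locally Noetherian scheme is open at every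
point `x` at which it is quasi-finite, whose image is a unibranch point, and which has a
generization mapping to a maximal point of the target. -/
theorem isOpenAt_of_quasiFiniteAt_of_isUnibranch' {X Y : Scheme.{u}} (f : X ⟶ Y)
    [LocallyOfFiniteType f] [IsLocallyNoetherian Y]
    (x : X) (hx : f.QuasiFiniteAt x)
    (hUni : CAlg2.IsUnibranch (Y.presheaf.stalk (f.base x)))
    (η : X) (hη : η ⤳ x) (hmax : ∀ w : Y, w ⤳ f.base η → w = f.base η) :
    EGA43.IsOpenAt f.base x := by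
  obtain ⟨U, hU, hfxU, -⟩ :=
    exists_isAffineOpen_mem_and_subset (x := f.base x) (U := ⊤) trivial
  obtain ⟨V, hV, hxV, hVU⟩ :=
    exists_isAffineOpen_mem_and_subset (x := x) (U := f ⁻¹ᵁ U) hfxU
  have hηV : η ∈ V := hη.mem_open V.2 hxV
  have hft : (f.appLE U V hVU).hom.FiniteType :=
    HasRingHomProperty.appLE (P := @LocallyOfFiniteType) f ‹_› ⟨U, hU⟩ ⟨V, hV⟩ hVU
  have hqf := hx.quasiFiniteAt hV hU hVU hxV
  have hcomm := IsAffineOpen.SpecMap_appLE_fromSpec f hU hV hVU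
  have hprime := IsAffineOpen.comap_primeIdealOf_appLE (f := f) U hU V hV hVU hxV
  have hprimeη := IsAffineOpen.comap_primeIdealOf_appLE (f := f) U hU V hV hVU hηV
  haveI : IsNoetherianRing Γ(Y, U) := IsLocallyNoetherian.component_noetherian ⟨U, hU⟩
  have hfin : (minimalPrimes Γ(Y, U)).Finite := minimalPrimes.finite_of_isNoetherianRing _
  -- the prime `𝔠`
  have h𝔠q : (hV.primeIdealOf ⟨η, hηV⟩).asIdeal ≤ (hV.primeIdealOf ⟨x, hxV⟩).asIdeal := by
    have hs := (hV.fromSpec.isOpenEmbedding.isInducing.specializes_iff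
      (x := hV.primeIdealOf ⟨η, hηV⟩) (y := hV.primeIdealOf ⟨x, hxV⟩)).mp
      (by rw [hV.fromSpec_primeIdealOf, hV.fromSpec_primeIdealOf]; exact hη)
    exact (PrimeSpectrum.le_iff_specializes _ _).mpr hs
  have h𝔠min : (hU.primeIdealOf ⟨f.base η, hVU hηV⟩).asIdeal ∈ minimalPrimes Γ(Y, U) := by
    refine ⟨⟨inferInstance, bot_le⟩, ?_⟩
    rintro 𝔭' ⟨h𝔭', -⟩ hle
    have h1 : ((⟨𝔭', h𝔭'⟩ : PrimeSpectrum Γ(Y, U)) : ↥(Spec Γ(Y, U))) ⤳
        hU.primeIdealOf ⟨f.base η, hVU hηV⟩ :=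
      (PrimeSpectrum.le_iff_specializes (⟨𝔭', h𝔭'⟩ : PrimeSpectrum Γ(Y, U))
        (hU.primeIdealOf ⟨f.base η, hVU hηV⟩)).mp hle
    have h2 : hU.fromSpec.base (⟨𝔭', h𝔭'⟩ : PrimeSpectrum Γ(Y, U)) ⤳ f.base η := by
      have := h1.map hU.fromSpec.continuous
      rwa [hU.fromSpec_primeIdealOf] at this
    have h3 := hmax _ h2
    have h4 : (⟨𝔭', h𝔭'⟩ : PrimeSpectrum Γ(Y, U)) = hU.primeIdealOf ⟨f.base η, hVU hηV⟩ := by
      apply hU.fromSpec.isOpenEmbedding.injective
      rw [hU.fromSpec_primeIdealOf]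
      exact h3
    rw [← h4]
  algebraize [(f.appLE U V hVU).hom]
  letI := Y.presheaf.algebra_section_stalk ⟨f.base x, hfxU⟩
  haveI := hU.isLocalization_stalk ⟨f.base x, hfxU⟩
  haveI : Algebra.QuasiFiniteAt Γ(Y, U) (hV.primeIdealOf ⟨x, hxV⟩).asIdeal := hqf
  have key : EGA43.IsOpenAt (PrimeSpectrum.comap (algebraMap Γ(Y, U) Γ(X, V)))
      (hV.primeIdealOf ⟨x, hxV⟩) :=
    isOpenAt_comap_of_quasiFiniteAt_of_isUnibranch' hfin (hV.primeIdealOf ⟨x, hxV⟩)
      (hV.primeIdealOf ⟨η, hηV⟩).asIdeal h𝔠q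
      (by
        have e : Ideal.comap (algebraMap Γ(Y, U) Γ(X, V)) (hV.primeIdealOf ⟨η, hηV⟩).asIdeal =
            (hU.primeIdealOf ⟨f.base η, hVU hηV⟩).asIdeal :=
          congrArg PrimeSpectrum.asIdeal hprimeη
        rw [e]
        exact h𝔠min)
      (hU.primeIdealOf ⟨f.base x, hfxU⟩).asIdeal (congrArg PrimeSpectrum.asIdeal hprime)
      (Y.presheaf.stalk (f.base x)) hUni
  -- transfer to `f`
  have h4 : EGA43.IsOpenAt (hU.fromSpec.base ∘ (Spec.map (f.appLE U V hVU)).base)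
      (hV.primeIdealOf ⟨x, hxV⟩) :=
    IsOpenAt.comp key (isOpenAt_of_isOpenMap hU.fromSpec.isOpenEmbedding.isOpenMap _)
  have h5 : hU.fromSpec.base ∘ (Spec.map (f.appLE U V hVU)).base =
      f.base ∘ hV.fromSpec.base := by
    ext z
    change (Spec.map (f.appLE U V hVU) ≫ hU.fromSpec).base z = (hV.fromSpec ≫ f).base z
    rw [hcomm]
  rw [h5] at h4
  have h6 := IsOpenAt.of_comp hV.fromSpec.continuous.continuousAt h4
  rwa [hV.fromSpec_primeIdealOf ⟨x, hxV⟩] at h6

end Groth.Agent.H69.GeomUnibranch
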