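import Mathlib
import Groth.Prelude.Def_W4decUnivBdd
import Groth.Agent.H37.BddFibLib3
import Groth.Agent.H69.FibDegSch

/-!
# Universally bounded fibres for morphisms from schemes to algebraic spaces (helper69)

Bridges `W4dec.DegFibresLE` (algebraic spaces, via `Scheme.Hom.finrank`) with `BddFib.FiniteOfDegLE`
/ `BddFib.FibreDegLE` (schemes, via `Module.finrank` of global sections), and derives composition.
-/

set_option autoImplicit false
universe u
open CategoryTheory AlgebraicGeometry Limits Opposite
open BddFib AlgSp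

namespace Groth.Agent.H69.UnivBddSp

variable {S : Scheme.{u}}

instance subsingleton_spec_field {k : Type u} [Field k] : Subsingleton ↥(Spec (CommRingCat.of k)) :=
  inferInstanceAs (Subsingleton (PrimeSpectrum k))

/-- The two forms of "finite of degree `≤ n`" over a field agree. -/
theorem finiteOfDegLE_iff {k : Type u} [Field k] {T : Scheme.{u}}
    (p : T ⟶ Spec (CommRingCat.of k)) (n : ℕ) :
    FiniteOfDegLE (CommRingCat.of k) p n ↔ IsFinite p ∧ ∀ s, p.finrank s ≤ n := by
  constructor
  · rintro ⟨hT, hfin, hr⟩
    haveI := hT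
    have hfinp : IsFinite p := by
      rw [HasAffineProperty.iff_of_isAffine (P := @IsFinite)]
      refine ⟨hT, ?_⟩
      have e : p.appTop = (Scheme.ΓSpecIso (CommRingCat.of k)).hom ≫
          ((Scheme.ΓSpecIso (CommRingCat.of k)).inv ≫ p.appTop) := by simp
      rw [e, CommRingCat.hom_comp]
      refine RingHom.Finite.comp ?_ (RingHom.Finite.of_surjective _
        (ConcreteCategory.bijective_of_isIso (Scheme.ΓSpecIso _).hom).surjective)
      exact hfin
    refine ⟨hfinp, fun s => ?_⟩
    haveI : Flat p := inferInstance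
    obtain ⟨-, -, h3⟩ := H37.BddFibLib.finrank_eq_of_finrank (Field.toIsField k) p _ s rfl
    rw [← h3]
    exact hr
  · rintro ⟨hfin, hr⟩
    haveI := hfin
    haveI : Flat p := inferInstance
    let x : Spec (CommRingCat.of k) := IsLocalRing.closedPoint k
    obtain ⟨h1, h2, h3⟩ := H37.BddFibLib.finrank_eq_of_finrank (Field.toIsField k) p _ x rfl
    exact ⟨h1, h2, h3.le.trans (hr x)⟩

/-- A bound on the degrees of the fibres of `h_f` (sheaf form) bounds the fibres of `f`. -/
theorem fibreDegLE_of_degFibresLE {U V : Over S} (f : V ⟶ U) (n : ℕ)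
    (hf : W4dec.DegFibresLE n ((yon S).map f)) : FibreDegLE f.left n := by
  intro u
  let q : FieldPt ((yon S).obj U) := FieldPt.ofPt (𝟙 _) u
  have hq : q.toHom = (yon S).map (Over.homMk (U.left.fromSpecResidueField u) rfl) := by
    rw [FieldPt.toHom_ofPt, Category.comp_id]
  have hw : f.left.fiberToSpecResidueField u ≫ (U.left.fromSpecResidueField u ≫ U.hom) =
      f.left.fiberι u ≫ V.hom := by
    rw [← Over.w f, ← Category.assoc, ← Category.assoc]
    congr 1
    exact (pullback.condition (f := f.left) (g := U.left.fromSpecResidueField u)).symm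
  let T : Over S := Over.mk (f.left.fiberι u ≫ V.hom)
  let c : T ⟶ q.pt := Over.homMk (f.left.fiberToSpecResidueField u) hw
  let ι : T ⟶ V := Over.homMk (f.left.fiberι u) rfl
  have sq : IsPullback c ι (Over.homMk (U.left.fromSpecResidueField u) rfl : q.pt ⟶ U) f :=
    IsPullback.of_map (Over.forget S)
      (by ext; exact (pullback.condition (f := f.left) (g := U.left.fromSpecResidueField u)).symm)
      (IsPullback.of_hasPullback f.left (U.left.fromSpecResidueField u)).flip
  have h := hf q T c ((yon S).map ι) (by rw [hq]; exact sq.map (yon S))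
  exact (finiteOfDegLE_iff (k := ↥(U.left.residueField u)) (f.left.fiberToSpecResidueField u) n).2 h

/-- `T' → T` flat surjective and `T' → T → Spec K` finite of degree `≤ n`: so is `T → Spec K`. -/
theorem finiteOfDegLE_of_comp_flat_surjective {K : CommRingCat.{u}} (hK : IsField K)
    {T T' : Scheme.{u}} (p : T ⟶ Spec K) (r : T' ⟶ T) [Flat r] [Surjective r] (n : ℕ)
    (h : FiniteOfDegLE K (r ≫ p) n) : FiniteOfDegLE K p n := by
  obtain ⟨hfX, hdX⟩ := H37.BddFibLib.finite_discrete_of_finiteOfDegLE hK _ n h
  haveI := hfX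
  haveI := hdX
  obtain ⟨hfY, hdY⟩ := H37.BddFibLib.finite_discrete_of_flat_surjective r
  haveI := hfY
  haveI := hdY
  haveI : IsAffine T := inferInstance
  haveI : IsAffine T' := h.1
  have hinj : Function.Injective r.appTop.hom :=
    ((Flat.flat_and_surjective_iff_faithfullyFlat_of_isAffine r).mp
      ⟨inferInstance, inferInstance⟩).injective
  exact H37.BddFibLib.finiteOfDegLE_of_comp_injective p r hK hinj n h

/-- Composition: `V ⟶ U` with fibres of degree `≤ n` and `h_U ⟶ X` with fibres of degree `≤ m`, `X` an
algebraic space. -/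
theorem degFibresLE_comp {X : Sp S} (hX : IsAlgSpace X) {U V : Over S} (f : V ⟶ U)
    (g : (yon S).obj U ⟶ X) (n m : ℕ) (hf : W4dec.DegFibresLE n ((yon S).map f))
    (hg : W4dec.DegFibresLE m g) : W4dec.DegFibresLE (n * m) ((yon S).map f ≫ g) := by
  intro q T c snd sq
  have hrep : Representable g := hX.representable_from_yon g
  obtain ⟨W, w1, w2, sqW⟩ := hrep q.toHom
  obtain ⟨w2', rfl⟩ := (yon S).map_surjective w2
  obtain ⟨snd', rfl⟩ := (yon S).map_surjective snd
  have hW := hg q W w1 ((yon S).map w2') sqW.flip
  have comm : ((yon S).map snd' ≫ (yon S).map f) ≫ g = (yon S).map c ≫ q.toHom := by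
    rw [Category.assoc]; exact sq.w.symm
  obtain ⟨t, ht⟩ := (yon S).map_surjective (sqW.lift ((yon S).map snd' ≫ (yon S).map f)
    ((yon S).map c) comm)
  have ht1 : (yon S).map t ≫ (yon S).map w2' = (yon S).map snd' ≫ (yon S).map f := by
    rw [ht]; exact sqW.lift_fst _ _ _
  have ht2 : (yon S).map t ≫ (yon S).map w1 = (yon S).map c := by
    rw [ht]; exact sqW.lift_snd _ _ _
  have top : IsPullback ((yon S).map t) ((yon S).map snd') ((yon S).map w2') ((yon S).map f) := by
    refine IsPullback.of_right ?_ ht1 sqW.flip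
    rw [ht2]
    exact sq
  have e1 : t ≫ w2' = snd' ≫ f := (yon S).map_injective (by
    rw [Functor.map_comp, Functor.map_comp]; exact ht1)
  have e2 : t ≫ w1 = c := (yon S).map_injective (by rw [Functor.map_comp]; exact ht2)
  have topO : IsPullback t snd' w2' f := IsPullback.of_map (yon S) e1 top
  have topS : IsPullback snd'.left t.left f.left w2'.left := (topO.map (Over.forget S)).flip
  have hfS : FibreDegLE f.left n := fibreDegLE_of_degFibresLE f n hf
  have htS : FibreDegLE t.left n :=
    H37.BddFibLib.fibreDegLE_of_isPullback f.left w2'.left t.left snd'.left topS n hfS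
  have hw1 : FiniteOfDegLE (CommRingCat.of q.K) w1.left m := (finiteOfDegLE_iff w1.left m).2 hW
  have hcomp := FibDegSch.finiteOfDegLE_comp (Field.toIsField q.K) t.left w1.left n m hw1 htS
  have e3 : t.left ≫ w1.left = c.left := by rw [← Over.comp_left, e2]
  rw [e3] at hcomp
  exact (finiteOfDegLE_iff c.left (n * m)).1 hcomp

/-- Descent along a flat surjective morphism of the source. -/
theorem degFibresLE_of_comp_flat_surjective {X : Sp S} {U V : Over S} (f : U ⟶ V)
    [Surjective f.left] [Flat f.left] (h : (yon S).obj V ⟶ X) (n : ℕ)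
    (hg : W4dec.DegFibresLE n ((yon S).map f ≫ h)) : W4dec.DegFibresLE n h := by
  intro q T c snd sq
  obtain ⟨snd', rfl⟩ := (yon S).map_surjective snd
  let T'' : Over S := Over.mk (pullback.fst snd'.left f.left ≫ T.hom)
  let fst'' : T'' ⟶ T := Over.homMk (pullback.fst snd'.left f.left) rfl
  have hw : pullback.snd snd'.left f.left ≫ U.hom = pullback.fst snd'.left f.left ≫ T.hom := by
    rw [← Over.w f, ← Over.w snd', ← Category.assoc, ← Category.assoc, pullback.condition]
  let snd'' : T'' ⟶ U := Over.homMk (pullback.snd snd'.left f.left) hw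
  have topO : IsPullback snd'' fst'' f snd' :=
    IsPullback.of_map (Over.forget S) (by ext; exact pullback.condition.symm)
      (IsPullback.of_hasPullback snd'.left f.left).flip
  have big := ((topO.map (yon S)).paste_vert sq.flip).flip
  rw [← Functor.map_comp] at big
  have h1 := hg q T'' (fst'' ≫ c) ((yon S).map snd'') big
  have h2 : FiniteOfDegLE (CommRingCat.of q.K) (fst''.left ≫ c.left) n :=
    (finiteOfDegLE_iff _ n).2 h1
  haveI : Flat fst''.left :=
    MorphismProperty.pullback_fst (P := @Flat) snd'.left f.left inferInstance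
  haveI : Surjective fst''.left :=
    MorphismProperty.pullback_fst (P := @Surjective) snd'.left f.left inferInstance
  exact (finiteOfDegLE_iff c.left n).1
    (finiteOfDegLE_of_comp_flat_surjective (Field.toIsField q.K) c.left fst''.left n h2)

end Groth.Agent.H69.UnivBddSp
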