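import Mathlib
import Groth.Agent.H69.UnivBddSp
import Groth.Agent.H69.FibDegCover
import Groth.Agent.H69.FibDegFinite
import Groth.Agent.H52.Topology
import Groth.Agent.H52.DecentTop
import Groth.Agent.H50.Points

/-!
# Universally bounded fibres for morphisms from schemes to algebraic spaces, II (helper69)

Etale-local nature on the source, descent along a base change hitting the image, étale maps from
quasi-compact schemes.
-/

set_option autoImplicit false
universe u
open CategoryTheory AlgebraicGeometry Limits Opposite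
open BddFib AlgSp

namespace Groth.Agent.H69.UnivBddSp

variable {S : Scheme.{u}}

/-- The empty scheme is finite of degree `0` over anything. -/
theorem finiteOfDegLE_of_isEmpty {K : CommRingCat.{u}} (hK : IsField K) {T : Scheme.{u}}
    [IsEmpty ↥T] (p : T ⟶ Spec K) (n : ℕ) : FiniteOfDegLE K p n := by
  letI : Algebra K Γ(T, ⊤) := secAlgebra K p
  haveI : Nontrivial K := hK.nontrivial
  refine ⟨inferInstance, ?_, ?_⟩
  · exact Module.Finite.of_finite
  · rw [Module.finrank_zero_of_subsingleton]
    exact Nat.zero_le n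

/-- A bound on the fibres of `f` bounds the degrees of the fibres of `h_f` (sheaf form). -/
theorem degFibresLE_of_fibreDegLE {U V : Over S} (f : V ⟶ U) (n : ℕ)
    (hf : FibreDegLE f.left n) : W4dec.DegFibresLE n ((yon S).map f) := by
  intro q T c snd sq
  obtain ⟨snd', rfl⟩ := (yon S).map_surjective snd
  obtain ⟨g, hg⟩ := (yon S).map_surjective q.toHom
  rw [← hg] at sq
  have e : c ≫ g = snd' ≫ f := (yon S).map_injective (by
    rw [Functor.map_comp, Functor.map_comp]; exact sq.w)
  have sqO : IsPullback c snd' g f := IsPullback.of_map (yon S) e sq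
  have sqS : IsPullback snd'.left c.left f.left g.left := (sqO.map (Over.forget S)).flip
  have h1 := H37.BddFibLib.finiteOfDegLE_pullback_snd f.left n hf q.K g.left
  have h2 := FibDegCover.finiteOfDegLE_of_isPullback_same (Field.toIsField q.K)
    (IsPullback.of_hasPullback f.left g.left) sqS n h1
  exact (finiteOfDegLE_iff c.left n).1 h2

/-- An étale (more generally locally quasi-finite) morphism of schemes with quasi-compact source has
universally bounded fibres, in the sheaf form. -/
theorem hasUnivBddFibres_yon_map_of_compact {U V : Over S} (f : V ⟶ U) [LocallyQuasiFinite f.left]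
    [LocallyOfFiniteType f.left] [CompactSpace ↥V.left] :
    W4dec.HasUnivBddFibres ((yon S).map f) := by
  obtain ⟨n, hn⟩ := FibDegFinite.univBounded_of_locallyQuasiFinite f.left
  exact ⟨n, degFibresLE_of_fibreDegLE f n hn⟩

/-- `T' → T` flat with open image `O`, and `T' → T → Spec K` finite of degree `≤ n`: so is
`O → Spec K`. -/
theorem finiteOfDegLE_opensRange {K : CommRingCat.{u}} (hK : IsField K) {T T' : Scheme.{u}}
    (p : T ⟶ Spec K) (r : T' ⟶ T) [Flat r] (O : T.Opens) (hO : (O : Set ↥T) = Set.range r)
    (n : ℕ) (h : FiniteOfDegLE K (r ≫ p) n) : FiniteOfDegLE K (O.ι ≫ p) n := by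
  let r' : T' ⟶ O.toScheme := IsOpenImmersion.lift O.ι r (by rw [Scheme.Opens.range_ι, hO])
  have hr' : r' ≫ O.ι = r := IsOpenImmersion.lift_fac _ _ _
  haveI : Flat r' :=
    MorphismProperty.of_postcomp (W := @Flat) (W' := @IsOpenImmersion) r' O.ι inferInstance
      (by rw [hr']; infer_instance)
  haveI : Surjective r' := by
    refine ⟨fun x => ?_⟩
    have hx : O.ι x ∈ Set.range r := by
      rw [← hO, ← Scheme.Opens.range_ι]; exact ⟨x, rfl⟩
    obtain ⟨t', ht'⟩ := hx
    refine ⟨t', ?_⟩
    apply O.ι.isOpenEmbedding.injective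
    rw [← Scheme.Hom.comp_apply, hr', ht']
  refine finiteOfDegLE_of_comp_flat_surjective hK (O.ι ≫ p) r' n ?_
  rw [← Category.assoc, hr']
  exact h

/-- Etale-local nature on the source (finite étale covering family). -/
theorem degFibresLE_of_finite_etale_cover {X : Sp S} {U : Over S} (a : (yon S).obj U ⟶ X)
    {ι : Type*} [Fintype ι] (W : ι → Over S) (r : ∀ i, W i ⟶ U) [∀ i, Etale (r i).left]
    (hcov : ∀ u : ↥U.left, ∃ (i : ι) (w : ↥(W i).left), (r i).left w = u) (N : ι → ℕ)
    (h : ∀ i, W4dec.DegFibresLE (N i) ((yon S).map (r i) ≫ a)) :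
    W4dec.DegFibresLE (∑ i, N i) a := by
  intro q T c snd sq
  obtain ⟨snd', rfl⟩ := (yon S).map_surjective snd
  -- the pieces
  have key : ∀ i, ∃ O : T.left.Opens, (O : Set ↥T.left) =
      Set.range (pullback.fst snd'.left (r i).left) ∧
      FiniteOfDegLE (CommRingCat.of q.K) (O.ι ≫ c.left) (N i) := by
    intro i
    let T'' : Over S := Over.mk (pullback.fst snd'.left (r i).left ≫ T.hom)
    let fst'' : T'' ⟶ T := Over.homMk (pullback.fst snd'.left (r i).left) rfl
    have hw : pullback.snd snd'.left (r i).left ≫ (W i).hom =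
        pullback.fst snd'.left (r i).left ≫ T.hom := by
      rw [← Over.w (r i), ← Over.w snd', ← Category.assoc, ← Category.assoc, pullback.condition]
    let snd'' : T'' ⟶ W i := Over.homMk (pullback.snd snd'.left (r i).left) hw
    have topO : IsPullback snd'' fst'' (r i) snd' :=
      IsPullback.of_map (Over.forget S) (by ext; exact pullback.condition.symm)
        (IsPullback.of_hasPullback snd'.left (r i).left).flip
    have big := ((topO.map (yon S)).paste_vert sq.flip).flip
    rw [← Functor.map_comp] at big
    have h1 := h i q T'' (fst'' ≫ c) ((yon S).map snd'') big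
    have h2 : FiniteOfDegLE (CommRingCat.of q.K) (fst''.left ≫ c.left) (N i) :=
      (finiteOfDegLE_iff _ (N i)).2 h1
    haveI : Etale (pullback.fst snd'.left (r i).left) :=
      MorphismProperty.pullback_fst (P := @Etale) snd'.left (r i).left inferInstance
    refine ⟨⟨Set.range (pullback.fst snd'.left (r i).left),
      (pullback.fst snd'.left (r i).left).isOpenMap.isOpen_range⟩, rfl, ?_⟩
    exact finiteOfDegLE_opensRange (Field.toIsField q.K) c.left
      (pullback.fst snd'.left (r i).left) _ rfl (N i) h2
  choose O hO1 hO2 using key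
  have hcovT : ⨆ i, O i = ⊤ := by
    refine eq_top_iff.mpr fun t _ => ?_
    obtain ⟨i, w, hw⟩ := hcov (snd'.left t)
    obtain ⟨z, hz, -⟩ := Scheme.Pullback.exists_preimage_pullback (f := snd'.left)
      (g := (r i).left) t w hw.symm
    refine TopologicalSpace.Opens.mem_iSup.mpr ⟨i, ?_⟩
    change t ∈ ((O i : T.left.Opens) : Set ↥T.left)
    rw [hO1 i]
    exact ⟨z, hz⟩
  exact (finiteOfDegLE_iff c.left _).1
    (FibDegCover.finiteOfDegLE_of_openCover (Field.toIsField q.K) c.left O hcovT N hO2)

/-- Etale-local nature on the source for a quasi-compact source: an arbitrary jointly surjective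
family of étale maps, each composite having universally bounded fibres. -/
theorem hasUnivBddFibres_of_etale_cover {X : Sp S} {U : Over S} [CompactSpace ↥U.left]
    (a : (yon S).obj U ⟶ X) {κ : Type*} (W : κ → Over S) (r : ∀ k, W k ⟶ U)
    [∀ k, Etale (r k).left]
    (hcov : ∀ u : ↥U.left, ∃ (k : κ) (w : ↥(W k).left), (r k).left w = u)
    (h : ∀ k, W4dec.HasUnivBddFibres ((yon S).map (r k) ≫ a)) : W4dec.HasUnivBddFibres a := by
  classical
  choose N hN using h
  obtain ⟨t, ht⟩ := isCompact_univ.elim_finite_subcover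
    (fun k : κ => Set.range (r k).left) (fun k => (r k).left.isOpenMap.isOpen_range)
    (fun u _ => by
      obtain ⟨k, w, hw⟩ := hcov u
      exact Set.mem_iUnion.mpr ⟨k, w, hw⟩)
  refine ⟨∑ i : ↥t, N i.1, ?_⟩
  haveI : ∀ i : ↥t, Etale (r i.1).left := fun i => inferInstance
  refine degFibresLE_of_finite_etale_cover a (fun i : ↥t => W i.1) (fun i => r i.1) ?_
    (fun i => N i.1) (fun i => hN i.1)
  intro u
  have hu := ht (Set.mem_univ u)
  simp only [Set.mem_iUnion] at hu
  obtain ⟨k, hk, w, hw⟩ := hu
  exact ⟨⟨k, hk⟩, w, hw⟩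

end Groth.Agent.H69.UnivBddSp
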