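import Mathlib
import Groth.Agent.H69.UnivBddSp2

/-!
# Universally bounded fibres for morphisms from schemes to algebraic spaces, III (helper69)
-/

set_option autoImplicit false
universe u
open CategoryTheory AlgebraicGeometry Limits Opposite
open BddFib AlgSp

namespace Groth.Agent.H69.UnivBddSp

variable {S : Scheme.{u}}

/-- Base change (any sheaves): if `g : h_U ⟶ X` has fibres of degree `≤ n`, so does its base change along
any `p : Y ⟶ X`. -/
theorem degFibresLE_baseChange {X Y : Sp S} (p : Y ⟶ X) {U V : Over S} (g : (yon S).obj U ⟶ X)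
    (n : ℕ) (hg : W4dec.DegFibresLE n g) (fst : (yon S).obj V ⟶ (yon S).obj U)
    (snd : (yon S).obj V ⟶ Y) (h : IsPullback fst snd g p) : W4dec.DegFibresLE n snd := by
  intro q T c snd' hsq
  have hpaste : IsPullback ((yon S).map c) (snd' ≫ fst) (q.toHom ≫ p) g := hsq.paste_vert h.flip
  have := hg (q.map p) T c (snd' ≫ fst)
  rw [FieldPt.toHom_map] at this
  exact this hpaste

/-- Descent along a base change hitting the image. -/
theorem degFibresLE_of_isPullback_of_range_subset {X Y : Sp S} (g : Y ⟶ X) {U V : Over S}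
    (f : (yon S).obj U ⟶ X) (fst : (yon S).obj V ⟶ (yon S).obj U) (f' : (yon S).obj V ⟶ Y)
    (h : IsPullback fst f' f g)
    (him : Set.range (Points.ofPt f) ⊆ Set.range (Points.map g)) (n : ℕ)
    (hf' : W4dec.DegFibresLE n f') : W4dec.DegFibresLE n f := by
  intro q T c snd sq
  obtain ⟨snd', rfl⟩ := (yon S).map_surjective snd
  rcases isEmpty_or_nonempty ↥T.left with hE | ⟨⟨t⟩⟩
  · exact (finiteOfDegLE_iff c.left n).1
      (finiteOfDegLE_of_isEmpty (Field.toIsField q.K) c.left n)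
  · have hx : Points.ofPt f (snd'.left t) = Points.mk q := by
      have h0 := H52.fibre_eq_range_of_isPullback q f sq
      have h1 : snd'.left t ∈ Points.ofPt f ⁻¹' {Points.mk q} := by rw [h0]; exact ⟨t, rfl⟩
      exact h1
    obtain ⟨y, hy⟩ := him ⟨_, hx⟩
    induction y using Points.ind with
    | h p =>
    rw [Points.map_mk, H50.mk_eq_mk_iff_toHom] at hy
    obtain ⟨Ω, _, w, a, b, hab⟩ := hy
    change Over.mk w ⟶ p.pt at a
    rw [FieldPt.toHom_map] at hab
    let rH : (yon S).obj (Over.mk w) ⟶ Y := (yon S).map a ≫ p.toHom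
    let r : FieldPt Y := H50.fieldPtOfHom w rH
    have hr : r.toHom = rH := H50.toHom_fieldPtOfHom _ _
    have hrg : rH ≫ g = (yon S).map b ≫ q.toHom := (Category.assoc _ _ _).trans hab
    have hwb : pullback.fst c.left b.left ≫ T.hom = pullback.snd c.left b.left ≫ w := by
      have e1 : c.left ≫ q.str = T.hom := Over.w c
      have e2 : b.left ≫ q.str = w := Over.w b
      rw [← e1, ← Category.assoc, pullback.condition, Category.assoc, e2]
    let TΩ : Over S := Over.mk (pullback.snd c.left b.left ≫ w)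
    let cΩ : TΩ ⟶ Over.mk w := Over.homMk (pullback.snd c.left b.left) rfl
    let e : TΩ ⟶ T := Over.homMk (pullback.fst c.left b.left) hwb
    have sqO : IsPullback e cΩ c b :=
      IsPullback.of_map (Over.forget S) (by ext; exact pullback.condition)
        (IsPullback.of_hasPullback c.left b.left)
    have big : IsPullback ((yon S).map cΩ) ((yon S).map e ≫ (yon S).map snd')
        ((yon S).map b ≫ q.toHom) f := (sqO.map (yon S)).flip.paste_vert sq
    rw [← hrg] at big
    have comm : ((yon S).map e ≫ (yon S).map snd') ≫ f = ((yon S).map cΩ ≫ rH) ≫ g := by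
      rw [Category.assoc _ rH g]; exact big.w.symm
    let ℓ : (yon S).obj TΩ ⟶ (yon S).obj V :=
      h.lift ((yon S).map e ≫ (yon S).map snd') ((yon S).map cΩ ≫ rH) comm
    have hℓ1 : ℓ ≫ fst = (yon S).map e ≫ (yon S).map snd' := h.lift_fst _ _ _
    have hℓ2 : ℓ ≫ f' = (yon S).map cΩ ≫ rH := h.lift_snd _ _ _
    have left : IsPullback ℓ ((yon S).map cΩ) f' rH := by
      refine IsPullback.of_right ?_ hℓ2 h
      rw [hℓ1]
      exact big.flip
    have h1 := hf' r TΩ cΩ ℓ (by rw [hr]; exact left.flip)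
    have h2 : FiniteOfDegLE (CommRingCat.of Ω) (pullback.snd c.left b.left) n :=
      (finiteOfDegLE_iff (k := Ω) (pullback.snd c.left b.left) n).2 h1
    have hsq : IsPullback (pullback.fst c.left b.left) (pullback.snd c.left b.left) c.left
        (Spec.map (Spec.preimage b.left)) := by
      rw [Spec.map_preimage]
      exact IsPullback.of_hasPullback c.left b.left
    have h3 := H37.BddFibLib.finiteOfDegLE_desc (Field.toIsField q.K) (Field.toIsField Ω)
      (Spec.preimage b.left) hsq n h2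
    exact (finiteOfDegLE_iff c.left n).1 h3

/-- Etale morphisms from quasi-compact schemes have universally bounded fibres (sheaf form). -/
theorem hasUnivBddFibres_yon_map_of_etale {U V : Over S} (f : V ⟶ U) [Etale f.left]
    [CompactSpace ↥V.left] : W4dec.HasUnivBddFibres ((yon S).map f) := by
  haveI : LocallyQuasiFinite f.left := H50.locallyQuasiFinite_of_unramified f.left
  exact hasUnivBddFibres_yon_map_of_compact f

/-- If étale charts `U_i ⟶ X` with universally bounded fibres cover the algebraic space `X`, every étale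
map from a quasi-compact scheme has universally bounded fibres. -/
theorem hasUnivBddFibres_of_etale_atlas {X : Sp S} (hX : IsAlgSpace X) {ι : Type u}
    (U : ι → Over S) (φ : ∀ i, (yon S).obj (U i) ⟶ X) (hφ : ∀ i, RepWith @Etale (φ i))
    (hsurj : ∀ x : Points X, ∃ (i : ι) (v : ↥(U i).left), Points.ofPt (φ i) v = x)
    (hb : ∀ i, W4dec.HasUnivBddFibres (φ i)) {V : Over S} [CompactSpace ↥V.left]
    (ψ : (yon S).obj V ⟶ X) (hψ : RepWith @Etale ψ) : W4dec.HasUnivBddFibres ψ := by
  have hrep : ∀ i, ∃ (W : Over S) (snd : W ⟶ V) (fst : W ⟶ U i),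
      IsPullback ((yon S).map fst) ((yon S).map snd) (φ i) ψ := by
    intro i
    obtain ⟨W, snd, fst, sq⟩ := (hφ i).1 ψ
    obtain ⟨fst', rfl⟩ := (yon S).map_surjective fst
    exact ⟨W, snd, fst', sq⟩
  choose W snd fst sq using hrep
  have hsnd : ∀ i, Etale (snd i).left := fun i => (hφ i).2 ψ _ _ (sq i)
  have hfst : ∀ i, Etale (fst i).left := fun i => hψ.2 (φ i) _ _ (sq i).flip
  let κ := Σ i, (W i).left.affineOpens
  let Wk : κ → Over S := fun k => Over.mk (k.2.1.ι ≫ (W k.1).hom)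
  let ιk : ∀ k : κ, Wk k ⟶ W k.1 := fun k => Over.homMk k.2.1.ι rfl
  haveI : ∀ k, Etale ((ιk k ≫ snd k.1).left) := fun k => by
    haveI := hsnd k.1
    change Etale (k.2.1.ι ≫ (snd k.1).left)
    infer_instance
  refine hasUnivBddFibres_of_etale_cover ψ Wk (fun k => ιk k ≫ snd k.1) ?_ ?_
  · intro v
    obtain ⟨i, u, hu⟩ := hsurj (Points.ofPt ψ v)
    obtain ⟨w, -, hw⟩ := H52.exists_of_ofPt_eq_ofPt (sq i) u v hu
    obtain ⟨_, ⟨A, hA, rfl⟩, hwA, -⟩ :=
      (W i).left.isBasis_affineOpens.exists_subset_of_mem_open (Set.mem_univ w) isOpen_univ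
    refine ⟨⟨i, ⟨A, hA⟩⟩, ⟨w, hwA⟩, ?_⟩
    exact hw
  · intro k
    have e : (yon S).map (ιk k ≫ snd k.1) ≫ ψ = (yon S).map (ιk k ≫ fst k.1) ≫ φ k.1 := by
      rw [Functor.map_comp, Functor.map_comp, Category.assoc, Category.assoc, (sq k.1).w]
    rw [e]
    haveI : IsAffine (Wk k).left := k.2.2
    haveI : Etale (ιk k ≫ fst k.1).left := by
      haveI := hfst k.1
      change Etale (k.2.1.ι ≫ (fst k.1).left)
      infer_instance
    obtain ⟨n, hn⟩ := hasUnivBddFibres_yon_map_of_etale (ιk k ≫ fst k.1)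
    obtain ⟨m, hm⟩ := hb k.1
    exact ⟨n * m, degFibresLE_comp hX _ _ n m hn hm⟩

/-- Representable morphisms: if every affine étale chart of `Y` has universally bounded fibres, so does every
étale map from a quasi-compact scheme to `X`. -/
theorem hasUnivBddFibres_of_representable {X Y : Sp S} (hX : IsAlgSpace X) (hY : IsAlgSpace Y)
    (f : X ⟶ Y) (hf : Representable f)
    (hYb : ∀ (V : Over S) (ψ : (yon S).obj V ⟶ Y), IsAffine V.left → RepWith @Etale ψ →
      W4dec.HasUnivBddFibres ψ)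
    (U : Over S) (φ : (yon S).obj U ⟶ X) [CompactSpace ↥U.left] (hφ : RepWith @Etale φ) :
    W4dec.HasUnivBddFibres φ := by
  obtain ⟨V₀, p₀, hp₀e, hp₀s⟩ := hY.atlas
  let VB : V₀.left.affineOpens → Over S := fun B => Over.mk (B.1.ι ≫ V₀.hom)
  let ιB : ∀ B, VB B ⟶ V₀ := fun B => Over.homMk B.1.ι rfl
  let pB : ∀ B, (yon S).obj (VB B) ⟶ Y := fun B => (yon S).map (ιB B) ≫ p₀
  have hpBe : ∀ B, RepWith @Etale (pB B) := fun B =>
    (RepWith @Etale).comp_mem _ _
      ((repWith_yon_map_iff @Etale (ιB B)).2 (by change Etale B.1.ι; infer_instance)) hp₀e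
  have hpBb : ∀ B, W4dec.HasUnivBddFibres (pB B) := fun B => hYb (VB B) (pB B) B.2 (hpBe B)
  have hP : ∀ B, ∃ (P : Over S) (pr : P ⟶ VB B) (pX : (yon S).obj P ⟶ X),
      IsPullback pX ((yon S).map pr) f (pB B) := fun B => hf (pB B)
  choose P pr pX sqP using hP
  have hpXe : ∀ B, RepWith @Etale (pX B) := fun B =>
    (RepWith @Etale).of_isPullback (sqP B).flip (hpBe B)
  have hpXb : ∀ B, W4dec.HasUnivBddFibres (pX B) := fun B => by
    obtain ⟨n, hn⟩ := hpBb B
    exact ⟨n, degFibresLE_baseChange f (pB B) n hn ((yon S).map (pr B)) (pX B) (sqP B).flip⟩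
  have hW : ∀ B, ∃ (W : Over S) (s : W ⟶ P B) (t : W ⟶ U),
      IsPullback ((yon S).map t) ((yon S).map s) φ (pX B) := by
    intro B
    obtain ⟨W, s, t, sq⟩ := hφ.1 (pX B)
    obtain ⟨t', rfl⟩ := (yon S).map_surjective t
    exact ⟨W, s, t', sq⟩
  choose W s t sqW using hW
  have hs : ∀ B, Etale (s B).left := fun B => hφ.2 (pX B) _ _ (sqW B)
  have ht : ∀ B, Etale (t B).left := fun B => (hpXe B).2 φ _ _ (sqW B).flip
  let κ := Σ B, (W B).left.affineOpens
  let Wk : κ → Over S := fun k => Over.mk (k.2.1.ι ≫ (W k.1).hom)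
  let ιk : ∀ k : κ, Wk k ⟶ W k.1 := fun k => Over.homMk k.2.1.ι rfl
  haveI : ∀ k, Etale ((ιk k ≫ t k.1).left) := fun k => by
    haveI := ht k.1
    change Etale (k.2.1.ι ≫ (t k.1).left)
    infer_instance
  refine hasUnivBddFibres_of_etale_cover φ Wk (fun k => ιk k ≫ t k.1) ?_ ?_
  · intro u
    obtain ⟨v₀, hv₀⟩ := H52.surjective_ofPt_of_surjective p₀ hp₀s
      (Points.map f (Points.ofPt φ u))
    obtain ⟨_, ⟨B, hB, rfl⟩, hvB, -⟩ :=
      V₀.left.isBasis_affineOpens.exists_subset_of_mem_open (Set.mem_univ v₀) isOpen_univ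
    let B' : V₀.left.affineOpens := ⟨B, hB⟩
    let vB : ↥(VB B').left := ⟨v₀, hvB⟩
    have h1 : Points.ofPt (pB B') vB = Points.map f (Points.ofPt φ u) := by
      rw [H52.ofPt_yon_map_comp]
      exact hv₀
    obtain ⟨z, hz1, hz2⟩ := H50.exists_point_of_isPullback (sqP B') (Points.ofPt φ u)
      (Points.ofScheme (VB B') vB) (by rw [← Points.ofPt_eq_map_ofScheme, h1])
    obtain ⟨pt, rfl⟩ := (Points.schemeEquiv (P B')).surjective z
    have h2 : Points.ofPt φ u = Points.ofPt (pX B') pt := by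
      rw [Points.ofPt_eq_map_ofScheme (pX B') pt]
      exact hz1.symm
    obtain ⟨w, hw, -⟩ := H52.exists_of_ofPt_eq_ofPt (sqW B') u pt h2
    obtain ⟨_, ⟨A, hA, rfl⟩, hwA, -⟩ :=
      (W B').left.isBasis_affineOpens.exists_subset_of_mem_open (Set.mem_univ w) isOpen_univ
    refine ⟨⟨B', ⟨A, hA⟩⟩, ⟨w, hwA⟩, ?_⟩
    exact hw
  · intro k
    have e : (yon S).map (ιk k ≫ t k.1) ≫ φ = (yon S).map (ιk k ≫ s k.1) ≫ pX k.1 := by
      rw [Functor.map_comp, Functor.map_comp, Category.assoc, Category.assoc, (sqW k.1).w]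
    rw [e]
    haveI : IsAffine (Wk k).left := k.2.2
    haveI : Etale (ιk k ≫ s k.1).left := by
      haveI := hs k.1
      change Etale (k.2.1.ι ≫ (s k.1).left)
      infer_instance
    obtain ⟨n, hn⟩ := hasUnivBddFibres_yon_map_of_etale (ιk k ≫ s k.1)
    obtain ⟨m, hm⟩ := hpXb k.1
    exact ⟨n * m, degFibresLE_comp hX _ _ n m hn hm⟩

end Groth.Agent.H69.UnivBddSp
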