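import Mathlib
import Groth.Agent.H69.UnivBddSp3
import Groth.Agent.H51.LargestOpen

/-!
# Universally bounded fibres for morphisms from schemes to algebraic spaces, IV (helper69)

Zariski-locality: bounded fibres for étale charts may be checked on a Zariski cover.
-/

set_option autoImplicit false
set_option linter.style.haveILetI false
universe u
open CategoryTheory AlgebraicGeometry Limits Opposite
open BddFib AlgSp

namespace Groth.Agent.H69.UnivBddSp

variable {S : Scheme.{u}}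

/-- Composing with a monomorphism does not change the degree of the fibres. -/
theorem degFibresLE_comp_mono {X Y : Sp S} (jj : Y ⟶ X) [Mono jj] {V : Over S}
    (g₀ : (yon S).obj V ⟶ Y) (n : ℕ) (hg₀ : W4dec.DegFibresLE n g₀) :
    W4dec.DegFibresLE n (g₀ ≫ jj) := by
  refine degFibresLE_of_isPullback_of_range_subset jj (g₀ ≫ jj) (𝟙 _) g₀
    (H51.isPullback_id_of_mono g₀ jj) ?_ n hg₀
  rintro _ ⟨v, rfl⟩
  exact ⟨Points.ofPt g₀ v, rfl⟩

/-- Zariski-locality of universally bounded fibres of étale affine charts. -/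
theorem hasUnivBddFibres_of_isZarCover {X : Sp S} (hX : IsAlgSpace X) {ι : Type u}
    (Xi : ι → Sp S) (hXi : ∀ i, IsAlgSpace (Xi i)) (j : ∀ i, Xi i ⟶ X)
    (hj : IsZarCover Xi j)
    (h : ∀ (i : ι) (V : Over S) (ψ : (yon S).obj V ⟶ Xi i), IsAffine V.left →
      RepWith @Etale ψ → W4dec.HasUnivBddFibres ψ)
    (U : Over S) (φ : (yon S).obj U ⟶ X) [CompactSpace ↥U.left] (hφ : RepWith @Etale φ) :
    W4dec.HasUnivBddFibres φ := by
  have hat : ∀ i, ∃ (V₀ : Over S) (p₀ : (yon S).obj V₀ ⟶ Xi i),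
      RepWith @Etale p₀ ∧ RepWith @Surjective p₀ := fun i => (hXi i).atlas
  choose V₀ p₀ hp₀e hp₀s using hat
  let κ := Σ i, (V₀ i).left.affineOpens
  let VB : κ → Over S := fun k => Over.mk (k.2.1.ι ≫ (V₀ k.1).hom)
  let ιB : ∀ k : κ, VB k ⟶ V₀ k.1 := fun k => Over.homMk k.2.1.ι rfl
  let pB : ∀ k : κ, (yon S).obj (VB k) ⟶ Xi k.1 := fun k => (yon S).map (ιB k) ≫ p₀ k.1
  have hpBe : ∀ k, RepWith @Etale (pB k) := fun k =>
    (RepWith @Etale).comp_mem _ _
      ((repWith_yon_map_iff @Etale (ιB k)).2 (by change Etale k.2.1.ι; infer_instance))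
      (hp₀e k.1)
  have hpBb : ∀ k, W4dec.HasUnivBddFibres (pB k) := fun k =>
    h k.1 (VB k) (pB k) k.2.2 (hpBe k)
  have hje : ∀ i, RepWith @Etale (j i) := fun i =>
    H50.repWith_mono (fun _ _ g (hg : IsOpenImmersion g) => (inferInstance : Etale g)) (hj.1 i)
  refine hasUnivBddFibres_of_etale_atlas hX VB (fun k => pB k ≫ j k.1) ?_ ?_ ?_ φ hφ
  · intro k
    exact (RepWith @Etale).comp_mem _ _ (hpBe k) (hje k.1)
  · intro x
    obtain ⟨i, y, rfl⟩ := hj.2 x
    obtain ⟨v₀, hv₀⟩ := H52.surjective_ofPt_of_surjective (p₀ i) (hp₀s i) y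
    obtain ⟨_, ⟨B, hB, rfl⟩, hvB, -⟩ :=
      (V₀ i).left.isBasis_affineOpens.exists_subset_of_mem_open (Set.mem_univ v₀) isOpen_univ
    refine ⟨⟨i, ⟨B, hB⟩⟩, ⟨v₀, hvB⟩, ?_⟩
    rw [← Points.map_ofPt]
    congr 1
    rw [← hv₀]
    exact H52.ofPt_yon_map_comp _ _ _
  · intro k
    obtain ⟨n, hn⟩ := hpBb k
    haveI : Mono (j k.1) := H51.mono_of_repWith_isOpenImmersion (hj.1 k.1)
    exact ⟨n, degFibresLE_comp_mono (j k.1) (pB k) n hn⟩

end Groth.Agent.H69.UnivBddSp
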