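import Groth.Agent.H69.SubtrDVR
import Groth.Prelude.Def_HTop

/-! V coverings versus universally submersive families over a (locally) Noetherian scheme. -/

set_option autoImplicit false
set_option linter.style.haveILetI false
universe u
open CategoryTheory CategoryTheory.Limits AlgebraicGeometry IsLocalRing

namespace Groth.Agent.H69.Subtr

/-- A finite coproduct of quasi-compact morphisms is quasi-compact. -/
theorem quasiCompact_sigmaDesc {X : Scheme.{u}} {ι : Type u} [Finite ι] (U : ι → Scheme.{u})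
    (p : ∀ i, U i ⟶ X) [∀ i, QuasiCompact (p i)] : QuasiCompact (Sigma.desc p) := by
  constructor
  intro O hO hOc
  have hπι : ∀ i (u : U i), (Sigma.desc p).base ((Sigma.ι U i).base u) = (p i).base u := by
    intro i u
    rw [← Scheme.Hom.comp_apply, Sigma.ι_desc]
  have : (Sigma.desc p).base ⁻¹' O = ⋃ i, (Sigma.ι U i).base '' ((p i).base ⁻¹' O) := by
    ext z
    simp only [Set.mem_preimage, Set.mem_iUnion, Set.mem_image]
    constructor
    · intro hz
      obtain ⟨i, u, rfl⟩ := (sigmaOpenCover U).exists_eq z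
      exact ⟨i, u, by rw [← hπι]; exact hz, rfl⟩
    · rintro ⟨i, u, hu, rfl⟩
      rw [hπι]
      exact hu
  rw [this]
  exact isCompact_iUnion fun i =>
    (QuasiCompact.isCompact_preimage (f := p i) O hO hOc).image (Sigma.ι U i).continuous

/-- A morphism from a local scheme factors through an open immersion as soon as the closed
point lands in its range. -/
theorem exists_lift_of_closedPoint_mem {W : CommRingCat.{u}} [IsLocalRing W] {Z O : Scheme.{u}}
    (a : Spec W ⟶ Z) (ι : O ⟶ Z) [IsOpenImmersion ι]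
    (h : a.base (closedPoint W) ∈ Set.range ι.base) : ∃ a' : Spec W ⟶ O, a' ≫ ι = a := by
  have hrange : Set.range a.base ⊆ Set.range ι.base := by
    rintro _ ⟨s, rfl⟩
    exact ((specializes_closedPoint s).map a.continuous).mem_open
      ι.isOpenEmbedding.isOpen_range h
  exact ⟨IsOpenImmersion.lift ι a hrange, IsOpenImmersion.lift_fac ι a hrange⟩

/-- A V covering lifts every valuation ring, after extension, to the coproduct of its members. -/
theorem exists_lift_of_isVCover {X : Scheme.{u}} (E : PreZeroHypercover.{u} X)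
    (hV : HTop.IsVCover E) (A : CommRingCat.{u}) [IsDomain A] [ValuationRing A]
    (jX : Spec A ⟶ X) :
    ∃ (W : CommRingCat.{u}) (_ : IsDomain W) (_ : ValuationRing W) (φ : A ⟶ W),
      HTop.IsExtVal A W φ ∧ ∃ a' : Spec W ⟶ ∐ E.X, a' ≫ Sigma.desc E.f = Spec.map φ ≫ jX := by
  obtain ⟨U, hU, hxU, -⟩ := exists_isAffineOpen_mem_and_subset
    (x := jX.base (closedPoint A)) (U := ⊤) trivial
  obtain ⟨g, hg⟩ := exists_lift_of_closedPoint_mem jX U.ι (by
    rw [Scheme.Opens.range_ι]; exact hxU)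
  obtain ⟨F, hF, href⟩ := hV ⟨U, hU⟩
  obtain ⟨W, hWd, hWv, φ, hext, k, g', hg'⟩ := hF.lift A g
  obtain ⟨i, h, hh⟩ := href k
  refine ⟨W, hWd, hWv, φ, hext, g' ≫ h ≫ Sigma.ι E.X i, ?_⟩
  rw [Category.assoc, Category.assoc, Sigma.ι_desc, hh, ← Category.assoc, hg', Category.assoc]
  congr 1

/-- The coproduct of a V covering is universally S-subtrusive. -/
theorem univSSubtrusive_of_isVCover {X : Scheme.{u}} (E : PreZeroHypercover.{u} X)
    (hV : HTop.IsVCover E) : Subtr.UnivSSubtrusive (Sigma.desc E.f) := by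
  intro X' T i₁ i₂ f' sq t t' h
  have key : ∀ (A : CommRingCat.{u}) [IsDomain A] [ValuationRing A] (jT : Spec A ⟶ T),
      jT.base (closedPoint A) = t →
      jT.base (⟨⊥, Ideal.isPrime_bot⟩ : PrimeSpectrum A) = t' →
      ∃ x x' : X', x' ⤳ x ∧ f' x = t ∧ f' x' = t' := by
    intro A _ _ jT hcl hgen
    obtain ⟨W, hWd, hWv, φ, ⟨hinj, hloc⟩, a', ha'⟩ :=
      exists_lift_of_isVCover E hV A (jT ≫ i₂)
    haveI := hWd
    haveI := hWv
    haveI := hloc
    let l : Spec W ⟶ X' := sq.lift (Spec.map φ ≫ jT) a' (by rw [Category.assoc, ha'])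
    have hl : l ≫ f' = Spec.map φ ≫ jT := sq.lift_fst _ _ _
    have hpt : ∀ p, f'.base (l.base p) = jT.base ((Spec.map φ).base p) := by
      intro p
      rw [← Scheme.Hom.comp_apply, hl, Scheme.Hom.comp_apply]
    have hsp : (⟨⊥, Ideal.isPrime_bot⟩ : PrimeSpectrum W) ⤳ closedPoint W :=
      (PrimeSpectrum.le_iff_specializes (⟨⊥, Ideal.isPrime_bot⟩ : PrimeSpectrum W)
        (closedPoint W)).mp (show (⊥ : Ideal W) ≤ _ from bot_le)
    refine ⟨l.base (closedPoint W), l.base (⟨⊥, Ideal.isPrime_bot⟩ : PrimeSpectrum W),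
      hsp.map l.continuous, ?_, ?_⟩
    · have h1 : (Spec.map φ).base (closedPoint W) = closedPoint A := comap_closedPoint φ.hom
      exact (hpt _).trans ((congrArg jT.base h1).trans hcl)
    · have h2 : (Spec.map φ).base (⟨⊥, Ideal.isPrime_bot⟩ : PrimeSpectrum W) =
          (⟨⊥, Ideal.isPrime_bot⟩ : PrimeSpectrum A) :=
        PrimeSpectrum.ext (Ideal.comap_bot_of_injective _ hinj)
      exact (hpt _).trans ((congrArg jT.base h2).trans hgen)
  by_cases hne : t' = t
  · subst hne
    exact key (T.residueField t') (T.fromSpecResidueField t')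
      (Scheme.fromSpecResidueField_apply _ _) (Scheme.fromSpecResidueField_apply _ _)
  · obtain ⟨A, jT, hcl, hgen, -⟩ := exists_valuationRing_through h hne
    exact key (CommRingCat.of A) jT hcl hgen

/-- Step A of the valuative lifting: over a locally Noetherian scheme, a quasi-compact morphism
lifting ordered pairs along discrete valuation rings lifts every valuation ring after an
extension of valuation rings. -/
theorem exists_extVal_lift {Z X : Scheme.{u}} [IsLocallyNoetherian X] (π : Z ⟶ X)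
    [QuasiCompact π] (hπ : HasDVRPairs π) (V : CommRingCat.{u}) [IsDomain V] [ValuationRing V]
    (jX : Spec V ⟶ X) :
    ∃ (W : CommRingCat.{u}) (_ : IsDomain W) (_ : ValuationRing W) (φ : V ⟶ W),
      HTop.IsExtVal V W φ ∧ ∃ a' : Spec W ⟶ Z, a' ≫ π = Spec.map φ ≫ jX := by
  by_cases hfield : ∃ v₀ ∈ maximalIdeal V, v₀ ≠ 0
  · obtain ⟨P, a, b, hab, w', w, hsp, hw', hw⟩ :=
      exists_pair_of_hasDVRPairs π hπ V hfield jX
    have hne : w' ≠ w := by
      intro h
      rw [h, hw] at hw'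
      obtain ⟨v₀, hv₀m, hv₀⟩ := hfield
      have h1 : maximalIdeal V = ⊥ := congrArg PrimeSpectrum.asIdeal hw'
      rw [h1, Ideal.mem_bot] at hv₀m
      exact hv₀ hv₀m
    obtain ⟨Wv, c, hc1, hc2, -⟩ := exists_valuationRing_through hsp hne
    let φ : V ⟶ CommRingCat.of Wv := Spec.preimage (c ≫ b)
    have hφ : Spec.map φ = c ≫ b := Spec.map_preimage _
    have h1 : (Spec.map φ).base (closedPoint Wv) = closedPoint V := by
      rw [hφ, Scheme.Hom.comp_apply, hc1, hw]
    have h2 : (Spec.map φ).base (⟨⊥, Ideal.isPrime_bot⟩ : PrimeSpectrum Wv) =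
        (⟨⊥, Ideal.isPrime_bot⟩ : PrimeSpectrum V) := by
      rw [hφ, Scheme.Hom.comp_apply, hc2, hw']
    refine ⟨CommRingCat.of Wv, inferInstance, inferInstance, φ, ⟨?_, ?_⟩, c ≫ a, ?_⟩
    · rw [RingHom.injective_iff_ker_eq_bot]
      exact congrArg PrimeSpectrum.asIdeal h2
    · exact ((local_hom_TFAE φ.hom).out 0 4).mpr (congrArg PrimeSpectrum.asIdeal h1)
    · rw [Category.assoc, hab, ← Category.assoc, ← hφ]
  · push Not at hfield
    have hbot : maximalIdeal V = ⊥ := by
      rw [eq_bot_iff]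
      intro v hv
      exact (Ideal.mem_bot).mpr (hfield v hv)
    obtain ⟨xs, hxs⟩ := hπ.surjective (jX.base (closedPoint V))
    obtain ⟨z, hz1, hz2⟩ := Scheme.Pullback.exists_preimage_pullback (f := π) (g := jX) xs
      (closedPoint V) hxs
    let c := (pullback π jX).fromSpecResidueField z
    let φ : V ⟶ (pullback π jX).residueField z := Spec.preimage (c ≫ pullback.snd π jX)
    have hφ : Spec.map φ = c ≫ pullback.snd π jX := Spec.map_preimage _
    refine ⟨(pullback π jX).residueField z, inferInstance, inferInstance, φ, ⟨?_, ?_⟩,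
      c ≫ pullback.fst π jX, ?_⟩
    · rw [RingHom.injective_iff_ker_eq_bot, eq_bot_iff, ← hbot]
      exact le_maximalIdeal (RingHom.ker_ne_top φ.hom)
    · refine ⟨fun a ha => ?_⟩
      by_contra hna
      have hm : a ∈ maximalIdeal V := hna
      rw [hbot, Ideal.mem_bot] at hm
      rw [hm, map_zero] at ha
      exact not_isUnit_zero ha
    · rw [Category.assoc, pullback.condition, ← Category.assoc, ← hφ]

/-- Over a locally Noetherian scheme, a finite family of quasi-compact morphisms whose coproduct is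
universally submersive is a V covering. -/
theorem isVCover_of_univSubmersive {X : Scheme.{u}} [IsLocallyNoetherian X]
    (E : PreZeroHypercover.{u} X) [Finite E.I₀] [∀ i, QuasiCompact (E.f i)]
    (hE : SGA1.UnivSubmersive (Sigma.desc E.f)) : HTop.IsVCover E := by
  classical
  intro U
  haveI : IsAffine ((U : X.Opens) : Scheme.{u}) := U.2
  haveI : ∀ i, CompactSpace ↥(pullback (E.f i) (U : X.Opens).ι) := fun i =>
    QuasiCompact.compactSpace_of_compactSpace (pullback.snd (E.f i) (U : X.Opens).ι)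
  let 𝒲 : ∀ i, (pullback (E.f i) (U : X.Opens).ι).OpenCover := fun i =>
    (pullback (E.f i) (U : X.Opens).ι).affineCover.finiteSubcover
  haveI : ∀ i, Finite (𝒲 i).I₀ := fun i => by dsimp [𝒲]; infer_instance
  haveI : ∀ i j, IsAffine ((𝒲 i).X j) := fun i j => by dsimp [𝒲]; infer_instance
  let S := Σ i : E.I₀, (𝒲 i).I₀
  haveI : Finite S := inferInstance
  let e : S ≃ Fin (Nat.card S) := Finite.equivFin S
  let F : PreZeroHypercover.{0} ((U : X.Opens) : Scheme.{u}) :=
    { I₀ := Fin (Nat.card S)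
      X := fun k => (𝒲 (e.symm k).1).X (e.symm k).2
      f := fun k => (𝒲 (e.symm k).1).f (e.symm k).2 ≫
        pullback.snd (E.f (e.symm k).1) (U : X.Opens).ι }
  haveI : QuasiCompact (Sigma.desc E.f) := quasiCompact_sigmaDesc E.X E.f
  have hπ : HasDVRPairs (Sigma.desc E.f) := hasDVRPairs_of_univSubmersive _ hE
  refine ⟨F, ⟨inferInstance, inferInstanceAs (Finite (Fin (Nat.card S))),
    fun k => inferInstanceAs (IsAffine ((𝒲 (e.symm k).1).X (e.symm k).2)), ?_⟩, ?_⟩
  · intro V _ _ g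
    obtain ⟨W, hWd, hWv, φ, hext, a', ha'⟩ :=
      exists_extVal_lift (Sigma.desc E.f) hπ V (g ≫ (U : X.Opens).ι)
    haveI := hWd
    haveI := hWv
    obtain ⟨i, u, hu⟩ := (sigmaOpenCover E.X).exists_eq (a'.base (closedPoint W))
    obtain ⟨a'', ha''⟩ := exists_lift_of_closedPoint_mem a' (Sigma.ι E.X i) ⟨u, hu⟩
    have h3 : a'' ≫ E.f i = (Spec.map φ ≫ g) ≫ (U : X.Opens).ι := by
      rw [← Sigma.ι_desc E.f i, ← Category.assoc, ha'', ha', Category.assoc]
    let d : Spec W ⟶ pullback (E.f i) (U : X.Opens).ι := pullback.lift a'' (Spec.map φ ≫ g) h3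
    obtain ⟨j, v, hv⟩ := (𝒲 i).exists_eq (d.base (closedPoint W))
    obtain ⟨g'', hg''⟩ := exists_lift_of_closedPoint_mem d ((𝒲 i).f j) ⟨v, hv⟩
    have hpack : ∃ s : S, ∃ g₁ : Spec W ⟶ (𝒲 s.1).X s.2,
        g₁ ≫ (𝒲 s.1).f s.2 ≫ pullback.snd (E.f s.1) (U : X.Opens).ι = Spec.map φ ≫ g :=
      ⟨⟨i, j⟩, g'', by rw [← Category.assoc, hg'', pullback.lift_snd]⟩
    obtain ⟨s, g₁, hg₁⟩ := hpack
    obtain ⟨k, rfl⟩ := e.symm.surjective s
    exact ⟨W, hWd, hWv, φ, hext, k, g₁, hg₁⟩
  · intro k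
    refine ⟨(e.symm k).1, (𝒲 (e.symm k).1).f (e.symm k).2 ≫
      pullback.fst (E.f (e.symm k).1) (U : X.Opens).ι, ?_⟩
    change ((𝒲 (e.symm k).1).f (e.symm k).2 ≫ pullback.fst (E.f (e.symm k).1) (U : X.Opens).ι) ≫
      E.f (e.symm k).1 = ((𝒲 (e.symm k).1).f (e.symm k).2 ≫
        pullback.snd (E.f (e.symm k).1) (U : X.Opens).ι) ≫ (U : X.Opens).ι
    rw [Category.assoc, pullback.condition, ← Category.assoc]

end Groth.Agent.H69.Subtr
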