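import Groth.Agent.H69.PerfAWN
import Groth.Agent.H69.UHSch
import Groth.Agent.S7419
import Groth.Agent.S7420
import Mathlib

set_option autoImplicit false
universe u
open AlgebraicGeometry CategoryTheory TensorProduct

namespace Groth.Agent.H69

theorem isRingAWN_Wawn (A : Type u) [CommRing A] : HTop.IsRingAWN (algebraMap A (Wawn A)) := by
  refine ⟨isUnivHomeo_Wawn A, ?_⟩
  intro C _ ψ hψ
  have hR := ringUH_of_isUnivHomeo ψ hψ
  obtain ⟨χ, hχ⟩ := exists_lift_Wawn ψ hR
  exact ⟨χ, hχ, fun χ' hχ' => lift_Wawn_unique ψ hR χ' χ hχ' hχ⟩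

theorem ringUH_Wawn (A : Type u) [CommRing A] : RingUH (algebraMap A (Wawn A)) :=
  ringUH_of_isUnivHomeo _ (isUnivHomeo_Wawn A)

theorem RingUH.hom_ext_of_isReduced {A B T : Type u} [CommRing A] [CommRing B] [CommRing T]
    [IsReduced T] (φ : A →+* B) (hφ : RingUH φ) (g₁ g₂ : B →+* T)
    (h : g₁.comp φ = g₂.comp φ) : g₁ = g₂ := by
  apply RingHom.ext
  intro x
  rw [← sub_eq_zero]
  apply IsReduced.eq_zero
  rw [nilpotent_iff_mem_prime]
  intro P hP
  haveI := hP
  have h1 := hφ.ext P.ResidueField ((algebraMap T P.ResidueField).comp g₁)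
    ((algebraMap T P.ResidueField).comp g₂) (by rw [RingHom.comp_assoc, RingHom.comp_assoc, h])
  have hx : algebraMap T P.ResidueField (g₁ x) = algebraMap T P.ResidueField (g₂ x) :=
    congrArg (fun k => k x) h1
  rw [← Ideal.algebraMap_residueField_eq_zero, map_sub, sub_eq_zero]
  exact hx

theorem ringUH_includeLeft {A B A' : Type u} [CommRing A] [CommRing B] [CommRing A']
    [Algebra A B] [Algebra A A'] (h : RingUH (algebraMap A B)) :
    RingUH (Algebra.TensorProduct.includeLeftRingHom : A' →+* A' ⊗[A] B) := by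
  apply ringUH_of_isUnivHomeo
  have hpo := CommRingCat.isPushout_tensorProduct A A' B
  have hpb := isPullback_SpecMap_of_isPushout _ _ _ _ hpo
  exact MorphismProperty.of_isPullback hpb.flip (isUnivHomeo_of_ringUH _ h)

section
variable {A A' A'' : Type u} [CommRing A] [CommRing A'] [CommRing A'']

theorem exists_WawnMap (f : A →+* A') :
    ∃ g : Wawn A →+* Wawn A',
      g.comp (algebraMap A (Wawn A)) = (algebraMap A' (Wawn A')).comp f := by
  letI : Algebra A A' := f.toAlgebra
  have hψ := ringUH_includeLeft (A := A) (B := Wawn A) (A' := A') (ringUH_Wawn A)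
  obtain ⟨χ, hχ⟩ := exists_lift_Wawn (A := A') _ hψ
  refine ⟨χ.comp (Algebra.TensorProduct.includeRight :
    Wawn A →ₐ[A] A' ⊗[A] Wawn A).toRingHom, ?_⟩
  apply RingHom.ext
  intro a
  have h1 : (Algebra.TensorProduct.includeRight : Wawn A →ₐ[A] A' ⊗[A] Wawn A)
      (algebraMap A (Wawn A) a) =
      (Algebra.TensorProduct.includeLeftRingHom : A' →+* A' ⊗[A] Wawn A) (f a) := by
    rw [AlgHom.commutes, Algebra.TensorProduct.algebraMap_apply]
    rfl
  show χ ((Algebra.TensorProduct.includeRight : Wawn A →ₐ[A] A' ⊗[A] Wawn A)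
      (algebraMap A (Wawn A) a)) = algebraMap A' (Wawn A') (f a)
  rw [h1]
  exact congrArg (fun k => k (f a)) hχ

theorem WawnMap_unique (f : A →+* A') (g₁ g₂ : Wawn A →+* Wawn A')
    (h₁ : g₁.comp (algebraMap A (Wawn A)) = (algebraMap A' (Wawn A')).comp f)
    (h₂ : g₂.comp (algebraMap A (Wawn A)) = (algebraMap A' (Wawn A')).comp f) : g₁ = g₂ := by
  haveI : IsReduced (Wawn A') := isReduced_of_isRingAWN _ (isRingAWN_Wawn A')
  exact RingUH.hom_ext_of_isReduced _ (ringUH_Wawn A) g₁ g₂ (h₁.trans h₂.symm)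

/-- Functoriality of the absolute weak normalization. -/
noncomputable def WawnMap (f : A →+* A') : Wawn A →+* Wawn A' := (exists_WawnMap f).choose

theorem WawnMap_comp_algebraMap (f : A →+* A') :
    (WawnMap f).comp (algebraMap A (Wawn A)) = (algebraMap A' (Wawn A')).comp f :=
  (exists_WawnMap f).choose_spec

theorem WawnMap_algebraMap (f : A →+* A') (a : A) :
    WawnMap f (algebraMap A (Wawn A) a) = algebraMap A' (Wawn A') (f a) :=
  congrArg (fun k => k a) (WawnMap_comp_algebraMap f)

theorem WawnMap_eq (f : A →+* A') (g : Wawn A →+* Wawn A')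
    (h : g.comp (algebraMap A (Wawn A)) = (algebraMap A' (Wawn A')).comp f) : g = WawnMap f :=
  WawnMap_unique f g _ h (WawnMap_comp_algebraMap f)

theorem WawnMap_id : WawnMap (RingHom.id A) = RingHom.id (Wawn A) :=
  (WawnMap_eq _ _ (by apply RingHom.ext; intro a; rfl)).symm

theorem WawnMap_comp (f : A →+* A') (f' : A' →+* A'') :
    WawnMap (f'.comp f) = (WawnMap f').comp (WawnMap f) := by
  refine (WawnMap_eq _ _ ?_).symm
  rw [RingHom.comp_assoc, WawnMap_comp_algebraMap, ← RingHom.comp_assoc,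
    WawnMap_comp_algebraMap, RingHom.comp_assoc]

theorem isLocalization_WawnMap (r : A) [Algebra A A'] [IsLocalization.Away r A'] :
    letI := (WawnMap (algebraMap A A')).toAlgebra
    IsLocalization.Away (algebraMap A (Wawn A) r) (Wawn A') := by
  letI algW : Algebra (Wawn A) (Wawn A') := (WawnMap (algebraMap A A')).toAlgebra
  letI : Algebra (Wawn A) (A' ⊗[A] Wawn A) := Algebra.TensorProduct.rightAlgebra
  haveI hloc : IsLocalization.Away (algebraMap A (Wawn A) r) (A' ⊗[A] Wawn A) :=
    IsLocalization.Away.tensorRight r A'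
  have hψ : RingUH (Algebra.TensorProduct.includeLeftRingHom : A' →+* A' ⊗[A] Wawn A) :=
    ringUH_includeLeft (ringUH_Wawn A)
  obtain ⟨χ, hχ⟩ := exists_lift_Wawn (A := A') _ hψ
  have hCawn : HTop.IsAWNRing (A' ⊗[A] Wawn A) := by
    have h1 : HTop.IsAWNRing (Localization.Away (algebraMap A (Wawn A) r)) :=
      Groth.Agent.S7419.result.1 _ _ (isAWNRing_of_isRingAWN _ (isRingAWN_Wawn A))
    exact Groth.Agent.S7420.awn_equiv _ _
      (IsLocalization.algEquiv (Submonoid.powers (algebraMap A (Wawn A) r))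
        (Localization.Away (algebraMap A (Wawn A) r)) (A' ⊗[A] Wawn A)).toRingEquiv h1
  have hbij : Function.Bijective χ :=
    bijective_of_isAWNRing _ (isRingAWN_Wawn A') _ hψ χ hχ hCawn
  have hcomp : χ.comp (Algebra.TensorProduct.includeRight :
      Wawn A →ₐ[A] A' ⊗[A] Wawn A).toRingHom = WawnMap (algebraMap A A') := by
    apply WawnMap_eq
    apply RingHom.ext
    intro a
    have h1 : (Algebra.TensorProduct.includeRight : Wawn A →ₐ[A] A' ⊗[A] Wawn A)
        (algebraMap A (Wawn A) a) =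
        (Algebra.TensorProduct.includeLeftRingHom : A' →+* A' ⊗[A] Wawn A)
          (algebraMap A A' a) := by
      rw [AlgHom.commutes, Algebra.TensorProduct.algebraMap_apply]
      rfl
    show χ ((Algebra.TensorProduct.includeRight : Wawn A →ₐ[A] A' ⊗[A] Wawn A)
      (algebraMap A (Wawn A) a)) = algebraMap A' (Wawn A') (algebraMap A A' a)
    rw [h1]
    exact congrArg (fun k => k (algebraMap A A' a)) hχ
  let e : (A' ⊗[A] Wawn A) ≃ₐ[Wawn A] Wawn A' :=
    { RingEquiv.ofBijective χ hbij with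
      commutes' := fun b => congrArg (fun k => k b) hcomp }
  exact IsLocalization.isLocalization_of_algEquiv
    (Submonoid.powers (algebraMap A (Wawn A) r)) e

end

end Groth.Agent.H69
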