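import Mathlib
import Groth.Prelude.Def_WeilRes
import Groth.Agent.H73.WeilLoc5

set_option autoImplicit false
set_option linter.style.haveILetI false
universe u
open AlgebraicGeometry CategoryTheory CategoryTheory.Limits Opposite

namespace Groth.Agent.H69.WeilUH

open Groth.Agent.H73.WeilLoc

/-- `Mor_S(Z, X)` is representable for `Z → S` finite locally free and universally injective,
with NO hypothesis on `X`. -/
theorem representable_morS_of_universallyInjective {Z X S : Scheme.{u}} (g : Z ⟶ S) (f : X ⟶ S)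
    (hg : Mor2.IsFinLocFree g) [UniversallyInjective g] :
    ∃ W₀ : Over S, Nonempty ((Flatn.morS g f).RepresentableBy W₀) := by
  classical
  obtain ⟨hfin, hflat, hfp⟩ := hg
  haveI : IsFinite g := hfin
  refine representable_of_cover (g := g) (f := f) ?_
  intro T t b x
  obtain ⟨V, hsV, hV, hVU⟩ := exists_hasLocRep g f ⟨hfin, hflat, hfp⟩ (t x)
  haveI : UniversallyInjective (pullback.fst t g) :=
    MorphismProperty.pullback_fst (P := @UniversallyInjective) _ _ inferInstance
  have hinj : Function.Injective (pullback.fst t g) := (pullback.fst t g).injective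
  by_cases hne : ∃ y, pullback.fst t g y = x
  · obtain ⟨y₀, hy₀⟩ := hne
    have hmemV : lft g f b y₀ ∈ f ⁻¹ᵁ V := by
      show f (lft g f b y₀) ∈ V
      rw [f_lft, hy₀]
      exact hsV
    obtain ⟨U, hU, hyU, hUle⟩ := TopologicalSpace.Opens.isBasis_iff_nbhd.mp X.isBasis_affineOpens hmemV
    refine ⟨V, U, hVU U hU hUle, ?_⟩
    rw [mem_locOpen]
    refine ⟨hsV, fun y hy => ?_⟩
    rw [hinj (hy.trans hy₀.symm)]
    exact hyU
  · refine ⟨V, ⊥, hVU ⊥ (isAffineOpen_bot X) bot_le, ?_⟩
    rw [mem_locOpen]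
    exact ⟨hsV, fun y hy => absurd ⟨y, hy⟩ hne⟩

section Equalizer

variable {S S' : Scheme.{u}} (f : S' ⟶ S) (X' : Over S')

/-- the structure morphism of `X'` as a morphism over `S`. -/
noncomputable def kap : (Over.mk (X'.hom ≫ f) : Over S) ⟶ Over.mk f := Over.homMk X'.hom (by simp)

/-- the canonical point `T ×_S S' ⟶ S'`. -/
noncomputable def pt (T : Over S) :
    (Over.pullback f ⋙ Over.map f).obj T ⟶ (Over.mk f : Over S) :=
  Over.homMk ((Over.pullback f).obj T).hom (by simp)

theorem pt_nat {T T' : Over S} (a : T' ⟶ T) :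
    (Over.pullback f ⋙ Over.map f).map a ≫ pt f T = pt f T' := by
  ext
  simp [pt]

/-- The Weil restriction functor is representable as soon as `Mor_S(S', X')` and `Mor_S(S', S')`
are. -/
theorem representable_functor_of_morS
    (h₁ : ∃ W : Over S, Nonempty ((Flatn.morS f (X'.hom ≫ f)).RepresentableBy W))
    (h₂ : ∃ W : Over S, Nonempty ((Flatn.morS f f).RepresentableBy W)) :
    ∃ R : Over S, Nonempty ((WeilRes.functor f X').RepresentableBy R) := by
  obtain ⟨R₁, ⟨rep₁⟩⟩ := h₁
  obtain ⟨R₂, ⟨rep₂⟩⟩ := h₂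
  haveI : HasFiniteLimits (Over S) := hasFiniteLimits_of_hasTerminal_and_pullbacks
  let u₁ : (Over.pullback f ⋙ Over.map f).obj R₁ ⟶ Over.mk (X'.hom ≫ f) := rep₁.homEquiv (𝟙 R₁)
  let γ : R₁ ⟶ R₂ := rep₂.homEquiv.symm (u₁ ≫ kap f X')
  let ε : R₁ ⟶ R₂ := rep₂.homEquiv.symm (pt f R₁)
  have key0 : ∀ {T : Over S} (t : T ⟶ R₁),
      rep₁.homEquiv t = (Over.pullback f ⋙ Over.map f).map t ≫ u₁ := by
    intro T t
    have := rep₁.homEquiv_comp t (𝟙 R₁)
    rw [Category.comp_id] at this
    exact this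
  have key1 : ∀ {T : Over S} (t : T ⟶ R₁), rep₂.homEquiv (t ≫ γ) = rep₁.homEquiv t ≫ kap f X' := by
    intro T t
    rw [rep₂.homEquiv_comp t γ, Equiv.apply_symm_apply, key0 t, Category.assoc]
    rfl
  have key2 : ∀ {T : Over S} (t : T ⟶ R₁), rep₂.homEquiv (t ≫ ε) = pt f T := by
    intro T t
    rw [rep₂.homEquiv_comp t ε, Equiv.apply_symm_apply]
    exact pt_nat f t
  -- elements of `M₁` coming from `F`
  have hleft : ∀ {T : Over S} (b : (Over.pullback f ⋙ Over.map f).obj T ⟶ Over.mk (X'.hom ≫ f)),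
      b ≫ kap f X' = pt f T → b.left ≫ X'.hom = ((Over.pullback f).obj T).hom := by
    intro T b hb
    have := congrArg (fun m => m.left) hb
    simpa [kap, pt] using this
  have hcond : ∀ {T : Over S} (s : T ⟶ equalizer γ ε),
      rep₁.homEquiv (s ≫ equalizer.ι γ ε) ≫ kap f X' = pt f T := by
    intro T s
    rw [← key1, ← key2 (s ≫ equalizer.ι γ ε), Category.assoc, Category.assoc, equalizer.condition]
  -- the forward map
  let toF : ∀ {T : Over S}, (T ⟶ equalizer γ ε) → ((Over.pullback f).obj T ⟶ X') := fun {T} s =>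
    Over.homMk (rep₁.homEquiv (s ≫ equalizer.ι γ ε)).left (hleft _ (hcond s))
  have htoF_left : ∀ {T : Over S} (s : T ⟶ equalizer γ ε),
      (toF s).left = (rep₁.homEquiv (s ≫ equalizer.ι γ ε)).left := fun s => rfl
  -- the backward map
  have hback : ∀ {T : Over S} (h : (Over.pullback f).obj T ⟶ X'),
      ∃ s : T ⟶ equalizer γ ε, (rep₁.homEquiv (s ≫ equalizer.ι γ ε)).left = h.left := by
    intro T h
    let b : (Over.pullback f ⋙ Over.map f).obj T ⟶ Over.mk (X'.hom ≫ f) := (Over.map f).map h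
    have hb : b ≫ kap f X' = pt f T := by
      ext
      simp [b, kap, pt]
    let t : T ⟶ R₁ := rep₁.homEquiv.symm b
    have ht : t ≫ γ = t ≫ ε := by
      apply rep₂.homEquiv.injective
      rw [key1, key2, Equiv.apply_symm_apply, hb]
    refine ⟨equalizer.lift t ht, ?_⟩
    rw [equalizer.lift_ι, Equiv.apply_symm_apply]
    rfl
  refine ⟨equalizer γ ε, ⟨{ homEquiv := fun {T} => Equiv.ofBijective toF ⟨?_, ?_⟩, homEquiv_comp := ?_ }⟩⟩
  · intro s s' hss
    have h1 : (rep₁.homEquiv (s ≫ equalizer.ι γ ε)).left = (rep₁.homEquiv (s' ≫ equalizer.ι γ ε)).left := by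
      rw [← htoF_left, ← htoF_left, hss]
    have h2 : s ≫ equalizer.ι γ ε = s' ≫ equalizer.ι γ ε :=
      rep₁.homEquiv.injective (Over.OverMorphism.ext h1)
    exact (cancel_mono (equalizer.ι γ ε)).mp h2
  · intro h
    obtain ⟨s, hs⟩ := hback h
    exact ⟨s, Over.OverMorphism.ext hs⟩
  · intro T T' a s
    apply Over.OverMorphism.ext
    show (rep₁.homEquiv ((a ≫ s) ≫ equalizer.ι γ ε)).left =
      ((Over.pullback f).map a).left ≫ (rep₁.homEquiv (s ≫ equalizer.ι γ ε)).left
    rw [Category.assoc, rep₁.homEquiv_comp a (s ≫ equalizer.ι γ ε)]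
    rfl

end Equalizer

end Groth.Agent.H69.WeilUH
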